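import Mathlib
import Cfsg.Prelude.Def_Spor_Fi23
import Cfsg.Agent.H44.Pres
import Cfsg.Agent.H44.Perm

set_option autoImplicit false
set_option maxRecDepth 1000000
set_option linter.all false
set_option Elab.async false

namespace Cfsg.Agent.H44.Fi23

open Cfsg.Agent.H44 Cfsg.Agent.H43 

/-- Letters for the generators. -/
def D : PD Cfsg.Spor.Fi23.Gen where
  nc := 10
  gens := [.a, .b, .c, .d, .e, .f, .g, .j, .h, .i]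
  enc := fun x => match x with | .a => 1 | .b => 2 | .c => 3 | .d => 4 | .e => 5 | .f => 6 | .g => 7 | .j => 10 | .h => 8 | .i => 9
  dec := fun x => match x with | 1 => .a | 2 => .b | 3 => .c | 4 => .d | 5 => .e | 6 => .f | 7 => .g | 8 => .h | 9 => .i | _ => .j
  iv := fun x => [0, 1, 2, 3, 4, 5, 6, 7, 8, 9, 10].getD x 0
  es := [(.pow (.mul (.mul (.mul (.mul (.mul (.mul (.mul (.mul (.l .d) (.l .c)) (.l .b)) (.l .d)) (.l .e)) (.l .f)) (.l .d)) (.l .h)) (.l .i)) 10),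
    (.pow (.mul (.mul (.mul (.mul (.mul (.mul (.l .a) (.l .b)) (.l .c)) (.l .d)) (.l .e)) (.l .f)) (.l .h)) 9)]

theorem ok : D.Ok Cfsg.Spor.Fi23.edges Cfsg.Spor.Fi23.extra :=
  ⟨fun a => by cases a <;> simp [D], by decide +kernel, by decide +kernel, by decide +kernel, rfl⟩

/-- All relators. -/
def Rm : List (List ℕ) := [
  [1, 1],
  [2, 2],
  [3, 3],
  [4, 4],
  [5, 5],
  [6, 6],
  [7, 7],
  [8, 8],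
  [9, 9],
  [10, 10],
  [1, 2, 1, 2, 1, 2],
  [1, 3, 1, 3],
  [1, 4, 1, 4],
  [1, 5, 1, 5],
  [1, 6, 1, 6],
  [1, 7, 1, 7],
  [1, 10, 1, 10],
  [1, 8, 1, 8],
  [1, 9, 1, 9],
  [2, 3, 2, 3, 2, 3],
  [2, 4, 2, 4],
  [2, 5, 2, 5],
  [2, 6, 2, 6],
  [2, 7, 2, 7],
  [2, 10, 2, 10],
  [2, 8, 2, 8],
  [2, 9, 2, 9],
  [3, 4, 3, 4, 3, 4],
  [3, 5, 3, 5],
  [3, 6, 3, 6],
  [3, 7, 3, 7],
  [3, 10, 3, 10],
  [3, 8, 3, 8],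
  [3, 9, 3, 9],
  [4, 5, 4, 5, 4, 5],
  [4, 6, 4, 6],
  [4, 7, 4, 7],
  [4, 10, 4, 10],
  [4, 8, 4, 8, 4, 8],
  [4, 9, 4, 9],
  [5, 6, 5, 6, 5, 6],
  [5, 7, 5, 7],
  [5, 10, 5, 10],
  [5, 8, 5, 8],
  [5, 9, 5, 9],
  [6, 7, 6, 7, 6, 7],
  [6, 10, 6, 10],
  [6, 8, 6, 8],
  [6, 9, 6, 9],
  [7, 10, 7, 10, 7, 10],
  [7, 8, 7, 8],
  [7, 9, 7, 9],
  [8, 10, 8, 10],
  [8, 9, 8, 9, 8, 9],
  [9, 10, 9, 10],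
  [4, 3, 2, 4, 5, 6, 4, 8, 9, 4, 3, 2, 4, 5, 6, 4, 8, 9, 4, 3, 2, 4, 5, 6, 4, 8, 9, 4, 3, 2, 4, 5, 6, 4, 8, 9, 4, 3, 2, 4, 5, 6, 4, 8, 9, 4, 3, 2, 4, 5, 6, 4, 8, 9, 4, 3, 2, 4, 5, 6, 4, 8, 9, 4, 3, 2, 4, 5, 6, 4, 8, 9, 4, 3, 2, 4, 5, 6, 4, 8, 9, 4, 3, 2, 4, 5, 6, 4, 8, 9],
  [1, 2, 3, 4, 5, 6, 8, 1, 2, 3, 4, 5, 6, 8, 1, 2, 3, 4, 5, 6, 8, 1, 2, 3, 4, 5, 6, 8, 1, 2, 3, 4, 5, 6, 8, 1, 2, 3, 4, 5, 6, 8, 1, 2, 3, 4, 5, 6, 8, 1, 2, 3, 4, 5, 6, 8, 1, 2, 3, 4, 5, 6, 8]]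

theorem Rm_eq : D.Rm Cfsg.Spor.Fi23.edges = Rm := by decide +kernel

/-- The generators of the presented group. -/
def gm : ℕ → (Cfsg.Spor.CoxPresented Cfsg.Spor.Fi23.Gen Cfsg.Spor.Fi23.edges Cfsg.Spor.Fi23.extra) := D.gm Cfsg.Spor.Fi23.edges Cfsg.Spor.Fi23.extra

theorem sat : Sat gm Rm := Rm_eq ▸ ok.sat_gm

theorem top : gen gm 10 = ⊤ := ok.gen_gm

theorem exists_hom {G : Type*} [Group G] {g : ℕ → G} (hg : Sat g Rm) :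
    ∃ φ : (Cfsg.Spor.CoxPresented Cfsg.Spor.Fi23.Gen Cfsg.Spor.Fi23.edges Cfsg.Spor.Fi23.extra) →* G, ∀ x, 1 ≤ x ∧ x ≤ 10 → φ (gm x) = g x :=
  ok.exists_hom (Rm_eq ▸ hg)

theorem gm_a : gm 1 = PresentedGroup.of Cfsg.Spor.Fi23.Gen.a := ok.gm_enc .a
theorem gm_b : gm 2 = PresentedGroup.of Cfsg.Spor.Fi23.Gen.b := ok.gm_enc .b
theorem gm_c : gm 3 = PresentedGroup.of Cfsg.Spor.Fi23.Gen.c := ok.gm_enc .c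
theorem gm_d : gm 4 = PresentedGroup.of Cfsg.Spor.Fi23.Gen.d := ok.gm_enc .d
theorem gm_e : gm 5 = PresentedGroup.of Cfsg.Spor.Fi23.Gen.e := ok.gm_enc .e
theorem gm_f : gm 6 = PresentedGroup.of Cfsg.Spor.Fi23.Gen.f := ok.gm_enc .f
theorem gm_g : gm 7 = PresentedGroup.of Cfsg.Spor.Fi23.Gen.g := ok.gm_enc .g
theorem gm_j : gm 10 = PresentedGroup.of Cfsg.Spor.Fi23.Gen.j := ok.gm_enc .j
theorem gm_h : gm 8 = PresentedGroup.of Cfsg.Spor.Fi23.Gen.h := ok.gm_enc .h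
theorem gm_i : gm 9 = PresentedGroup.of Cfsg.Spor.Fi23.Gen.i := ok.gm_enc .i

end Cfsg.Agent.H44.Fi23
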