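import Cfsg.Agent.H44.Coset
import Cfsg.Agent.H44.Fi23P
import Cfsg.Agent.H44.EFi23O7
import Cfsg.Agent.H44.EFi23B
import Cfsg.Agent.H44.EFi23A

set_option autoImplicit false
set_option maxRecDepth 1000000
set_option linter.all false
set_option Elab.async false

namespace Cfsg.Agent.H44.Fi23C.S4
open Cfsg.Agent.H44

noncomputable def rT0 : Tr :=
 (.leaf (nat_lit 0xd6951451f793124991b71041920f373e8eb60d35b40c3632b58e0b2d4b0a352a09344a27b3b108214807331e0632471b7005311604306f132f4604116d032e0e022d6c0b2c690209012b43072a01290600286503270026022524000123222100))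
noncomputable def gT0 : Tr :=
 (.leaf (nat_lit 0))
/-- The relators. -/
def R : List (List ℕ) := [[1, 1],
  [2, 2],
  [3, 3],
  [1, 2, 1, 2, 1, 2],
  [1, 3, 1, 3],
  [2, 3, 2, 3, 2, 3]]
/-- The subgroup generators. -/
def S : List (List ℕ) := []
def Wr : List (List ℕ) := [[1, 1],
  [2, 2],
  [3, 3],
  [1, 3, 1, 3],
  [2, 1, 2, 1, 2, 1],
  [3, 2, 3, 2, 3, 2],
  [3, 1, 3, 1]]
def Wn : List (List ℕ) := []
def cr : List (ℕ × ℕ × ℕ) := [(0, 0, 0), (0, 0, 0), (0, 0, 0), (1, 4, 0), (1, 3, 1), (1, 5, 1), (1, 4, 1)]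
def cn : List (ℕ × ℕ × ℕ) := []
noncomputable def rT : Tr := rT0
noncomputable def gT : Tr := gT0
noncomputable def rC (i : ℕ) : ℕ := rT.get (nat_lit 0) i
noncomputable def gC (i : ℕ) : ℕ := gT.get (nat_lit 0) i
noncomputable def row (p : ℕ) : ℕ := rec2 rC (nat_lit 7) (nat_lit 127) (nat_lit 32) (nat_lit 0xffffffff) p
noncomputable def gf (p : ℕ) : ℕ := rec2 gC (nat_lit 8) (nat_lit 255) (nat_lit 15) (nat_lit 32767) p
noncomputable def gw (c : ℕ) : List ℕ := nth [] Wr c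
noncomputable def wn (c : ℕ) : ℕ := pack (nat_lit 2) (nth [] Wn c) (nat_lit 0)
noncomputable def C : Cert :=
  { n := (nat_lit 24), na := (nat_lit 0), M := (nat_lit 0), nc := (nat_lit 3), W := (nat_lit 5), EB := (nat_lit 8),
    LB := (nat_lit 2), nreg := (nat_lit 7), ivT := (nat_lit 228), base := (nat_lit 0),
    row := row, gf := gf, gw := gw, wn := wn }
theorem masks : Masks C (nat_lit 31) (nat_lit 255) (nat_lit 3) (nat_lit 12) (nat_lit 4095) :=
  ⟨by decide +kernel, by decide +kernel, by decide +kernel, by decide +kernel, by decide +kernel⟩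
noncomputable def rchk : ℕ → ℕ → ℕ → Bool :=
  rowChk row gf gw (nat_lit 24) (nat_lit 0) (nat_lit 3) (nat_lit 5) (nat_lit 31) (nat_lit 8) (nat_lit 255) (nat_lit 2) (nat_lit 3) (nat_lit 12) (nat_lit 4095) (nat_lit 7) (nat_lit 228) (nat_lit 1) (nat_lit 1) (nat_lit 6) (nat_lit 63)
noncomputable def fchk : ℕ → ℕ → ℕ → Bool :=
  auxRun row gf wn (nat_lit 24) (nat_lit 0) (nat_lit 0) (nat_lit 3) (nat_lit 5) (nat_lit 31) (nat_lit 8) (nat_lit 255) (nat_lit 2) (nat_lit 3) (nat_lit 12) (nat_lit 228) (nat_lit 0) (nat_lit 2) (nat_lit 3)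
theorem rows_of {lo hi : ℕ} {t : JL} (h : t.run rchk (nat_lit 18) hi lo = true) : C.RowsOK lo hi :=
  rowsOK_of_run masks h
theorem facts_of {lo hi : ℕ} {t : JL} (h : t.run fchk (nat_lit 20) hi lo = true) : C.FactsOK lo hi :=
  factsOK_of_run masks h
theorem words_ok : wordsChk 24 3 5 2 7 228 0 R S Wr Wn cr cn = true := by
  decide +kernel
noncomputable def j0 : JL :=
(.cons (nat_lit 16) (nat_lit 0x21030801800400840c00400810c50030010020430800021030010020430010c2003081) (nat_lit 0)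
(.cons (nat_lit 8) (nat_lit 0x1c50031401c20060011c20030010c5006001) (nat_lit 0)
.nil))
theorem t0 : C.RowsOK (nat_lit 0) (nat_lit 24) :=
  rows_of (t := j0) (by decide +kernel)
theorem checked : Checked C R S :=
  ⟨⟨Wr, Wn, cr, cn, fun _ => rfl, fun _ => rfl, words_ok⟩, t0,
    fun _ _ h => absurd h (Nat.not_lt_zero _)⟩

/-- In any group whose elements `g 1, …, g 3` satisfy the relators `R`, a subgroup containing the words
of `S` has index at most 24 in the subgroup generated by these elements. -/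
theorem idxLe {G : Type*} [Group G] {g : ℕ → G} (hg : Sat g R) {H : Subgroup G}
    (hS : ∀ s ∈ S, ev g s ∈ H) : IdxLe H (gen g 3) 24 :=
  checked.idxLe hg hS

end Cfsg.Agent.H44.Fi23C.S4

namespace Cfsg.Agent.H44.Fi23C.S5
open Cfsg.Agent.H44

noncomputable def rT0 : Tr :=
 (.leaf (nat_lit 0x358b163418091a346885813448c9914000902040480))
noncomputable def gT0 : Tr :=
 (.leaf (nat_lit 0x14004c012002400700140))
/-- The relators. -/
def R : List (List ℕ) := [[1, 1],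
  [2, 2],
  [3, 3],
  [4, 4],
  [1, 2, 1, 2, 1, 2],
  [1, 3, 1, 3],
  [1, 4, 1, 4],
  [2, 3, 2, 3, 2, 3],
  [2, 4, 2, 4],
  [3, 4, 3, 4, 3, 4]]
/-- The subgroup generators. -/
def S : List (List ℕ) := [[2],
  [3],
  [4]]
def Wr : List (List ℕ) := [[1, 1],
  [2, 2],
  [3, 1, 3, 1],
  [4, 1, 4, 1],
  [1, 2, 1, 2, 1, 2],
  [3, 3],
  [4, 2, 4, 2],
  [1, 3, 1, 3],
  [2, 3, 2, 3, 2, 3],
  [4, 4],
  [1, 4, 1, 4],
  [2, 4, 2, 4],
  [3, 4, 3, 4, 3, 4]]
def Wn : List (List ℕ) := [[2, 5],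
  [3, 7],
  [4, 9]]
def cr : List (ℕ × ℕ × ℕ) := [(0, 0, 0), (0, 0, 0), (1, 5, 1), (1, 6, 1), (1, 4, 0), (0, 0, 0), (1, 8, 1), (1, 5, 0), (1, 7, 0), (0, 0, 0), (1, 6, 0), (1, 8, 0), (1, 9, 0)]
def cn : List (ℕ × ℕ × ℕ) := [(1, 10, 0), (1, 11, 0), (1, 12, 0)]
noncomputable def rT : Tr := rT0
noncomputable def gT : Tr := gT0
noncomputable def rC (i : ℕ) : ℕ := rT.get (nat_lit 0) i
noncomputable def gC (i : ℕ) : ℕ := gT.get (nat_lit 0) i
noncomputable def row (p : ℕ) : ℕ := rec2 rC (nat_lit 7) (nat_lit 127) (nat_lit 35) (nat_lit 0x7ffffffff) p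
noncomputable def gf (p : ℕ) : ℕ := rec2 gC (nat_lit 8) (nat_lit 255) (nat_lit 14) (nat_lit 16383) p
noncomputable def gw (c : ℕ) : List ℕ := nth [] Wr c
noncomputable def wn (c : ℕ) : ℕ := pack (nat_lit 4) (nth [] Wn c) (nat_lit 0)
noncomputable def C : Cert :=
  { n := (nat_lit 5), na := (nat_lit 0), M := (nat_lit 6), nc := (nat_lit 4), W := (nat_lit 3), EB := (nat_lit 7),
    LB := (nat_lit 4), nreg := (nat_lit 13), ivT := (nat_lit 0x9a785643210), base := (nat_lit 672),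
    row := row, gf := gf, gw := gw, wn := wn }
theorem masks : Masks C (nat_lit 7) (nat_lit 127) (nat_lit 15) (nat_lit 10) (nat_lit 1023) :=
  ⟨by decide +kernel, by decide +kernel, by decide +kernel, by decide +kernel, by decide +kernel⟩
noncomputable def rchk : ℕ → ℕ → ℕ → Bool :=
  rowChk row gf gw (nat_lit 5) (nat_lit 6) (nat_lit 4) (nat_lit 3) (nat_lit 7) (nat_lit 7) (nat_lit 127) (nat_lit 4) (nat_lit 15) (nat_lit 10) (nat_lit 1023) (nat_lit 13) (nat_lit 0x9a785643210) (nat_lit 3) (nat_lit 7) (nat_lit 7) (nat_lit 127)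
noncomputable def fchk : ℕ → ℕ → ℕ → Bool :=
  auxRun row gf wn (nat_lit 5) (nat_lit 0) (nat_lit 6) (nat_lit 4) (nat_lit 3) (nat_lit 7) (nat_lit 7) (nat_lit 127) (nat_lit 4) (nat_lit 15) (nat_lit 10) (nat_lit 0x9a785643210) (nat_lit 672) (nat_lit 5) (nat_lit 31)
theorem rows_of {lo hi : ℕ} {t : JL} (h : t.run rchk (nat_lit 28) hi lo = true) : C.RowsOK lo hi :=
  rowsOK_of_run masks h
theorem facts_of {lo hi : ℕ} {t : JL} (h : t.run fchk (nat_lit 20) hi lo = true) : C.FactsOK lo hi :=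
  factsOK_of_run masks h
theorem words_ok : wordsChk 5 4 3 4 13 10615102124560 672 R S Wr Wn cr cn = true := by
  decide +kernel
noncomputable def j0 : JL :=
(.cons (nat_lit 5) (nat_lit 0x3460b14004880e18005080c100203c701) (nat_lit 355)
.nil)
theorem t0 : C.RowsOK (nat_lit 0) (nat_lit 5) :=
  rows_of (t := j0) (by decide +kernel)
noncomputable def j1 : JL :=
(.cons (nat_lit 6) (nat_lit 0x820006500048000300001800000) (nat_lit 0x2000400cc0020044001001000000000000000000)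
.nil)
theorem t1 : C.FactsOK (nat_lit 0) (nat_lit 6) :=
  facts_of (t := j1) (by decide +kernel)
theorem checked : Checked C R S :=
  ⟨⟨Wr, Wn, cr, cn, fun _ => rfl, fun _ => rfl, words_ok⟩, t0,
    t1⟩

/-- In any group whose elements `g 1, …, g 4` satisfy the relators `R`, a subgroup containing the words
of `S` has index at most 5 in the subgroup generated by these elements. -/
theorem idxLe {G : Type*} [Group G] {g : ℕ → G} (hg : Sat g R) {H : Subgroup G}
    (hS : ∀ s ∈ S, ev g s ∈ H) : IdxLe H (gen g 4) 5 :=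
  checked.idxLe hg hS

end Cfsg.Agent.H44.Fi23C.S5

namespace Cfsg.Agent.H44.Fi23C.D5
open Cfsg.Agent.H44

noncomputable def rT0 : Tr :=
 (.leaf (nat_lit 0x9f9f9f9f0ee18e8e8e0d1fd20b7d2c1e8db5092a3d7c7c951d6b097b7b93073c6a6a6a751c071b2869746805683946541a1957055752560456565844551803172433441602443523435315430221324214011312003131123105112020202000))
noncomputable def gT0 : Tr :=
 (.leaf (nat_lit 0x14001300120011000c000a0008000600))
/-- The relators. -/
def R : List (List ℕ) := [[1, 1],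
  [2, 2],
  [3, 3],
  [4, 4],
  [5, 5],
  [1, 2, 1, 2, 1, 2],
  [1, 3, 1, 3],
  [1, 4, 1, 4],
  [1, 5, 1, 5],
  [2, 3, 2, 3, 2, 3],
  [2, 4, 2, 4],
  [2, 5, 2, 5, 2, 5],
  [3, 4, 3, 4, 3, 4],
  [3, 5, 3, 5],
  [4, 5, 4, 5]]
/-- The subgroup generators. -/
def S : List (List ℕ) := [[1],
  [2],
  [3],
  [4]]
def Wr : List (List ℕ) := [[5, 5],
  [1, 5, 1, 5],
  [2, 2],
  [3, 5, 3, 5],
  [4, 5, 4, 5],
  [1, 1],
  [3, 3],
  [4, 2, 4, 2],
  [5, 2, 5, 2, 5, 2],
  [2, 1, 2, 1, 2, 1],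
  [4, 1, 4, 1],
  [5, 1, 5, 1],
  [2, 3, 2, 3, 2, 3],
  [4, 4],
  [5, 3, 5, 3],
  [1, 3, 1, 3],
  [2, 4, 2, 4],
  [3, 4, 3, 4, 3, 4],
  [5, 4, 5, 4],
  [1, 2, 1, 2, 1, 2],
  [3, 2, 3, 2, 3, 2],
  [1, 4, 1, 4],
  [2, 5, 2, 5, 2, 5],
  [4, 3, 4, 3, 4, 3],
  [3, 1, 3, 1]]
def Wn : List (List ℕ) := [[1, 6],
  [2, 8],
  [3, 10],
  [4, 12]]
def cr : List (ℕ × ℕ × ℕ) := [(0, 0, 0), (1, 8, 0), (0, 0, 0), (1, 13, 0), (1, 14, 0), (0, 0, 0), (0, 0, 0), (1, 10, 1), (1, 11, 1), (1, 5, 1), (1, 7, 1), (1, 8, 1), (1, 9, 0), (0, 0, 0), (1, 13, 1), (1, 6, 0), (1, 10, 0), (1, 12, 0), (1, 14, 1), (1, 5, 0), (1, 9, 1), (1, 7, 0), (1, 11, 0), (1, 12, 1), (1, 6, 1)]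
def cn : List (ℕ × ℕ × ℕ) := [(1, 15, 0), (1, 16, 0), (1, 17, 0), (1, 18, 0)]
noncomputable def rT : Tr := rT0
noncomputable def gT : Tr := gT0
noncomputable def rC (i : ℕ) : ℕ := rT.get (nat_lit 0) i
noncomputable def gC (i : ℕ) : ℕ := gT.get (nat_lit 0) i
noncomputable def row (p : ℕ) : ℕ := rec2 rC (nat_lit 6) (nat_lit 63) (nat_lit 48) (nat_lit 0xffffffffffff) p
noncomputable def gf (p : ℕ) : ℕ := rec2 gC (nat_lit 8) (nat_lit 255) (nat_lit 16) (nat_lit 65535) p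
noncomputable def gw (c : ℕ) : List ℕ := nth [] Wr c
noncomputable def wn (c : ℕ) : ℕ := pack (nat_lit 4) (nth [] Wn c) (nat_lit 0)
noncomputable def C : Cert :=
  { n := (nat_lit 16), na := (nat_lit 0), M := (nat_lit 8), nc := (nat_lit 5), W := (nat_lit 4), EB := (nat_lit 8),
    LB := (nat_lit 4), nreg := (nat_lit 25), ivT := (nat_lit 0xcdab8967543210), base := (nat_lit 5440),
    row := row, gf := gf, gw := gw, wn := wn }
theorem masks : Masks C (nat_lit 15) (nat_lit 255) (nat_lit 15) (nat_lit 12) (nat_lit 4095) :=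
  ⟨by decide +kernel, by decide +kernel, by decide +kernel, by decide +kernel, by decide +kernel⟩
noncomputable def rchk : ℕ → ℕ → ℕ → Bool :=
  rowChk row gf gw (nat_lit 16) (nat_lit 8) (nat_lit 5) (nat_lit 4) (nat_lit 15) (nat_lit 8) (nat_lit 255) (nat_lit 4) (nat_lit 15) (nat_lit 12) (nat_lit 4095) (nat_lit 25) (nat_lit 0xcdab8967543210) (nat_lit 3) (nat_lit 7) (nat_lit 7) (nat_lit 127)
noncomputable def fchk : ℕ → ℕ → ℕ → Bool :=
  auxRun row gf wn (nat_lit 16) (nat_lit 0) (nat_lit 8) (nat_lit 5) (nat_lit 4) (nat_lit 15) (nat_lit 8) (nat_lit 255) (nat_lit 4) (nat_lit 15) (nat_lit 12) (nat_lit 0xcdab8967543210) (nat_lit 5440) (nat_lit 5) (nat_lit 31)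
theorem rows_of {lo hi : ℕ} {t : JL} (h : t.run rchk (nat_lit 35) hi lo = true) : C.RowsOK lo hi :=
  rowsOK_of_run masks h
theorem facts_of {lo hi : ℕ} {t : JL} (h : t.run fchk (nat_lit 20) hi lo = true) : C.FactsOK lo hi :=
  factsOK_of_run masks h
theorem words_ok : wordsChk 16 5 4 4 25 57890976858124816 5440 R S Wr Wn cr cn = true := by
  decide +kernel
noncomputable def j0 : JL :=
(.cons (nat_lit 16) (nat_lit 0x182cc8a00244150018005080c1000a1cb82026000d20007042e080800e44b1300481960238a80284c012221878e000c80f1c00686182c38a00244070018005080c1013a70d9a) (nat_lit 4012)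
.nil)
theorem t0 : C.RowsOK (nat_lit 0) (nat_lit 16) :=
  rows_of (t := j0) (by decide +kernel)
noncomputable def j1 : JL :=
(.cons (nat_lit 8) (nat_lit 0xb70009a0007d0006000048000300001800000) (nat_lit 0x58008022400400ce0020045001001000000000000000000000000)
.nil)
theorem t1 : C.FactsOK (nat_lit 0) (nat_lit 8) :=
  facts_of (t := j1) (by decide +kernel)
theorem checked : Checked C R S :=
  ⟨⟨Wr, Wn, cr, cn, fun _ => rfl, fun _ => rfl, words_ok⟩, t0,
    t1⟩

/-- In any group whose elements `g 1, …, g 5` satisfy the relators `R`, a subgroup containing the words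
of `S` has index at most 16 in the subgroup generated by these elements. -/
theorem idxLe {G : Type*} [Group G] {g : ℕ → G} (hg : Sat g R) {H : Subgroup G}
    (hS : ∀ s ∈ S, ev g s ∈ H) : IdxLe H (gen g 5) 16 :=
  checked.idxLe hg hS

end Cfsg.Agent.H44.Fi23C.D5

namespace Cfsg.Agent.H44.Fi23C.E6
open Cfsg.Agent.H44

noncomputable def rT0 : Tr :=
 (.leaf (nat_lit 0x1da065fa769da76b256e43a061b96e5b9c11987603905d98662e3055b765c3815977a9813659765d877352660dd955d57504d559881255154551543da460d97354c110d49288c344c932041322ce035455103c3354450791304400c0c84d1c5844bd0e0c52f4bc0c6050e4bd0e4390e02d61434ed0290d1c12d5110c32c304300a0bd423acec3aceb0242e488ea2242d0202c42903324aa324070ace938c0611ce80a8e83a0c6010681142931cc721828010c6318c63188500cc519ca5294a51982709803290a429064094a30900220c8310c822088208c011882218461184610880000440100401004008400))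
noncomputable def gT0 : Tr :=
 (.leaf (nat_lit 0x9800094000900008c000880003c000340002c000240001c00))
/-- The relators. -/
def R : List (List ℕ) := [[1, 1],
  [2, 2],
  [3, 3],
  [4, 4],
  [5, 5],
  [6, 6],
  [1, 2, 1, 2, 1, 2],
  [1, 3, 1, 3],
  [1, 4, 1, 4],
  [1, 5, 1, 5],
  [1, 6, 1, 6],
  [2, 3, 2, 3, 2, 3],
  [2, 4, 2, 4],
  [2, 5, 2, 5],
  [2, 6, 2, 6],
  [3, 4, 3, 4, 3, 4],
  [3, 5, 3, 5],
  [3, 6, 3, 6, 3, 6],
  [4, 5, 4, 5, 4, 5],
  [4, 6, 4, 6],
  [5, 6, 5, 6]]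
/-- The subgroup generators. -/
def S : List (List ℕ) := [[2],
  [3],
  [4],
  [5],
  [6]]
def Wr : List (List ℕ) := [[1, 1],
  [2, 2],
  [3, 1, 3, 1],
  [4, 1, 4, 1],
  [5, 1, 5, 1],
  [6, 1, 6, 1],
  [1, 2, 1, 2, 1, 2],
  [3, 3],
  [4, 2, 4, 2],
  [5, 2, 5, 2],
  [6, 2, 6, 2],
  [1, 3, 1, 3],
  [2, 3, 2, 3, 2, 3],
  [4, 4],
  [5, 3, 5, 3],
  [6, 6],
  [1, 4, 1, 4],
  [2, 4, 2, 4],
  [3, 4, 3, 4, 3, 4],
  [5, 5],
  [1, 6, 1, 6],
  [2, 6, 2, 6],
  [3, 6, 3, 6, 3, 6],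
  [5, 6, 5, 6],
  [1, 5, 1, 5],
  [2, 5, 2, 5],
  [3, 5, 3, 5],
  [4, 5, 4, 5, 4, 5],
  [4, 6, 4, 6],
  [4, 3, 4, 3, 4, 3],
  [6, 3, 6, 3, 6, 3],
  [3, 2, 3, 2, 3, 2],
  [5, 4, 5, 4, 5, 4],
  [6, 4, 6, 4],
  [2, 1, 2, 1, 2, 1],
  [6, 5, 6, 5]]
def Wn : List (List ℕ) := [[2, 7],
  [3, 9],
  [4, 11],
  [5, 13],
  [6, 15]]
def cr : List (ℕ × ℕ × ℕ) := [(0, 0, 0), (0, 0, 0), (1, 7, 1), (1, 8, 1), (1, 9, 1), (1, 10, 1), (1, 6, 0), (0, 0, 0), (1, 12, 1), (1, 13, 1), (1, 14, 1), (1, 7, 0), (1, 11, 0), (0, 0, 0), (1, 16, 1), (0, 0, 0), (1, 8, 0), (1, 12, 0), (1, 15, 0), (0, 0, 0), (1, 10, 0), (1, 14, 0), (1, 17, 0), (1, 20, 0), (1, 9, 0), (1, 13, 0), (1, 16, 0), (1, 18, 0), (1, 19, 0), (1, 15, 1), (1, 17, 1), (1, 11, 1), (1, 18, 1), (1, 19, 1), (1, 6, 1), (1, 20, 1)]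
def cn : List (ℕ × ℕ × ℕ) := [(1, 21, 0), (1, 22, 0), (1, 23, 0), (1, 24, 0), (1, 25, 0)]
noncomputable def rT : Tr := rT0
noncomputable def gT : Tr := gT0
noncomputable def rC (i : ℕ) : ℕ := rT.get (nat_lit 0) i
noncomputable def gC (i : ℕ) : ℕ := gT.get (nat_lit 0) i
noncomputable def row (p : ℕ) : ℕ := rec2 rC (nat_lit 6) (nat_lit 63) (nat_lit 70) (nat_lit 0x3fffffffffffffffff) p
noncomputable def gf (p : ℕ) : ℕ := rec2 gC (nat_lit 8) (nat_lit 255) (nat_lit 20) (nat_lit 0xfffff) p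
noncomputable def gw (c : ℕ) : List ℕ := nth [] Wr c
noncomputable def wn (c : ℕ) : ℕ := pack (nat_lit 5) (nth [] Wn c) (nat_lit 0)
noncomputable def C : Cert :=
  { n := (nat_lit 27), na := (nat_lit 0), M := (nat_lit 10), nc := (nat_lit 6), W := (nat_lit 5), EB := (nat_lit 10),
    LB := (nat_lit 5), nreg := (nat_lit 36), ivT := (nat_lit 0xf835cb62547418a418820), base := (nat_lit 43648),
    row := row, gf := gf, gw := gw, wn := wn }
theorem masks : Masks C (nat_lit 31) (nat_lit 1023) (nat_lit 31) (nat_lit 15) (nat_lit 32767) :=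
  ⟨by decide +kernel, by decide +kernel, by decide +kernel, by decide +kernel, by decide +kernel⟩
noncomputable def rchk : ℕ → ℕ → ℕ → Bool :=
  rowChk row gf gw (nat_lit 27) (nat_lit 10) (nat_lit 6) (nat_lit 5) (nat_lit 31) (nat_lit 10) (nat_lit 1023) (nat_lit 5) (nat_lit 31) (nat_lit 15) (nat_lit 32767) (nat_lit 36) (nat_lit 0xf835cb62547418a418820) (nat_lit 4) (nat_lit 15) (nat_lit 8) (nat_lit 255)
noncomputable def fchk : ℕ → ℕ → ℕ → Bool :=
  auxRun row gf wn (nat_lit 27) (nat_lit 0) (nat_lit 10) (nat_lit 6) (nat_lit 5) (nat_lit 31) (nat_lit 10) (nat_lit 1023) (nat_lit 5) (nat_lit 31) (nat_lit 15) (nat_lit 0xf835cb62547418a418820) (nat_lit 43648) (nat_lit 5) (nat_lit 31)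
theorem rows_of {lo hi : ℕ} {t : JL} (h : t.run rchk (nat_lit 48) hi lo = true) : C.RowsOK lo hi :=
  rowsOK_of_run masks h
theorem facts_of {lo hi : ℕ} {t : JL} (h : t.run fchk (nat_lit 20) hi lo = true) : C.FactsOK lo hi :=
  factsOK_of_run masks h
theorem words_ok : wordsChk 27 6 5 5 36 18754227528905178281510944 43648 R S Wr Wn cr cn = true := by
  decide +kernel
noncomputable def j0 : JL :=
(.cons (nat_lit 16) (nat_lit 0x6050e0323000614040323002221001302110b0a0e2000010b14092000011f0f0e00020c1f141e00020c00181d08161500141d08161510001c1b1a1900180e171615101400131211100f0e000d0c0b0a09080007060504030200292827262501) (nat_lit 624485)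
(.cons (nat_lit 11) (nat_lit 0x24001c1b1a192214001312111f0f0e000d0c00181d08161500181d170215100a0920000700181d171601100f1e00020c100f1e000d01222100081211222100081201) (nat_lit 0)
.nil))
theorem t0 : C.RowsOK (nat_lit 0) (nat_lit 27) :=
  rows_of (t := j0) (by decide +kernel)
noncomputable def j1 : JL :=
(.cons (nat_lit 10) (nat_lit 0xec000cf000b200095000780006000048000300001800000) (nat_lit 0xe00100560008022800400d00020046001001000000000000000000000000000000)
.nil)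
theorem t1 : C.FactsOK (nat_lit 0) (nat_lit 10) :=
  facts_of (t := j1) (by decide +kernel)
theorem checked : Checked C R S :=
  ⟨⟨Wr, Wn, cr, cn, fun _ => rfl, fun _ => rfl, words_ok⟩, t0,
    t1⟩

/-- In any group whose elements `g 1, …, g 6` satisfy the relators `R`, a subgroup containing the words
of `S` has index at most 27 in the subgroup generated by these elements. -/
theorem idxLe {G : Type*} [Group G] {g : ℕ → G} (hg : Sat g R) {H : Subgroup G}
    (hS : ∀ s ∈ S, ev g s ∈ H) : IdxLe H (gen g 6) 27 :=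
  checked.idxLe hg hS

end Cfsg.Agent.H44.Fi23C.E6

namespace Cfsg.Agent.H44.Fi23C.E7
open Cfsg.Agent.H44

noncomputable def rT0 : Tr :=
 (.leaf (nat_lit 0xbee0dafbdf7bef7defbec6b6c1dc1adb6b6d6dadb6a5aeb6d43b034aeb5d6bae84a695d2ba0750674d29a6630634ce99d330e82ca79e2705f3ca794f29e43ccd85e70e73c678cf19e20be58de205d2c2584b09612c0f95c70e52be57caf05a1c4975a30e11ba3746e0591b8b7d8395b1b63682b0df2b4565648d90b2160280dc2a476d048d70ad1506d8d71ac1450185489d35c2a8550a8134c1852fa5f48258523b234ca4850fa0d306c85009435ca27ce9a9f3be77cef9c124817cc690f43e67cc08c354627cae94918690441a212c43748799d23a474808433c22746484b2ba3040199f1c0303ed88503e20caf89f13e76c258db0b6103a191d0ba30382747111e0c6e81d03870c4c7c0e39f73ee7dcfb8503426dcf1606bcd79af3470323818e89b0c2d75aeb270c00642f89a6b8d71ae32602c3784b8dd636c6d8dac70bc059ad0dc230c698d2c60ba1716c816632c658cac46300518c3182b46556c286026d5c6dad75aeb5d6ba670b616809859128b596b2655aa0456aad55aa76149226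5a8160082d41ac4454a2050aec4c2b293020a4d49a0352403d49292524a496a9e652215407291522551079c5520b402a00d0a6239281a449e1480624f49e93d2898549ca382880b49c340c616449aa354685049a02d069624189302780a418830e714441692d2584e012134851233948290504c010728a590300e82504a09096824440e700a720e41c8094218648a709271ce39c738e71c028a1008618c318630c320e3087090614c298530a0102388208c510a2144006114c206328640c8180208850ca18442043080084320440881025182000210c1182304608061001044008010020040000))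
noncomputable def gT0 : Tr :=
 (.leaf (nat_lit 0x9c000250000900002300008800021000048000100000380000c00002800008000))
/-- The relators. -/
def R : List (List ℕ) := [[1, 1],
  [2, 2],
  [3, 3],
  [4, 4],
  [5, 5],
  [6, 6],
  [7, 7],
  [1, 2, 1, 2, 1, 2],
  [1, 3, 1, 3],
  [1, 4, 1, 4],
  [1, 5, 1, 5],
  [1, 6, 1, 6],
  [1, 7, 1, 7],
  [2, 3, 2, 3, 2, 3],
  [2, 4, 2, 4],
  [2, 5, 2, 5],
  [2, 6, 2, 6],
  [2, 7, 2, 7],
  [3, 4, 3, 4, 3, 4],
  [3, 5, 3, 5],
  [3, 6, 3, 6],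
  [3, 7, 3, 7, 3, 7],
  [4, 5, 4, 5, 4, 5],
  [4, 6, 4, 6],
  [4, 7, 4, 7],
  [5, 6, 5, 6, 5, 6],
  [5, 7, 5, 7],
  [6, 7, 6, 7]]
/-- The subgroup generators. -/
def S : List (List ℕ) := [[1],
  [2],
  [3],
  [4],
  [5],
  [7]]
def Wr : List (List ℕ) := [[6, 6],
  [1, 6, 1, 6],
  [2, 6, 2, 6],
  [3, 6, 3, 6],
  [4, 6, 4, 6],
  [5, 5],
  [7, 6, 7, 6],
  [1, 5, 1, 5],
  [2, 5, 2, 5],
  [3, 5, 3, 5],
  [4, 4],
  [6, 5, 6, 5, 6, 5],
  [7, 5, 7, 5],
  [1, 4, 1, 4],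
  [2, 4, 2, 4],
  [3, 3],
  [5, 4, 5, 4, 5, 4],
  [6, 4, 6, 4],
  [7, 4, 7, 4],
  [1, 3, 1, 3],
  [2, 2],
  [4, 3, 4, 3, 4, 3],
  [5, 3, 5, 3],
  [6, 3, 6, 3],
  [7, 7],
  [1, 1],
  [3, 2, 3, 2, 3, 2],
  [4, 2, 4, 2],
  [5, 2, 5, 2],
  [6, 2, 6, 2],
  [1, 7, 1, 7],
  [3, 7, 3, 7, 3, 7],
  [4, 7, 4, 7],
  [5, 7, 5, 7],
  [6, 7, 6, 7],
  [2, 1, 2, 1, 2, 1],
  [3, 1, 3, 1],
  [4, 1, 4, 1],
  [5, 1, 5, 1],
  [6, 1, 6, 1],
  [2, 7, 2, 7],
  [2, 3, 2, 3, 2, 3],
  [7, 3, 7, 3, 7, 3],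
  [3, 4, 3, 4, 3, 4],
  [1, 2, 1, 2, 1, 2],
  [7, 2, 7, 2],
  [4, 5, 4, 5, 4, 5],
  [5, 6, 5, 6, 5, 6],
  [7, 1, 7, 1]]
def Wn : List (List ℕ) := [[1, 8],
  [2, 10],
  [3, 12],
  [4, 14],
  [5, 16],
  [7, 18]]
def cr : List (ℕ × ℕ × ℕ) := [(0, 0, 0), (1, 11, 0), (1, 16, 0), (1, 20, 0), (1, 23, 0), (0, 0, 0), (1, 27, 1), (1, 10, 0), (1, 15, 0), (1, 19, 0), (0, 0, 0), (1, 25, 1), (1, 26, 1), (1, 9, 0), (1, 14, 0), (0, 0, 0), (1, 22, 1), (1, 23, 1), (1, 24, 1), (1, 8, 0), (0, 0, 0), (1, 18, 1), (1, 19, 1), (1, 20, 1), (0, 0, 0), (0, 0, 0), (1, 13, 1), (1, 14, 1), (1, 15, 1), (1, 16, 1), (1, 12, 0), (1, 21, 0), (1, 24, 0), (1, 26, 0), (1, 27, 0), (1, 7, 1), (1, 8, 1), (1, 9, 1), (1, 10, 1), (1, 11, 1), (1, 17, 0), (1, 13, 0), (1, 21, 1), (1, 18, 0), (1, 7, 0), (1, 17, 1), (1, 22, 0), (1, 25, 0), (1, 12, 1)]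
def cn : List (ℕ × ℕ × ℕ) := [(1, 28, 0), (1, 29, 0), (1, 30, 0), (1, 31, 0), (1, 32, 0), (1, 33, 0)]
noncomputable def rT : Tr := rT0
noncomputable def gT : Tr := gT0
noncomputable def rC (i : ℕ) : ℕ := rT.get (nat_lit 0) i
noncomputable def gC (i : ℕ) : ℕ := gT.get (nat_lit 0) i
noncomputable def row (p : ℕ) : ℕ := rec2 rC (nat_lit 6) (nat_lit 63) (nat_lit 88) (nat_lit 0xffffffffffffffffffffff) p
noncomputable def gf (p : ℕ) : ℕ := rec2 gC (nat_lit 8) (nat_lit 255) (nat_lit 22) (nat_lit 0x3fffff) p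
noncomputable def gw (c : ℕ) : List ℕ := nth [] Wr c
noncomputable def wn (c : ℕ) : ℕ := pack (nat_lit 5) (nth [] Wn c) (nat_lit 0)
noncomputable def C : Cert :=
  { n := (nat_lit 56), na := (nat_lit 0), M := (nat_lit 12), nc := (nat_lit 7), W := (nat_lit 6), EB := (nat_lit 11),
    LB := (nat_lit 5), nreg := (nat_lit 49), ivT := (nat_lit 0x94e1173d8d52d09398a418820), base := (nat_lit 349440),
    row := row, gf := gf, gw := gw, wn := wn }
theorem masks : Masks C (nat_lit 63) (nat_lit 2047) (nat_lit 31) (nat_lit 17) (nat_lit 131071) :=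
  ⟨by decide +kernel, by decide +kernel, by decide +kernel, by decide +kernel, by decide +kernel⟩
noncomputable def rchk : ℕ → ℕ → ℕ → Bool :=
  rowChk row gf gw (nat_lit 56) (nat_lit 12) (nat_lit 7) (nat_lit 6) (nat_lit 63) (nat_lit 11) (nat_lit 2047) (nat_lit 5) (nat_lit 31) (nat_lit 17) (nat_lit 131071) (nat_lit 49) (nat_lit 0x94e1173d8d52d09398a418820) (nat_lit 4) (nat_lit 15) (nat_lit 8) (nat_lit 255)
noncomputable def fchk : ℕ → ℕ → ℕ → Bool :=
  auxRun row gf wn (nat_lit 56) (nat_lit 0) (nat_lit 12) (nat_lit 7) (nat_lit 6) (nat_lit 63) (nat_lit 11) (nat_lit 2047) (nat_lit 5) (nat_lit 31) (nat_lit 17) (nat_lit 0x94e1173d8d52d09398a418820) (nat_lit 349440) (nat_lit 5) (nat_lit 31)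
theorem rows_of {lo hi : ℕ} {t : JL} (h : t.run rchk (nat_lit 56) hi lo = true) : C.RowsOK lo hi :=
  rowsOK_of_run masks h
theorem facts_of {lo hi : ℕ} {t : JL} (h : t.run fchk (nat_lit 20) hi lo = true) : C.FactsOK lo hi :=
  factsOK_of_run masks h
theorem words_ok : wordsChk 56 7 6 5 49 737214392205380596375629170720 349440 R S Wr Wn cr cn = true := by
  decide +kernel
noncomputable def j0 : JL :=
(.cons (nat_lit 16) (nat_lit 0xd01002f0a091a131206002c150e2e1e1d0b1b002d131206002c0f1a2b18170b0015142b18170b002a1a0023222110291f0023222110291a192827262524000023222120151f191e1d1c1b001a1918171600151413121100100f0e0d0c000b0a09080700060504030237013635343332) (nat_lit 0xba9876)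
(.cons (nat_lit 16) (nat_lit 0x190c002f0a09080023220b20291f0001222110291f190006050403020001220b20291f1900300b040302190111002c0f0e070030051003020023062120291f1901000b0a0908070030050415020d01002f10090819180616002a140700300504031a0d01002f0a150813120600100f0e) (nat_lit 0)
(.cons (nat_lit 16) (nat_lit 0x1918171600151419181716002a1a13121100100f0e13121100100f1a3128270b25240031280626252400131211002c150e2e1e1d0b1b001a310127262524002e1e061c1b001a2b18170b0015142e011d1c1b001a2b1806160015140023222110291f2b0117160015140023062110291f) (nat_lit 0)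
(.cons (nat_lit 8) (nat_lit 0x70030050403020d01002f0a0908131206002c0f0e2b18170b002a140023222110291f0023222120151f191e1d1c1b002d0023222120291a) (nat_lit 0)
.nil))))
theorem t0 : C.RowsOK (nat_lit 0) (nat_lit 56) :=
  rows_of (t := j0) (by decide +kernel)
noncomputable def j1 : JL :=
(.cons (nat_lit 12) (nat_lit 0x12100104000e7000ca000ad00090000780006000048000300001800000) (nat_lit 0x2200200cf00100568008022c00400d20020047001001000000000000000000000000000000000000)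
.nil)
theorem t1 : C.FactsOK (nat_lit 0) (nat_lit 12) :=
  facts_of (t := j1) (by decide +kernel)
theorem checked : Checked C R S :=
  ⟨⟨Wr, Wn, cr, cn, fun _ => rfl, fun _ => rfl, words_ok⟩, t0,
    t1⟩

/-- In any group whose elements `g 1, …, g 7` satisfy the relators `R`, a subgroup containing the words
of `S` has index at most 56 in the subgroup generated by these elements. -/
theorem idxLe {G : Type*} [Group G] {g : ℕ → G} (hg : Sat g R) {H : Subgroup G}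
    (hS : ∀ s ∈ S, ev g s ∈ H) : IdxLe H (gen g 7) 56 :=
  checked.idxLe hg hS

end Cfsg.Agent.H44.Fi23C.E7

namespace Cfsg.Agent.H44.Fi23C
open Cfsg.Agent.H44

theorem idx_S4 {G : Type*} [Group G] {g : ℕ → G} (hg : Sat g Fi23.Rm) :
    IdxLe (wgen g []) (wgen g [[4], [5], [6]]) 24 :=
  Cfsg.Agent.H44.Fi23C.S4.checked.step hg [0, 4, 5, 6] (by decide +kernel) (by decide +kernel) (by decide +kernel)

theorem card_S4 {G : Type*} [Group G] {g : ℕ → G} (hg : Sat g Fi23.Rm) :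
    Finite (wgen g [[4], [5], [6]]) ∧ Nat.card (wgen g [[4], [5], [6]]) ≤ 24 :=
  (idx_S4 hg).wcard (n := 24) (m := 1) (by decide) (wcard_nil g)

theorem idx_S5 {G : Type*} [Group G] {g : ℕ → G} (hg : Sat g Fi23.Rm) :
    IdxLe (wgen g [[4], [5], [6]]) (wgen g [[3], [4], [5], [6]]) 5 :=
  Cfsg.Agent.H44.Fi23C.S5.checked.step hg [0, 3, 4, 5, 6] (by decide +kernel) (by decide +kernel) (by decide +kernel)

theorem card_S5 {G : Type*} [Group G] {g : ℕ → G} (hg : Sat g Fi23.Rm) :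
    Finite (wgen g [[3], [4], [5], [6]]) ∧ Nat.card (wgen g [[3], [4], [5], [6]]) ≤ 120 :=
  (idx_S5 hg).wcard (n := 5) (m := 24) (by decide) (card_S4 hg)

theorem idx_D5 {G : Type*} [Group G] {g : ℕ → G} (hg : Sat g Fi23.Rm) :
    IdxLe (wgen g [[3], [4], [5], [6]]) (wgen g [[3], [4], [5], [6], [8]]) 16 :=
  Cfsg.Agent.H44.Fi23C.D5.checked.step hg [0, 3, 4, 5, 6, 8] (by decide +kernel) (by decide +kernel) (by decide +kernel)

theorem card_D5 {G : Type*} [Group G] {g : ℕ → G} (hg : Sat g Fi23.Rm) :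
    Finite (wgen g [[3], [4], [5], [6], [8]]) ∧ Nat.card (wgen g [[3], [4], [5], [6], [8]]) ≤ 1920 :=
  (idx_D5 hg).wcard (n := 16) (m := 120) (by decide) (card_S5 hg)

theorem idx_E6 {G : Type*} [Group G] {g : ℕ → G} (hg : Sat g Fi23.Rm) :
    IdxLe (wgen g [[3], [4], [5], [6], [8]]) (wgen g [[2], [3], [4], [5], [6], [8]]) 27 :=
  Cfsg.Agent.H44.Fi23C.E6.checked.step hg [0, 2, 3, 4, 5, 6, 8] (by decide +kernel) (by decide +kernel) (by decide +kernel)

theorem card_E6 {G : Type*} [Group G] {g : ℕ → G} (hg : Sat g Fi23.Rm) :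
    Finite (wgen g [[2], [3], [4], [5], [6], [8]]) ∧ Nat.card (wgen g [[2], [3], [4], [5], [6], [8]]) ≤ 51840 :=
  (idx_E6 hg).wcard (n := 27) (m := 1920) (by decide) (card_D5 hg)

theorem idx_E7 {G : Type*} [Group G] {g : ℕ → G} (hg : Sat g Fi23.Rm) :
    IdxLe (wgen g [[2], [3], [4], [5], [6], [8]]) (wgen g [[2], [3], [4], [5], [6], [7], [8]]) 56 :=
  Cfsg.Agent.H44.Fi23C.E7.checked.step hg [0, 2, 3, 4, 5, 6, 7, 8] (by decide +kernel) (by decide +kernel) (by decide +kernel)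

theorem card_E7 {G : Type*} [Group G] {g : ℕ → G} (hg : Sat g Fi23.Rm) :
    Finite (wgen g [[2], [3], [4], [5], [6], [7], [8]]) ∧ Nat.card (wgen g [[2], [3], [4], [5], [6], [7], [8]]) ≤ 2903040 :=
  (idx_E7 hg).wcard (n := 56) (m := 51840) (by decide) (card_E6 hg)

theorem idx_O7 {G : Type*} [Group G] {g : ℕ → G} (hg : Sat g Fi23.Rm) :
    IdxLe (wgen g [[2], [3], [4], [5], [6], [7], [8]]) (wgen g [[2], [3], [4], [5], [6], [7], [8], [9]]) 3159 :=
  Cfsg.Agent.H44.EFi23O7.checked.step hg [0, 2, 3, 4, 5, 6, 7, 8, 9] (by decide +kernel) (by decide +kernel) (by decide +kernel)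

theorem card_O7 {G : Type*} [Group G] {g : ℕ → G} (hg : Sat g Fi23.Rm) :
    Finite (wgen g [[2], [3], [4], [5], [6], [7], [8], [9]]) ∧ Nat.card (wgen g [[2], [3], [4], [5], [6], [7], [8], [9]]) ≤ 9170703360 :=
  (idx_O7 hg).wcard (n := 3159) (m := 2903040) (by decide) (card_E7 hg)

theorem idx_F22 {G : Type*} [Group G] {g : ℕ → G} (hg : Sat g Fi23.Rm) :
    IdxLe (wgen g [[2], [3], [4], [5], [6], [7], [8], [9]]) (wgen g [[1], [2], [3], [4], [5], [6], [7], [8], [9]]) 14080 :=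
  Cfsg.Agent.H44.EFi23B.checked.step hg [0, 1, 2, 3, 4, 5, 6, 7, 8, 9] (by decide +kernel) (by decide +kernel) (by decide +kernel)

theorem card_F22 {G : Type*} [Group G] {g : ℕ → G} (hg : Sat g Fi23.Rm) :
    Finite (wgen g [[1], [2], [3], [4], [5], [6], [7], [8], [9]]) ∧ Nat.card (wgen g [[1], [2], [3], [4], [5], [6], [7], [8], [9]]) ≤ 129123503308800 :=
  (idx_F22 hg).wcard (n := 14080) (m := 9170703360) (by decide) (card_O7 hg)

theorem idx_all {G : Type*} [Group G] {g : ℕ → G} (hg : Sat g Fi23.Rm) :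
    IdxLe (wgen g [[1], [2], [3], [4], [5], [6], [7], [8], [9]]) (wgen g [[1], [2], [3], [4], [5], [6], [7], [8], [9], [10]]) 31671 :=
  Cfsg.Agent.H44.EFi23A.checked.step hg [0, 1, 2, 3, 4, 5, 6, 7, 8, 9, 10] (by decide +kernel) (by decide +kernel) (by decide +kernel)

theorem card_all {G : Type*} [Group G] {g : ℕ → G} (hg : Sat g Fi23.Rm) :
    Finite (wgen g [[1], [2], [3], [4], [5], [6], [7], [8], [9], [10]]) ∧ Nat.card (wgen g [[1], [2], [3], [4], [5], [6], [7], [8], [9], [10]]) ≤ 4089470473293004800 :=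
  (idx_all hg).wcard (n := 31671) (m := 129123503308800) (by decide) (card_F22 hg)


end Cfsg.Agent.H44.Fi23C

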