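import Cfsg.Agent.H44.Coset
import Cfsg.Agent.H44.O8sP
import Cfsg.Agent.H44.EO8s

set_option autoImplicit false
set_option maxRecDepth 1000000
set_option linter.all false
set_option Elab.async false

namespace Cfsg.Agent.H44.O8sC.A3
open Cfsg.Agent.H44

noncomputable def rT0 : Tr :=
 (.leaf (nat_lit 0xd6951451f793124991b71041920f373e8eb60d35b40c3632b58e0b2d4b0a352a09344a27b3b108214807331e0632471b7005311604306f132f4604116d032e0e022d6c0b2c690209012b43072a01290600286503270026022524000123222100))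
noncomputable def gT0 : Tr :=
 (.leaf (nat_lit 0))
/-- The relators. -/
def R : List (List ℕ) := [[1, 1],
  [2, 2],
  [3, 3],
  [1, 2, 1, 2, 1, 2],
  [1, 3, 1, 3],
  [2, 3, 2, 3, 2, 3]]
/-- The subgroup generators. -/
def S : List (List ℕ) := []
def Wr : List (List ℕ) := [[1, 1],
  [2, 2],
  [3, 3],
  [1, 3, 1, 3],
  [2, 1, 2, 1, 2, 1],
  [3, 2, 3, 2, 3, 2],
  [3, 1, 3, 1]]
def Wn : List (List ℕ) := []
def cr : List (ℕ × ℕ × ℕ) := [(0, 0, 0), (0, 0, 0), (0, 0, 0), (1, 4, 0), (1, 3, 1), (1, 5, 1), (1, 4, 1)]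
def cn : List (ℕ × ℕ × ℕ) := []
noncomputable def rT : Tr := rT0
noncomputable def gT : Tr := gT0
noncomputable def rC (i : ℕ) : ℕ := rT.get (nat_lit 0) i
noncomputable def gC (i : ℕ) : ℕ := gT.get (nat_lit 0) i
noncomputable def row (p : ℕ) : ℕ := rec2 rC (nat_lit 7) (nat_lit 127) (nat_lit 32) (nat_lit 0xffffffff) p
noncomputable def gf (p : ℕ) : ℕ := rec2 gC (nat_lit 8) (nat_lit 255) (nat_lit 15) (nat_lit 32767) p
noncomputable def gw (c : ℕ) : List ℕ := nth [] Wr c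
noncomputable def wn (c : ℕ) : ℕ := pack (nat_lit 2) (nth [] Wn c) (nat_lit 0)
noncomputable def C : Cert :=
  { n := (nat_lit 24), na := (nat_lit 0), M := (nat_lit 0), nc := (nat_lit 3), W := (nat_lit 5), EB := (nat_lit 8),
    LB := (nat_lit 2), nreg := (nat_lit 7), ivT := (nat_lit 228), base := (nat_lit 0),
    row := row, gf := gf, gw := gw, wn := wn }
theorem masks : Masks C (nat_lit 31) (nat_lit 255) (nat_lit 3) (nat_lit 12) (nat_lit 4095) :=
  ⟨by decide +kernel, by decide +kernel, by decide +kernel, by decide +kernel, by decide +kernel⟩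
noncomputable def rchk : ℕ → ℕ → ℕ → Bool :=
  rowChk row gf gw (nat_lit 24) (nat_lit 0) (nat_lit 3) (nat_lit 5) (nat_lit 31) (nat_lit 8) (nat_lit 255) (nat_lit 2) (nat_lit 3) (nat_lit 12) (nat_lit 4095) (nat_lit 7) (nat_lit 228) (nat_lit 1) (nat_lit 1) (nat_lit 6) (nat_lit 63)
noncomputable def fchk : ℕ → ℕ → ℕ → Bool :=
  auxRun row gf wn (nat_lit 24) (nat_lit 0) (nat_lit 0) (nat_lit 3) (nat_lit 5) (nat_lit 31) (nat_lit 8) (nat_lit 255) (nat_lit 2) (nat_lit 3) (nat_lit 12) (nat_lit 228) (nat_lit 0) (nat_lit 2) (nat_lit 3)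
theorem rows_of {lo hi : ℕ} {t : JL} (h : t.run rchk (nat_lit 18) hi lo = true) : C.RowsOK lo hi :=
  rowsOK_of_run masks h
theorem facts_of {lo hi : ℕ} {t : JL} (h : t.run fchk (nat_lit 20) hi lo = true) : C.FactsOK lo hi :=
  factsOK_of_run masks h
theorem words_ok : wordsChk 24 3 5 2 7 228 0 R S Wr Wn cr cn = true := by
  decide +kernel
noncomputable def j0 : JL :=
(.cons (nat_lit 16) (nat_lit 0x21030801800400840c00400810c50030010020430800021030010020430010c2003081) (nat_lit 0)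
(.cons (nat_lit 8) (nat_lit 0x1c50031401c20060011c20030010c5006001) (nat_lit 0)
.nil))
theorem t0 : C.RowsOK (nat_lit 0) (nat_lit 24) :=
  rows_of (t := j0) (by decide +kernel)
theorem checked : Checked C R S :=
  ⟨⟨Wr, Wn, cr, cn, fun _ => rfl, fun _ => rfl, words_ok⟩, t0,
    fun _ _ h => absurd h (Nat.not_lt_zero _)⟩

/-- In any group whose elements `g 1, …, g 3` satisfy the relators `R`, a subgroup containing the words
of `S` has index at most 24 in the subgroup generated by these elements. -/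
theorem idxLe {G : Type*} [Group G] {g : ℕ → G} (hg : Sat g R) {H : Subgroup G}
    (hS : ∀ s ∈ S, ev g s ∈ H) : IdxLe H (gen g 3) 24 :=
  checked.idxLe hg hS

end Cfsg.Agent.H44.O8sC.A3

namespace Cfsg.Agent.H44.O8sC.D4
open Cfsg.Agent.H44

noncomputable def rT0 : Tr :=
 (.leaf (nat_lit 0xcddbb7c83d7055d496831c519a40490ea346351824268601164801914642092040800))
noncomputable def gT0 : Tr :=
 (.leaf (nat_lit 0x130048011002400700140))
/-- The relators. -/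
def R : List (List ℕ) := [[1, 1],
  [2, 2],
  [3, 3],
  [4, 4],
  [1, 2, 1, 2, 1, 2],
  [1, 3, 1, 3],
  [1, 4, 1, 4],
  [2, 3, 2, 3, 2, 3],
  [2, 4, 2, 4, 2, 4],
  [3, 4, 3, 4]]
/-- The subgroup generators. -/
def S : List (List ℕ) := [[1],
  [2],
  [3]]
def Wr : List (List ℕ) := [[4, 4],
  [1, 4, 1, 4],
  [2, 2],
  [3, 4, 3, 4],
  [1, 1],
  [3, 3],
  [4, 2, 4, 2, 4, 2],
  [2, 1, 2, 1, 2, 1],
  [4, 1, 4, 1],
  [2, 3, 2, 3, 2, 3],
  [4, 3, 4, 3],
  [1, 3, 1, 3],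
  [1, 2, 1, 2, 1, 2],
  [3, 2, 3, 2, 3, 2],
  [2, 4, 2, 4, 2, 4]]
def Wn : List (List ℕ) := [[1, 5],
  [2, 7],
  [3, 9]]
def cr : List (ℕ × ℕ × ℕ) := [(0, 0, 0), (1, 6, 0), (0, 0, 0), (1, 9, 0), (0, 0, 0), (0, 0, 0), (1, 8, 1), (1, 4, 1), (1, 6, 1), (1, 7, 0), (1, 9, 1), (1, 5, 0), (1, 4, 0), (1, 7, 1), (1, 8, 0)]
def cn : List (ℕ × ℕ × ℕ) := [(1, 10, 0), (1, 11, 0), (1, 12, 0)]
noncomputable def rT : Tr := rT0
noncomputable def gT : Tr := gT0
noncomputable def rC (i : ℕ) : ℕ := rT.get (nat_lit 0) i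
noncomputable def gC (i : ℕ) : ℕ := gT.get (nat_lit 0) i
noncomputable def row (p : ℕ) : ℕ := rec2 rC (nat_lit 7) (nat_lit 127) (nat_lit 35) (nat_lit 0x7ffffffff) p
noncomputable def gf (p : ℕ) : ℕ := rec2 gC (nat_lit 8) (nat_lit 255) (nat_lit 14) (nat_lit 16383) p
noncomputable def gw (c : ℕ) : List ℕ := nth [] Wr c
noncomputable def wn (c : ℕ) : ℕ := pack (nat_lit 4) (nth [] Wn c) (nat_lit 0)
noncomputable def C : Cert :=
  { n := (nat_lit 8), na := (nat_lit 0), M := (nat_lit 6), nc := (nat_lit 4), W := (nat_lit 3), EB := (nat_lit 7),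
    LB := (nat_lit 4), nreg := (nat_lit 15), ivT := (nat_lit 0x9a785643210), base := (nat_lit 672),
    row := row, gf := gf, gw := gw, wn := wn }
theorem masks : Masks C (nat_lit 7) (nat_lit 127) (nat_lit 15) (nat_lit 10) (nat_lit 1023) :=
  ⟨by decide +kernel, by decide +kernel, by decide +kernel, by decide +kernel, by decide +kernel⟩
noncomputable def rchk : ℕ → ℕ → ℕ → Bool :=
  rowChk row gf gw (nat_lit 8) (nat_lit 6) (nat_lit 4) (nat_lit 3) (nat_lit 7) (nat_lit 7) (nat_lit 127) (nat_lit 4) (nat_lit 15) (nat_lit 10) (nat_lit 1023) (nat_lit 15) (nat_lit 0x9a785643210) (nat_lit 3) (nat_lit 7) (nat_lit 7) (nat_lit 127)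
noncomputable def fchk : ℕ → ℕ → ℕ → Bool :=
  auxRun row gf wn (nat_lit 8) (nat_lit 0) (nat_lit 6) (nat_lit 4) (nat_lit 3) (nat_lit 7) (nat_lit 7) (nat_lit 127) (nat_lit 4) (nat_lit 15) (nat_lit 10) (nat_lit 0x9a785643210) (nat_lit 672) (nat_lit 5) (nat_lit 31)
theorem rows_of {lo hi : ℕ} {t : JL} (h : t.run rchk (nat_lit 28) hi lo = true) : C.RowsOK lo hi :=
  rowsOK_of_run masks h
theorem facts_of {lo hi : ℕ} {t : JL} (h : t.run fchk (nat_lit 20) hi lo = true) : C.FactsOK lo hi :=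
  factsOK_of_run masks h
theorem words_ok : wordsChk 8 4 3 4 15 10615102124560 672 R S Wr Wn cr cn = true := by
  decide +kernel
noncomputable def j0 : JL :=
(.cons (nat_lit 8) (nat_lit 0x10782023800d160018c160050512184000e1800500101820248890) (nat_lit 355)
.nil)
theorem t0 : C.RowsOK (nat_lit 0) (nat_lit 8) :=
  rows_of (t := j0) (by decide +kernel)
noncomputable def j1 : JL :=
(.cons (nat_lit 6) (nat_lit 0x820006500048000300001800000) (nat_lit 0x2000400cc0020044001001000000000000000000)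
.nil)
theorem t1 : C.FactsOK (nat_lit 0) (nat_lit 6) :=
  facts_of (t := j1) (by decide +kernel)
theorem checked : Checked C R S :=
  ⟨⟨Wr, Wn, cr, cn, fun _ => rfl, fun _ => rfl, words_ok⟩, t0,
    t1⟩

/-- In any group whose elements `g 1, …, g 4` satisfy the relators `R`, a subgroup containing the words
of `S` has index at most 8 in the subgroup generated by these elements. -/
theorem idxLe {G : Type*} [Group G] {g : ℕ → G} (hg : Sat g R) {H : Subgroup G}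
    (hS : ∀ s ∈ S, ev g s ∈ H) : IdxLe H (gen g 4) 8 :=
  checked.idxLe hg hS

end Cfsg.Agent.H44.O8sC.D4

namespace Cfsg.Agent.H44.O8sC.D5
open Cfsg.Agent.H44

noncomputable def rT0 : Tr :=
 (.leaf (nat_lit 0x890889898984781907787873677718066762046666172545035555553635165454540331154343021422423201134213310012313104201120202000))
noncomputable def gT0 : Tr :=
 (.leaf (nat_lit 0x15001300120011000c000a0008000600))
/-- The relators. -/
def R : List (List ℕ) := [[1, 1],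
  [2, 2],
  [3, 3],
  [4, 4],
  [5, 5],
  [1, 2, 1, 2, 1, 2],
  [1, 3, 1, 3],
  [1, 4, 1, 4],
  [1, 5, 1, 5],
  [2, 3, 2, 3, 2, 3],
  [2, 4, 2, 4],
  [2, 5, 2, 5, 2, 5],
  [3, 4, 3, 4, 3, 4],
  [3, 5, 3, 5],
  [4, 5, 4, 5]]
/-- The subgroup generators. -/
def S : List (List ℕ) := [[1],
  [2],
  [3],
  [5]]
def Wr : List (List ℕ) := [[4, 4],
  [1, 4, 1, 4],
  [2, 4, 2, 4],
  [3, 3],
  [5, 4, 5, 4],
  [1, 3, 1, 3],
  [2, 2],
  [4, 3, 4, 3, 4, 3],
  [5, 3, 5, 3],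
  [1, 1],
  [3, 2, 3, 2, 3, 2],
  [4, 2, 4, 2],
  [5, 5],
  [2, 1, 2, 1, 2, 1],
  [3, 1, 3, 1],
  [4, 1, 4, 1],
  [2, 5, 2, 5, 2, 5],
  [3, 5, 3, 5],
  [4, 5, 4, 5],
  [1, 5, 1, 5],
  [1, 2, 1, 2, 1, 2],
  [5, 2, 5, 2, 5, 2],
  [2, 3, 2, 3, 2, 3],
  [3, 4, 3, 4, 3, 4]]
def Wn : List (List ℕ) := [[1, 6],
  [2, 8],
  [3, 10],
  [5, 12]]
def cr : List (ℕ × ℕ × ℕ) := [(0, 0, 0), (1, 7, 0), (1, 10, 0), (0, 0, 0), (1, 14, 1), (1, 6, 0), (0, 0, 0), (1, 12, 1), (1, 13, 1), (0, 0, 0), (1, 9, 1), (1, 10, 1), (0, 0, 0), (1, 5, 1), (1, 6, 1), (1, 7, 1), (1, 11, 0), (1, 13, 0), (1, 14, 0), (1, 8, 0), (1, 5, 0), (1, 11, 1), (1, 9, 0), (1, 12, 0)]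
def cn : List (ℕ × ℕ × ℕ) := [(1, 15, 0), (1, 16, 0), (1, 17, 0), (1, 18, 0)]
noncomputable def rT : Tr := rT0
noncomputable def gT : Tr := gT0
noncomputable def rC (i : ℕ) : ℕ := rT.get (nat_lit 0) i
noncomputable def gC (i : ℕ) : ℕ := gT.get (nat_lit 0) i
noncomputable def row (p : ℕ) : ℕ := rec2 rC (nat_lit 6) (nat_lit 63) (nat_lit 48) (nat_lit 0xffffffffffff) p
noncomputable def gf (p : ℕ) : ℕ := rec2 gC (nat_lit 8) (nat_lit 255) (nat_lit 16) (nat_lit 65535) p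
noncomputable def gw (c : ℕ) : List ℕ := nth [] Wr c
noncomputable def wn (c : ℕ) : ℕ := pack (nat_lit 4) (nth [] Wn c) (nat_lit 0)
noncomputable def C : Cert :=
  { n := (nat_lit 10), na := (nat_lit 0), M := (nat_lit 8), nc := (nat_lit 5), W := (nat_lit 4), EB := (nat_lit 8),
    LB := (nat_lit 4), nreg := (nat_lit 24), ivT := (nat_lit 0xcdab8967543210), base := (nat_lit 5440),
    row := row, gf := gf, gw := gw, wn := wn }
theorem masks : Masks C (nat_lit 15) (nat_lit 255) (nat_lit 15) (nat_lit 12) (nat_lit 4095) :=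
  ⟨by decide +kernel, by decide +kernel, by decide +kernel, by decide +kernel, by decide +kernel⟩
noncomputable def rchk : ℕ → ℕ → ℕ → Bool :=
  rowChk row gf gw (nat_lit 10) (nat_lit 8) (nat_lit 5) (nat_lit 4) (nat_lit 15) (nat_lit 8) (nat_lit 255) (nat_lit 4) (nat_lit 15) (nat_lit 12) (nat_lit 4095) (nat_lit 24) (nat_lit 0xcdab8967543210) (nat_lit 3) (nat_lit 7) (nat_lit 7) (nat_lit 127)
noncomputable def fchk : ℕ → ℕ → ℕ → Bool :=
  auxRun row gf wn (nat_lit 10) (nat_lit 0) (nat_lit 8) (nat_lit 5) (nat_lit 4) (nat_lit 15) (nat_lit 8) (nat_lit 255) (nat_lit 4) (nat_lit 15) (nat_lit 12) (nat_lit 0xcdab8967543210) (nat_lit 5440) (nat_lit 5) (nat_lit 31)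
theorem rows_of {lo hi : ℕ} {t : JL} (h : t.run rchk (nat_lit 35) hi lo = true) : C.RowsOK lo hi :=
  rowsOK_of_run masks h
theorem facts_of {lo hi : ℕ} {t : JL} (h : t.run fchk (nat_lit 20) hi lo = true) : C.FactsOK lo hi :=
  factsOK_of_run masks h
theorem words_ok : wordsChk 10 5 4 4 24 57890976858124816 5440 R S Wr Wn cr cn = true := by
  decide +kernel
noncomputable def j0 : JL :=
(.cons (nat_lit 10) (nat_lit 0x280300c1090200b862c302002a009920e50013244450d203c7001a3058014244000e18280080c11c026cd19) (nat_lit 4012)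
.nil)
theorem t0 : C.RowsOK (nat_lit 0) (nat_lit 10) :=
  rows_of (t := j0) (by decide +kernel)
noncomputable def j1 : JL :=
(.cons (nat_lit 8) (nat_lit 0xb70009a0007d0006000048000300001800000) (nat_lit 0x58008022400400ce0020045001001000000000000000000000000)
.nil)
theorem t1 : C.FactsOK (nat_lit 0) (nat_lit 8) :=
  facts_of (t := j1) (by decide +kernel)
theorem checked : Checked C R S :=
  ⟨⟨Wr, Wn, cr, cn, fun _ => rfl, fun _ => rfl, words_ok⟩, t0,
    t1⟩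

/-- In any group whose elements `g 1, …, g 5` satisfy the relators `R`, a subgroup containing the words
of `S` has index at most 10 in the subgroup generated by these elements. -/
theorem idxLe {G : Type*} [Group G] {g : ℕ → G} (hg : Sat g R) {H : Subgroup G}
    (hS : ∀ s ∈ S, ev g s ∈ H) : IdxLe H (gen g 5) 10 :=
  checked.idxLe hg hS

end Cfsg.Agent.H44.O8sC.D5

namespace Cfsg.Agent.H44.O8sC.E6
open Cfsg.Agent.H44

noncomputable def rT0 : Tr :=
 (.leaf (nat_lit 0x1da065fa769da76b256e43a061b96e5b9c11987603905d98662e3055b765c3815977a9813659765d877352660dd955d57504d559881255154551543da460d97354c110d49288c344c932041322ce035455103c3354450791304400c0c84d1c5844bd0e0c52f4bc0c6050e4bd0e4390e02d61434ed0290d1c12d5110c32c304300a0bd423acec3aceb0242e488ea2242d0202c42903324aa324070ace938c0611ce80a8e83a0c6010681142931cc721828010c6318c63188500cc519ca5294a51982709803290a429064094a30900220c8310c822088208c011882218461184610880000440100401004008400))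
noncomputable def gT0 : Tr :=
 (.leaf (nat_lit 0x9800094000900008c000880003c000340002c000240001c00))
/-- The relators. -/
def R : List (List ℕ) := [[1, 1],
  [2, 2],
  [3, 3],
  [4, 4],
  [5, 5],
  [6, 6],
  [1, 2, 1, 2, 1, 2],
  [1, 3, 1, 3],
  [1, 4, 1, 4],
  [1, 5, 1, 5],
  [1, 6, 1, 6],
  [2, 3, 2, 3, 2, 3],
  [2, 4, 2, 4],
  [2, 5, 2, 5],
  [2, 6, 2, 6],
  [3, 4, 3, 4, 3, 4],
  [3, 5, 3, 5],
  [3, 6, 3, 6, 3, 6],
  [4, 5, 4, 5, 4, 5],
  [4, 6, 4, 6],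
  [5, 6, 5, 6]]
/-- The subgroup generators. -/
def S : List (List ℕ) := [[2],
  [3],
  [4],
  [5],
  [6]]
def Wr : List (List ℕ) := [[1, 1],
  [2, 2],
  [3, 1, 3, 1],
  [4, 1, 4, 1],
  [5, 1, 5, 1],
  [6, 1, 6, 1],
  [1, 2, 1, 2, 1, 2],
  [3, 3],
  [4, 2, 4, 2],
  [5, 2, 5, 2],
  [6, 2, 6, 2],
  [1, 3, 1, 3],
  [2, 3, 2, 3, 2, 3],
  [4, 4],
  [5, 3, 5, 3],
  [6, 6],
  [1, 4, 1, 4],
  [2, 4, 2, 4],
  [3, 4, 3, 4, 3, 4],
  [5, 5],
  [1, 6, 1, 6],
  [2, 6, 2, 6],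
  [3, 6, 3, 6, 3, 6],
  [5, 6, 5, 6],
  [1, 5, 1, 5],
  [2, 5, 2, 5],
  [3, 5, 3, 5],
  [4, 5, 4, 5, 4, 5],
  [4, 6, 4, 6],
  [4, 3, 4, 3, 4, 3],
  [6, 3, 6, 3, 6, 3],
  [3, 2, 3, 2, 3, 2],
  [5, 4, 5, 4, 5, 4],
  [6, 4, 6, 4],
  [2, 1, 2, 1, 2, 1],
  [6, 5, 6, 5]]
def Wn : List (List ℕ) := [[2, 7],
  [3, 9],
  [4, 11],
  [5, 13],
  [6, 15]]
def cr : List (ℕ × ℕ × ℕ) := [(0, 0, 0), (0, 0, 0), (1, 7, 1), (1, 8, 1), (1, 9, 1), (1, 10, 1), (1, 6, 0), (0, 0, 0), (1, 12, 1), (1, 13, 1), (1, 14, 1), (1, 7, 0), (1, 11, 0), (0, 0, 0), (1, 16, 1), (0, 0, 0), (1, 8, 0), (1, 12, 0), (1, 15, 0), (0, 0, 0), (1, 10, 0), (1, 14, 0), (1, 17, 0), (1, 20, 0), (1, 9, 0), (1, 13, 0), (1, 16, 0), (1, 18, 0), (1, 19, 0), (1, 15, 1), (1, 17, 1), (1, 11, 1), (1, 18, 1), (1, 19, 1), (1, 6, 1), (1, 20, 1)]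
def cn : List (ℕ × ℕ × ℕ) := [(1, 21, 0), (1, 22, 0), (1, 23, 0), (1, 24, 0), (1, 25, 0)]
noncomputable def rT : Tr := rT0
noncomputable def gT : Tr := gT0
noncomputable def rC (i : ℕ) : ℕ := rT.get (nat_lit 0) i
noncomputable def gC (i : ℕ) : ℕ := gT.get (nat_lit 0) i
noncomputable def row (p : ℕ) : ℕ := rec2 rC (nat_lit 6) (nat_lit 63) (nat_lit 70) (nat_lit 0x3fffffffffffffffff) p
noncomputable def gf (p : ℕ) : ℕ := rec2 gC (nat_lit 8) (nat_lit 255) (nat_lit 20) (nat_lit 0xfffff) p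
noncomputable def gw (c : ℕ) : List ℕ := nth [] Wr c
noncomputable def wn (c : ℕ) : ℕ := pack (nat_lit 5) (nth [] Wn c) (nat_lit 0)
noncomputable def C : Cert :=
  { n := (nat_lit 27), na := (nat_lit 0), M := (nat_lit 10), nc := (nat_lit 6), W := (nat_lit 5), EB := (nat_lit 10),
    LB := (nat_lit 5), nreg := (nat_lit 36), ivT := (nat_lit 0xf835cb62547418a418820), base := (nat_lit 43648),
    row := row, gf := gf, gw := gw, wn := wn }
theorem masks : Masks C (nat_lit 31) (nat_lit 1023) (nat_lit 31) (nat_lit 15) (nat_lit 32767) :=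
  ⟨by decide +kernel, by decide +kernel, by decide +kernel, by decide +kernel, by decide +kernel⟩
noncomputable def rchk : ℕ → ℕ → ℕ → Bool :=
  rowChk row gf gw (nat_lit 27) (nat_lit 10) (nat_lit 6) (nat_lit 5) (nat_lit 31) (nat_lit 10) (nat_lit 1023) (nat_lit 5) (nat_lit 31) (nat_lit 15) (nat_lit 32767) (nat_lit 36) (nat_lit 0xf835cb62547418a418820) (nat_lit 4) (nat_lit 15) (nat_lit 8) (nat_lit 255)
noncomputable def fchk : ℕ → ℕ → ℕ → Bool :=
  auxRun row gf wn (nat_lit 27) (nat_lit 0) (nat_lit 10) (nat_lit 6) (nat_lit 5) (nat_lit 31) (nat_lit 10) (nat_lit 1023) (nat_lit 5) (nat_lit 31) (nat_lit 15) (nat_lit 0xf835cb62547418a418820) (nat_lit 43648) (nat_lit 5) (nat_lit 31)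
theorem rows_of {lo hi : ℕ} {t : JL} (h : t.run rchk (nat_lit 48) hi lo = true) : C.RowsOK lo hi :=
  rowsOK_of_run masks h
theorem facts_of {lo hi : ℕ} {t : JL} (h : t.run fchk (nat_lit 20) hi lo = true) : C.FactsOK lo hi :=
  factsOK_of_run masks h
theorem words_ok : wordsChk 27 6 5 5 36 18754227528905178281510944 43648 R S Wr Wn cr cn = true := by
  decide +kernel
noncomputable def j0 : JL :=
(.cons (nat_lit 16) (nat_lit 0x6050e0323000614040323002221001302110b0a0e2000010b14092000011f0f0e00020c1f141e00020c00181d08161500141d08161510001c1b1a1900180e171615101400131211100f0e000d0c0b0a09080007060504030200292827262501) (nat_lit 624485)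
(.cons (nat_lit 11) (nat_lit 0x24001c1b1a192214001312111f0f0e000d0c00181d08161500181d170215100a0920000700181d171601100f1e00020c100f1e000d01222100081211222100081201) (nat_lit 0)
.nil))
theorem t0 : C.RowsOK (nat_lit 0) (nat_lit 27) :=
  rows_of (t := j0) (by decide +kernel)
noncomputable def j1 : JL :=
(.cons (nat_lit 10) (nat_lit 0xec000cf000b200095000780006000048000300001800000) (nat_lit 0xe00100560008022800400d00020046001001000000000000000000000000000000)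
.nil)
theorem t1 : C.FactsOK (nat_lit 0) (nat_lit 10) :=
  facts_of (t := j1) (by decide +kernel)
theorem checked : Checked C R S :=
  ⟨⟨Wr, Wn, cr, cn, fun _ => rfl, fun _ => rfl, words_ok⟩, t0,
    t1⟩

/-- In any group whose elements `g 1, …, g 6` satisfy the relators `R`, a subgroup containing the words
of `S` has index at most 27 in the subgroup generated by these elements. -/
theorem idxLe {G : Type*} [Group G] {g : ℕ → G} (hg : Sat g R) {H : Subgroup G}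
    (hS : ∀ s ∈ S, ev g s ∈ H) : IdxLe H (gen g 6) 27 :=
  checked.idxLe hg hS

end Cfsg.Agent.H44.O8sC.E6

namespace Cfsg.Agent.H44.O8sC.E7
open Cfsg.Agent.H44

noncomputable def rT0 : Tr :=
 (.node (.leaf (nat_lit 0x30a7d0e0e753e26872adf61019d4f25e0301984c8e45bcc1432a9d4361914ea9d03018d810164b897d2e25c12e3894e2c80c496d2ea5b4b696c0b0615840512d1971c02546fa9a534a20302594320512c8de532a654285f4b06582f2580281754c28302485ced2171263712ba574901710b1d842c8580905b4ac90c080912269546d2554aa9550405a4284482c8100b09512a20401a238aa90f1ae84d09a1335015ce91543a40342b212424690060d511c84508a11422844c4055018235080544208410818701422d0795339e73ce79cf290024698d1116738e71ce39c4a0298091a0228291cd39a734938510a0024e61cc398730e612600e33ce58ce11062cc598b1d013c039ca19a628c518a31439c2704d09801cc498931262472805310620c40cb10c520a40a8096128c384900a51ca394714800ca314628c5186408420c1a02414528a5142380320a41431801208410821042083184102808c40c81903206114008c3044000610c2184308610c2188020220c1182304608c1086000008421002004008010020020800))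
 (.leaf (nat_lit 0x5f2c5dbb77160dc9db9b3bd12c417bb66ecdd9d9bb636579db93b376add5ba82f7e86c6f182d15ccd19a3346690d5da5a8056dd599b33158fd8d71f7ad0cd415b32664cc9db9ad3ed59e3b4f7662cc59882b5e27d6b18296e0dc0550f76e0dc0965280ee1d9b7b2f0521d5b792ba480987a2ee5dc29d771f36dd3203a0265dabb576aed3e4db663824658bb0528f365849cb84880e61c975aeb0481c49316f90808d953281e0ca99532a14b1a03832965208c37b29652292328215d0da9742e85d0ba05142803cb9d5389f1dc480b63277901b836aa654c0795316b64cf100eae55443b172ae513e3a9d406c5c8a900e86b5c827874ba50d4b8d508695c6b8d7181d74206d512e5544a895109c1d0da0342a15c6a8550aa154206db08195409804d2a02ceb8170328)))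
noncomputable def gT0 : Tr :=
 (.leaf (nat_lit 0x9c000260000940002400008c0002200004c0001100003c0000d00002c00009000))
/-- The relators. -/
def R : List (List ℕ) := [[1, 1],
  [2, 2],
  [3, 3],
  [4, 4],
  [5, 5],
  [6, 6],
  [7, 7],
  [8, 8],
  [1, 2, 1, 2, 1, 2],
  [1, 3, 1, 3],
  [1, 4, 1, 4],
  [1, 5, 1, 5],
  [1, 6, 1, 6],
  [1, 7, 1, 7],
  [1, 8, 1, 8],
  [2, 3, 2, 3, 2, 3],
  [2, 4, 2, 4],
  [2, 5, 2, 5],
  [2, 6, 2, 6],
  [2, 7, 2, 7],
  [2, 8, 2, 8],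
  [3, 4, 3, 4, 3, 4],
  [3, 5, 3, 5],
  [3, 6, 3, 6],
  [3, 7, 3, 7],
  [3, 8, 3, 8],
  [4, 5, 4, 5, 4, 5],
  [4, 6, 4, 6],
  [4, 7, 4, 7, 4, 7],
  [4, 8, 4, 8],
  [5, 6, 5, 6, 5, 6],
  [5, 7, 5, 7],
  [5, 8, 5, 8],
  [6, 7, 6, 7],
  [6, 8, 6, 8],
  [7, 8, 7, 8],
  [8, 7, 6, 5, 4, 3, 2, 1, 7, 6, 5, 4, 3, 2, 1, 7, 6, 5, 4, 3, 2, 1, 7, 6, 5, 4, 3, 2, 1, 7, 6, 5, 4, 3, 2, 1, 7, 6, 5, 4, 3, 2, 1, 7, 6, 5, 4, 3, 2, 1, 7, 6, 5, 4, 3, 2, 1, 7, 6, 5, 4, 3, 2, 1]]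
/-- The subgroup generators. -/
def S : List (List ℕ) := [[2],
  [3],
  [4],
  [5],
  [6],
  [7]]
def Wr : List (List ℕ) := [[1, 1],
  [8, 8],
  [2, 2],
  [3, 1, 3, 1],
  [4, 1, 4, 1],
  [5, 1, 5, 1],
  [6, 1, 6, 1],
  [7, 1, 7, 1],
  [2, 8, 2, 8],
  [3, 8, 3, 8],
  [4, 8, 4, 8],
  [5, 8, 5, 8],
  [6, 8, 6, 8],
  [7, 8, 7, 8],
  [1, 2, 1, 2, 1, 2],
  [3, 3],
  [4, 2, 4, 2],
  [5, 2, 5, 2],
  [6, 2, 6, 2],
  [7, 2, 7, 2],
  [1, 8, 1, 8],
  [1, 3, 1, 3],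
  [2, 3, 2, 3, 2, 3],
  [4, 4],
  [5, 3, 5, 3],
  [6, 3, 6, 3],
  [7, 3, 7, 3],
  [1, 4, 1, 4],
  [2, 4, 2, 4],
  [3, 4, 3, 4, 3, 4],
  [5, 5],
  [6, 4, 6, 4],
  [7, 7],
  [1, 5, 1, 5],
  [2, 5, 2, 5],
  [3, 5, 3, 5],
  [4, 5, 4, 5, 4, 5],
  [6, 6],
  [1, 7, 1, 7],
  [2, 7, 2, 7],
  [3, 7, 3, 7],
  [4, 7, 4, 7, 4, 7],
  [6, 7, 6, 7],
  [1, 6, 1, 6],
  [2, 6, 2, 6],
  [3, 6, 3, 6],
  [4, 6, 4, 6],
  [5, 6, 5, 6, 5, 6],
  [5, 7, 5, 7],
  [5, 4, 5, 4, 5, 4],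
  [7, 4, 7, 4, 7, 4],
  [4, 3, 4, 3, 4, 3],
  [6, 5, 6, 5, 6, 5],
  [7, 5, 7, 5],
  [3, 2, 3, 2, 3, 2],
  [2, 1, 2, 1, 2, 1],
  [8, 7, 6, 5, 4, 3, 2, 1, 7, 6, 5, 4, 3, 2, 1, 7, 6, 5, 4, 3, 2, 1, 7, 6, 5, 4, 3, 2, 1, 7, 6, 5, 4, 3, 2, 1, 7, 6, 5, 4, 3, 2, 1, 7, 6, 5, 4, 3, 2, 1, 7, 6, 5, 4, 3, 2, 1, 7, 6, 5, 4, 3, 2, 1],
  [8, 1, 2, 3, 4, 5, 6, 7, 1, 2, 3, 4, 5, 6, 7, 1, 2, 3, 4, 5, 6, 7, 1, 2, 3, 4, 5, 6, 7, 1, 2, 3, 4, 5, 6, 7, 1, 2, 3, 4, 5, 6, 7, 1, 2, 3, 4, 5, 6, 7, 1, 2, 3, 4, 5, 6, 7, 1, 2, 3, 4, 5, 6, 7],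
  [7, 1, 2, 3, 4, 5, 6, 7, 1, 2, 3, 4, 5, 6, 7, 1, 2, 3, 4, 5, 6, 7, 1, 2, 3, 4, 5, 6, 7, 1, 2, 3, 4, 5, 6, 7, 1, 2, 3, 4, 5, 6, 7, 1, 2, 3, 4, 5, 6, 7, 1, 2, 3, 4, 5, 6, 7, 8, 1, 2, 3, 4, 5, 6],
  [2, 1, 7, 6, 5, 4, 3, 2, 1, 7, 6, 5, 4, 3, 2, 1, 7, 6, 5, 4, 3, 2, 1, 7, 6, 5, 4, 3, 2, 1, 7, 6, 5, 4, 3, 2, 1, 7, 6, 5, 4, 3, 2, 1, 7, 6, 5, 4, 3, 2, 1, 7, 6, 5, 4, 3, 2, 1, 8, 7, 6, 5, 4, 3]]
def Wn : List (List ℕ) := [[2, 9],
  [3, 11],
  [4, 13],
  [5, 15],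
  [6, 17],
  [7, 19]]
def cr : List (ℕ × ℕ × ℕ) := [(0, 0, 0), (0, 0, 0), (0, 0, 0), (1, 9, 1), (1, 10, 1), (1, 11, 1), (1, 12, 1), (1, 13, 1), (1, 20, 0), (1, 25, 0), (1, 29, 0), (1, 32, 0), (1, 34, 0), (1, 35, 0), (1, 8, 0), (0, 0, 0), (1, 16, 1), (1, 17, 1), (1, 18, 1), (1, 19, 1), (1, 14, 0), (1, 9, 0), (1, 15, 0), (0, 0, 0), (1, 22, 1), (1, 23, 1), (1, 24, 1), (1, 10, 0), (1, 16, 0), (1, 21, 0), (0, 0, 0), (1, 27, 1), (0, 0, 0), (1, 11, 0), (1, 17, 0), (1, 22, 0), (1, 26, 0), (0, 0, 0), (1, 13, 0), (1, 19, 0), (1, 24, 0), (1, 28, 0), (1, 33, 0), (1, 12, 0), (1, 18, 0), (1, 23, 0), (1, 27, 0), (1, 30, 0), (1, 31, 0), (1, 26, 1), (1, 28, 1), (1, 21, 1), (1, 30, 1), (1, 31, 1), (1, 15, 1), (1, 8, 1), (1, 36, 0), (2, 36, 63), (2, 36, 6), (1, 36, 6)]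
def cn : List (ℕ × ℕ × ℕ) := [(1, 37, 0), (1, 38, 0), (1, 39, 0), (1, 40, 0), (1, 41, 0), (1, 42, 0)]
noncomputable def rT : Tr := rT0
noncomputable def gT : Tr := gT0
noncomputable def rC (i : ℕ) : ℕ := rT.get (nat_lit 1) i
noncomputable def gC (i : ℕ) : ℕ := gT.get (nat_lit 0) i
noncomputable def row (p : ℕ) : ℕ := rec2 rC (nat_lit 5) (nat_lit 31) (nat_lit 99) (nat_lit 0x7ffffffffffffffffffffffff) p
noncomputable def gf (p : ℕ) : ℕ := rec2 gC (nat_lit 8) (nat_lit 255) (nat_lit 22) (nat_lit 0x3fffff) p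
noncomputable def gw (c : ℕ) : List ℕ := nth [] Wr c
noncomputable def wn (c : ℕ) : ℕ := pack (nat_lit 5) (nth [] Wn c) (nat_lit 0)
noncomputable def C : Cert :=
  { n := (nat_lit 56), na := (nat_lit 0), M := (nat_lit 12), nc := (nat_lit 8), W := (nat_lit 6), EB := (nat_lit 11),
    LB := (nat_lit 5), nreg := (nat_lit 60), ivT := (nat_lit 0x13a464f835cb62548398a418820), base := (nat_lit 698880),
    row := row, gf := gf, gw := gw, wn := wn }
theorem masks : Masks C (nat_lit 63) (nat_lit 2047) (nat_lit 31) (nat_lit 17) (nat_lit 131071) :=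
  ⟨by decide +kernel, by decide +kernel, by decide +kernel, by decide +kernel, by decide +kernel⟩
noncomputable def rchk : ℕ → ℕ → ℕ → Bool :=
  rowChk row gf gw (nat_lit 56) (nat_lit 12) (nat_lit 8) (nat_lit 6) (nat_lit 63) (nat_lit 11) (nat_lit 2047) (nat_lit 5) (nat_lit 31) (nat_lit 17) (nat_lit 131071) (nat_lit 60) (nat_lit 0x13a464f835cb62548398a418820) (nat_lit 4) (nat_lit 15) (nat_lit 8) (nat_lit 255)
noncomputable def fchk : ℕ → ℕ → ℕ → Bool :=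
  auxRun row gf wn (nat_lit 56) (nat_lit 0) (nat_lit 12) (nat_lit 8) (nat_lit 6) (nat_lit 63) (nat_lit 11) (nat_lit 2047) (nat_lit 5) (nat_lit 31) (nat_lit 17) (nat_lit 0x13a464f835cb62548398a418820) (nat_lit 698880) (nat_lit 6) (nat_lit 63)
theorem rows_of {lo hi : ℕ} {t : JL} (h : t.run rchk (nat_lit 64) hi lo = true) : C.RowsOK lo hi :=
  rowsOK_of_run masks h
theorem facts_of {lo hi : ℕ} {t : JL} (h : t.run fchk (nat_lit 20) hi lo = true) : C.FactsOK lo hi :=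
  factsOK_of_run masks h
theorem words_ok : wordsChk 56 8 6 5 60 24899403105646480401694149675040 698880 R S Wr Wn cr cn = true := by
  decide +kernel
noncomputable def j0 : JL :=
(.cons (nat_lit 16) (nat_lit 0xe0d1f0b0a09150021260c0b0a09150200263118292827022100302f2e2d2c00210d1f0b0a091502002b1f2a2928270221260025242322000e0d0c180a09150221201f001e1d1c000e0d0c0b100915021b1a1918001716000e0d0c0b0a0315021413121110000f000e0d0c0b0a09010208070605040300024241403f3e3d01) (nat_lit 0xba9876)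
(.cons (nat_lit 16) (nat_lit 0xe0d1f0b0a031502363500182403220214131f11370001000e260c0b0a03150214261211370001000e0d1f0b1009150236350025102322021b1a1f34000316000e260c0b100915021b261934000316000e0d0c180a09150233201f00101d1c000e260c180a09150233263200101d1c00210d0c0b0a091502002b3118292827) (nat_lit 0)
(.cons (nat_lit 16) (nat_lit 0x221203200101d1c00210d0c0b0a031502002b312a290327000e0d0c180a09010221203200101d01000e0d1f0b0a09150236350018242322000e260c0b0a0915000e0d0c180a031502212032001e031c000e0d1f0b0a090102363500182423010208071f05043800000e260c0b0a09010208260605043800000e0d0c0b100915) (nat_lit 0)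
(.cons (nat_lit 8) (nat_lit 0xe0d0c0b0a091502002b312a29282702211a1934003c16000e0d0c0b0a0315003b0d0c0b1009013a002b312a10280139211a1934001701000e0d0c180a0915) (nat_lit 0)
.nil))))
theorem t0 : C.RowsOK (nat_lit 0) (nat_lit 56) :=
  rows_of (t := j0) (by decide +kernel)
noncomputable def j1 : JL :=
(.cons (nat_lit 12) (nat_lit 0x12600108000ea000cc000ae00090000780006000048000300001800000) (nat_lit 0x48004019000100538004010c001003280040088001001000000000000000000000000000000000000)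
.nil)
theorem t1 : C.FactsOK (nat_lit 0) (nat_lit 12) :=
  facts_of (t := j1) (by decide +kernel)
theorem checked : Checked C R S :=
  ⟨⟨Wr, Wn, cr, cn, fun _ => rfl, fun _ => rfl, words_ok⟩, t0,
    t1⟩

/-- In any group whose elements `g 1, …, g 8` satisfy the relators `R`, a subgroup containing the words
of `S` has index at most 56 in the subgroup generated by these elements. -/
theorem idxLe {G : Type*} [Group G] {g : ℕ → G} (hg : Sat g R) {H : Subgroup G}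
    (hS : ∀ s ∈ S, ev g s ∈ H) : IdxLe H (gen g 8) 56 :=
  checked.idxLe hg hS

end Cfsg.Agent.H44.O8sC.E7

namespace Cfsg.Agent.H44.O8sC.E8
open Cfsg.Agent.H44

noncomputable def rT0 : Tr :=
 (.node (.node (.leaf (nat_lit 0x4a8a1f247c41904a401704a0a1f287c2e4207881e2878a1e2878927207801620782c2207481d1c98a1d1c94616247412700542a120700141054a1c1c9091c247091c0498288206c0131490521105491b246c91b04942680048124084c5201050323246891a2468249048c919206451f20640120488919246424400441210c8021324609182460918246022904809170044212245c11f245c917245c2271c587162458916245871d184011e003c1e11c5400e1470915146c40f205481504741c8003411c08389141468814205081420501a9003011b0c683180838813204c813204c189046881200303170834119204881220481870460811045c00c2044811204481120441861840610204081020408101c58610002c161183c00a203c80f203c515102c70f045814800241150c5080e0c4c20a1c3870e1c38129045070d002480d0c4870d1c3470d1c34127044c70c0448111002470c1c3070c1c30125142c0071c2c70b1c2c70b143c40804400e8001810f1c2870a1c2830e081c60a18280c9043860904347090430006182460918240c4102000518206081820608182050b10200a8001010b181c607181c6070c28205141c089042850618186061818109001050614180830008108141450514145051414307080c049041c40414105041410504041800210100420004303100c403100c403100c4030c1402904143021008402100840210081040004021040c0000c043010c043010c04301040800808001010800200080020008002000800000))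
 (.leaf (nat_lit 0x2cfcb3f20c4b4a28c895005440302cfc6022cf8b3e2cf8b492cf86301d3c15000bc5e12cf402e2cf4b472cf4b3d10bc54e053c5c800b414e2cf0b442cf0b3c2cf022e0d345a9053414c2cecb422cecb3b2cecb3b00b45a12ce8b3a252883130e8c3a052c02c2ce85822ce4b3918b083030e474930e414a00ac5612ce002a2ce082f152042b151cc38052454800a41482cdca3708a8b371518c3730dc52900a01472cd882e0d18b3608a834430d85090518c352cd4a3500a014508a434330d45050510c342cd082d050cb342cd0028050850228cca332d04c332d00a33009ca3328cc4e328c8a32209cc322cfcb32050402628c84c228c4a3124fc93a209cb31050002528c44a228c0a301894939209873e2cc013f009048128bc02328bc93828bc42414f4b2f04f8468008813d28b893628b8a2e088c33c2cb844904f0b2d28b493428b4a2d28b402204ec44228b0a2c1ce46252cb0b2c2cb013a008442128ac02010846242cac5382cacb2b04e4408007c13828a86230cdc2200cd8b2a2ca83e904dcb2928a4929007ca290cd4b292ca43e504d8b2828a062204d4a28007c1342ca03e3249c92724c8b2724c481e04cc01d249c3a224989261874b2624c0a262898132007038124949251cc072c1874a252894131006c361249001a106c72b187052f2890a2404c0348006412f248c72a248c21a0cb8a23288c32904b8a2224887282488922006412d2888323248401814ac41b2884a212884a2104b0308005c12b086041a288032a2880a2028802e9)))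
 (.node (.leaf (nat_lit 0x357cd5f357cc5025b084a717c049357c9223578d5e3578c5e1924d5e25ac16c01209013574d5d3574c4f1dacd5d1925a5d011c8e135700463570c5c111c56a192076805ac8c8011416a0da4c5b316c246316c767396c8a905a4e5a0114c5a3168c5a316876639688a735640443564c4e15a0d5935644476164888010c1683560c58091036735604461590869059ce570598c57315c0430594445158886401094563558c4d0d90d563558d56091084961540423554c4c0d8cd553554d55355484805901633550c5401081623550d54090c845314cc53314ce537d4c041314cc53314c8243148c527d48d6131480403148c5231488043144c512900d603105d5100fcc5131447e33140c503140d5f314083f6d4003e31407c2313cc4f313cd5d313cc4f18f994f00f47a1313803c3138d593138c4e313843d5d3878800ed54d3134d563134c4d3134c4d08f07695d3003b3130d553130c4c3130c4c3130768312cc4b2d80a40352c16100e8c4b312c7433128c4a20e8a3f352895f058003931287223124c493124a3e1d786391d7415f00e070131200373120b4810e0c481d70d4805786e8311c036311ca3d1570c4710e055905746c800d415c3118b4608d835b10dc55835186a9056cd450568b452d140352d1455735146a400d01593110a3c0d60c4431102360d586890560d43310cb4300d0157310c2350d5068505581553108a3b0550c423108c4200d06812d04b4128ccd41354415300c8b412d046432d00b402d44b4b28cc15200c4b402d00623))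
 (.leaf (nat_lit 0x41dd07719d0f773ddcf773ddd47701cce6151d806f09c0f763dd8f7645c907641d8de841d406e3dc8f753dd4f7509c127341d4dc83dd0f741ddce7439d066b39d127401a8d413dcc06911a8e7339cce7339cd37505dcd283dc806741d4e7239c846849d886a45c8ce801890714d94e7139c42643998f71199cc4945c00620dd8e7039c02630dd4f703dc0c484d941760188e6f39bce6f3d9cf6f1998c4739981753d9ce6e39b8e6e01890691994c4339b4e6d81b4e6d0184e6d39b4e6d39b4c2539b0e6c39b0d6c217ce6c71b005e39b0bc239ace6b39acd6b19747742179b6b0170b8139a805b15ccd6a35a845c35a897205d0b680168173096cd6935a4d6935a516e3da4b4939a005839a0d68116457239a065c49a0b08015c17239b8d67359c25841bc65b1dc4ae935b8f66015cd663598d663dc465a1dbcae749bcf6551c4d653594d65015cc651db8ae301511643990d6409583713990e641160a89498c054398cd630954370398ce63398ca8805c417005bcd62358805405b8e62115ca843584d618184c5205b404b3584d6135849643580d60292cc513981e600128d603580943))))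
noncomputable def gT0 : Tr :=
 (.leaf (nat_lit 0x3e7616178ea4a4f018619e2a9a9ba0527e748c0c0e814dfdc02046b8060857008318e114545b1afafb60517d680bf08d00fe2da1a8283225d5d640a0f8c01760d801f453024f4f5d2aaaab8565657027bdac94c4c580ab00b016609601ec4ac14e4e54098f0a8139e9401dc3a884d4d50079109a159593026bca405681308fd1a711fe30a1bec59027c8a182f712221ea2024bcc39c67e8638cfb0a719f210e33dc19c67a8238cf302719e200148000027000004c000009400001200000230000044000008400000c000001600000280000048000008000000e00000180000028000003c6be8058c7d00916f800e29ec0144bd00188790110ef001e19840242b0003845f00506ba00609640440ab009805500afea601df948023ea88037c50004f69e005e938043ca6809784c))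
/-- The relators. -/
def R : List (List ℕ) := [[1, 1],
  [2, 2],
  [3, 3],
  [4, 4],
  [5, 5],
  [6, 6],
  [7, 7],
  [8, 8],
  [9, 9],
  [1, 2, 1, 2, 1, 2],
  [1, 3, 1, 3],
  [1, 4, 1, 4],
  [1, 5, 1, 5],
  [1, 6, 1, 6],
  [1, 7, 1, 7],
  [1, 8, 1, 8, 1, 8],
  [1, 9, 1, 9],
  [2, 3, 2, 3, 2, 3],
  [2, 4, 2, 4],
  [2, 5, 2, 5],
  [2, 6, 2, 6],
  [2, 7, 2, 7],
  [2, 8, 2, 8],
  [2, 9, 2, 9],
  [3, 4, 3, 4, 3, 4],
  [3, 5, 3, 5],
  [3, 6, 3, 6],
  [3, 7, 3, 7],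
  [3, 8, 3, 8],
  [3, 9, 3, 9],
  [4, 5, 4, 5, 4, 5],
  [4, 6, 4, 6],
  [4, 7, 4, 7, 4, 7],
  [4, 8, 4, 8],
  [4, 9, 4, 9],
  [5, 6, 5, 6, 5, 6],
  [5, 7, 5, 7],
  [5, 8, 5, 8],
  [5, 9, 5, 9],
  [6, 7, 6, 7],
  [6, 8, 6, 8],
  [6, 9, 6, 9],
  [7, 8, 7, 8],
  [7, 9, 7, 9],
  [8, 9, 8, 9, 8, 9],
  [9, 7, 6, 5, 4, 3, 2, 1, 7, 6, 5, 4, 3, 2, 1, 7, 6, 5, 4, 3, 2, 1, 7, 6, 5, 4, 3, 2, 1, 7, 6, 5, 4, 3, 2, 1, 7, 6, 5, 4, 3, 2, 1, 7, 6, 5, 4, 3, 2, 1, 7, 6, 5, 4, 3, 2, 1, 7, 6, 5, 4, 3, 2, 1]]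
/-- The subgroup generators. -/
def S : List (List ℕ) := [[1],
  [2],
  [3],
  [4],
  [5],
  [6],
  [7],
  [9]]
def Wr : List (List ℕ) := [[8, 8],
  [1, 1],
  [2, 8, 2, 8],
  [3, 8, 3, 8],
  [4, 8, 4, 8],
  [5, 8, 5, 8],
  [6, 8, 6, 8],
  [7, 8, 7, 8],
  [9, 9],
  [2, 2],
  [3, 1, 3, 1],
  [4, 1, 4, 1],
  [5, 1, 5, 1],
  [6, 1, 6, 1],
  [7, 1, 7, 1],
  [8, 1, 8, 1, 8, 1],
  [2, 9, 2, 9],
  [3, 9, 3, 9],
  [4, 9, 4, 9],
  [5, 9, 5, 9],
  [6, 9, 6, 9],
  [7, 9, 7, 9],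
  [8, 9, 8, 9, 8, 9],
  [1, 2, 1, 2, 1, 2],
  [3, 3],
  [4, 2, 4, 2],
  [5, 2, 5, 2],
  [6, 2, 6, 2],
  [7, 2, 7, 2],
  [8, 2, 8, 2],
  [1, 9, 1, 9],
  [1, 3, 1, 3],
  [2, 3, 2, 3, 2, 3],
  [4, 4],
  [5, 3, 5, 3],
  [6, 3, 6, 3],
  [7, 3, 7, 3],
  [8, 3, 8, 3],
  [1, 8, 1, 8, 1, 8],
  [9, 8, 9, 8, 9, 8],
  [1, 4, 1, 4],
  [2, 4, 2, 4],
  [3, 4, 3, 4, 3, 4],
  [5, 5],
  [6, 4, 6, 4],
  [7, 7],
  [8, 4, 8, 4],
  [1, 5, 1, 5],
  [2, 5, 2, 5],
  [3, 5, 3, 5],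
  [4, 5, 4, 5, 4, 5],
  [6, 6],
  [8, 5, 8, 5],
  [1, 7, 1, 7],
  [2, 7, 2, 7],
  [3, 7, 3, 7],
  [4, 7, 4, 7, 4, 7],
  [6, 7, 6, 7],
  [8, 7, 8, 7],
  [2, 1, 2, 1, 2, 1],
  [9, 1, 9, 1],
  [1, 6, 1, 6],
  [2, 6, 2, 6],
  [3, 6, 3, 6],
  [4, 6, 4, 6],
  [5, 6, 5, 6, 5, 6],
  [8, 6, 8, 6],
  [5, 7, 5, 7],
  [5, 4, 5, 4, 5, 4],
  [7, 4, 7, 4, 7, 4],
  [3, 2, 3, 2, 3, 2],
  [9, 2, 9, 2],
  [4, 3, 4, 3, 4, 3],
  [6, 5, 6, 5, 6, 5],
  [7, 5, 7, 5],
  [9, 3, 9, 3],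
  [9, 4, 9, 4],
  [9, 7, 6, 5, 4, 3, 2, 1, 7, 6, 5, 4, 3, 2, 1, 7, 6, 5, 4, 3, 2, 1, 7, 6, 5, 4, 3, 2, 1, 7, 6, 5, 4, 3, 2, 1, 7, 6, 5, 4, 3, 2, 1, 7, 6, 5, 4, 3, 2, 1, 7, 6, 5, 4, 3, 2, 1, 7, 6, 5, 4, 3, 2, 1],
  [9, 1, 2, 3, 4, 5, 6, 7, 1, 2, 3, 4, 5, 6, 7, 1, 2, 3, 4, 5, 6, 7, 1, 2, 3, 4, 5, 6, 7, 1, 2, 3, 4, 5, 6, 7, 1, 2, 3, 4, 5, 6, 7, 1, 2, 3, 4, 5, 6, 7, 1, 2, 3, 4, 5, 6, 7, 1, 2, 3, 4, 5, 6, 7],
  [7, 1, 2, 3, 4, 5, 6, 7, 1, 2, 3, 4, 5, 6, 7, 1, 2, 3, 4, 5, 6, 7, 1, 2, 3, 4, 5, 6, 7, 1, 2, 3, 4, 5, 6, 7, 1, 2, 3, 4, 5, 6, 7, 1, 2, 3, 4, 5, 6, 7, 1, 2, 3, 4, 5, 6, 7, 9, 1, 2, 3, 4, 5, 6],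
  [3, 2, 1, 7, 6, 5, 4, 3, 2, 1, 7, 6, 5, 4, 3, 2, 1, 7, 6, 5, 4, 3, 2, 1, 7, 6, 5, 4, 3, 2, 1, 9, 7, 6, 5, 4, 3, 2, 1, 7, 6, 5, 4, 3, 2, 1, 7, 6, 5, 4, 3, 2, 1, 7, 6, 5, 4, 3, 2, 1, 7, 6, 5, 4],
  [7, 6, 5, 4, 3, 2, 1, 7, 6, 5, 4, 3, 2, 1, 7, 6, 5, 4, 3, 2, 1, 9, 7, 6, 5, 4, 3, 2, 1, 7, 6, 5, 4, 3, 2, 1, 7, 6, 5, 4, 3, 2, 1, 7, 6, 5, 4, 3, 2, 1, 7, 6, 5, 4, 3, 2, 1, 7, 6, 5, 4, 3, 2, 1],
  [9, 5, 9, 5],
  [2, 1, 7, 6, 5, 4, 3, 2, 1, 7, 6, 5, 4, 3, 2, 1, 7, 6, 5, 4, 3, 2, 1, 7, 6, 5, 4, 3, 2, 1, 7, 6, 5, 4, 3, 2, 1, 7, 6, 5, 4, 3, 2, 1, 7, 6, 5, 4, 3, 2, 1, 7, 6, 5, 4, 3, 2, 1, 9, 7, 6, 5, 4, 3]]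
def Wn : List (List ℕ) := [[1, 10],
  [2, 12],
  [3, 14],
  [4, 16],
  [5, 18],
  [6, 20],
  [7, 22],
  [9, 24],
  [6, 9, 6, 9],
  [6, 8, 6, 8],
  [6, 1, 6, 1],
  [6, 2, 6, 2],
  [6, 3, 6, 3],
  [6, 4, 6, 4],
  [6, 7, 6, 7],
  [9, 8, 9, 8, 9, 8],
  [8, 1, 8, 1, 8, 1],
  [1, 2, 1, 2, 1, 2],
  [2, 3, 2, 3, 2, 3],
  [3, 4, 3, 4, 3, 4],
  [4, 5, 4, 5, 4, 5],
  [4, 7, 4, 7, 4, 7],
  [5, 8, 5, 8],
  [6, 6],
  [8, 8],
  [1, 1],
  [9, 9],
  [2, 2],
  [3, 3],
  [4, 4],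
  [5, 5],
  [7, 7]]
def cr : List (ℕ × ℕ × ℕ) := [(0, 0, 0), (0, 0, 0), (1, 22, 0), (1, 28, 0), (1, 33, 0), (1, 37, 0), (1, 40, 0), (1, 42, 0), (0, 0, 0), (0, 0, 0), (1, 10, 1), (1, 11, 1), (1, 12, 1), (1, 13, 1), (1, 14, 1), (1, 15, 1), (1, 23, 0), (1, 29, 0), (1, 34, 0), (1, 38, 0), (1, 41, 0), (1, 43, 0), (1, 44, 0), (1, 9, 0), (0, 0, 0), (1, 18, 1), (1, 19, 1), (1, 20, 1), (1, 21, 1), (1, 22, 1), (1, 16, 0), (1, 10, 0), (1, 17, 0), (0, 0, 0), (1, 25, 1), (1, 26, 1), (1, 27, 1), (1, 28, 1), (1, 15, 0), (1, 44, 1), (1, 11, 0), (1, 18, 0), (1, 24, 0), (0, 0, 0), (1, 31, 1), (0, 0, 0), (1, 33, 1), (1, 12, 0), (1, 19, 0), (1, 25, 0), (1, 30, 0), (0, 0, 0), (1, 37, 1), (1, 14, 0), (1, 21, 0), (1, 27, 0), (1, 32, 0), (1, 39, 0), (1, 42, 1), (1, 9, 1), (1, 16, 1), (1, 13, 0), (1, 20, 0), (1, 26, 0), (1, 31, 0), (1, 35, 0), (1, 40, 1), (1, 36, 0), (1, 30, 1), (1, 32, 1), (1, 17, 1), (1, 23, 1), (1, 24, 1),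 (1, 35, 1), (1, 36, 1), (1, 29, 1), (1, 34, 1), (1, 45, 0), (2, 45, 63), (2, 45, 6), (1, 45, 33), (1, 45, 43), (1, 38, 1), (1, 45, 6)]
def cn : List (ℕ × ℕ × ℕ) := [(1, 46, 0), (1, 47, 0), (1, 48, 0), (1, 49, 0), (1, 50, 0), (1, 51, 0), (1, 52, 0), (1, 53, 0), (1, 41, 0), (1, 40, 0), (1, 13, 1), (1, 20, 1), (1, 26, 1), (1, 31, 1), (1, 39, 0), (1, 44, 1), (1, 15, 1), (1, 9, 0), (1, 17, 0), (1, 24, 0), (1, 30, 0), (1, 32, 0), (1, 37, 0), (0, 0, 0), (0, 0, 0), (0, 0, 0), (0, 0, 0), (0, 0, 0), (0, 0, 0), (0, 0, 0), (0, 0, 0), (0, 0, 0)]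
noncomputable def rT : Tr := rT0
noncomputable def gT : Tr := gT0
noncomputable def rC (i : ℕ) : ℕ := rT.get (nat_lit 2) i
noncomputable def gC (i : ℕ) : ℕ := gT.get (nat_lit 0) i
noncomputable def row (p : ℕ) : ℕ := rec2 rC (nat_lit 5) (nat_lit 31) (nat_lit 140) (nat_lit 0xfffffffffffffffffffffffffffffffffff) p
noncomputable def gf (p : ℕ) : ℕ := rec2 gC (nat_lit 7) (nat_lit 127) (nat_lit 27) (nat_lit 0x7ffffff) p
noncomputable def gw (c : ℕ) : List ℕ := nth [] Wr c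
noncomputable def wn (c : ℕ) : ℕ := pack (nat_lit 5) (nth [] Wn c) (nat_lit 0)
noncomputable def C : Cert :=
  { n := (nat_lit 120), na := (nat_lit 22), M := (nat_lit 89), nc := (nat_lit 9), W := (nat_lit 8), EB := (nat_lit 14),
    LB := (nat_lit 5), nreg := (nat_lit 84), ivT := (nat_lit 0x319b5e9594e1173d8d52d28398a418820), base := (nat_lit 0x1555400),
    row := row, gf := gf, gw := gw, wn := wn }
theorem masks : Masks C (nat_lit 255) (nat_lit 16383) (nat_lit 31) (nat_lit 21) (nat_lit 0x1fffff) :=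
  ⟨by decide +kernel, by decide +kernel, by decide +kernel, by decide +kernel, by decide +kernel⟩
noncomputable def rchk : ℕ → ℕ → ℕ → Bool :=
  rowChk row gf gw (nat_lit 120) (nat_lit 89) (nat_lit 9) (nat_lit 8) (nat_lit 255) (nat_lit 14) (nat_lit 16383) (nat_lit 5) (nat_lit 31) (nat_lit 21) (nat_lit 0x1fffff) (nat_lit 84) (nat_lit 0x319b5e9594e1173d8d52d28398a418820) (nat_lit 7) (nat_lit 127) (nat_lit 8) (nat_lit 255)
noncomputable def fchk : ℕ → ℕ → ℕ → Bool :=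
  auxRun row gf wn (nat_lit 120) (nat_lit 22) (nat_lit 89) (nat_lit 9) (nat_lit 8) (nat_lit 255) (nat_lit 14) (nat_lit 16383) (nat_lit 5) (nat_lit 31) (nat_lit 21) (nat_lit 0x319b5e9594e1173d8d52d28398a418820) (nat_lit 0x1555400) (nat_lit 8) (nat_lit 255)
theorem rows_of {lo hi : ℕ} {t : JL} (h : t.run rchk (nat_lit 72) hi lo = true) : C.RowsOK lo hi :=
  rowsOK_of_run masks h
theorem facts_of {lo hi : ℕ} {t : JL} (h : t.run fchk (nat_lit 20) hi lo = true) : C.FactsOK lo hi :=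
  factsOK_of_run masks h
theorem words_ok : wordsChk 120 9 8 5 84 1055022339265738135199219436291457386528 22369280 R S Wr Wn cr cn = true := by
  decide +kernel
noncomputable def j0 : JL :=
(.cons (nat_lit 16) (nat_lit 0x28000807062204030200012e152c1312111f093b003a2c3938373609352e34003332313028000807060519030200011615142212111f092f2e2d2c002b2a29280008070605040a2700011615141319111f092625242322002120000116151413120a1f091e1d1c1b1a19001800171615141312110209100f0e0d0c0b0a000900080706050403025c015b5a5958575655) (nat_lit 0x4a911a24280f9e)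
(.cons (nat_lit 16) (nat_lit 0x92f462d2c00192a29481e1d1c1b224700183d102e0e2c0c0b0a00280008072c0504030228002e34060504030200011634142212111f092f46344500192a2900012e15141312111f093b003a44223837363d100f0e0d220b0a0028002e072c05040302000116152c1312111f00012e34141312111f093b0034442238373609432e004241403f3e3d100f0e0d0c193c00) (nat_lit 0)
(.cons (nat_lit 16) (nat_lit 0x280008340605190302000116341413120a1f091e1d341b1a4700023d102e0e0d0c0b0a00280008070622040302000116152c1319111f09354b4a0033193130092625242c49000a20481e2e1c2c1a1900183d100f0e2c0c0b0a003d102e340d0c0b0a0028000834062204030200011634141319111f092625342349000a2028002e07060504030200011615142212111f) (nat_lit 0)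
(.cons (nat_lit 16) (nat_lit 0x481e1d341b221900183d100f340d0c190a00280008340605040a0200011634141312110209010f340d0c0b3c00481e2e1c1b1a1900183d100f0e0d220b0a00280008072c0519030200011615141319111f000116152c13120a1f09354b4a0022320a30091e1d1c2c1a4700024c262e242c49002120481e1d1c2c1a190018481e2e341b1a1900183d100f340d220b0a00) (nat_lit 0)
(.cons (nat_lit 16) (nat_lit 0x3d100f340d0c0b580028000834060504035700561634141312111f5500083406050403274c262e242322002120481e1d1c1b221900183d100f0e2c0c190a00280008070605190302280008072c05040a02000116151422120a1f092f2e2d45002b0a29000116152c1312110209354b4a002232310209010f0e2c0c0b3c004c2625242c220021204c262e342322002120) (nat_lit 0x88f1c40)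
(.cons (nat_lit 16) (nat_lit 0x481e1d1c2c1a5d00183d100f0e0d0c190a003d100f0e2c0c0b5c00280008070622040a0200012e151413120a1f093b003a4439380a36280008072c0504035b000116151422121102092f2e2d4500192a02005a16152c1312111f590008072c0504032709014b4a00223231304d2f462d58002b2a294d2f573445002b2a294c2625342356002120481e1d341b1a550018) (nat_lit 0x4d9109b43ab5e749)
(.cons (nat_lit 16) (nat_lit 0x901003a443938373609012e2423490054205335524a0033323130481e1d1c1b1a5100183d100f0e0d220b310028002e070605040a02000116151413120a1f2800080706220403270001501514131911024f3b003a44391937024e262e242349002102002f1615142212111f28000807062204032709012e2d4500192a294d2f562d2c002b2a294c2625242355002120) (nat_lit 11347)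
(.cons (nat_lit 8) (nat_lit 0x3d100f0e0d0c0b3c002800080706050403272800080706050403273d102e0e0d0c0b3c00280008070605040a0228002e07060519032700261615141312111f28002e070605190327) (nat_lit 0)
.nil))))))))
theorem t0 : C.RowsOK (nat_lit 0) (nat_lit 120) :=
  rows_of (t := j0) (by decide +kernel)
noncomputable def j1 : JL :=
(.cons (nat_lit 22) (nat_lit 0) (nat_lit 0)
(.cons (nat_lit 16) (nat_lit 0x1a00018000160001400012000100000e0000c0000a800090000780006000048000300001800000) (nat_lit 0x43001008410010073f0010063d0010053b001004390010033700100235001001000000000000000000000000000000000000000000000000)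
(.cons (nat_lit 16) (nat_lit 0x34800310002d0002900025000210001d0001900015000120000f0000c000090000600003000000) (nat_lit 0x5772050030181b040704004017331306031600501631130403180050152f110302140050142d0f0201120050132b0d010010005012290b00070e005011270907080c00501025051600300f23051400300e21051200300d1f051000300c1d050e00300b1b050c00300a19050a003009)
(.cons (nat_lit 16) (nat_lit 0x298002700024800220001f0001c800198001680013800110000e0000b000080000580002800000) (nat_lit 0x2d8c0200301d8b0f00201c871900201b851d00201a67840000301a7f0900201b5680050030185a7e050030182b7e0100301c7d0d00201a287c0700301965780700301964740800301b730b00201929740000301a711b002019)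
(.cons (nat_lit 16) (nat_lit 0x2a8002780025000220001f0001c000190001680014000110000e0000b000088000600003000000) (nat_lit 0xad1700201f6fac0300301ea92300201e6da80300301e33a20600302060a20500301831a20400301fa11300201e9f2100201d6b9e0200301d5e98050030182f980300301e971100201d951f00201c69940100301c5c8c05003018)
(.cons (nat_lit 3) (nat_lit 0x580003000000) (nat_lit 0xb525002020b11500202062b205003018)
.nil))))))
theorem t1 : C.FactsOK (nat_lit 0) (nat_lit 89) :=
  facts_of (t := j1) (by decide +kernel)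
theorem checked : Checked C R S :=
  ⟨⟨Wr, Wn, cr, cn, fun _ => rfl, fun _ => rfl, words_ok⟩, t0,
    t1⟩

/-- In any group whose elements `g 1, …, g 9` satisfy the relators `R`, a subgroup containing the words
of `S` has index at most 120 in the subgroup generated by these elements. -/
theorem idxLe {G : Type*} [Group G] {g : ℕ → G} (hg : Sat g R) {H : Subgroup G}
    (hS : ∀ s ∈ S, ev g s ∈ H) : IdxLe H (gen g 9) 120 :=
  checked.idxLe hg hS

end Cfsg.Agent.H44.O8sC.E8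

namespace Cfsg.Agent.H44.O8sC
open Cfsg.Agent.H44

theorem idx_A3 {G : Type*} [Group G] {g : ℕ → G} (hg : Sat g O8s.Rm) :
    IdxLe (wgen g []) (wgen g [[3], [4], [5]]) 24 :=
  Cfsg.Agent.H44.O8sC.A3.checked.step hg [0, 3, 4, 5] (by decide +kernel) (by decide +kernel) (by decide +kernel)

theorem card_A3 {G : Type*} [Group G] {g : ℕ → G} (hg : Sat g O8s.Rm) :
    Finite (wgen g [[3], [4], [5]]) ∧ Nat.card (wgen g [[3], [4], [5]]) ≤ 24 :=
  (idx_A3 hg).wcard (n := 24) (m := 1) (by decide) (wcard_nil g)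

theorem idx_D4 {G : Type*} [Group G] {g : ℕ → G} (hg : Sat g O8s.Rm) :
    IdxLe (wgen g [[3], [4], [5]]) (wgen g [[3], [4], [5], [7]]) 8 :=
  Cfsg.Agent.H44.O8sC.D4.checked.step hg [0, 3, 4, 5, 7] (by decide +kernel) (by decide +kernel) (by decide +kernel)

theorem card_D4 {G : Type*} [Group G] {g : ℕ → G} (hg : Sat g O8s.Rm) :
    Finite (wgen g [[3], [4], [5], [7]]) ∧ Nat.card (wgen g [[3], [4], [5], [7]]) ≤ 192 :=
  (idx_D4 hg).wcard (n := 8) (m := 24) (by decide) (card_A3 hg)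

theorem idx_D5 {G : Type*} [Group G] {g : ℕ → G} (hg : Sat g O8s.Rm) :
    IdxLe (wgen g [[3], [4], [5], [7]]) (wgen g [[3], [4], [5], [6], [7]]) 10 :=
  Cfsg.Agent.H44.O8sC.D5.checked.step hg [0, 3, 4, 5, 6, 7] (by decide +kernel) (by decide +kernel) (by decide +kernel)

theorem card_D5 {G : Type*} [Group G] {g : ℕ → G} (hg : Sat g O8s.Rm) :
    Finite (wgen g [[3], [4], [5], [6], [7]]) ∧ Nat.card (wgen g [[3], [4], [5], [6], [7]]) ≤ 1920 :=
  (idx_D5 hg).wcard (n := 10) (m := 192) (by decide) (card_D4 hg)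

theorem idx_E6 {G : Type*} [Group G] {g : ℕ → G} (hg : Sat g O8s.Rm) :
    IdxLe (wgen g [[3], [4], [5], [6], [7]]) (wgen g [[2], [3], [4], [5], [6], [7]]) 27 :=
  Cfsg.Agent.H44.O8sC.E6.checked.step hg [0, 2, 3, 4, 5, 6, 7] (by decide +kernel) (by decide +kernel) (by decide +kernel)

theorem card_E6 {G : Type*} [Group G] {g : ℕ → G} (hg : Sat g O8s.Rm) :
    Finite (wgen g [[2], [3], [4], [5], [6], [7]]) ∧ Nat.card (wgen g [[2], [3], [4], [5], [6], [7]]) ≤ 51840 :=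
  (idx_E6 hg).wcard (n := 27) (m := 1920) (by decide) (card_D5 hg)

theorem idx_E7 {G : Type*} [Group G] {g : ℕ → G} (hg : Sat g O8s.Rm) :
    IdxLe (wgen g [[2], [3], [4], [5], [6], [7]]) (wgen g [[1], [2], [3], [4], [5], [6], [7], [10]]) 56 :=
  Cfsg.Agent.H44.O8sC.E7.checked.step hg [0, 1, 2, 3, 4, 5, 6, 7, 10] (by decide +kernel) (by decide +kernel) (by decide +kernel)

theorem card_E7 {G : Type*} [Group G] {g : ℕ → G} (hg : Sat g O8s.Rm) :
    Finite (wgen g [[1], [2], [3], [4], [5], [6], [7], [10]]) ∧ Nat.card (wgen g [[1], [2], [3], [4], [5], [6], [7], [10]]) ≤ 2903040 :=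
  (idx_E7 hg).wcard (n := 56) (m := 51840) (by decide) (card_E6 hg)

theorem idx_E8 {G : Type*} [Group G] {g : ℕ → G} (hg : Sat g O8s.Rm) :
    IdxLe (wgen g [[1], [2], [3], [4], [5], [6], [7], [10]]) (wgen g [[1], [2], [3], [4], [5], [6], [7], [9], [10]]) 120 :=
  Cfsg.Agent.H44.O8sC.E8.checked.step hg [0, 1, 2, 3, 4, 5, 6, 7, 9, 10] (by decide +kernel) (by decide +kernel) (by decide +kernel)

theorem card_E8 {G : Type*} [Group G] {g : ℕ → G} (hg : Sat g O8s.Rm) :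
    Finite (wgen g [[1], [2], [3], [4], [5], [6], [7], [9], [10]]) ∧ Nat.card (wgen g [[1], [2], [3], [4], [5], [6], [7], [9], [10]]) ≤ 348364800 :=
  (idx_E8 hg).wcard (n := 120) (m := 2903040) (by decide) (card_E7 hg)

theorem idx_all {G : Type*} [Group G] {g : ℕ → G} (hg : Sat g O8s.Rm) :
    IdxLe (wgen g [[1], [2], [3], [4], [5], [6], [7], [9], [10]]) (wgen g [[1], [2], [3], [4], [5], [6], [7], [8], [9], [10]]) 28431 :=
  Cfsg.Agent.H44.EO8s.checked.step hg [0, 1, 2, 3, 4, 5, 6, 7, 8, 9, 10] (by decide +kernel) (by decide +kernel) (by decide +kernel)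

theorem card_all {G : Type*} [Group G] {g : ℕ → G} (hg : Sat g O8s.Rm) :
    Finite (wgen g [[1], [2], [3], [4], [5], [6], [7], [8], [9], [10]]) ∧ Nat.card (wgen g [[1], [2], [3], [4], [5], [6], [7], [8], [9], [10]]) ≤ 9904359628800 :=
  (idx_all hg).wcard (n := 28431) (m := 348364800) (by decide) (card_E8 hg)


end Cfsg.Agent.H44.O8sC

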