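import Cfsg.Agent.H44.Coset
import Cfsg.Agent.H44.L37sP

set_option autoImplicit false
set_option maxRecDepth 1000000
set_option linter.all false
set_option Elab.async false

namespace Cfsg.Agent.H44.L37sQ.q
open Cfsg.Agent.H44

noncomputable def rT0 : Tr :=
 (.leaf (nat_lit 0x70c04070b000))
noncomputable def gT0 : Tr :=
 (.leaf (nat_lit 0x5c00a0093512024bb996a934402400901714f105dc6b3ab446a00c801401250246446c00c129003146a2c9469182940b020dc4130855008800cc01100110))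
/-- The relators. -/
def R : List (List ℕ) := [[1, 1],
  [2, 2],
  [3, 3],
  [4, 4],
  [5, 5],
  [1, 2, 1, 2, 1, 2, 1, 2, 1, 2, 1, 2, 1, 2],
  [1, 3, 1, 3, 1, 3, 1, 3, 1, 3, 1, 3],
  [1, 4, 1, 4, 1, 4],
  [1, 5, 1, 5, 1, 5],
  [2, 3, 2, 3, 2, 3, 2, 3],
  [2, 4, 2, 4, 2, 4, 2, 4],
  [2, 5, 2, 5, 2, 5],
  [3, 4, 3, 4],
  [3, 5, 3, 5, 3, 5],
  [4, 5, 4, 5, 4, 5, 4, 5],
  [1, 2, 3, 2, 1, 3, 1, 3],
  [1, 2, 1, 2, 3, 1, 2, 1, 2, 3, 1, 2, 1, 2, 3, 1, 2, 1, 2, 3, 1, 2, 1, 2, 3, 1, 2, 1, 2, 3],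
  [1, 2, 4, 2, 4, 1, 2, 4, 2, 4],
  [1, 2, 1, 2, 4, 2, 3, 1, 2, 1, 2, 4, 2, 3],
  [3, 4, 5, 3, 4, 5, 3, 4, 5],
  [1, 2, 4, 2, 4, 5, 1, 2, 4, 2, 4, 5],
  [1, 3, 2, 3, 1, 5, 1, 3, 2, 3, 1, 5],
  [1, 2, 3, 4, 5, 1, 2, 3, 4, 5, 1, 2, 3, 4, 5],
  [1, 2, 4, 5, 1, 2, 4, 5, 1, 2, 4, 5, 1, 2, 4, 5],
  [3, 2, 5]]
/-- The subgroup generators. -/
def S : List (List ℕ) := []
def Wr : List (List ℕ) := []
def Wn : List (List ℕ) := [[5, 2, 3],
  [3, 2, 5],
  [2, 3, 5],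
  [5, 2, 5, 2, 5, 2],
  [2, 2],
  [3, 3],
  [5, 5],
  [5, 3, 5, 3, 5, 3],
  [3, 4, 3, 4],
  [1, 3, 1, 2, 3, 2, 1, 3],
  [1, 1],
  [5, 3, 2],
  [3, 5, 2],
  [3, 5, 3, 5, 3, 5],
  [4, 3, 5, 4, 3, 5, 4, 3, 5],
  [4, 4]]
def cr : List (ℕ × ℕ × ℕ) := []
def cn : List (ℕ × ℕ × ℕ) := [(2, 24, 0), (1, 24, 0), (2, 24, 1), (1, 11, 1), (0, 0, 0), (0, 0, 0), (0, 0, 0), (1, 13, 1), (1, 12, 0), (1, 15, 6), (0, 0, 0), (1, 24, 2), (2, 24, 2), (1, 13, 0), (2, 19, 1), (0, 0, 0)]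
noncomputable def rT : Tr := rT0
noncomputable def gT : Tr := gT0
noncomputable def rC (i : ℕ) : ℕ := rT.get (nat_lit 0) i
noncomputable def gC (i : ℕ) : ℕ := gT.get (nat_lit 0) i
noncomputable def row (p : ℕ) : ℕ := rec2 rC (nat_lit 6) (nat_lit 63) (nat_lit 48) (nat_lit 0xffffffffffff) p
noncomputable def gf (p : ℕ) : ℕ := rec2 gC (nat_lit 8) (nat_lit 255) (nat_lit 15) (nat_lit 32767) p
noncomputable def gw (c : ℕ) : List ℕ := nth [] Wr c
noncomputable def wn (c : ℕ) : ℕ := pack (nat_lit 3) (nth [] Wn c) (nat_lit 0)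
noncomputable def C : Cert :=
  { n := (nat_lit 1), na := (nat_lit 9), M := (nat_lit 33), nc := (nat_lit 5), W := (nat_lit 4), EB := (nat_lit 8),
    LB := (nat_lit 3), nreg := (nat_lit 0), ivT := (nat_lit 181896), base := (nat_lit 0),
    row := row, gf := gf, gw := gw, wn := wn }
theorem masks : Masks C (nat_lit 15) (nat_lit 255) (nat_lit 7) (nat_lit 11) (nat_lit 2047) :=
  ⟨by decide +kernel, by decide +kernel, by decide +kernel, by decide +kernel, by decide +kernel⟩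
noncomputable def rchk : ℕ → ℕ → ℕ → Bool :=
  rowChk row gf gw (nat_lit 1) (nat_lit 33) (nat_lit 5) (nat_lit 4) (nat_lit 15) (nat_lit 8) (nat_lit 255) (nat_lit 3) (nat_lit 7) (nat_lit 11) (nat_lit 2047) (nat_lit 0) (nat_lit 181896) (nat_lit 6) (nat_lit 63) (nat_lit 7) (nat_lit 127)
noncomputable def fchk : ℕ → ℕ → ℕ → Bool :=
  auxRun row gf wn (nat_lit 1) (nat_lit 9) (nat_lit 33) (nat_lit 5) (nat_lit 4) (nat_lit 15) (nat_lit 8) (nat_lit 255) (nat_lit 3) (nat_lit 7) (nat_lit 11) (nat_lit 181896) (nat_lit 0) (nat_lit 7) (nat_lit 127)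
theorem rows_of {lo hi : ℕ} {t : JL} (h : t.run rchk (nat_lit 35) hi lo = true) : C.RowsOK lo hi :=
  rowsOK_of_run masks h
theorem facts_of {lo hi : ℕ} {t : JL} (h : t.run fchk (nat_lit 20) hi lo = true) : C.FactsOK lo hi :=
  factsOK_of_run masks h
theorem words_ok : wordsChk 1 5 4 3 0 181896 0 R S Wr Wn cr cn = true := by
  decide +kernel
noncomputable def j0 : JL :=
(.cons (nat_lit 1) (nat_lit 0x5080c101) (nat_lit 0x1380e49a)
.nil)
theorem t0 : C.RowsOK (nat_lit 0) (nat_lit 1) :=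
  rows_of (t := j0) (by decide +kernel)
noncomputable def j1 : JL :=
(.cons (nat_lit 9) (nat_lit 0) (nat_lit 0)
(.cons (nat_lit 16) (nat_lit 0x2a30027d002340020e001e1001bb00195001530012d00107000e1000b4000720004c0002600000) (nat_lit 0xcc9905ecc9803002132400400644281040431200700a2240008004582180060129d3001003a70e00400a8d3024a8d30030041f1a00400e7cd0010031d1200400c70f080030053634417363401801068a0020031a20008008488002001)
(.cons (nat_lit 8) (nat_lit 0x1650010e000e8000a6000800005a0003400000) (nat_lit 0x43160040210970b08086425c2c02403dfbc00200778b9dbe78b8018038abb00200d2ab4008031b8500200b6ac5b0500400b)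
.nil)))
theorem t1 : C.FactsOK (nat_lit 0) (nat_lit 33) :=
  facts_of (t := j1) (by decide +kernel)
theorem checked : Checked C R S :=
  ⟨⟨Wr, Wn, cr, cn, fun _ => rfl, fun _ => rfl, words_ok⟩, t0,
    t1⟩

/-- In any group whose elements `g 1, …, g 5` satisfy the relators `R`, a subgroup containing the words
of `S` has index at most 1 in the subgroup generated by these elements. -/
theorem idxLe {G : Type*} [Group G] {g : ℕ → G} (hg : Sat g R) {H : Subgroup G}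
    (hS : ∀ s ∈ S, ev g s ∈ H) : IdxLe H (gen g 5) 1 :=
  checked.idxLe hg hS

end Cfsg.Agent.H44.L37sQ.q

namespace Cfsg.Agent.H44.L37sQ
open Cfsg.Agent.H44

/-- A word of order 19. -/
def XQ : List (List ℕ) := [[3, 2, 5]]

theorem idx_q {G : Type*} [Group G] {g : ℕ → G} (hg : Sat g (L37s.Rm ++ XQ)) :
    IdxLe (wgen g []) (wgen g [[1], [2], [3], [4], [5]]) 1 :=
  Cfsg.Agent.H44.L37sQ.q.checked.step hg [0, 1, 2, 3, 4, 5] (by decide +kernel) (by decide +kernel) (by decide +kernel)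

theorem card_q {G : Type*} [Group G] {g : ℕ → G} (hg : Sat g (L37s.Rm ++ XQ)) :
    Finite (wgen g [[1], [2], [3], [4], [5]]) ∧ Nat.card (wgen g [[1], [2], [3], [4], [5]]) ≤ 1 :=
  (idx_q hg).wcard (n := 1) (m := 1) (by decide) (wcard_nil g)


end Cfsg.Agent.H44.L37sQ

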