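import Mathlib
import Cfsg.Agent.H43.Chain
import Cfsg.Agent.H44.L37sC
import Cfsg.Agent.H44.L37sQ
import Cfsg.Agent.H44.Perm3

set_option autoImplicit false
set_option maxRecDepth 1000000
set_option linter.all false
set_option Elab.async false

namespace Cfsg.Agent.H44.L37sM

open Cfsg.Agent.H44 Cfsg.Agent.H43 

theorem m_hn : NOk 57 := by decide

theorem m_hk : 57 ≤ 2 ^ 6 := by decide

noncomputable def m_g1 : Net := (Net.cons (nat_lit 1) (nat_lit 0x40455515104144) (Net.cons (nat_lit 2) (nat_lit 0x3103002002000) (Net.cons (nat_lit 4) (nat_lit 0x8030101040801) (Net.cons (nat_lit 8) (nat_lit 0x40001c0010) (Net.cons (nat_lit 16) (nat_lit 0x2a00003000) (Net.cons (nat_lit 32) (nat_lit 0x2e3000) (Net.cons (nat_lit 16) (nat_lit 0xfa00007e10) (Net.cons (nat_lit 8) (nat_lit 0x10045009700b1) (Net.cons (nat_lit 4) (nat_lit 0x8030101040205) (Net.cons (nat_lit 2) (nat_lit 0x3103200020222) (Net.cons (nat_lit 1) (nat_lit 0x40455515104144)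 Net.nil)))))))))))

theorem m_g1_ok : Net.ok 57 m_g1 = true := by decide +kernel

noncomputable def m_g2 : Net := (Net.cons (nat_lit 1) (nat_lit 0x5004001150004) (Net.cons (nat_lit 2) (nat_lit 0x33132212020000) (Net.cons (nat_lit 4) (nat_lit 0xd0b0301080000) (Net.cons (nat_lit 8) (nat_lit 0x8700750058) (Net.cons (nat_lit 16) (nat_lit 0x2100005800) (Net.cons (nat_lit 32) (nat_lit 0x235800) (Net.cons (nat_lit 16) (nat_lit 0xdf0000ffd8) (Net.cons (nat_lit 8) (nat_lit 0x100a500570058) (Net.cons (nat_lit 4) (nat_lit 0xf0901030a0200) (Net.cons (nat_lit 2) (nat_lit 0x33132212030102) (Net.cons (nat_lit 1) (nat_lit 0x5004001150004) Net.nil)))))))))))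

theorem m_g2_ok : Net.ok 57 m_g2 = true := by decide +kernel

noncomputable def m_g3 : Net := (Net.cons (nat_lit 1) (nat_lit 0x41414504440110) (Net.cons (nat_lit 2) (nat_lit 0x21110321020010) (Net.cons (nat_lit 4) (nat_lit 0x9080d06010200) (Net.cons (nat_lit 8) (nat_lit 0x6000800080) (Net.cons (nat_lit 16) (nat_lit 0x250000c400) (Net.cons (nat_lit 32) (nat_lit 0xa5c480) (Net.cons (nat_lit 16) (nat_lit 0x7d0000c400) (Net.cons (nat_lit 8) (nat_lit 0x10060008200b0) (Net.cons (nat_lit 4) (nat_lit 0xb030f07040204) (Net.cons (nat_lit 2) (nat_lit 0x21331323330012) (Net.cons (nat_lit 1) (nat_lit 0x41414504440110) Net.nil)))))))))))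

theorem m_g3_ok : Net.ok 57 m_g3 = true := by decide +kernel

noncomputable def m_g4 : Net := (Net.cons (nat_lit 1) (nat_lit 0x45454444500110) (Net.cons (nat_lit 2) (nat_lit 0x22002321020300) (Net.cons (nat_lit 4) (nat_lit 0x1080c06080000) (Net.cons (nat_lit 8) (nat_lit 0x5e00820000) (Net.cons (nat_lit 16) (nat_lit 0x9800004200) (Net.cons (nat_lit 32) (nat_lit 0x9ac200) (Net.cons (nat_lit 16) (nat_lit 0xfc0000c280) (Net.cons (nat_lit 8) (nat_lit 0x100df00060098) (Net.cons (nat_lit 4) (nat_lit 0xd0e0c06080606) (Net.cons (nat_lit 2) (nat_lit 0x22002323020300) (Net.cons (nat_lit 1) (nat_lit 0x45455444500110) Net.nil)))))))))))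

theorem m_g4_ok : Net.ok 57 m_g4 = true := by decide +kernel

noncomputable def m_g5 : Net := (Net.cons (nat_lit 1) (nat_lit 0x51455001144100) (Net.cons (nat_lit 2) (nat_lit 0x21200322100100) (Net.cons (nat_lit 4) (nat_lit 0x40f01010c0001) (Net.cons (nat_lit 8) (nat_lit 0xad00100014) (Net.cons (nat_lit 16) (nat_lit 0x12800001400) (Net.cons (nat_lit 32) (nat_lit 0x1681400) (Net.cons (nat_lit 16) (nat_lit 0xfd00009c94) (Net.cons (nat_lit 8) (nat_lit 0x100ae00510075) (Net.cons (nat_lit 4) (nat_lit 0x60f01010c0001) (Net.cons (nat_lit 2) (nat_lit 0x20203332110100) (Net.cons (nat_lit 1) (nat_lit 0x51455001144101) Net.nil)))))))))))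

theorem m_g5_ok : Net.ok 57 m_g5 = true := by decide +kernel

noncomputable def E : List Net := [m_g1, m_g2, m_g3, m_g4, m_g5]

theorem E_ok : okE 57 E = true := (okE_cons.2 ⟨m_g1_ok, (okE_cons.2 ⟨m_g2_ok, (okE_cons.2 ⟨m_g3_ok, (okE_cons.2 ⟨m_g4_ok, (okE_cons.2 ⟨m_g5_ok, (okE_nil 57)⟩)⟩)⟩)⟩)⟩)

noncomputable def m_g6 : Net := (Net.cons (nat_lit 1) (nat_lit 0x40550101554110) (Net.cons (nat_lit 2) (nat_lit 0x12220220100210) (Net.cons (nat_lit 4) (nat_lit 0x3040c000d0301) (Net.cons (nat_lit 8) (nat_lit 0x1004000480000) (Net.cons (nat_lit 16) (nat_lit 0x200001000) (Net.cons (nat_lit 32) (nat_lit 0x7a5c00) (Net.cons (nat_lit 16) (nat_lit 0x5100005f00) (Net.cons (nat_lit 8) (nat_lit 0x1000800f40061) (Net.cons (nat_lit 4) (nat_lit 0xd060e0406070b) (Net.cons (nat_lit 2) (nat_lit 0x12312301113012) (Net.cons (nat_lit 1) (nat_lit 0x41155400011404) Net.nil)))))))))))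

theorem m_g6_ok : Net.ok 57 m_g6 = true := by decide +kernel

noncomputable def m_g7 : Net := (Net.cons (nat_lit 1) (nat_lit 0x11040005005554) (Net.cons (nat_lit 2) (nat_lit 0x31122133322031) (Net.cons (nat_lit 4) (nat_lit 0xe070409080200) (Net.cons (nat_lit 8) (nat_lit 0x9c00b70082) (Net.cons (nat_lit 16) (nat_lit 0x6800001600) (Net.cons (nat_lit 32) (nat_lit 0xe9d600) (Net.cons (nat_lit 16) (nat_lit 0x1320000c332) (Net.cons (nat_lit 8) (nat_lit 0xa600a70038) (Net.cons (nat_lit 4) (nat_lit 0xd030b030f0d0b) (Net.cons (nat_lit 2) (nat_lit 0x3210113002011) (Net.cons (nat_lit 1) (nat_lit 0x51544555405504) Net.nil)))))))))))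

theorem m_g7_ok : Net.ok 57 m_g7 = true := by decide +kernel

noncomputable def m_V8 : List Net := [m_g6, m_g7]

theorem m_V8_ok : okE 57 m_V8 = true := (okE_cons.2 ⟨m_g6_ok, (okE_cons.2 ⟨m_g7_ok, (okE_nil 57)⟩)⟩)

noncomputable def m_g10 : Net := (Net.cons (nat_lit 1) (nat_lit 0x140555115100) (Net.cons (nat_lit 2) (nat_lit 0x32011121032030) (Net.cons (nat_lit 4) (nat_lit 0xa0c0107000101) (Net.cons (nat_lit 8) (nat_lit 0x100a500020008) (Net.cons (nat_lit 16) (nat_lit 0xe00000b000) (Net.cons (nat_lit 32) (nat_lit 0xdefb28) (Net.cons (nat_lit 16) (nat_lit 0x15c0000868d) (Net.cons (nat_lit 8) (nat_lit 0x1b006400cd) (Net.cons (nat_lit 4) (nat_lit 0xb040a000d040d) (Net.cons (nat_lit 2) (nat_lit 0x13121311020030) (Net.cons (nat_lit 1) (nat_lit 0x5150101055114) Net.nil)))))))))))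

theorem m_g10_ok : Net.ok 57 m_g10 = true := by decide +kernel

noncomputable def m_g11 : Net := (Net.cons (nat_lit 1) (nat_lit 0x41444505405454) (Net.cons (nat_lit 2) (nat_lit 0x22210012103300) (Net.cons (nat_lit 4) (nat_lit 0x30202050e0201) (Net.cons (nat_lit 8) (nat_lit 0x1002c0022003c) (Net.cons (nat_lit 16) (nat_lit 0xe600005000) (Net.cons (nat_lit 32) (nat_lit 0x1f74f0) (Net.cons (nat_lit 16) (nat_lit 0xb9000091a9) (Net.cons (nat_lit 8) (nat_lit 0x1100cf00d0) (Net.cons (nat_lit 4) (nat_lit 0x4010200090009) (Net.cons (nat_lit 2) (nat_lit 0x32012110303210) (Net.cons (nat_lit 1) (nat_lit 0x55115510405540) Net.nil)))))))))))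

theorem m_g11_ok : Net.ok 57 m_g11 = true := by decide +kernel

noncomputable def m_g12 : Net := (Net.cons (nat_lit 1) (nat_lit 0x41044404550110) (Net.cons (nat_lit 2) (nat_lit 0x13012032101010) (Net.cons (nat_lit 4) (nat_lit 0xa0c0e07000401) (Net.cons (nat_lit 8) (nat_lit 0x100e1004100e8) (Net.cons (nat_lit 16) (nat_lit 0x19200000000) (Net.cons (nat_lit 32) (nat_lit 0x73b3c9) (Net.cons (nat_lit 16) (nat_lit 0x1ae00002064) (Net.cons (nat_lit 8) (nat_lit 0xfa003f00ed) (Net.cons (nat_lit 4) (nat_lit 0xc080b01010909) (Net.cons (nat_lit 2) (nat_lit 0x2320233203130) (Net.cons (nat_lit 1) (nat_lit 0x14540551511450) Net.nil)))))))))))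

theorem m_g12_ok : Net.ok 57 m_g12 = true := by decide +kernel

noncomputable def m_V13 : List Net := [m_g10, m_g11, m_g12]

theorem m_V13_ok : okE 57 m_V13 = true := (okE_cons.2 ⟨m_g10_ok, (okE_cons.2 ⟨m_g11_ok, (okE_cons.2 ⟨m_g12_ok, (okE_nil 57)⟩)⟩)⟩)

noncomputable def m_g15 : Net := (Net.cons (nat_lit 1) (nat_lit 0x50000155405440) (Net.cons (nat_lit 2) (nat_lit 0x10123331220200) (Net.cons (nat_lit 4) (nat_lit 0x50d0d040d0f01) (Net.cons (nat_lit 8) (nat_lit 0x2a00890040) (Net.cons (nat_lit 16) (nat_lit 0x4400000200) (Net.cons (nat_lit 32) (nat_lit 0x9dc7e9) (Net.cons (nat_lit 16) (nat_lit 0x1e60000ae49) (Net.cons (nat_lit 8) (nat_lit 0x1003b00010068) (Net.cons (nat_lit 4) (nat_lit 0x8080a04090301) (Net.cons (nat_lit 2) (nat_lit 0x11333323221220) (Net.cons (nat_lit 1) (nat_lit 0x41004145101050) Net.nil)))))))))))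

theorem m_g15_ok : Net.ok 57 m_g15 = true := by decide +kernel

noncomputable def m_g16 : Net := (Net.cons (nat_lit 1) (nat_lit 0x1014454404400) (Net.cons (nat_lit 2) (nat_lit 0x3001331330010) (Net.cons (nat_lit 4) (nat_lit 0xd090109090001) (Net.cons (nat_lit 8) (nat_lit 0x2400cd0000) (Net.cons (nat_lit 16) (nat_lit 0x1000001400) (Net.cons (nat_lit 32) (nat_lit 0xdc5cc8) (Net.cons (nat_lit 16) (nat_lit 0x1f1000094e1) (Net.cons (nat_lit 8) (nat_lit 0x1003f00fc0008) (Net.cons (nat_lit 4) (nat_lit 0xd090109090201) (Net.cons (nat_lit 2) (nat_lit 0x3001331330020) (Net.cons (nat_lit 1) (nat_lit 0x14154414104450) Net.nil)))))))))))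

theorem m_g16_ok : Net.ok 57 m_g16 = true := by decide +kernel

noncomputable def m_g17 : Net := (Net.cons (nat_lit 1) (nat_lit 0x41444555040100) (Net.cons (nat_lit 2) (nat_lit 0x222100231100) (Net.cons (nat_lit 4) (nat_lit 0x8090801000400) (Net.cons (nat_lit 8) (nat_lit 0xaa00100000) (Net.cons (nat_lit 16) (nat_lit 45568) (Net.cons (nat_lit 32) (nat_lit 0x22b280) (Net.cons (nat_lit 16) (nat_lit 0x11900003b88) (Net.cons (nat_lit 8) (nat_lit 0x6e009000f0) (Net.cons (nat_lit 4) (nat_lit 0xf0b0905060400) (Net.cons (nat_lit 2) (nat_lit 0x222100231100) (Net.cons (nat_lit 1) (nat_lit 0x41444555040100) Net.nil)))))))))))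

theorem m_g17_ok : Net.ok 57 m_g17 = true := by decide +kernel

noncomputable def m_V18 : List Net := [m_g15, m_g16, m_g17]

theorem m_V18_ok : okE 57 m_V18 = true := (okE_cons.2 ⟨m_g15_ok, (okE_cons.2 ⟨m_g16_ok, (okE_cons.2 ⟨m_g17_ok, (okE_nil 57)⟩)⟩)⟩)

noncomputable def m_g20 : Net := (Net.cons (nat_lit 1) (nat_lit 0x10050455050400) (Net.cons (nat_lit 2) (nat_lit 0x13303121323000) (Net.cons (nat_lit 4) (nat_lit 0x50b0a0c0c0000) (Net.cons (nat_lit 8) (nat_lit 0xc200380054) (Net.cons (nat_lit 16) (nat_lit 40448) (Net.cons (nat_lit 32) (nat_lit 0x18fe10) (Net.cons (nat_lit 16) (nat_lit 0xe60000bc84) (Net.cons (nat_lit 8) (nat_lit 0x100e1001b0054) (Net.cons (nat_lit 4) (nat_lit 0x709080e0e0a00) (Net.cons (nat_lit 2) (nat_lit 0x13303121323000) (Net.cons (nat_lit 1) (nat_lit 0x10054455054410) Net.nil)))))))))))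

theorem m_g20_ok : Net.ok 57 m_g20 = true := by decide +kernel

noncomputable def m_V21 : List Net := [m_g20, m_g20]

theorem m_V21_ok : okE 57 m_V21 = true := (okE_cons.2 ⟨m_g20_ok, (okE_cons.2 ⟨m_g20_ok, (okE_nil 57)⟩)⟩)

noncomputable def lb_E : List Net := [m_g1, m_g2, m_g3, m_g4, m_g5, m_g6, m_g7, m_g10, m_g11, m_g12, m_g15, m_g16, m_g17, m_g20, m_g20]

theorem lb_E_ok : okE 57 lb_E = true := (okE_cons.2 ⟨m_g1_ok, (okE_cons.2 ⟨m_g2_ok, (okE_cons.2 ⟨m_g3_ok, (okE_cons.2 ⟨m_g4_ok, (okE_cons.2 ⟨m_g5_ok, (okE_cons.2 ⟨m_g6_ok, (okE_cons.2 ⟨m_g7_ok, (okE_cons.2 ⟨m_g10_ok, (okE_cons.2 ⟨m_g11_ok, (okE_cons.2 ⟨m_g12_ok, (okE_cons.2 ⟨m_g15_ok, (okE_cons.2 ⟨m_g16_ok, (okE_cons.2 ⟨m_g17_ok, (okE_cons.2 ⟨m_g20_ok, (okE_cons.2 ⟨m_g20_ok, (okE_nil 57)⟩)⟩)⟩)⟩)⟩)⟩)⟩)⟩)⟩)⟩)⟩)⟩)⟩)⟩)⟩)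

noncomputable def code : List ℕ := [0, 0, 2, 4, 6, 8]

theorem sat_gp0 : Sat (gp 57 E code) [[1, 1], [2, 2], [3, 3], [4, 4], [5, 5], [1, 2, 1, 2, 1, 2, 1, 2, 1, 2, 1, 2, 1, 2], [1, 3, 1, 3, 1, 3, 1, 3, 1, 3, 1, 3], [1, 4, 1, 4, 1, 4], [1, 5, 1, 5, 1, 5], [2, 3, 2, 3, 2, 3, 2, 3], [2, 4, 2, 4, 2, 4, 2, 4], [2, 5, 2, 5, 2, 5], [3, 4, 3, 4], [3, 5, 3, 5, 3, 5], [4, 5, 4, 5, 4, 5, 4, 5], [1, 2, 3, 2, 1, 3, 1, 3], [1, 2, 1, 2, 3, 1, 2, 1, 2, 3, 1, 2, 1, 2, 3, 1, 2, 1, 2, 3, 1, 2, 1, 2, 3, 1, 2, 1, 2, 3], [1, 2, 4, 2, 4, 1, 2, 4, 2, 4], [1, 2, 1, 2, 4, 2, 3, 1, 2, 1, 2, 4, 2, 3], [3, 4, 5, 3, 4, 5, 3, 4, 5], [1, 2, 4, 2, 4, 5, 1, 2, 4, 2, 4, 5], [1, 3, 2, 3, 1, 5, 1, 3, 2, 3, 1, 5], [1, 2, 3, 4, 5, 1, 2, 3, 4, 5, 1, 2, 3, 4, 5], [1, 2, 4, 5, 1, 2, 4, 5, 1, 2, 4, 5, 1, 2, 4, 5]] :=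
  sat_of_satB (k := 6) (L := (lab 57 6)) m_hn (det_lab m_hk _) E_ok le_rfl (by decide +kernel)

theorem sat_gp : Sat (gp 57 E code) L37s.Rm :=
  Sat.mono sat_gp0 (by decide +kernel)

theorem sat_us0 : Sat (gp 57 E code) [[3, 2, 5, 3, 2, 5, 3, 2, 5, 3, 2, 5, 3, 2, 5, 3, 2, 5, 3, 2, 5, 3, 2, 5, 3, 2, 5, 3, 2, 5, 3, 2, 5, 3, 2, 5, 3, 2, 5, 3, 2, 5, 3, 2, 5, 3, 2, 5, 3, 2, 5, 3, 2, 5, 3, 2, 5]] :=
  sat_of_satB (k := 6) (L := (lab 57 6)) m_hn (det_lab m_hk _) E_ok le_rfl (by decide +kernel)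

theorem sat_us : Sat (gp 57 E code) (L37sQ.XQ.map fun u => (List.replicate 19 u).flatten) :=
  Sat.mono sat_us0 (by decide +kernel)

theorem m_le9 : grp 57 m_V8 ≤ grp 57 E :=
  grp_le_of_memB m_hn m_hk E_ok m_V8_ok (ws := [nat_lit 0x105080609090508, nat_lit 0x603080a0a]) (by decide +kernel)

theorem m_le14 : grp 57 m_V13 ≤ grp 57 m_V8 :=
  grp_le_of_memB m_hn m_hk m_V8_ok m_V13_ok (ws := [nat_lit 0x203010103010104010401, nat_lit 0x3010404020401030204, nat_lit 0x20204010302040203010401]) (by decide +kernel)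

theorem m_le19 : grp 57 m_V18 ≤ grp 57 m_V13 :=
  grp_le_of_memB m_hn m_hk m_V13_ok m_V18_ok (ws := [nat_lit 0x405040202020501, nat_lit 1282, nat_lit 0x5030106010503020202]) (by decide +kernel)

theorem m_le22 : grp 57 m_V21 ≤ grp 57 m_V18 :=
  grp_le_of_memB m_hn m_hk m_V18_ok m_V21_ok (ws := [nat_lit 0x2030101, nat_lit 0x2030103030502040406]) (by decide +kernel)

theorem lb_le : grp 57 lb_E ≤ grp 57 E :=
  (grp_cons_le ((le_refl (grp 57 E)) (toPerm_mem_grp (E := E) (by simp [E]))) (grp_cons_le ((le_refl (grp 57 E)) (toPerm_mem_grp (E := E) (by simp [E]))) (grp_cons_le ((le_refl (grp 57 E)) (toPerm_mem_grp (E := E) (by simp [E]))) (grp_cons_le ((le_refl (grp 57 E)) (toPerm_mem_grp (E := E) (by simp [E]))) (grp_cons_le ((le_refl (grp 57 E)) (toPerm_mem_grp (E := E) (by simp [E]))) (grp_cons_le ((m_le9.trans (le_refl (grp 57 E))) (toPerm_mem_grp (E := m_V8) (by simp [m_V8]))) (grp_cons_le ((m_le9.trans (le_refl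 (grp 57 E))) (toPerm_mem_grp (E := m_V8) (by simp [m_V8]))) (grp_cons_le ((m_le14.trans (m_le9.trans (le_refl (grp 57 E)))) (toPerm_mem_grp (E := m_V13) (by simp [m_V13]))) (grp_cons_le ((m_le14.trans (m_le9.trans (le_refl (grp 57 E)))) (toPerm_mem_grp (E := m_V13) (by simp [m_V13]))) (grp_cons_le ((m_le14.trans (m_le9.trans (le_refl (grp 57 E)))) (toPerm_mem_grp (E := m_V13) (by simp [m_V13]))) (grp_cons_le ((m_le19.trans (m_le14.trans (m_le9.trans (le_refl (grp 57 E))))) (toPerm_mem_grp (E := m_V18) (by simp [m_V18]))) (grp_cons_le ((m_le19.trans (m_le14.trans (m_le9.trans (le_refl (grp 57 E))))) (toPerm_mem_grp (E := m_V18) (by simp [m_V18]))) (grp_cons_le ((m_le19.trans (m_le14.trans (m_le9.trans (le_refl (grp 57 E))))) (toPerm_mem_grp (E := m_V18) (by simp [m_V18]))) (grp_cons_le ((m_le22.trans (m_le19.trans (m_le14.trans (m_le9.trans (le_refl (grp 57 E)))))) (toPerm_mem_grp (E := m_V21) (by simp [m_V21])))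 (grp_cons_le ((m_le22.trans (m_le19.trans (m_le14.trans (m_le9.trans (le_refl (grp 57 E)))))) (toPerm_mem_grp (E := m_V21) (by simp [m_V21]))) (grp_nil_le _))))))))))))))))

noncomputable def lb_ch : Ch := (Ch.cons (nat_lit 0) [nat_lit 1, nat_lit 3, nat_lit 5, nat_lit 7, nat_lit 9] (Ch.cons (nat_lit 1) [nat_lit 11, nat_lit 13] (Ch.cons (nat_lit 2) [nat_lit 15, nat_lit 17, nat_lit 19] (Ch.cons (nat_lit 3) [nat_lit 21, nat_lit 23, nat_lit 25] (Ch.cons (nat_lit 4) [nat_lit 27, nat_lit 29] Ch.nil)))))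

theorem lb_chk : Ch.chk 57 6 (lab 57 6) lb_E lb_ch 1876896 = true :=
  by decide +kernel

theorem lb_ge : 1876896 ≤ Nat.card (grp 57 E) :=
  (Ch.le_card_grp m_hn lb_E_ok lb_chk).trans (Subgroup.card_le_of_le lb_le)

/-- The permutation group. -/
noncomputable abbrev K : Subgroup (Equiv.Perm (Fin 57)) := gen (gp 57 E code) 5

/-- The generators. -/
noncomputable abbrev k : ℕ → K := subT K (gp 57 E code)

theorem model : Model k 5 57 E code K.subtype := model_self m_hn E_ok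

theorem top : gen k 5 = ⊤ := model.top

theorem sat : Sat k L37s.Rm := sat_subT le_rfl (by decide +kernel) sat_gp

theorem card : Nat.card K = 1876896 :=
  (injective_of_card_le (finite_card_of_top top (by decide) (L37sC.card_all sat))
    (model.range (by decide +kernel) ▸ lb_ge)).2.1

theorem act : CosetAct K.subtype (wgen k [[1], [2], [3], [4]]) ⟨0, by decide⟩ :=
  model.cosetAct (by decide) ((L37sC.idx_all sat).of_wgen (by decide)) _ (by decide +kernel)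
    (by decide +kernel)

theorem coatom : IsCoatom (wgen k [[1], [2], [3], [4]]) :=
  model.isCoatom (by decide) act (by decide) (ts := [[5]]) (by decide) (by decide +kernel)
    (by decide +kernel)

theorem simple : IsSimpleGroup K :=
  isSimple_of_coatom coatom (act.core K.subtype_injective) (p := 19) (k := 1) (by norm_num)
    (by rw [act.index]; simp) (by rw [card]; norm_num)
    fun N _ hN => top_of_quot top sat N
      (mem_of_sat_pow (model.sat K.subtype_injective (by decide +kernel) sat_us) hN)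
      (by decide) fun _ h => L37sQ.card_q h

theorem exists_hom {G : Type*} [Group G] {g : ℕ → G} (hg : Sat g L37s.Rm) :
    ∃ f : K →* G, ∀ x, 1 ≤ x ∧ x ≤ 5 → f (k x) = g x :=
  exists_hom_of_pres top sat card.ge (by decide) (fun _ h => L37sC.card_all h) hg

/-- The relators present a simple group of order 1876896. -/
theorem exists_equiv {G : Type*} [Group G] {g : ℕ → G} (hg : Sat g L37s.Rm) (hne : g 1 ≠ 1) :
    Nonempty (K ≃* gen g 5) :=
  have := simple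
  let ⟨_, hf⟩ := exists_hom hg
  equiv_gen_of_simple top hf (x := 1) (by decide) hne

theorem simple_card {G : Type*} [Group G] {g : ℕ → G} (hg : Sat g L37s.Rm) (hne : g 1 ≠ 1) :
    IsSimpleGroup (gen g 5) ∧ Nat.card (gen g 5) = 1876896 :=
  have := simple
  let ⟨e⟩ := exists_equiv hg hne
  ⟨e.symm.isSimpleGroup, (Nat.card_congr e.toEquiv).symm.trans card⟩


end Cfsg.Agent.H44.L37sM
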