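import Cfsg.Agent.H44.Coset
import Cfsg.Agent.H44.ONP
import Cfsg.Agent.H44.EONB
import Cfsg.Agent.H44.EONA

set_option autoImplicit false
set_option maxRecDepth 1000000
set_option linter.all false
set_option Elab.async false

namespace Cfsg.Agent.H44.ONC.abc
open Cfsg.Agent.H44

noncomputable def rT0 : Tr :=
 (.leaf (nat_lit 0xd6951451f793124991b71041920f373e8eb60d35b40c3632b58e0b2d4b0a352a09344a27b3b108214807331e0632471b7005311604306f132f4604116d032e0e022d6c0b2c690209012b43072a01290600286503270026022524000123222100))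
noncomputable def gT0 : Tr :=
 (.leaf (nat_lit 0))
/-- The relators. -/
def R : List (List ℕ) := [[1, 1],
  [2, 2],
  [3, 3],
  [1, 2, 1, 2, 1, 2],
  [1, 3, 1, 3],
  [2, 3, 2, 3, 2, 3]]
/-- The subgroup generators. -/
def S : List (List ℕ) := []
def Wr : List (List ℕ) := [[1, 1],
  [2, 2],
  [3, 3],
  [1, 3, 1, 3],
  [2, 1, 2, 1, 2, 1],
  [3, 2, 3, 2, 3, 2],
  [3, 1, 3, 1]]
def Wn : List (List ℕ) := []
def cr : List (ℕ × ℕ × ℕ) := [(0, 0, 0), (0, 0, 0), (0, 0, 0), (1, 4, 0), (1, 3, 1), (1, 5, 1), (1, 4, 1)]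
def cn : List (ℕ × ℕ × ℕ) := []
noncomputable def rT : Tr := rT0
noncomputable def gT : Tr := gT0
noncomputable def rC (i : ℕ) : ℕ := rT.get (nat_lit 0) i
noncomputable def gC (i : ℕ) : ℕ := gT.get (nat_lit 0) i
noncomputable def row (p : ℕ) : ℕ := rec2 rC (nat_lit 7) (nat_lit 127) (nat_lit 32) (nat_lit 0xffffffff) p
noncomputable def gf (p : ℕ) : ℕ := rec2 gC (nat_lit 8) (nat_lit 255) (nat_lit 15) (nat_lit 32767) p
noncomputable def gw (c : ℕ) : List ℕ := nth [] Wr c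
noncomputable def wn (c : ℕ) : ℕ := pack (nat_lit 2) (nth [] Wn c) (nat_lit 0)
noncomputable def C : Cert :=
  { n := (nat_lit 24), na := (nat_lit 0), M := (nat_lit 0), nc := (nat_lit 3), W := (nat_lit 5), EB := (nat_lit 8),
    LB := (nat_lit 2), nreg := (nat_lit 7), ivT := (nat_lit 228), base := (nat_lit 0),
    row := row, gf := gf, gw := gw, wn := wn }
theorem masks : Masks C (nat_lit 31) (nat_lit 255) (nat_lit 3) (nat_lit 12) (nat_lit 4095) :=
  ⟨by decide +kernel, by decide +kernel, by decide +kernel, by decide +kernel, by decide +kernel⟩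
noncomputable def rchk : ℕ → ℕ → ℕ → Bool :=
  rowChk row gf gw (nat_lit 24) (nat_lit 0) (nat_lit 3) (nat_lit 5) (nat_lit 31) (nat_lit 8) (nat_lit 255) (nat_lit 2) (nat_lit 3) (nat_lit 12) (nat_lit 4095) (nat_lit 7) (nat_lit 228) (nat_lit 1) (nat_lit 1) (nat_lit 6) (nat_lit 63)
noncomputable def fchk : ℕ → ℕ → ℕ → Bool :=
  auxRun row gf wn (nat_lit 24) (nat_lit 0) (nat_lit 0) (nat_lit 3) (nat_lit 5) (nat_lit 31) (nat_lit 8) (nat_lit 255) (nat_lit 2) (nat_lit 3) (nat_lit 12) (nat_lit 228) (nat_lit 0) (nat_lit 2) (nat_lit 3)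
theorem rows_of {lo hi : ℕ} {t : JL} (h : t.run rchk (nat_lit 18) hi lo = true) : C.RowsOK lo hi :=
  rowsOK_of_run masks h
theorem facts_of {lo hi : ℕ} {t : JL} (h : t.run fchk (nat_lit 20) hi lo = true) : C.FactsOK lo hi :=
  factsOK_of_run masks h
theorem words_ok : wordsChk 24 3 5 2 7 228 0 R S Wr Wn cr cn = true := by
  decide +kernel
noncomputable def j0 : JL :=
(.cons (nat_lit 16) (nat_lit 0x21030801800400840c00400810c50030010020430800021030010020430010c2003081) (nat_lit 0)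
(.cons (nat_lit 8) (nat_lit 0x1c50031401c20060011c20030010c5006001) (nat_lit 0)
.nil))
theorem t0 : C.RowsOK (nat_lit 0) (nat_lit 24) :=
  rows_of (t := j0) (by decide +kernel)
theorem checked : Checked C R S :=
  ⟨⟨Wr, Wn, cr, cn, fun _ => rfl, fun _ => rfl, words_ok⟩, t0,
    fun _ _ h => absurd h (Nat.not_lt_zero _)⟩

/-- In any group whose elements `g 1, …, g 3` satisfy the relators `R`, a subgroup containing the words
of `S` has index at most 24 in the subgroup generated by these elements. -/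
theorem idxLe {G : Type*} [Group G] {g : ℕ → G} (hg : Sat g R) {H : Subgroup G}
    (hS : ∀ s ∈ S, ev g s ∈ H) : IdxLe H (gen g 3) 24 :=
  checked.idxLe hg hS

end Cfsg.Agent.H44.ONC.abc

namespace Cfsg.Agent.H44.ONC.abcdf
open Cfsg.Agent.H44

noncomputable def rT0 : Tr :=
 (.leaf (nat_lit 0x7e9f96e8187698286c1476c557ed447d21b465b6051416d5b604c3b65d335cc125d4536e124041d8145d9649057601065c7a34d047643a3d0100e50265c0e0e0773d4e45b8374bc0e6d8e20304d1d8f123cc50d83503034238c30244a5490b2c49554833024322c09302071334cd128850c4080c0cc12484398c70192f32c630146f2a8471b4550bc050b8461b0540b42c2a0a80145100ceb1106a29c3542c030ac69298340a829214030a0320044219c842101509c260042520c130006418862188050900008c6118404088211004010000))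
noncomputable def gT0 : Tr :=
 (.leaf (nat_lit 0x260004800088000a000100001800))
/-- The relators. -/
def R : List (List ℕ) := [[1, 1],
  [2, 2],
  [3, 3],
  [4, 4],
  [5, 5],
  [1, 2, 1, 2, 1, 2],
  [1, 3, 1, 3],
  [1, 4, 1, 4],
  [1, 5, 1, 5],
  [2, 3, 2, 3, 2, 3],
  [2, 4, 2, 4],
  [2, 5, 2, 5],
  [3, 4, 3, 4, 3, 4, 3, 4, 3, 4, 3, 4, 3, 4, 3, 4],
  [3, 5, 3, 5],
  [4, 5, 4, 5],
  [1, 5, 4, 3, 4, 3, 4, 3, 4, 3]]
/-- The subgroup generators. -/
def S : List (List ℕ) := [[1],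
  [2],
  [3]]
def Wr : List (List ℕ) := [[4, 4],
  [5, 5],
  [1, 4, 1, 4],
  [2, 4, 2, 4],
  [3, 3],
  [1, 5, 1, 5],
  [2, 5, 2, 5],
  [3, 5, 3, 5],
  [1, 3, 1, 3],
  [2, 2],
  [4, 5, 4, 5],
  [1, 1],
  [3, 2, 3, 2, 3, 2],
  [2, 1, 2, 1, 2, 1],
  [3, 1, 3, 1],
  [4, 3, 4, 3, 4, 3, 1, 5, 4, 3],
  [5, 4, 3, 4, 3, 4, 3, 4, 3, 1],
  [5, 3, 5, 3],
  [5, 2, 5, 2],
  [3, 4, 3, 4, 3, 4, 3, 1, 5, 4],
  [5, 4, 5, 4],
  [1, 2, 1, 2, 1, 2],
  [4, 2, 4, 2]]
def Wn : List (List ℕ) := [[1, 6],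
  [2, 8],
  [3, 10]]
def cr : List (ℕ × ℕ × ℕ) := [(0, 0, 0), (0, 0, 0), (1, 7, 0), (1, 10, 0), (0, 0, 0), (1, 8, 0), (1, 11, 0), (1, 13, 0), (1, 6, 0), (0, 0, 0), (1, 14, 0), (0, 0, 0), (1, 9, 1), (1, 5, 1), (1, 6, 1), (1, 15, 4), (1, 15, 1), (1, 13, 1), (1, 11, 1), (1, 15, 3), (1, 14, 1), (1, 5, 0), (1, 10, 1)]
def cn : List (ℕ × ℕ × ℕ) := [(1, 16, 0), (1, 17, 0), (1, 18, 0)]
noncomputable def rT : Tr := rT0
noncomputable def gT : Tr := gT0
noncomputable def rC (i : ℕ) : ℕ := rT.get (nat_lit 0) i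
noncomputable def gC (i : ℕ) : ℕ := gT.get (nat_lit 0) i
noncomputable def row (p : ℕ) : ℕ := rec2 rC (nat_lit 6) (nat_lit 63) (nat_lit 60) (nat_lit 0xfffffffffffffff) p
noncomputable def gf (p : ℕ) : ℕ := rec2 gC (nat_lit 8) (nat_lit 255) (nat_lit 19) (nat_lit 524287) p
noncomputable def gw (c : ℕ) : List ℕ := nth [] Wr c
noncomputable def wn (c : ℕ) : ℕ := pack (nat_lit 4) (nth [] Wn c) (nat_lit 0)
noncomputable def C : Cert :=
  { n := (nat_lit 28), na := (nat_lit 0), M := (nat_lit 6), nc := (nat_lit 5), W := (nat_lit 5), EB := (nat_lit 10),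
    LB := (nat_lit 4), nreg := (nat_lit 23), ivT := (nat_lit 0xab8967543210), base := (nat_lit 1344),
    row := row, gf := gf, gw := gw, wn := wn }
theorem masks : Masks C (nat_lit 31) (nat_lit 1023) (nat_lit 15) (nat_lit 14) (nat_lit 16383) :=
  ⟨by decide +kernel, by decide +kernel, by decide +kernel, by decide +kernel, by decide +kernel⟩
noncomputable def rchk : ℕ → ℕ → ℕ → Bool :=
  rowChk row gf gw (nat_lit 28) (nat_lit 6) (nat_lit 5) (nat_lit 5) (nat_lit 31) (nat_lit 10) (nat_lit 1023) (nat_lit 4) (nat_lit 15) (nat_lit 14) (nat_lit 16383) (nat_lit 23) (nat_lit 0xab8967543210) (nat_lit 3) (nat_lit 7) (nat_lit 7) (nat_lit 127)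
noncomputable def fchk : ℕ → ℕ → ℕ → Bool :=
  auxRun row gf wn (nat_lit 28) (nat_lit 0) (nat_lit 6) (nat_lit 5) (nat_lit 5) (nat_lit 31) (nat_lit 10) (nat_lit 1023) (nat_lit 4) (nat_lit 15) (nat_lit 14) (nat_lit 0xab8967543210) (nat_lit 1344) (nat_lit 5) (nat_lit 31)
theorem rows_of {lo hi : ℕ} {t : JL} (h : t.run rchk (nat_lit 35) hi lo = true) : C.RowsOK lo hi :=
  rowsOK_of_run masks h
theorem facts_of {lo hi : ℕ} {t : JL} (h : t.run fchk (nat_lit 20) hi lo = true) : C.FactsOK lo hi :=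
  factsOK_of_run masks h
theorem words_ok : wordsChk 28 5 5 4 23 188606632440336 1344 R S Wr Wn cr cn = true := by
  decide +kernel
noncomputable def j0 : JL :=
(.cons (nat_lit 16) (nat_lit 0x2c28718480801430001101c3020014203224000a12000880e301000a10602023c700000440a0c08005140c1011a006001614386040400a12000880e181000a101820268c98) (nat_lit 355)
(.cons (nat_lit 12) (nat_lit 0x265c6802c0800508301011e3801220005092a00a04180008814181000a28193023400c040028a180808d003000b0a1c3020200509) (nat_lit 0)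
.nil))
theorem t0 : C.RowsOK (nat_lit 0) (nat_lit 28) :=
  rows_of (t := j0) (by decide +kernel)
noncomputable def j1 : JL :=
(.cons (nat_lit 6) (nat_lit 0x820006500048000300001800000) (nat_lit 0x2400400ce0020045001001000000000000000000)
.nil)
theorem t1 : C.FactsOK (nat_lit 0) (nat_lit 6) :=
  facts_of (t := j1) (by decide +kernel)
theorem checked : Checked C R S :=
  ⟨⟨Wr, Wn, cr, cn, fun _ => rfl, fun _ => rfl, words_ok⟩, t0,
    t1⟩

/-- In any group whose elements `g 1, …, g 5` satisfy the relators `R`, a subgroup containing the words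
of `S` has index at most 28 in the subgroup generated by these elements. -/
theorem idxLe {G : Type*} [Group G] {g : ℕ → G} (hg : Sat g R) {H : Subgroup G}
    (hS : ∀ s ∈ S, ev g s ∈ H) : IdxLe H (gen g 5) 28 :=
  checked.idxLe hg hS

end Cfsg.Agent.H44.ONC.abcdf

namespace Cfsg.Agent.H44.ONC
open Cfsg.Agent.H44

theorem idx_abc {G : Type*} [Group G] {g : ℕ → G} (hg : Sat g ON.Rm) :
    IdxLe (wgen g []) (wgen g [[1], [2], [3]]) 24 :=
  Cfsg.Agent.H44.ONC.abc.checked.step hg [0, 1, 2, 3] (by decide +kernel) (by decide +kernel) (by decide +kernel)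

theorem card_abc {G : Type*} [Group G] {g : ℕ → G} (hg : Sat g ON.Rm) :
    Finite (wgen g [[1], [2], [3]]) ∧ Nat.card (wgen g [[1], [2], [3]]) ≤ 24 :=
  (idx_abc hg).wcard (n := 24) (m := 1) (by decide) (wcard_nil g)

theorem idx_abcdf {G : Type*} [Group G] {g : ℕ → G} (hg : Sat g ON.Rm) :
    IdxLe (wgen g [[1], [2], [3]]) (wgen g [[1], [2], [3], [4], [6]]) 28 :=
  Cfsg.Agent.H44.ONC.abcdf.checked.step hg [0, 1, 2, 3, 4, 6] (by decide +kernel) (by decide +kernel) (by decide +kernel)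

theorem card_abcdf {G : Type*} [Group G] {g : ℕ → G} (hg : Sat g ON.Rm) :
    Finite (wgen g [[1], [2], [3], [4], [6]]) ∧ Nat.card (wgen g [[1], [2], [3], [4], [6]]) ≤ 672 :=
  (idx_abcdf hg).wcard (n := 28) (m := 24) (by decide) (card_abc hg)

theorem idx_L37 {G : Type*} [Group G] {g : ℕ → G} (hg : Sat g ON.Rm) :
    IdxLe (wgen g [[1], [2], [3], [4], [6]]) (wgen g [[1], [2], [3], [4], [5], [6]]) 5586 :=
  Cfsg.Agent.H44.EONB.checked.step hg [0, 1, 2, 3, 4, 5, 6] (by decide +kernel) (by decide +kernel) (by decide +kernel)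

theorem card_L37 {G : Type*} [Group G] {g : ℕ → G} (hg : Sat g ON.Rm) :
    Finite (wgen g [[1], [2], [3], [4], [5], [6]]) ∧ Nat.card (wgen g [[1], [2], [3], [4], [5], [6]]) ≤ 3753792 :=
  (idx_L37 hg).wcard (n := 5586) (m := 672) (by decide) (card_abcdf hg)

theorem idx_all {G : Type*} [Group G] {g : ℕ → G} (hg : Sat g ON.Rm) :
    IdxLe (wgen g [[1], [2], [3], [4], [5], [6]]) (wgen g [[1], [2], [3], [4], [5], [6], [7], [8]]) 122760 :=
  Cfsg.Agent.H44.EONA.checked.step hg [0, 1, 2, 3, 4, 5, 6, 7, 8] (by decide +kernel) (by decide +kernel) (by decide +kernel)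

theorem card_all {G : Type*} [Group G] {g : ℕ → G} (hg : Sat g ON.Rm) :
    Finite (wgen g [[1], [2], [3], [4], [5], [6], [7], [8]]) ∧ Nat.card (wgen g [[1], [2], [3], [4], [5], [6], [7], [8]]) ≤ 460815505920 :=
  (idx_all hg).wcard (n := 122760) (m := 3753792) (by decide) (card_L37 hg)


end Cfsg.Agent.H44.ONC

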