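import Cfsg.Agent.H44.Coset
import Cfsg.Agent.H44.ONP

set_option autoImplicit false
set_option maxRecDepth 1000000
set_option linter.all false
set_option Elab.async false

namespace Cfsg.Agent.H44.ONQ.q
open Cfsg.Agent.H44

noncomputable def rT0 : Tr :=
 (.leaf (nat_lit 0x940980740840940580580580000))
noncomputable def gT0 : Tr :=
 (.leaf (nat_lit 0x24800091000230004894412101188140020011b7c0016056db700571b06dd68dd6da275d7d5d758471d661c6d9675b795c717371c61c56d706de5c9c71726db5e1d717171c5c5b6dc7100718001b000668041d931c4600481821c75c075d6610759061d6710658c51562145584515621045407395018d5405315010b54c00152000544001400014dc4353610e4d06393314c4e04012035a480e652031548c0052001444042110043400028f49d638168cc3527060b9cd48e7308530c210b310828b03132c0b48b02912c8004a0042240024802501c02907620e180e7c6195114483c403e20da194239a1048d98143e5049090412220d887c1419904875c1315506045012153048448142110a0d20181cd0446341114c044328029ca01a62403949006424028c801a21c0484700e01c017c7021e1407745019c14046c5021a1006644015810035c402160c0554300940c054c201120803442005008083c101ce0406341014c04042c100ca0402241020800071c001860005140010400030c000820001040))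
/-- The relators. -/
def R : List (List ℕ) := [[1, 1],
  [2, 2],
  [3, 3],
  [4, 4],
  [5, 5],
  [6, 6],
  [7, 8],
  [1, 2, 1, 2, 1, 2],
  [1, 3, 1, 3],
  [1, 4, 1, 4],
  [1, 5, 1, 5],
  [1, 6, 1, 6],
  [2, 3, 2, 3, 2, 3],
  [2, 4, 2, 4],
  [2, 5, 2, 5],
  [2, 6, 2, 6],
  [3, 4, 3, 4, 3, 4, 3, 4, 3, 4, 3, 4, 3, 4, 3, 4],
  [3, 5, 3, 5],
  [3, 6, 3, 6],
  [4, 5, 4, 5, 4, 5],
  [4, 6, 4, 6],
  [5, 6, 5, 6, 5, 6],
  [1, 6, 8, 8],
  [1, 6, 4, 3, 4, 3, 4, 3, 4, 3],
  [3, 8, 4, 8, 4, 3, 4, 7, 4, 7],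
  [4, 8, 3, 8, 3, 4, 3, 7, 3, 7],
  [2, 3, 4, 7, 2, 3, 4, 7, 2, 3, 4, 7, 2, 3, 4, 7, 2, 3, 4, 7],
  [7, 2, 3, 7, 3, 2, 7, 2, 3, 7, 3],
  [7, 5, 4, 7, 4, 5, 7, 5, 4, 7, 4],
  [2, 3, 4, 7]]
/-- The subgroup generators. -/
def S : List (List ℕ) := []
def Wr : List (List ℕ) := [[7, 8]]
def Wn : List (List ℕ) := [[1, 3, 1, 3],
  [1, 5, 1, 5],
  [1, 6, 1, 6],
  [8, 8, 1, 6],
  [8, 1, 6, 8],
  [4, 7, 2, 3],
  [2, 4, 2, 4],
  [2, 5, 2, 5],
  [8, 4, 3, 2],
  [3, 5, 3, 5],
  [2, 8, 4, 3],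
  [4, 6, 4, 6],
  [6, 8, 8, 1],
  [2, 1, 2, 1, 2, 1],
  [2, 6, 2, 6],
  [3, 2, 8, 4],
  [6, 3, 6, 3],
  [1, 1],
  [1, 4, 1, 4],
  [6, 6],
  [3, 1, 3, 1],
  [2, 2],
  [3, 3],
  [4, 4],
  [5, 5],
  [4, 2, 4, 2],
  [3, 2, 3, 2, 3, 2],
  [7, 2, 3, 4],
  [8, 4, 3, 4, 7, 4, 7, 3, 8, 4],
  [7, 8],
  [8, 7],
  [8, 3, 2, 8, 2, 3, 8, 3, 2, 8, 3],
  [6, 2, 6, 2],
  [2, 3, 2, 3, 2, 3],
  [4, 3, 2, 8],
  [3, 6, 3, 6],
  [5, 6, 5, 6, 5, 6],
  [5, 4, 8, 4, 5, 8, 4, 8, 4, 5, 8],
  [3, 4, 7, 2],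
  [5, 4, 5, 4, 5, 4]]
def cr : List (ℕ × ℕ × ℕ) := [(0, 0, 0)]
def cn : List (ℕ × ℕ × ℕ) := [(1, 8, 0), (1, 10, 0), (1, 11, 0), (1, 22, 2), (1, 22, 3), (1, 29, 2), (1, 13, 0), (1, 14, 0), (2, 29, 0), (1, 17, 0), (2, 29, 3), (1, 20, 0), (1, 22, 1), (1, 7, 1), (1, 15, 0), (2, 29, 2), (1, 18, 1), (0, 0, 0), (1, 9, 0), (0, 0, 0), (1, 8, 1), (0, 0, 0), (0, 0, 0), (0, 0, 0), (0, 0, 0), (1, 13, 1), (1, 12, 1), (1, 29, 3), (1, 24, 3), (0, 0, 0), (0, 0, 0), (2, 27, 1), (1, 15, 1), (1, 12, 0), (2, 29, 1), (1, 18, 0), (1, 21, 0), (2, 28, 5), (1, 29, 1), (1, 19, 1)]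
noncomputable def rT : Tr := rT0
noncomputable def gT : Tr := gT0
noncomputable def rC (i : ℕ) : ℕ := rT.get (nat_lit 0) i
noncomputable def gC (i : ℕ) : ℕ := gT.get (nat_lit 0) i
noncomputable def row (p : ℕ) : ℕ := rec2 rC (nat_lit 5) (nat_lit 31) (nat_lit 108) (nat_lit 0xfffffffffffffffffffffffffff) p
noncomputable def gf (p : ℕ) : ℕ := rec2 gC (nat_lit 8) (nat_lit 255) (nat_lit 22) (nat_lit 0x3fffff) p
noncomputable def gw (c : ℕ) : List ℕ := nth [] Wr c
noncomputable def wn (c : ℕ) : ℕ := pack (nat_lit 4) (nth [] Wn c) (nat_lit 0)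
noncomputable def C : Cert :=
  { n := (nat_lit 1), na := (nat_lit 39), M := (nat_lit 141), nc := (nat_lit 8), W := (nat_lit 6), EB := (nat_lit 12),
    LB := (nat_lit 4), nreg := (nat_lit 1), ivT := (nat_lit 0x786543210), base := (nat_lit 0),
    row := row, gf := gf, gw := gw, wn := wn }
theorem masks : Masks C (nat_lit 63) (nat_lit 4095) (nat_lit 15) (nat_lit 16) (nat_lit 65535) :=
  ⟨by decide +kernel, by decide +kernel, by decide +kernel, by decide +kernel, by decide +kernel⟩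
noncomputable def rchk : ℕ → ℕ → ℕ → Bool :=
  rowChk row gf gw (nat_lit 1) (nat_lit 141) (nat_lit 8) (nat_lit 6) (nat_lit 63) (nat_lit 12) (nat_lit 4095) (nat_lit 4) (nat_lit 15) (nat_lit 16) (nat_lit 65535) (nat_lit 1) (nat_lit 0x786543210) (nat_lit 8) (nat_lit 255) (nat_lit 8) (nat_lit 255)
noncomputable def fchk : ℕ → ℕ → ℕ → Bool :=
  auxRun row gf wn (nat_lit 1) (nat_lit 39) (nat_lit 141) (nat_lit 8) (nat_lit 6) (nat_lit 63) (nat_lit 12) (nat_lit 4095) (nat_lit 4) (nat_lit 15) (nat_lit 16) (nat_lit 0x786543210) (nat_lit 0) (nat_lit 9) (nat_lit 511)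
theorem rows_of {lo hi : ℕ} {t : JL} (h : t.run rchk (nat_lit 64) hi lo = true) : C.RowsOK lo hi :=
  rowsOK_of_run masks h
theorem facts_of {lo hi : ℕ} {t : JL} (h : t.run fchk (nat_lit 20) hi lo = true) : C.FactsOK lo hi :=
  factsOK_of_run masks h
theorem words_ok : wordsChk 1 8 6 4 1 32318435856 0 R S Wr Wn cr cn = true := by
  decide +kernel
noncomputable def j0 : JL :=
(.cons (nat_lit 1) (nat_lit 0x801070605040302) (nat_lit 0x8c71878b5f5e5d)
.nil)
theorem t0 : C.RowsOK (nat_lit 0) (nat_lit 1) :=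
  rows_of (t := j0) (by decide +kernel)
noncomputable def j1 : JL :=
(.cons (nat_lit 39) (nat_lit 0) (nat_lit 0)
(.cons (nat_lit 16) (nat_lit 0x30f002ca002970026400231001fe001cb001980016500132000ff000cc00099000660003300000) (nat_lit 0xa0181280180313830080589c014038944537801801910b85e00300d1c03826006018340705400c02c600c088018050b8180f00300916028220060102a0503c00c01c500a0b801803058265a003005100202a006008200404c00c00c3c0808801801068100d003001)
(.cons (nat_lit 16) (nat_lit 0x30f002dc002a90027f0024300207001d4001980016e00132000ff000d500099000660003300000) (nat_lit 0x588d0f80180c8a91a1d003018142343600602e8c0500100b09d128b04802009220e4870500200b0990c4e003012271450028004015411bc008050de7e1208c010010c27e3a0018099f0e20040244a249e8ea00801850299e000c044905c3b001808148302100300f)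
(.cons (nat_lit 16) (nat_lit 0x32a002f7002c40029a0026700234002010018f0016500129000e4000b10007e000540002a00000) (nat_lit 0x3a5517c00c07870aa4200180a0c1521f0030195403000805c5ca94780180b2594e0f0030182b29c12006024970b03466a54f87036970b00500ea89380040309c508b866008038540d23c1a2f00501b2a0683a006012544b93400c06928650020164918c0080592061002018)
(.cons (nat_lit 16) (nat_lit 0x2eb002c1002970026400231001fe001cb001a1001770014d000d2000a80007e000540002a00000) (nat_lit 0xca4d80100b328b2004024c84c80100b089821500301f10304260060281e6084400c06438c10780180c3015e00402ec04780100b30010004024af0a9a868b65723c2a6a1a2d802c081683a00201e590e0008051646d002018581a400805d586700201f)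
(.cons (nat_lit 16) (nat_lit 0x2d9002a6002730024000216001ec001b90016b001410010e000e4000a80007e000540002a00000) (nat_lit 0x1e3507a00600e3e6910400c0107cd21f8018018f1a43d00301374364008079d0120020146d39c1c006030e468395c0e4680030113888c00402e466f0d000c05dbc6b00201635b75a0dc004021672f40080519cbb002018662fc00807994b9002017)
(.cons (nat_lit 16) (nat_lit 0x3720033600303002d0002820024f0021c001aa001770014400111000cc000990006f0003300000) (nat_lit 0x2070f89bb401007e1cfe8784001006619078680180cc121a3c003018853d21708853d0018089e90382001813c01e90100300f793fa08f2823c9fd0479410028099e4f67e001811bec7ef0003005773ec8200601a3e08014223f0050251f3587e006048f82100100f109aad71e8020118f9a83f00300f)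
(.cons (nat_lit 6) (nat_lit 0x108000de00090000660002a00000) (nat_lit 0x238ec00201f8e0380080601c0407c681c040060288c0d80080646d1488c540100662410002019)
.nil))))))))
theorem t1 : C.FactsOK (nat_lit 0) (nat_lit 141) :=
  facts_of (t := j1) (by decide +kernel)
theorem checked : Checked C R S :=
  ⟨⟨Wr, Wn, cr, cn, fun _ => rfl, fun _ => rfl, words_ok⟩, t0,
    t1⟩

/-- In any group whose elements `g 1, …, g 8` satisfy the relators `R`, a subgroup containing the words
of `S` has index at most 1 in the subgroup generated by these elements. -/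
theorem idxLe {G : Type*} [Group G] {g : ℕ → G} (hg : Sat g R) {H : Subgroup G}
    (hS : ∀ s ∈ S, ev g s ∈ H) : IdxLe H (gen g 8) 1 :=
  checked.idxLe hg hS

end Cfsg.Agent.H44.ONQ.q

namespace Cfsg.Agent.H44.ONQ
open Cfsg.Agent.H44

/-- A word of order five. -/
def XQ : List (List ℕ) := [[2, 3, 4, 7]]

theorem idx_q {G : Type*} [Group G] {g : ℕ → G} (hg : Sat g (ON.Rm ++ XQ)) :
    IdxLe (wgen g []) (wgen g [[1], [2], [3], [4], [5], [6], [7], [8]]) 1 :=
  Cfsg.Agent.H44.ONQ.q.checked.step hg [0, 1, 2, 3, 4, 5, 6, 7, 8] (by decide +kernel) (by decide +kernel) (by decide +kernel)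

theorem card_q {G : Type*} [Group G] {g : ℕ → G} (hg : Sat g (ON.Rm ++ XQ)) :
    Finite (wgen g [[1], [2], [3], [4], [5], [6], [7], [8]]) ∧ Nat.card (wgen g [[1], [2], [3], [4], [5], [6], [7], [8]]) ≤ 1 :=
  (idx_q hg).wcard (n := 1) (m := 1) (by decide) (wcard_nil g)


end Cfsg.Agent.H44.ONQ

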