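import Mathlib
import Cfsg.Agent.H43.Chain
import Cfsg.Agent.H44.ONN0
import Cfsg.Agent.H44.ONN1
import Cfsg.Agent.H44.ONN2
import Cfsg.Agent.H44.ONP

set_option autoImplicit false
set_option maxRecDepth 1000000
set_option linter.all false
set_option Elab.async false

namespace Cfsg.Agent.H44.ONM

open Cfsg.Agent.H44 Cfsg.Agent.H43 

theorem m_hn : NOk 122760 := by decide

theorem m_hk : 122760 ≤ 2 ^ 17 := by decide

noncomputable def E : List Net := [Na, Nb, Nc, Nd, Ne, Nf, Ng]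

theorem E_ok : okE 122760 E = true := (okE_cons.2 ⟨Na_ok, (okE_cons.2 ⟨Nb_ok, (okE_cons.2 ⟨Nc_ok, (okE_cons.2 ⟨Nd_ok, (okE_cons.2 ⟨Ne_ok, (okE_cons.2 ⟨Nf_ok, (okE_cons.2 ⟨Ng_ok, (okE_nil 122760)⟩)⟩)⟩)⟩)⟩)⟩)⟩)

noncomputable def code : List ℕ := [0, 0, 2, 4, 6, 8, 10, 12, 13]

theorem sat_gp0 : Sat (gp 122760 E code) [[1, 1], [2, 2], [3, 3], [4, 4], [5, 5], [6, 6], [7, 8], [1, 2, 1, 2, 1, 2]] :=
  sat_of_satB (k := 17) (L := (lab 122760 17)) m_hn (det_lab m_hk _) E_ok le_rfl (by decide +kernel)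

theorem sat_gp1 : Sat (gp 122760 E code) [[1, 3, 1, 3], [1, 4, 1, 4], [1, 5, 1, 5], [1, 6, 1, 6]] :=
  sat_of_satB (k := 17) (L := (lab 122760 17)) m_hn (det_lab m_hk _) E_ok le_rfl (by decide +kernel)

theorem sat_gp2 : Sat (gp 122760 E code) [[2, 3, 2, 3, 2, 3], [2, 4, 2, 4], [2, 5, 2, 5], [2, 6, 2, 6]] :=
  sat_of_satB (k := 17) (L := (lab 122760 17)) m_hn (det_lab m_hk _) E_ok le_rfl (by decide +kernel)

theorem sat_gp3 : Sat (gp 122760 E code) [[3, 4, 3, 4, 3, 4, 3, 4, 3, 4, 3, 4, 3, 4, 3, 4], [3, 5, 3, 5]] :=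
  sat_of_satB (k := 17) (L := (lab 122760 17)) m_hn (det_lab m_hk _) E_ok le_rfl (by decide +kernel)

theorem sat_gp4 : Sat (gp 122760 E code) [[3, 6, 3, 6], [4, 5, 4, 5, 4, 5], [4, 6, 4, 6], [5, 6, 5, 6, 5, 6]] :=
  sat_of_satB (k := 17) (L := (lab 122760 17)) m_hn (det_lab m_hk _) E_ok le_rfl (by decide +kernel)

theorem sat_gp5 : Sat (gp 122760 E code) [[1, 6, 8, 8], [1, 6, 4, 3, 4, 3, 4, 3, 4, 3]] :=
  sat_of_satB (k := 17) (L := (lab 122760 17)) m_hn (det_lab m_hk _) E_ok le_rfl (by decide +kernel)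

theorem sat_gp6 : Sat (gp 122760 E code) [[3, 8, 4, 8, 4, 3, 4, 7, 4, 7], [4, 8, 3, 8, 3, 4, 3, 7, 3, 7]] :=
  sat_of_satB (k := 17) (L := (lab 122760 17)) m_hn (det_lab m_hk _) E_ok le_rfl (by decide +kernel)

theorem sat_gp7 : Sat (gp 122760 E code) [[2, 3, 4, 7, 2, 3, 4, 7, 2, 3, 4, 7, 2, 3, 4, 7, 2, 3, 4, 7]] :=
  sat_of_satB (k := 17) (L := (lab 122760 17)) m_hn (det_lab m_hk _) E_ok le_rfl (by decide +kernel)

theorem sat_gp8 : Sat (gp 122760 E code) [[7, 2, 3, 7, 3, 2, 7, 2, 3, 7, 3]] :=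
  sat_of_satB (k := 17) (L := (lab 122760 17)) m_hn (det_lab m_hk _) E_ok le_rfl (by decide +kernel)

theorem sat_gp9 : Sat (gp 122760 E code) [[7, 5, 4, 7, 4, 5, 7, 5, 4, 7, 4]] :=
  sat_of_satB (k := 17) (L := (lab 122760 17)) m_hn (det_lab m_hk _) E_ok le_rfl (by decide +kernel)

theorem sat_gp : Sat (gp 122760 E code) ON.Rm :=
  Sat.mono (sat_gp0.append (sat_gp1.append (sat_gp2.append (sat_gp3.append (sat_gp4.append (sat_gp5.append (sat_gp6.append (sat_gp7.append (sat_gp8.append sat_gp9))))))))) (by decide +kernel)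

end Cfsg.Agent.H44.ONM
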