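import Cfsg.Agent.H74.CksDefs
import Cfsg.Agent.H3.T3Stp
import Cfsg.Agent.H26.SLBasic

/-! Plane residues of a split `BN`-pair: orders, tori and chamber-transitive subgroups. -/

set_option autoImplicit false
set_option linter.unusedSectionVars false

namespace Cfsg.Agent.H44.CkPl

open Cfsg.Agent.H35 Cfsg.Agent.Lead.T3 Cfsg.Agent.H74.Cks Matrix

section mat
variable {F : Type} [Field F]

theorem tri_iff (A : Matrix (Fin 3) (Fin 3) F) :
    A.BlockTriangular id ↔ A 1 0 = 0 ∧ A 2 0 = 0 ∧ A 2 1 = 0 := by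
  refine ⟨fun h => ⟨h (by decide), h (by decide), h (by decide)⟩, fun ⟨h1, h2, h3⟩ i j hij => ?_⟩
  fin_cases i <;> fin_cases j <;> simp_all

theorem tri_pow {A : Matrix (Fin 3) (Fin 3) F} (h : A.BlockTriangular id) (n : ℕ) :
    (A ^ n).BlockTriangular id ∧ ∀ a, (A ^ n) a a = A a a ^ n := by
  induction n with
  | zero => exact ⟨by rw [pow_zero]; exact blockTriangular_one, by simp⟩
  | succ n ih =>
    refine ⟨by rw [pow_succ]; exact ih.1.mul h, fun a => ?_⟩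
    obtain ⟨h1, h2, h3⟩ := (tri_iff _).1 h
    obtain ⟨k1, k2, k3⟩ := (tri_iff _).1 ih.1
    rw [pow_succ, pow_succ, ← ih.2 a, mul_apply, Fin.sum_univ_three]
    fin_cases a <;> simp [h1, h2, h3, k1, k2, k3]

theorem tv_pow {a b : Fin 3} (h : a ≠ b) (t : F) (n : ℕ) :
    transvection a b t ^ n = transvection a b (n * t) := by
  induction n with
  | zero => simp
  | succ n ih => rw [pow_succ, ih, transvection_mul_transvection_same _ _ h]; congr 1; push_cast; ring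

end mat

variable {G : Type} [Group G] [Finite G] [IsSimpleGroup G] {p n : ℕ} [Fact p.Prime]
  {S : Sys G p n} {i j : Fin n} {F : Type} [Field F] [Finite F] (D : S.Plane i j F)

theorem scal {g : G} {A B : GL (Fin 3) F} (h : (g, A) ∈ D.D) {c : F}
    (e : (B : Matrix (Fin 3) (Fin 3) F) = c • (A : Matrix (Fin 3) (Fin 3) F)) : (g, B) ∈ D.D := by
  have := D.D.mul_mem h ((D.sc (A⁻¹ * B)).2 ⟨c, by rw [Units.val_mul, e, Matrix.mul_smul]; simp⟩)
  simpa using this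

theorem uniq {g : G} {A B : GL (Fin 3) F} (h : (g, A) ∈ D.D) (h' : (g, B) ∈ D.D) :
    ∃ c : F, (B : Matrix (Fin 3) (Fin 3) F) = c • (A : Matrix (Fin 3) (Fin 3) F) := by
  obtain ⟨c, hc⟩ := (D.sc (A⁻¹ * B)).1 (by simpa using D.D.mul_mem (D.D.inv_mem h) h')
  refine ⟨c, ?_⟩
  have : (B : Matrix (Fin 3) (Fin 3) F) = (A : Matrix (Fin 3) (Fin 3) F) *
      ((A⁻¹ * B : GL (Fin 3) F) : Matrix (Fin 3) (Fin 3) F) := by
    rw [← Units.val_mul, mul_inv_cancel_left]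
  rw [this, hc, Matrix.mul_smul, Matrix.mul_one]

/-- the normal form -/
def yy (a b c : F) : G := D.x 0 1 a * D.x 1 2 b * D.x 0 2 c

theorem yD (a b c : F) : ∃ A : GL (Fin 3) F,
    (A : Matrix (Fin 3) (Fin 3) F) = !![1, a, a * b + c; 0, 1, b; 0, 0, 1] ∧ (yy D a b c, A) ∈ D.D := by
  obtain ⟨A1, e1, h1⟩ := D.el 0 1 (by decide) a
  obtain ⟨A2, e2, h2⟩ := D.el 1 2 (by decide) b
  obtain ⟨A3, e3, h3⟩ := D.el 0 2 (by decide) c
  refine ⟨A1 * A2 * A3, ?_, D.D.mul_mem (D.D.mul_mem h1 h2) h3⟩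
  rw [Units.val_mul, Units.val_mul, e1, e2, e3]
  ext r s
  fin_cases r <;> fin_cases s <;>
    simp [transvection, mul_apply, Fin.sum_univ_three, one_apply, single, add_comm]

theorem x02 {M : Subgroup G} (hi : S.X i ≤ M) (hj : S.X j ≤ M) (c : F) : D.x 0 2 c ∈ M := by
  have := D.rel.com 0 1 2 (by decide) (by decide) (by decide) c 1
  rw [mul_one] at this
  have a := hi ((D.m01 _).2 ⟨c, rfl⟩)
  have b := hj ((D.m12 _).2 ⟨1, rfl⟩)
  rw [← this]
  exact mul_mem (mul_mem (mul_mem a b) (inv_mem a)) (inv_mem b)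

theorem yM {M : Subgroup G} (hi : S.X i ≤ M) (hj : S.X j ≤ M) (a b c : F) : yy D a b c ∈ M :=
  mul_mem (mul_mem (hi ((D.m01 _).2 ⟨a, rfl⟩)) (hj ((D.m12 _).2 ⟨b, rfl⟩))) (x02 D hi hj c)

omit D in
theorem XU (k : Fin n) : S.X k ≤ S.U := le_sup_left.trans (S.X_sup k).le

theorem cardX {a b : Fin 3} (h : a ≠ b) {X : Subgroup G} (m : ∀ g, g ∈ X ↔ ∃ t, D.x a b t = g) :
    Nat.card X = Nat.card F := by
  refine (Nat.card_congr (Equiv.ofBijective (fun t => (⟨D.x a b t, (m _).2 ⟨t, rfl⟩⟩ : X))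
    ⟨fun s t e => ?_, fun g => ?_⟩)).symm
  · have e' : D.x a b s = D.x a b t := congrArg Subtype.val e
    have := D.rel.add a b h (s - t) t
    rw [sub_add_cancel, e'] at this
    exact sub_eq_zero.1 (D.rel.inj a b h _ (by simpa using this))
  · obtain ⟨t, ht⟩ := (m g).1 g.2
    exact ⟨t, Subtype.ext ht⟩

include D in
theorem charp (hb : Bas1Stmt) : CharP F p := by
  obtain ⟨-, -, -, -, -, -, -, -, -, -, h, -⟩ := hb S
  obtain ⟨c, hc, e⟩ := (h i).2.2.2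
  have := Fintype.ofFinite F
  obtain ⟨r, hr⟩ := CharP.exists F
  obtain ⟨m, hp, hm⟩ := FiniteField.card F r
  have e2 : p ^ c = r ^ (m : ℕ) := by
    rw [← e, ← hm, ← Nat.card_eq_fintype_card]; exact cardX D (by decide) D.m01
  have : p = r := (Nat.prime_dvd_prime_iff_eq Fact.out hp).1
    ((Fact.out : p.Prime).dvd_of_dvd_pow (e2 ▸ dvd_pow_self p hc.ne'))
  exact this ▸ hr

theorem nf (hb : Bas1Stmt) {u : G} (hu : u ∈ S.U) :
    ∃ a b c, (yy D a b c)⁻¹ * u ∈ S.Q {i, j} := by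
  have := charp D hb
  have uB : u ∈ S.B := S.sp.U_le _ hu
  obtain ⟨A, hA⟩ := (D.fst u).1 (BN.B_le_PJ _ uB)
  have tri := (D.bor u A hA).1 uB
  obtain ⟨k, hk⟩ := S.sp.U_pgroup ∅ ⟨u, hu⟩
  have hk' : u ^ p ^ k = 1 := congrArg Subtype.val hk
  obtain ⟨c, hc⟩ := (D.sc (A ^ p ^ k)).1 (by simpa [hk'] using D.D.pow_mem hA (p ^ k))
  have d : ∀ a, (A : Matrix (Fin 3) (Fin 3) F) a a ^ p ^ k = c := fun a => by
    rw [← (tri_pow tri _).2, ← Units.val_pow_eq_pow_val, hc]; simp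
  have d' : ∀ a, (A : Matrix (Fin 3) (Fin 3) F) a a = A 0 0 := fun a =>
    (iterateFrobenius F p k).injective ((d a).trans (d 0).symm)
  obtain ⟨h1, h2, h3⟩ := (tri_iff _).1 tri
  have d0 : (A : Matrix (Fin 3) (Fin 3) F) 0 0 ≠ 0 := fun e => by
    have := A.det_ne_zero
    rw [det_fin_three] at this
    simp [h1, h2, e] at this
  obtain ⟨B, e, hB⟩ := yD D (A 0 1 / A 0 0) (A 1 2 / A 0 0)
    (A 0 2 / A 0 0 - A 0 1 / A 0 0 * (A 1 2 / A 0 0))
  have := D.D.mul_mem (D.D.inv_mem hB) (scal D hA (B := B) (c := (A 0 0)⁻¹) (by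
    rw [e]
    ext r s
    fin_cases r <;> fin_cases s <;> simp [h1, h2, h3, d' 1, d' 2, d0, div_eq_inv_mul]))
  rw [Prod.inv_mk, Prod.mk_mul_mk, inv_mul_cancel] at this
  exact ⟨_, _, _, (D.ker _ (mul_mem (inv_mem (yM D (XU i) (XU j) _ _ _)) hu)).1 this⟩

include D in
theorem cardU (hb : Bas1Stmt) : Nat.card S.U = Nat.card F ^ 3 * Nat.card (S.Q {i, j}) := by
  have hQ : S.Q {i, j} ≤ S.U := (hb S).2.2.2.2.2.2.2.2.2.1 _
  let f : (F × F × F) × S.Q {i, j} → S.U := fun v =>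
    ⟨yy D v.1.1 v.1.2.1 v.1.2.2 * v.2, mul_mem (yM D (XU i) (XU j) _ _ _) (hQ v.2.2)⟩
  have : Function.Bijective f := by
    refine ⟨?_, fun u => ?_⟩
    · rintro ⟨⟨a, b, c⟩, r⟩ ⟨⟨a', b', c'⟩, r'⟩ e
      have e' : yy D a b c * r = yy D a' b' c' * r' := congrArg Subtype.val e
      obtain ⟨A, e1, h1⟩ := yD D a b c
      obtain ⟨B, e2, h2⟩ := yD D a' b' c'
      have k1 := D.D.mul_mem h1 ((D.ker _ (hQ r.2)).2 r.2)
      have k2 := D.D.mul_mem h2 ((D.ker _ (hQ r'.2)).2 r'.2)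
      simp only [Prod.mk_mul_mk, mul_one, e'] at k1 k2
      obtain ⟨d, hd⟩ := uniq D k1 k2
      rw [e1, e2] at hd
      have f0 := congrFun (congrFun hd 0) 0
      have f1 := congrFun (congrFun hd 0) 1
      have f2 := congrFun (congrFun hd 0) 2
      have f3 := congrFun (congrFun hd 1) 2
      simp at f0 f1 f2 f3
      subst f0
      rw [one_mul] at f1 f3
      subst f1 f3
      have f4 : c' = c := by linear_combination f2
      subst f4
      exact Prod.ext rfl (Subtype.ext (mul_left_cancel e'))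
    · obtain ⟨a, b, c, h⟩ := nf D hb u.2
      exact ⟨⟨⟨a, b, c⟩, ⟨_, h⟩⟩, Subtype.ext (by simp [f])⟩
  rw [← Nat.card_congr (Equiv.ofBijective f this), Nat.card_prod, Nat.card_prod, Nat.card_prod]
  ring

theorem hhL {a b : Fin 3} {L : Subgroup G} (h1 : ∀ t, D.x a b t ∈ L) (h2 : ∀ t, D.x b a t ∈ L)
    (c : F) : hh D.x a b c ∈ L :=
  mul_mem (mul_mem (mul_mem (h1 _) (h2 _)) (h1 _)) (inv_mem (mul_mem (mul_mem (h1 _) (h2 _)) (h1 _)))

theorem hsq {a b c : Fin 3} (h1 : a ≠ b) (h2 : b ≠ c) (h3 : a ≠ c) {t : F} (ht : t ≠ 0) (s : F) :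
    hh D.x a b t * D.x a b s * (hh D.x a b t)⁻¹ = D.x a b (t ^ 2 * s) := by
  have e1 := (H3.T3Stp.sthStmt D.x D.rel a b c h1 h2 h3 t ht s).1
  have e2 := (H3.T3Stp.sthStmt D.x D.rel a b c h1 h2 h3 t ht 1).2.2.2.1
  have e3 := D.rel.com a c b h3 h2.symm h1 s 1
  have e4 := D.rel.com a c b h3 h2.symm h1 (t * s) (t * 1)
  rw [mul_one] at e3
  rw [show t ^ 2 * s = t * s * (t * 1) by ring, ← e4, ← e3, ← e1, ← e2]
  group

theorem torq (hb : Bas1Stmt) : TorqStmt := by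
  intro G _ _ _ p n _ S i j _ F _ _ D
  have hQ : S.Q {i, j} ≤ S.U := (hb S).2.2.2.2.2.2.2.2.2.1 _
  refine ⟨cardX D (by decide) D.m01, cardX D (by decide) D.m12, cardU D hb,
    le_antisymm (sup_le (sup_le (XU i) (XU j)) hQ) fun u hu => ?_, fun c hc => ?_, fun c hc => ?_⟩
  · obtain ⟨a, b, c, h⟩ := nf D hb hu
    have := mul_mem (yM D (M := S.X i ⊔ S.X j ⊔ S.Q {i, j}) (le_sup_left.trans le_sup_left)
      (le_sup_right.trans le_sup_left) a b c) (Subgroup.mem_sup_right h)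
    simpa using this
  · exact ⟨_, ⟨D.h01 c hc, hhL D (fun t => Subgroup.mem_sup_left ((D.m01 _).2 ⟨t, rfl⟩)) D.m10 c⟩,
      hsq D (c := 2) (by decide) (by decide) (by decide) hc, fun s =>
      (H3.T3Stp.sthStmt D.x D.rel 0 1 2 (by decide) (by decide) (by decide) c hc s).2.2.1⟩
  · exact ⟨_, ⟨D.h12 c hc, hhL D (fun t => Subgroup.mem_sup_left ((D.m12 _).2 ⟨t, rfl⟩)) D.m21 c⟩,
      fun s => (H3.T3Stp.sthStmt D.x D.rel 1 2 0 (by decide) (by decide) (by decide) c hc s).2.1,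
      hsq D (c := 0) (by decide) (by decide) (by decide) hc⟩

theorem surj (A : GL (Fin 3) F) : ∃ g B, (g, B) ∈ D.D ∧
    ((B⁻¹ * A : GL (Fin 3) F) : Matrix (Fin 3) (Fin 3) F).BlockTriangular id := by
  have h1 : ∀ A : SpecialLinearGroup (Fin 3) F, ∃ g, (g, (A : GL (Fin 3) F)) ∈ D.D := fun A => by
    refine H26.sl_transvection_induction (fun A : SpecialLinearGroup (Fin 3) F =>
      ∃ g, (g, (A : GL (Fin 3) F)) ∈ D.D) ⟨1, by rw [map_one]; exact D.D.one_mem⟩ (fun a b h c => ?_)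
      (fun A B ⟨g, hg⟩ ⟨k, hk⟩ => ⟨g * k, by simpa using D.D.mul_mem hg hk⟩) A
    obtain ⟨B, e, hB⟩ := D.el a b h c
    exact ⟨_, (Units.ext e.symm : (SpecialLinearGroup.transvection h c : GL (Fin 3) F) = B) ▸ hB⟩
  have d0 := A.det_ne_zero
  obtain ⟨g, hg⟩ := h1 ⟨(A : Matrix (Fin 3) (Fin 3) F) * diagonal ![(A.1.det)⁻¹, 1, 1], by
    rw [det_mul, det_diagonal, Fin.prod_univ_three]; simp [d0]⟩
  refine ⟨g, _, hg, ?_⟩
  have : ∀ B : GL (Fin 3) F, (B : Matrix (Fin 3) (Fin 3) F) = A * diagonal ![(A.1.det)⁻¹, 1, 1] →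
      ((B⁻¹ * A : GL (Fin 3) F) : Matrix (Fin 3) (Fin 3) F) = diagonal ![A.1.det, 1, 1] :=
    fun B e => by
    have e2 : (A : Matrix (Fin 3) (Fin 3) F) = B * diagonal ![A.1.det, 1, 1] := by
      rw [e, Matrix.mul_assoc, diagonal_mul_diagonal]
      conv_lhs => rw [← Matrix.mul_one (A : Matrix (Fin 3) (Fin 3) F)]
      congr 1
      ext r s
      fin_cases r <;> fin_cases s <;> simp [d0]
    rw [Units.val_mul]
    conv_lhs => rw [e2]
    rw [← Matrix.mul_assoc, ← Units.val_mul, inv_mul_cancel, Units.val_one, Matrix.one_mul]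
  rw [this _ rfl]
  exact blockTriangular_diagonal _

omit D in
theorem powU (hb : Bas1Stmt) {g : G} (hg : g ∈ S.B) : g ^ Nat.card S.T ∈ S.U := by
  obtain ⟨hN, -, -, -, -, h, -⟩ := hb S
  obtain ⟨u, hu, t, ht, rfl⟩ := h g hg
  have : ∀ k : ℕ, (u * t) ^ k * (t ^ k)⁻¹ ∈ S.U := fun k => by
    induction k with
    | zero => simp
    | succ k ih =>
      have := mul_mem hu ((Subgroup.mem_normalizer_iff.1 (hN.ge ht.1) _).1 ih)
      rwa [show u * (t * ((u * t) ^ k * (t ^ k)⁻¹) * t⁻¹) = (u * t) ^ (k + 1) * (t ^ (k + 1))⁻¹ by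
        rw [pow_succ', pow_succ']; group] at this
  have e := this (Nat.card S.T)
  have e2 : t ^ Nat.card S.T = 1 := congrArg Subtype.val (pow_card_eq_one' (x := (⟨t, ht⟩ : S.T)))
  rwa [e2, inv_one, mul_one] at e

theorem plf (hb : Bas1Stmt) (hl : LadStmt) (h1 : Hm1Stmt) (h2 : Hm2Stmt) (h3 : Hm3Stmt) :
    PlfStmt := by
  intro G _ _ _ p n _ S i j _ F _ _ D H hH
  have := Fintype.ofFinite F
  have := charp D hb
  have hQ : S.Q {i, j} ≤ S.U := (hb S).2.2.2.2.2.2.2.2.2.1 _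
  obtain ⟨-, l2, l3, -⟩ := hl S H hH
  let K : Subgroup (GL (Fin 3) F) :=
    (D.D ⊓ (S.HJ H {i, j}).comap (MonoidHom.fst _ _)).map (MonoidHom.snd _ _)
  have mK : ∀ A, A ∈ K ↔ ∃ g ∈ S.HJ H {i, j}, (g, A) ∈ D.D := fun A =>
    ⟨fun ⟨⟨g, _⟩, h, e⟩ => ⟨g, h.2, by cases e; exact h.1⟩, fun ⟨g, a, b⟩ => ⟨(g, A), ⟨b, a⟩, rfl⟩⟩
  have fl : FlagT K := by
    refine ⟨fun A e => (mK A).2 ⟨1, one_mem _, (D.sc A).2 e⟩, fun A => ?_⟩
    obtain ⟨g, B, hB, tri⟩ := surj D A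
    obtain ⟨h, hh, b, hb', rfl⟩ := l3 _ g ((D.fst g).2 ⟨B, hB⟩)
    obtain ⟨C, hC⟩ := (D.fst h).1 hh.2
    refine ⟨C, (mK C).2 ⟨h, Subgroup.mem_sup_left hh, hC⟩, ?_⟩
    have := (D.bor b (C⁻¹ * B) (by simpa using D.D.mul_mem (D.D.inv_mem hC) hB)).1 hb'
    have := this.mul tri
    rwa [← Units.val_mul, mul_assoc, mul_inv_cancel_left] at this
  rcases h1 F K fl with nt | sl
  · right
    have ev : Even (Fintype.card F) := Nat.not_odd_iff_even.1 fun o => h2 F o K fl nt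
    have c2 := h3 F ev K fl nt
    refine ⟨by rw [← c2, ← Nat.card_eq_fintype_card]; exact cardX D (by decide) D.m01,
      fun v hv => ?_⟩
    have two : (2 : F) = 0 := by simpa [c2] using FiniteField.cast_card_eq_zero F
    obtain ⟨a, b, c, h⟩ := nf D hb hv.2
    obtain ⟨A, e, hA⟩ := yD D a b c
    have k1 : (v, A) ∈ D.D := by simpa using D.D.mul_mem hA ((D.ker _ (hQ h)).2 h)
    have k2 : A ∈ K := (mK A).2 ⟨v, Subgroup.mem_sup_left
      ⟨hv.1, BN.B_le_PJ _ (S.sp.U_le _ hv.2)⟩, k1⟩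
    have aa : a + a = 0 := by rw [← two_mul, two, zero_mul]
    have bb : b + b = 0 := by rw [← two_mul, two, zero_mul]
    have k3 := nt _ (mul_mem k2 k2) (by
      rw [Units.val_mul, e]
      ext r s
      fin_cases r <;> fin_cases s <;> simp [mul_apply, Fin.sum_univ_three, one_apply, aa, bb])
    have k4 : a * b = 0 := by
      have e0 : ((A * A : GL (Fin 3) F) : Matrix (Fin 3) (Fin 3) F) = 1 := by rw [k3]; rfl
      rw [Units.val_mul, e] at e0
      have := congrFun (congrFun e0 0) 2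
      simp [mul_apply, Fin.sum_univ_three] at this
      linear_combination this - (a * b + c) * two
    have k5 := nt _ k2 (by
      rw [e]
      ext r s
      fin_cases r <;> fin_cases s <;> simp [mul_apply, Fin.sum_univ_three, one_apply, k4])
    exact (D.ker v hv.2).1 (k5 ▸ k1)
  · left
    have key : ∀ a b : Fin 3, a < b → (∀ t, D.x a b t ∈ S.U) → ∀ t,
        D.x a b t ∈ (H ⊓ S.U) ⊔ S.Q {i, j} := fun a b hab hU t => by
      have m0 : ((Nat.card S.T : ℕ) : F) ≠ 0 := fun e =>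
        S.sp.coprime ((CharP.cast_eq_zero_iff F p _).1 e)
      obtain ⟨A, e, -⟩ := D.el a b hab.ne (t / Nat.card S.T)
      obtain ⟨B, e', hB⟩ := D.el a b hab.ne t
      obtain ⟨g, hg, hA⟩ := (mK A).1 (sl A (by rw [e, det_transvection_of_ne _ _ hab.ne]))
      have gB : g ∈ S.B := (D.bor g A hA).2 (e ▸ blockTriangular_transvection hab.le _)
      have k1 := D.D.pow_mem hA (Nat.card S.T)
      have e3 : A ^ Nat.card S.T = B := Units.ext (by
        rw [Units.val_pow_eq_pow_val, e, e', tv_pow hab.ne, mul_div_cancel₀ _ m0])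
      rw [Prod.pow_mk, e3] at k1
      have k2 := powU hb gB
      have k3 : g ^ Nat.card S.T ∈ (H ⊓ S.U) ⊔ S.Q {i, j} := (l2 _).1 ▸ ⟨pow_mem hg _, k2⟩
      have k4 := (D.ker _ (mul_mem (inv_mem k2) (hU t))).1
        (by simpa using D.D.mul_mem (D.D.inv_mem k1) hB)
      simpa using mul_mem k3 (Subgroup.mem_sup_right k4)
    refine le_antisymm (sup_le inf_le_right hQ) fun u hu => ?_
    obtain ⟨a, b, c, h⟩ := nf D hb hu
    have := mul_mem (yM D (M := (H ⊓ S.U) ⊔ S.Q {i, j}) (fun g hg => by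
        obtain ⟨t, rfl⟩ := (D.m01 g).1 hg
        exact key 0 1 (by decide) (fun t => XU i ((D.m01 _).2 ⟨t, rfl⟩)) t) (fun g hg => by
        obtain ⟨t, rfl⟩ := (D.m12 g).1 hg
        exact key 1 2 (by decide) (fun t => XU j ((D.m12 _).2 ⟨t, rfl⟩)) t) a b c)
      (Subgroup.mem_sup_right h)
    simpa using this

end Cfsg.Agent.H44.CkPl
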