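import Mathlib
import Cfsg.Agent.Lead.T3Defs
import Cfsg.Agent.H7.T3Cx
import Cfsg.Agent.H62.T3Ba1
import Cfsg.Agent.S3732

/-! Plane charts for Moufang residues of type `A₂`. -/

set_option autoImplicit false

namespace Cfsg.Agent.H44.T3Pce

open Cfsg.Agent.H35 Cfsg.Agent.Lead.T3 Equiv Matrix
open Cfsg.Agent.Lead.T3.Bld (Par)

universe u

section Lin

variable {F : Type} [Field F]

theorem par_refl (a : Fin 3 → F) : Par a a := ⟨1, one_ne_zero, (one_smul _ _).symm⟩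

theorem par_symm {a b : Fin 3 → F} (h : Par a b) : Par b a := by
  obtain ⟨s, hs, rfl⟩ := h
  exact ⟨s⁻¹, inv_ne_zero hs, by rw [smul_smul, inv_mul_cancel₀ hs, one_smul]⟩

theorem par_trans {a b c : Fin 3 → F} (h : Par a b) (h' : Par b c) : Par a c := by
  obtain ⟨s, hs, rfl⟩ := h
  obtain ⟨t, ht, rfl⟩ := h'
  exact ⟨t * s, mul_ne_zero ht hs, smul_smul _ _ _⟩

theorem par_dot {a a' b b' : Fin 3 → F} (h : Par a a') (h' : Par b b') :
    a ⬝ᵥ b = 0 ↔ a' ⬝ᵥ b' = 0 := by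
  obtain ⟨s, hs, rfl⟩ := h
  obtain ⟨t, ht, rfl⟩ := h'
  simp [hs, ht]

theorem par_of_ker {n n' : Fin 3 → F} (hn : n ≠ 0) (hn' : n' ≠ 0)
    (h : ∀ v, n ⬝ᵥ v = 0 → n' ⬝ᵥ v = 0) : Par n n' := by
  obtain ⟨k, hk⟩ := Function.ne_iff.1 hn
  have hk' : n k ≠ 0 := hk
  have e : n' = (n' k / n k) • n := by
    funext m
    have := h (Pi.single m (n k) - Pi.single k (n m)) (by simp [dotProduct_sub, mul_comm])
    simp only [dotProduct_sub, dotProduct_single] at this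
    simp only [Pi.smul_apply, smul_eq_mul]
    field_simp
    linear_combination this
  refine ⟨_, fun h0 => hn' ?_, e⟩
  rw [e, h0, zero_smul]

theorem exists_normal (W : Submodule F (Fin 3 → F)) (hW : Module.finrank F W = 2) :
    ∃ n : Fin 3 → F, n ≠ 0 ∧ ∀ v, v ∈ W ↔ n ⬝ᵥ v = 0 := by
  have ht : W < ⊤ := lt_top_iff_ne_top.2 fun h => by
    rw [h] at hW
    simp at hW
  obtain ⟨f, hf, hle⟩ := W.exists_le_ker_of_lt_top ht
  have hk := Module.Dual.finrank_ker_add_one_of_ne_zero (f := f) hf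
  have e : W = LinearMap.ker f := Submodule.eq_of_le_of_finrank_eq hle (by
    simp only [Module.finrank_fin_fun] at hk
    omega)
  have hv : ∀ v, f v = (fun k => f (Pi.single k 1)) ⬝ᵥ v := fun v => by
    rw [LinearMap.pi_apply_eq_sum_univ f v, dotProduct]
    refine Finset.sum_congr rfl fun k _ => ?_
    rw [smul_eq_mul, mul_comm]
    congr 2
    funext m
    simp [Pi.single_apply, eq_comm]
  refine ⟨fun k => f (Pi.single k 1), fun h0 => hf (LinearMap.ext fun v => ?_), fun v => ?_⟩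
  · rw [hv, h0]; simp
  · rw [e, LinearMap.mem_ker, hv]

theorem exists_plane {n : Fin 3 → F} (hn : n ≠ 0) :
    ∃ W : Submodule F (Fin 3 → F), Module.finrank F W = 2 ∧ ∀ v, v ∈ W ↔ n ⬝ᵥ v = 0 := by
  let f : Module.Dual F (Fin 3 → F) := dotProductBilin F F n
  have hf : f ≠ 0 := fun h0 => hn (funext fun k => by
    have : f (Pi.single k 1) = 0 := by rw [h0]; rfl
    simpa [f] using this)
  have hk := Module.Dual.finrank_ker_add_one_of_ne_zero (f := f) hf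
  refine ⟨LinearMap.ker f, ?_, fun v => by simp [f]⟩
  simp only [Module.finrank_fin_fun] at hk
  omega

theorem par_map (T : (Fin 3 → F) ≃ₗ[F] (Fin 3 → F)) {a b : Fin 3 → F} (h : Par a b) :
    Par (T a) (T b) := by
  obtain ⟨s, hs, rfl⟩ := h
  exact ⟨s, hs, map_smul _ _ _⟩

theorem exists_frame {e0 e1 e2 n0 n3 : Fin 3 → F} (h1 : e1 ≠ 0) (a0 : n0 ⬝ᵥ e0 = 0)
    (a1 : n0 ⬝ᵥ e1 = 0) (a2 : n0 ⬝ᵥ e2 ≠ 0) (b0 : n3 ⬝ᵥ e0 ≠ 0) (b1 : n3 ⬝ᵥ e1 = 0)
    (b2 : n3 ⬝ᵥ e2 = 0) :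
    ∃ T S : (Fin 3 → F) ≃ₗ[F] (Fin 3 → F), (∀ a b, S b ⬝ᵥ T a = b ⬝ᵥ a) ∧
      Par (T e0) ![1, 0, 0] ∧ Par (S n0) ![0, 0, 1] ∧ Par (T e2) ![0, 0, 1] ∧
      Par (S n3) ![1, 0, 0] := by
  classical
  let M : Matrix (Fin 3) (Fin 3) F := (Matrix.of ![e0, e1, e2])ᵀ
  have hM : ∀ v, M *ᵥ v = v 0 • e0 + v 1 • e1 + v 2 • e2 := fun v => by
    funext k
    simp [M, mulVec, dotProduct, Fin.sum_univ_three, mul_comm]
  have hM' : ∀ b, b ᵥ* M = ![b ⬝ᵥ e0, b ⬝ᵥ e1, b ⬝ᵥ e2] := fun b => by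
    funext k
    fin_cases k <;> simp [M, vecMul, dotProduct, Fin.sum_univ_three]
  have hd : M.det ≠ 0 := fun h => by
    obtain ⟨v, hv, e⟩ := Matrix.exists_mulVec_eq_zero_iff.2 h
    rw [hM] at e
    have c2 : v 2 = 0 := by
      have := congrArg (n0 ⬝ᵥ ·) e
      simpa [dotProduct_add, a0, a1, a2] using this
    have c0 : v 0 = 0 := by
      have := congrArg (n3 ⬝ᵥ ·) e
      simpa [dotProduct_add, b0, b1, b2] using this
    have c1 : v 1 = 0 := by simpa [c0, c2, h1] using e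
    exact hv (funext fun k => by fin_cases k <;> assumption)
  have hu : IsUnit M.det := isUnit_iff_ne_zero.2 hd
  have hu' : IsUnit Mᵀ.det := by rwa [det_transpose]
  let A := Matrix.toLinearEquiv' M (Matrix.invertibleOfIsUnitDet M hu)
  let S := Matrix.toLinearEquiv' Mᵀ (Matrix.invertibleOfIsUnitDet Mᵀ hu')
  have hA : ∀ v, A v = M *ᵥ v := fun v => rfl
  have hS : ∀ v, S v = v ᵥ* M := fun v => mulVec_transpose M v
  refine ⟨A.symm, S, fun a b => ?_, ?_, ?_, ?_, ?_⟩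
  · rw [hS, ← dotProduct_mulVec, ← hA, A.apply_symm_apply]
  · have : A.symm e0 = ![1, 0, 0] := by
      rw [LinearEquiv.symm_apply_eq, hA, hM]; simp
    exact this ▸ par_refl _
  · rw [hS, hM', a0, a1]
    exact ⟨_, inv_ne_zero a2, by funext k; fin_cases k <;> simp [a2]⟩
  · have : A.symm e2 = ![0, 0, 1] := by
      rw [LinearEquiv.symm_apply_eq, hA, hM]; simp
    exact this ▸ par_refl _
  · rw [hS, hM', b1, b2]
    exact ⟨_, inv_ne_zero b0, by funext k; fin_cases k <;> simp [b0]⟩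

theorem par_ki {a b : Fin 3 → F} (ha : a ≠ 0) (hb : Par b ![0, 0, 1]) (h : b ⬝ᵥ a = 0)
    (hn : ¬ Par ![1, 0, 0] a) : Par a ![a 0 / a 1, 1, 0] := by
  have h2 : a 2 = 0 := by simpa [Fin.sum_univ_three, dotProduct] using (par_dot hb (par_refl a)).1 h
  have h1 : a 1 ≠ 0 := fun h1 => hn ⟨a 0, fun h0 => ha (funext fun k => by
    fin_cases k <;> assumption), by funext k; fin_cases k <;> simp [h1, h2]⟩
  exact ⟨_, inv_ne_zero h1, by funext k; fin_cases k <;> simp [h1, h2, div_eq_inv_mul]⟩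

theorem par_kj {a b : Fin 3 → F} (hb : b ≠ 0) (ha : Par a ![1, 0, 0]) (h : b ⬝ᵥ a = 0)
    (hn : ¬ Par ![0, 0, 1] b) : Par b ![0, 1, -(-(b 2 / b 1))] := by
  have h2 : b 0 = 0 := by simpa [Fin.sum_univ_three, dotProduct] using (par_dot (par_refl b) ha).1 h
  have h1 : b 1 ≠ 0 := fun h1 => hn ⟨b 2, fun h0 => hb (funext fun k => by
    fin_cases k <;> assumption), by funext k; fin_cases k <;> simp [h1, h2]⟩
  exact ⟨_, inv_ne_zero h1, by funext k; fin_cases k <;> simp [h1, h2, div_eq_inv_mul]⟩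

end Lin

/-- Coordinates for a finite plane with enough elations. -/
theorem coordPL {P L : Type u} [Finite P] [Finite L] (J : P → L → Prop)
    (join : ∀ p q, ∃ l, J p l ∧ J q l) (meet : ∀ l k, ∃ p, J p l ∧ J p k)
    (uniq : ∀ {p q l k}, J p l → J q l → J p k → J q k → p = q ∨ l = k)
    (thl : ∀ l p q, ∃ r, J r l ∧ r ≠ p ∧ r ≠ q) (thp : ∀ p l k, ∃ m, J p m ∧ m ≠ l ∧ m ≠ k)
    (mou : ∀ c l a p q, J c l → J c a → l ≠ a → J p l → J q l → p ≠ c → q ≠ c →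
      ∃ (σ : Perm P) (τ : Perm L), (∀ p l, J (σ p) (τ l) ↔ J p l) ∧ σ p = q ∧
        ∀ r, J r a → σ r = r) (p0 : P) :
    ∃ (F : Type) (_ : Field F) (_ : Finite F) (p : P → Fin 3 → F) (l : L → Fin 3 → F),
      (∀ x, p x ≠ 0) ∧ (∀ k, l k ≠ 0) ∧ (∀ x k, J x k ↔ l k ⬝ᵥ p x = 0) ∧
      (∀ x y, Par (p x) (p y) → x = y) ∧ (∀ k m, Par (l k) (l m) → k = m) ∧
      (∀ a, a ≠ 0 → ∃ x, Par (p x) a) ∧ ∀ b, b ≠ 0 → ∃ k, Par (l k) b := by
  classical
  let _ : Membership P L := ⟨fun l p => J p l⟩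
  have := Fintype.ofFinite P
  have := Fintype.ofFinite L
  have offp : ∀ l, ∃ p, ¬ J p l := fun l => by
    obtain ⟨a, ha, -⟩ := meet l l
    obtain ⟨k, hk, hkl, -⟩ := thp a l l
    obtain ⟨x, hx, hxa, -⟩ := thl k a a
    exact ⟨x, fun h => (uniq hx hk h ha).elim hxa hkl⟩
  have offl : ∀ p, ∃ l, ¬ J p l := fun p => by
    obtain ⟨a, ha, -⟩ := join p p
    obtain ⟨k, hk, hkl, -⟩ := thl a p p
    obtain ⟨x, hx, hxa, -⟩ := thp k a a
    exact ⟨x, fun h => (uniq hx h hk ha).elim hkl hxa⟩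
  let _ : Configuration.ProjectivePlane P L :=
    { exists_point := offp
      exists_line := offl
      eq_or_eq := fun h1 h2 h3 h4 => uniq h1 h2 h3 h4
      mkPoint := fun {l k} _ => (meet l k).choose
      mkPoint_ax := fun {l k} _ => (meet l k).choose_spec
      mkLine := fun {p q} _ => (join p q).choose
      mkLine_ax := fun {p q} _ => (join p q).choose_spec
      exists_config := by
        obtain ⟨l2, h2, -⟩ := join p0 p0
        obtain ⟨l3, h3, n3, -⟩ := thp p0 l2 l2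
        obtain ⟨l4, h4, n4, n4'⟩ := thp p0 l2 l3
        obtain ⟨p1, h1, m1, -⟩ := thl l4 p0 p0
        obtain ⟨p3, h5, m3, -⟩ := thl l2 p0 p0
        obtain ⟨r, h6, m6, m7⟩ := thl l2 p0 p3
        obtain ⟨l1, h7, m8, -⟩ := thp r l2 l2
        exact ⟨p1, p0, p3, l1, l2, l3, fun h => (uniq h1 h4 h h2).elim m1 n4,
          fun h => (uniq h1 h4 h h3).elim m1 n4', fun h => (uniq h7 h h6 h2).elim m6 m8, h2, h3,
          fun h => (uniq h7 h h6 h5).elim m7 m8, h5, fun h => (uniq h h3 h5 h2).elim m3 n3⟩ }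
  have st : ∀ c p q, p ≠ c → q ≠ c → ∃ (σ : Perm P) (τ : Perm L),
      (∀ p l, J (σ p) (τ l) ↔ J p l) ∧ σ c = c ∧ σ p = q := fun c p q hp hq => by
    obtain ⟨l, h1, h2⟩ := join p q
    by_cases hc : J c l
    · obtain ⟨a, ha, hal, -⟩ := thp c l l
      obtain ⟨σ, τ, a1, a2, a3⟩ := mou c l a p q hc ha hal.symm h1 h2 hp hq
      exact ⟨σ, τ, a1, a3 c ha, a2⟩
    · obtain ⟨r, hr, r1, r2⟩ := thl l p q
      obtain ⟨a, ha, hb⟩ := join r c
      obtain ⟨σ, τ, a1, a2, a3⟩ := mou r l a p q hr ha (fun e => hc (e ▸ hb)) h1 h2 r1.symm r2.symm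
      exact ⟨σ, τ, a1, a3 c hb, a2⟩
  obtain ⟨F, _, _, φ, h1, h2⟩ := Cfsg.Agent.S3732.result (P := P) (L := L) (by
    intro p1 p2 q1 q2 hp hq
    obtain ⟨l, -, -⟩ := join p1 q1
    obtain ⟨r, -, r1, r2⟩ := thl l p1 q1
    obtain ⟨σ, τ, a1, -, a3⟩ := st r p1 q1 r1.symm r2.symm
    obtain ⟨σ', τ', b1, b2, b3⟩ := st q1 (σ p2) q2 (fun e => hp (σ.injective (a3.trans e.symm)))
      hq.symm
    exact ⟨σ' * σ, τ' * τ, fun p l => (b1 _ _).trans (a1 _ _), by simp [a3, b2], b3⟩)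
  choose Wl hW hW' using h1
  choose n hn hn' using fun l => exists_normal (Wl l) (hW l)
  have inc : ∀ x k, J x k ↔ n k ⬝ᵥ (φ x).rep = 0 := fun x k => by
    rw [← hn', ← Submodule.span_singleton_le_iff_mem, ← Projectivization.submodule_eq]
    exact hW' k x
  have sur : ∀ a, a ≠ 0 → ∃ x, Par (φ x).rep a := fun a ha => by
    refine ⟨φ.symm (Projectivization.mk F a ha), ?_⟩
    rw [φ.apply_symm_apply]
    obtain ⟨s, hs⟩ := (Projectivization.mk_eq_mk_iff F _ _ ha (Projectivization.rep_nonzero _)).1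
      (Projectivization.mk_rep (Projectivization.mk F a ha)).symm
    exact ⟨s, s.ne_zero, hs.symm⟩
  refine ⟨F, inferInstance, inferInstance, fun x => (φ x).rep, n,
    fun x => Projectivization.rep_nonzero _, hn, inc, fun x y h => ?_, fun k m h => ?_, sur,
    fun b hb => ?_⟩
  · obtain ⟨s, hs, e⟩ := h
    apply φ.injective
    rw [← Projectivization.mk_rep (φ x), ← Projectivization.mk_rep (φ y), eq_comm,
      Projectivization.mk_eq_mk_iff']
    exact ⟨s, e.symm⟩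
  · obtain ⟨x, hx, -⟩ := meet k k
    obtain ⟨y, hy, hxy, -⟩ := thl k x x
    have t : ∀ z, J z k → J z m := fun z hz =>
      (inc _ _).2 ((par_dot h (par_refl _)).1 ((inc _ _).1 hz))
    exact (uniq hy hx (t y hy) (t x hx)).resolve_left hxy
  · obtain ⟨V, hV, hV'⟩ := exists_plane hb
    obtain ⟨k, hk⟩ := h2 V hV
    refine ⟨k, par_of_ker (hn k) hb fun v hv => ?_⟩
    by_cases h0 : v = 0
    · simp [h0]
    obtain ⟨x, hx⟩ := sur v h0
    have h3 : J x k := (inc _ _).2 ((par_dot (par_refl _) hx).2 hv)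
    have h4 := (hk x).1 h3
    rw [Projectivization.submodule_eq, Submodule.span_singleton_le_iff_mem, hV'] at h4
    exact (par_dot (par_refl _) hx).1 h4

/-- Coordinates for the flags. -/
theorem coordR {R : Type u} [Finite R] (sl sp : Setoid R)
    (join : ∀ x y, ∃ u v, sp x u ∧ sl u v ∧ sp v y) (meet : ∀ x y, ∃ u v, sl x u ∧ sp u v ∧ sl v y)
    (uniq : ∀ x u v y, sp x u → sl u v → sp v y → sl y x → sp x y ∨ sl x u)
    (one : ∀ x y, sl x y → sp x y → x = y)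
    (thl : ∀ x, ∃ y z, y ≠ z ∧ x ≠ y ∧ x ≠ z ∧ sl x y ∧ sl x z)
    (thp : ∀ x, ∃ y z, y ≠ z ∧ x ≠ y ∧ x ≠ z ∧ sp x y ∧ sp x z)
    (mou : ∀ x x' y y', sp x x' → x ≠ x' → sl x y → x ≠ y → sl x y' → x ≠ y' →
      ∃ g : Perm R, (∀ a b, sl (g a) (g b) ↔ sl a b) ∧ (∀ a b, sp (g a) (g b) ↔ sp a b) ∧
        g y = y' ∧ ∀ z, sl x' z → g z = z)
    (x0 x3 : R) (o1 : ∀ z, sp z x0 → ¬ sl z x3) (o2 : ∀ z, sl z x0 → ¬ sp z x3) :
    ∃ (F : Type) (_ : Field F) (_ : Finite F) (p l : R → Fin 3 → F),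
      (∀ x, p x ≠ 0 ∧ l x ≠ 0 ∧ l x ⬝ᵥ p x = 0) ∧ (∀ x y, sp x y ↔ Par (p x) (p y)) ∧
      (∀ x y, sl x y ↔ Par (l x) (l y)) ∧
      (∀ a b : Fin 3 → F, a ≠ 0 → b ≠ 0 → b ⬝ᵥ a = 0 → ∃ x, Par (p x) a ∧ Par (l x) b) ∧
      (Par (p x0) ![1, 0, 0] ∧ Par (l x0) ![0, 0, 1]) ∧
      Par (p x3) ![0, 0, 1] ∧ Par (l x3) ![1, 0, 0] := by
  have th : ∀ (s t : Setoid R), (∀ x y, s x y → t x y → x = y) →
      (∀ x, ∃ y z, y ≠ z ∧ x ≠ y ∧ x ≠ z ∧ s x y ∧ s x z) → ∀ (l : Quotient s) (p q : Quotient t),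
      ∃ r, (∃ x, Quotient.mk t x = r ∧ Quotient.mk s x = l) ∧ r ≠ p ∧ r ≠ q := by
    intro s t one h l p q
    obtain ⟨x, rfl⟩ := l.exists_rep
    obtain ⟨y, z, n1, n2, n3, h1, h2⟩ := h x
    have m1 : Quotient.mk t y ≠ Quotient.mk t z := fun e =>
      n1 (one _ _ (s.trans (s.symm h1) h2) (Quotient.exact e))
    have m2 : Quotient.mk t x ≠ Quotient.mk t y := fun e => n2 (one _ _ h1 (Quotient.exact e))
    have m3 : Quotient.mk t x ≠ Quotient.mk t z := fun e => n3 (one _ _ h2 (Quotient.exact e))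
    by_contra hc
    push Not at hc
    have c1 := hc _ ⟨x, rfl, rfl⟩
    have c2 := hc _ ⟨y, rfl, (Quotient.sound h1).symm⟩
    have c3 := hc _ ⟨z, rfl, (Quotient.sound h2).symm⟩
    by_cases e1 : Quotient.mk t x = p
    · exact m1 ((c2 fun e => m2 (e1.trans e.symm)).trans (c3 fun e => m3 (e1.trans e.symm)).symm)
    by_cases e2 : Quotient.mk t y = p
    · exact m3 ((c1 e1).trans (c3 fun e => m1 (e2.trans e.symm)).symm)
    · exact m2 ((c1 e1).trans (c2 e2).symm)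
  obtain ⟨F, _, _, p, l, hp, hl, inc, ip, il, sp', sl'⟩ := coordPL (P := Quotient sp)
    (L := Quotient sl) (fun p l => ∃ x, Quotient.mk sp x = p ∧ Quotient.mk sl x = l)
    (fun p q => by
      obtain ⟨x, rfl⟩ := p.exists_rep
      obtain ⟨y, rfl⟩ := q.exists_rep
      obtain ⟨u, v, h1, h2, h3⟩ := join x y
      exact ⟨_, ⟨u, (Quotient.sound h1).symm, rfl⟩, v, Quotient.sound h3,
        (Quotient.sound h2).symm⟩)
    (fun p q => by
      obtain ⟨x, rfl⟩ := p.exists_rep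
      obtain ⟨y, rfl⟩ := q.exists_rep
      obtain ⟨u, v, h1, h2, h3⟩ := meet x y
      exact ⟨_, ⟨u, rfl, (Quotient.sound h1).symm⟩, v, (Quotient.sound h2).symm,
        Quotient.sound h3⟩)
    (by
      rintro _ _ _ _ ⟨u, rfl, rfl⟩ ⟨v, rfl, h1⟩ ⟨x, h2, rfl⟩ ⟨y, h3, h4⟩
      rcases uniq x u v y (Quotient.exact h2) (Quotient.exact h1.symm) (Quotient.exact h3.symm)
        (Quotient.exact h4) with h | h
      · exact Or.inl (h2.symm.trans ((Quotient.sound h).trans h3))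
      · exact Or.inr (Quotient.sound h).symm)
    (th sl sp one thl)
    (fun p l k => by
      obtain ⟨r, ⟨x, h1, h2⟩, h⟩ := th sp sl (fun x y a b => one x y b a) thp p l k
      exact ⟨r, ⟨x, h2, h1⟩, h⟩)
    (by
      rintro _ _ _ _ _ ⟨x, rfl, rfl⟩ ⟨x', h1, rfl⟩ n1 ⟨y, rfl, h2⟩ ⟨y', rfl, h3⟩ n2 n3
      obtain ⟨g, g1, g2, g3, g4⟩ := mou x x' y y' (Quotient.exact h1.symm)
        (fun e => n1 (e ▸ rfl)) (Quotient.exact h2.symm) (fun e => n2 (e ▸ rfl))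
        (Quotient.exact h3.symm) (fun e => n3 (e ▸ rfl))
      refine ⟨Quotient.congr g fun a b => (g2 a b).symm, Quotient.congr g fun a b => (g1 a b).symm,
        fun p l => ?_, congrArg (Quotient.mk sp) g3, ?_⟩
      · obtain ⟨a, rfl⟩ := p.exists_rep
        obtain ⟨b, rfl⟩ := l.exists_rep
        constructor
        · rintro ⟨z, z1, z2⟩
          obtain ⟨z, rfl⟩ := g.surjective z
          exact ⟨z, Quotient.sound ((g2 _ _).1 (Quotient.exact z1)),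
            Quotient.sound ((g1 _ _).1 (Quotient.exact z2))⟩
        · rintro ⟨z, z1, z2⟩
          exact ⟨g z, Quotient.sound ((g2 _ _).2 (Quotient.exact z1)),
            Quotient.sound ((g1 _ _).2 (Quotient.exact z2))⟩
      · rintro _ ⟨z, rfl, z2⟩
        exact congrArg (Quotient.mk sp) (g4 z (Quotient.exact z2.symm)))
    (Quotient.mk sp x0)
  obtain ⟨u, v, h1, h2, h3⟩ := meet x0 x3
  obtain ⟨T, S, hd, f1, f2, f3, f4⟩ := exists_frame (e0 := p ⟦x0⟧) (e1 := p ⟦u⟧) (e2 := p ⟦x3⟧)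
    (n0 := l ⟦x0⟧) (n3 := l ⟦x3⟧) (hp _) ((inc _ _).1 ⟨x0, rfl, rfl⟩)
    ((inc _ _).1 ⟨u, rfl, (Quotient.sound h1).symm⟩)
    (fun h => ((inc _ _).2 h).elim fun z hz => o2 z (Quotient.exact hz.2) (Quotient.exact hz.1))
    (fun h => ((inc _ _).2 h).elim fun z hz => o1 z (Quotient.exact hz.1) (Quotient.exact hz.2))
    ((inc _ _).1 ⟨v, (Quotient.sound h2).symm, Quotient.sound h3⟩) ((inc _ _).1 ⟨x3, rfl, rfl⟩)
  refine ⟨F, inferInstance, inferInstance, fun x => T (p ⟦x⟧), fun x => S (l ⟦x⟧),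
    fun x => ⟨by simpa using hp _, by simpa using hl _, (hd _ _).trans ((inc _ _).1 ⟨x, rfl, rfl⟩)⟩,
    fun x y => ⟨fun h => ?_, fun h => ?_⟩, fun x y => ⟨fun h => ?_, fun h => ?_⟩,
    fun a b ha hb h => ?_, ⟨f1, f2⟩, f3, f4⟩
  · show Par (T (p ⟦x⟧)) (T (p ⟦y⟧))
    rw [show Quotient.mk sp x = ⟦y⟧ from Quotient.sound h]
    exact par_refl _
  · exact Quotient.exact (ip _ _ (by simpa using par_map T.symm h))
  · show Par (S (l ⟦x⟧)) (S (l ⟦y⟧))
    rw [show Quotient.mk sl x = ⟦y⟧ from Quotient.sound h]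
    exact par_refl _
  · exact Quotient.exact (il _ _ (by simpa using par_map S.symm h))
  · obtain ⟨a, rfl⟩ := T.surjective a
    obtain ⟨b, rfl⟩ := S.surjective b
    obtain ⟨q, hq⟩ := sp' a (by simpa using ha)
    obtain ⟨k, hk⟩ := sl' b (by simpa using hb)
    obtain ⟨x, rfl, rfl⟩ := (inc q k).2 ((par_dot hk hq).2 ((hd _ _).symm.trans h))
    exact ⟨x, par_map T hq, par_map S hk⟩

section Bd

open Cfsg.Agent.H62.T3B Cfsg.Agent.H7.T3Cx

variable {I W : Type} [Group W] {X : Cox I W} {C : Type u} (B : Bld X C)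

/-- Lying in the same `J`-residue. -/
def rs (S : Set C) (J : Set I) : Setoid S where
  r x y := B.δ x y ∈ X.WJ J
  iseqv := ⟨fun x => mem_res B J x, fun h => res_symm B h, fun h h' => res_trans B h h'⟩

theorem lens {i j : I} (hm : X.m i j = 3) : X.len (X.s i * X.s j) = 2 ∧
    X.len (X.s i * (X.s j * X.s i)) = 3 :=
  ⟨by simpa [InvGen.altw] using len_altw X (i := i) (j := j) (n := 2) (by omega),
    by simpa [InvGen.altw] using len_altw X (i := i) (j := j) (n := 3) (by omega)⟩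

theorem adj_of {k : I} {x y : C} (h : B.δ x y ∈ X.WJ {k}) (n : x ≠ y) : B.δ x y = X.s k :=
  ((mem_WJ_single X k _).1 h).resolve_left fun e => n ((B.eq_one _ _).1 e)

theorem len_le_one {k : I} {x y : C} (h : B.δ x y ∈ X.WJ {k}) : X.len (B.δ x y) ≤ 1 := by
  rcases (mem_WJ_single X k _).1 h with e | e <;> rw [e]
  · simp
  · exact (len_s X k).le

theorem split3 [Finite W] {i j : I} (hm : X.m i j = 3) {w : W} (hw : w ∈ X.WJ {i, j}) :
    ∃ a ∈ X.WJ {j}, ∃ b ∈ X.WJ {i}, ∃ c ∈ X.WJ {j}, w = a * (b * c) := by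
  have hi : X.s i ∈ X.WJ {i} := s_mem X rfl
  have hj : X.s j ∈ X.WJ {j} := s_mem X rfl
  have br := wp_altw_m X i j
  rw [hm] at br
  obtain ⟨n, hn, h⟩ := exists_altw X hw
  rw [hm] at hn
  interval_cases n
  · exact ⟨1, one_mem _, 1, one_mem _, 1, one_mem _, by simpa [InvGen.altw] using h⟩
  · rcases h with h | h
    · exact ⟨1, one_mem _, _, hi, 1, one_mem _, by simpa [InvGen.altw] using h⟩
    · exact ⟨_, hj, 1, one_mem _, 1, one_mem _, by simpa [InvGen.altw] using h⟩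
  · rcases h with h | h
    · exact ⟨1, one_mem _, _, hi, _, hj, by simpa [InvGen.altw] using h⟩
    · exact ⟨_, hj, _, hi, 1, one_mem _, by simpa [InvGen.altw] using h⟩
  · rw [br, or_self] at h
    exact ⟨_, hj, _, hi, _, hj, by simpa [InvGen.altw] using h⟩

theorem conn [Finite W] {i j : I} (hm : X.m i j = 3) {c : C} (x y : B.res {i, j} c) :
    ∃ u v, rs B _ {j} x u ∧ rs B _ {i} u v ∧ rs B _ {j} v y := by
  obtain ⟨a, ha, b, hb, d, hd, e⟩ := split3 hm (res_trans B (res_symm B x.2) y.2)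
  obtain ⟨u, u1, u2⟩ := between B e
  obtain ⟨v, v1, v2⟩ := between B u2
  have hu : u ∈ B.res {i, j} c :=
    res_trans B x.2 (show B.δ _ _ ∈ _ from u1 ▸ WJ_mono X (by simp) ha)
  have hv : v ∈ B.res {i, j} c :=
    res_trans B hu (show B.δ _ _ ∈ _ from v1 ▸ WJ_mono X (by simp) hb)
  exact ⟨⟨u, hu⟩, ⟨v, hv⟩, show B.δ _ _ ∈ _ from u1 ▸ ha, show B.δ _ _ ∈ _ from v1 ▸ hb,
    show B.δ _ _ ∈ _ from v2 ▸ hd⟩

theorem thk {K : Set I} {k : I} (hk : k ∈ K) {c : C} (x : B.res K c) :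
    ∃ y z, y ≠ z ∧ x ≠ y ∧ x ≠ z ∧ rs B _ {k} x y ∧ rs B _ {k} x z := by
  obtain ⟨y, z, n, h1, h2⟩ := B.thick k x
  have ne : ∀ t : B.res K c, B.δ x t = X.s k → x ≠ t := fun t h e => by
    rw [← e, self] at h
    exact X.exch.s_ne_one k h.symm
  have mem : ∀ (J : Set I) t, k ∈ J → B.δ x t = X.s k → t ∈ B.res J x := fun J t hJ h => by
    show B.δ _ _ ∈ X.WJ _
    rw [h]
    exact s_mem X hJ
  exact ⟨⟨y, res_trans B x.2 (mem _ _ hk h1)⟩, ⟨z, res_trans B x.2 (mem _ _ hk h2)⟩,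
    fun e => n (congrArg Subtype.val e), ne _ h1, ne _ h2, mem {k} y rfl h1, mem {k} z rfl h2⟩

theorem apt_adj [Finite W] {x x' : C} {j : I} (h : B.δ x x' = X.s j) :
    ∃ σ : W → C, B.Apt σ ∧ σ 1 = x ∧ σ (X.s j) = x' := by
  obtain ⟨d, hd⟩ := exists_dist B x' (X.s j * X.w0)
  have hl : X.len (X.s j) + X.len ((X.s j)⁻¹ * X.w0) = X.len X.w0 :=
    X.exch.len_add_isLongest (X.wJ_spec Set.univ) (by rw [Set.image_univ, X.closure_eq]; trivial)
  rw [InvGen.inv_s] at hl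
  have e : B.δ x d = X.w0 := by
    rw [trans' B h (by rw [hd, InvGen.s_mul_s_cancel_left, hl]), hd, InvGen.s_mul_s_cancel_left]
  obtain ⟨σ, hσ, h1, h2⟩ := exists_apt B e
  refine ⟨σ, hσ, h1, between_unique B (c := x) (d := d) ?_ ?_ ?_⟩
  · rw [h, ← h1, hσ, inv_one, one_mul]
  · rw [hd, ← h2, hσ, InvGen.inv_s]
  · rw [e, ← h1, ← h2, hσ, hσ, inv_one, one_mul, InvGen.inv_s, hl]

theorem elat [Finite W] {i j : I} (hm : X.m i j = 3) {c : C} (hM : B.Mou {i, j} c)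
    (x x' y y' : B.res {i, j} c) (h : B.δ x x' = X.s j) (h1 : B.δ x y = X.s i)
    (h2 : B.δ x y' = X.s i) :
    ∃ g : Perm (B.res {i, j} c), (∀ a b, B.δ (g a) (g b) = B.δ a b) ∧ g y = y' ∧
      ∀ z : B.res {i, j} c, B.δ x' z ∈ X.WJ {i} → g z = z := by
  obtain ⟨σ, hσ, s1, s2⟩ := apt_adj B h
  obtain ⟨g, ⟨⟨g1, g1'⟩, g2, g3⟩, g4⟩ := hM σ hσ (s1 ▸ x.2) 1 (one_mem _) i (by simp) y (s1 ▸ h1) y'
    (s1 ▸ h2)
  rw [s1, res_eq B x.2] at g1 g1'
  have hg : ∀ a, g a ∈ B.res {i, j} c ↔ a ∈ B.res {i, j} c := fun a =>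
    ⟨fun ha => by_contra fun hn => hn (g1 a hn ▸ ha), fun ha => by_contra fun hn =>
      hn ((g.injective (g1 _ hn)).symm ▸ ha)⟩
  have r1 : X.s j ∈ X.rt 1 i := by
    show X.len _ < X.len _
    rw [inv_one, one_mul, len_s, (lens hm).1]; omega
  have r2 : X.s j * X.s i ∈ X.rt 1 i := by
    show X.len _ < X.len _
    rw [inv_one, one_mul, (lens hm).2, (lens ((m_symm X i j).trans hm)).1]; omega
  refine ⟨g.subtypePerm hg, fun a b => g1' _ a.2 _ b.2, Subtype.ext g4, fun z hz => Subtype.ext ?_⟩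
  have hj : X.s j ∈ X.WJ {i, j} := s_mem X (by simp)
  rcases (mem_WJ_single X i _).1 hz with e | e
  · have e' : σ (X.s j) = z := s2.trans ((B.eq_one _ _).1 e)
    exact (congrArg g e'.symm).trans ((g2 _ hj r1).trans e')
  · exact g3 _ hj i (by simp) r1 r2 z (s2 ▸ e)

theorem far {i j : I} {x y z : C} (h : X.len (B.δ x y) = 3) (h1 : B.δ z x ∈ X.WJ {i})
    (h2 : B.δ z y ∈ X.WJ {j}) : False := by
  have := triangle B x z y
  have := len_le_one B (res_symm B h1)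
  have := len_le_one B h2
  omega

end Bd

open Cfsg.Agent.H62.T3B Cfsg.Agent.H7.T3Cx in
/-- **PCE** -/
theorem pceStmt : PceStmt.{u} := by
  intro I W _ _ X C _ B σ i j hσ hm hM
  classical
  have hm' : X.m j i = 3 := (m_symm X i j).trans hm
  have hij : i ≠ j := by
    rintro rfl
    simp [Cox.m, X.s_mul_s] at hm
  have hi : X.s i ∈ X.WJ {i, j} := s_mem X (by simp)
  have hj : X.s j ∈ X.WJ {i, j} := s_mem X (by simp)
  have d3 : B.δ (σ 1) (σ (X.s i * X.s j * X.s i)) = X.s i * X.s j * X.s i := by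
    rw [hσ, inv_one, one_mul]
  have l3 : X.len (B.δ (σ 1) (σ (X.s i * X.s j * X.s i))) = 3 := by
    rw [d3, mul_assoc, (lens hm).2]
  have m3 : σ (X.s i * X.s j * X.s i) ∈ B.res {i, j} (σ 1) := by
    show B.δ _ _ ∈ X.WJ _
    rw [d3]
    exact mul_mem (mul_mem hi hj) hi
  obtain ⟨F, _, _, p, l, h1, h2, h3, h4, h5, h6⟩ := coordR (rs B (B.res {i, j} (σ 1)) {i})
    (rs B (B.res {i, j} (σ 1)) {j}) (conn B hm)
    (by rw [Set.pair_comm]; exact conn B hm')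
    (fun x u v y a b c d => by
      by_contra hn
      push Not at hn
      have n1 : (x : C) ≠ u := fun e => hn.2 (Subtype.ext e ▸ (rs B _ {i}).refl x)
      have n2 : (u : C) ≠ v := fun e =>
        hn.1 ((rs B _ {j}).trans a (Subtype.ext e ▸ c))
      have n3 : (v : C) ≠ y := fun e =>
        hn.2 ((rs B _ {i}).symm ((rs B _ {i}).trans b (Subtype.ext e ▸ d)))
      have e1 := adj_of B a n1
      have e2 := adj_of B b n2
      have e3 := adj_of B c n3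
      have e4 : B.δ u y = X.s i * X.s j := by
        rw [B.step_up i _ _ _ e2 (by rw [e3, len_s, (lens hm).1]; omega), e3]
      have e5 : B.δ x y = X.s j * (X.s i * X.s j) := by
        rw [B.step_up j _ _ _ e1 (by rw [e4, (lens hm).1, (lens hm').2]; omega), e4]
      have := len_le_one B (res_symm B d)
      rw [e5, (lens hm').2] at this
      omega)
    (fun x y a b => by
      have : B.δ x y ∈ X.WJ {i} ⊓ X.WJ {j} := ⟨a, b⟩
      rw [inf_WJ, Set.singleton_inter_of_notMem (by simpa using hij)] at this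
      exact Subtype.ext ((B.eq_one _ _).1 (by simpa [Cox.WJ] using this)))
    (thk B (by simp)) (thk B (by simp))
    (fun x x' y y' a n b n' c n'' => by
      obtain ⟨g, g1, g2, g3⟩ := elat B hm hM x x' y y' (adj_of B a fun e => n (Subtype.ext e))
        (adj_of B b fun e => n' (Subtype.ext e)) (adj_of B c fun e => n'' (Subtype.ext e))
      refine ⟨g, fun a b => ?_, fun a b => ?_, g2, g3⟩
      · show B.δ _ _ ∈ X.WJ _ ↔ B.δ _ _ ∈ X.WJ _
        rw [g1]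
      · show B.δ _ _ ∈ X.WJ _ ↔ B.δ _ _ ∈ X.WJ _
        rw [g1])
    ⟨σ 1, mem_res B _ _⟩ ⟨_, m3⟩ (fun z a b => far B l3 a b) (fun z a b => far B l3 a b)
  let p' : C → Fin 3 → F := fun x => if h : x ∈ B.res {i, j} (σ 1) then p ⟨x, h⟩ else 0
  let l' : C → Fin 3 → F := fun x => if h : x ∈ B.res {i, j} (σ 1) then l ⟨x, h⟩ else 0
  have ep : ∀ x h, p' x = p ⟨x, h⟩ := fun x h => dif_pos h
  have el : ∀ x h, l' x = l ⟨x, h⟩ := fun x h => dif_pos h
  have m0 := mem_res B {i, j} (σ 1)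
  refine ⟨F, inferInstance, inferInstance, fun x => p' x 0 / p' x 1, fun x => -(l' x 2 / l' x 1),
    hm, p', l', fun x hx => ?_, fun x hx y hy => ?_, fun x hx y hy => ?_, fun a b ha hb h => ?_,
    ?_, ?_, fun x hx => ?_, fun x hx => ?_⟩
  · rw [ep x hx, el x hx]; exact h1 _
  · rw [ep x hx, ep y hy]; exact h2 ⟨x, hx⟩ ⟨y, hy⟩
  · rw [el x hx, el y hy]; exact h3 ⟨x, hx⟩ ⟨y, hy⟩
  · obtain ⟨x, hx⟩ := h4 a b ha hb h
    exact ⟨x, x.2, by rw [ep _ x.2, el _ x.2]; exact hx⟩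
  · rw [ep _ m0, el _ m0]; exact h5
  · rw [ep _ m3, el _ m3]; exact h6
  · have hx' : B.δ (σ 1) x = X.s i := hx
    have hr : x ∈ B.res {i, j} (σ 1) := by
      show B.δ _ _ ∈ X.WJ _
      rw [hx']; exact hi
    simp only [ep x hr]
    refine par_ki (h1 _).1 (par_trans (par_symm ((h3 ⟨_, m0⟩ ⟨x, hr⟩).1 ?_)) h5.2) (h1 _).2.2
      fun h => ?_
    · show B.δ _ _ ∈ X.WJ _
      rw [hx']; exact s_mem X rfl
    · have : B.δ (σ 1) x ∈ X.WJ {j} := (h2 ⟨_, m0⟩ ⟨x, hr⟩).2 (par_trans h5.1 h)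
      rw [hx', s_mem_iff] at this
      exact hij this
  · have hx' : B.δ (σ 1) x = X.s j := hx
    have hr : x ∈ B.res {i, j} (σ 1) := by
      show B.δ _ _ ∈ X.WJ _
      rw [hx']; exact hj
    simp only [el x hr]
    refine par_kj (h1 _).2.1 (par_trans (par_symm ((h2 ⟨_, m0⟩ ⟨x, hr⟩).1 ?_)) h5.1) (h1 _).2.2
      fun h => ?_
    · show B.δ _ _ ∈ X.WJ _
      rw [hx']; exact s_mem X rfl
    · have : B.δ (σ 1) x ∈ X.WJ {i} := (h3 ⟨_, m0⟩ ⟨x, hr⟩).2 (par_trans h5.2 h)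
      rw [hx', s_mem_iff] at this
      exact hij this.symm

end Cfsg.Agent.H44.T3Pce
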