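import Mathlib
import Cfsg.Agent.H17.KnDef2
import Cfsg.Agent.H64.KnMod3b

/-! The extraspecial subgroup of order 128 is characteristic in the unitriangular group. -/

set_option autoImplicit false
set_option maxRecDepth 100000
set_option synthInstance.maxSize 2000

namespace Cfsg.Agent.H44.KnQch

open Cfsg.Agent.H17.Kn Cfsg.Agent.H64.KnG

universe u

/-- The entries next to the diagonal vanish. -/
def G2 (u : N2) : Prop := en u 0 1 = 0 ∧ en u 1 2 = 0 ∧ en u 2 3 = 0 ∧ en u 3 4 = 0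

/-- The entries of the first two diagonals vanish. -/
def G3 (u : N2) : Prop := G2 u ∧ en u 0 2 = 0 ∧ en u 1 3 = 0 ∧ en u 2 4 = 0

theorem fin (a b c d e f g h k l : ZMod 2)
    (h1 : T a b c d e f g h k l * T a b c d e f g h k l = 1) (h2 : a ≠ 0 ∨ l ≠ 0)
    (h3 : T a b c d e f g h k l *
      (T 0 0 0 0 1 0 0 0 0 1 * T a b c d e f g h k l * T 0 0 0 0 1 0 0 0 0 1) =
      T 0 0 0 0 1 0 0 0 0 1 * T a b c d e f g h k l * T 0 0 0 0 1 0 0 0 0 1 * T a b c d e f g h k l)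
    (h4 : T a b c d e f g h k l *
      (T 1 0 0 0 0 0 0 1 0 0 * T a b c d e f g h k l * T 1 0 0 0 0 0 0 1 0 0) =
      T 1 0 0 0 0 0 0 1 0 0 * T a b c d e f g h k l * T 1 0 0 0 0 0 0 1 0 0 * T a b c d e f g h k l) :
    e = 0 ∧ f = 0 ∧ h = 0 := by
  rw [← T_one] at h1
  simp only [T_mul, T_inj, mul_zero, zero_mul, add_zero, zero_add, mul_one, one_mul] at h1 h3 h4
  revert a b c d e f g h k l
  decide +kernel

section
variable (m1 : Mod1)
include m1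

theorem g2 {u v c : N2} (hu : u ∈ T0) (hv : v ∈ T0) (hc : c ∈ T0) (e : u * v = c * (v * u)) :
    G2 c ∧ (G2 u → G3 c) := by
  have h := ((act_U m1 hu).mul (act_U m1 hv)).unique
    (e ▸ (act_U m1 hc).mul ((act_U m1 hv).mul (act_U m1 hu)))
  simp only [U, T_mul, T_inj] at h
  obtain ⟨h1, h2, -, -, h5, h6, -, h8, h9, h0⟩ := h
  have k : G2 c := ⟨by linear_combination -h1, by linear_combination -h5, by linear_combination -h8,
    by linear_combination -h0⟩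
  refine ⟨k, fun ⟨a1, a2, a3, a4⟩ => ⟨k, ?_⟩⟩
  obtain ⟨k1, k2, k3, -⟩ := k
  simp only [a1, a2, a3, a4, k1, k2, k3] at h2 h6 h9
  exact ⟨by linear_combination -h2, by linear_combination -h6, by linear_combination -h9⟩

theorem comm3 {u v : N2} (hu : u ∈ T0) (hv : v ∈ T0) (h : G3 v) (a : en u 0 1 = 0) (l : en u 3 4 = 0) :
    u * v = v * u := by
  refine ((act_U m1 hu).mul (act_U m1 hv)).eq ?_
  obtain ⟨⟨a1, a2, a3, a4⟩, a5, a6, a7⟩ := h
  convert (act_U m1 hv).mul (act_U m1 hu) using 1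
  simp only [U, T_mul, T_inj, a, l, a1, a2, a3, a4, a5, a6, a7]
  simp [add_comm]

theorem memQ {u v : N2} (hu : u ∈ T0) (hv : v ∈ T0) (h : G3 v) (nc : u * v ≠ v * u) (u2 : u * u = 1)
    (cj : ∀ w ∈ T0, Commute u (w * u * w⁻¹)) : u ∈ QQ := by
  have au := act_U m1 hu
  have key : ∀ W : M5, U W * U W = 1 →
      U (en u) * (U W * U (en u) * U W) = U W * U (en u) * U W * U (en u) := fun W e => by
    have aw := act_ut W
    have e1 : ut W * ut W = 1 := (aw.mul aw).eq (e ▸ act_one)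
    have e2 := (cj _ (m1.utm W)).eq
    rw [inv_eq_of_mul_eq_one_right e1] at e2
    exact (au.mul ((aw.mul au).mul aw)).unique (e2 ▸ ((aw.mul au).mul aw).mul au)
  obtain ⟨k1, k2, k3⟩ := fin _ _ _ _ _ _ _ _ _ _ ((au.mul au).unique (u2 ▸ act_one))
    (by
      by_contra! hh
      exact nc (comm3 m1 hu hv h hh.1 hh.2))
    (key (T 0 0 0 0 1 0 0 0 0 1) (by decide)) (key (T 1 0 0 0 0 0 0 1 0 0) (by decide))
  have q : ∀ c, xc c 0 4 ∈ QQ ∧ xc c 1 4 ∈ QQ ∧ xc c 2 4 ∈ QQ ∧ xc c 3 4 ∈ QQ ∧ xc c 0 3 ∈ QQ ∧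
      xc c 0 2 ∈ QQ ∧ xc c 0 1 ∈ QQ := by decide +kernel
  have z : ∀ i j, xc 0 i j = 1 := fun _ _ => rfl
  rw [m1.nf u hu, ut, k1, k2, k3, z, z, z, mul_one, mul_one, mul_one]
  exact mul_mem (mul_mem (mul_mem (mul_mem (mul_mem (mul_mem (q _).1 (q _).2.1) (q _).2.2.1)
    (q _).2.2.2.1) (q _).2.2.2.2.1) (q _).2.2.2.2.2.1) (q _).2.2.2.2.2.2

end

theorem qch' (m1 : Mod1) (m2 : Mod2) : QchStmt := by
  intro α hα
  have em : Em α T0 := ⟨hα.mul, hα.inj⟩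
  have sur : ∀ w ∈ T0, ∃ v ∈ T0, α v = w := fun w hw =>
    ((Set.toFinite (T0 : Set N2)).injOn_iff_bijOn_of_mapsTo hα.mem).1 hα.inj |>.surjOn hw
  have xm : ∀ i j : Fin 5, i < j → xe i j ∈ T0 := by decide +kernel
  have cm : ∀ {u v c}, u ∈ T0 → v ∈ T0 → c ∈ T0 → u * v = c * (v * u) →
      G2 (α c) ∧ (G2 (α u) → G3 (α c)) := fun hu hv hc e =>
    g2 m1 (hα.mem _ hu) (hα.mem _ hv) (hα.mem _ hc) (by
      rw [← hα.mul _ hu _ hv, e, hα.mul _ hc _ (mul_mem hv hu), hα.mul _ hv _ hu])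
  have g13 := (cm (xm 1 2 (by decide)) (xm 2 3 (by decide)) (xm 1 3 (by decide)) (by decide +kernel)).1
  have g14 := (cm (xm 1 3 (by decide)) (xm 3 4 (by decide)) (xm 1 4 (by decide)) (by decide +kernel)).2 g13
  have g03 := (cm (xm 1 3 (by decide)) (xm 0 1 (by decide)) (xm 0 3 (by decide)) (by decide +kernel)).2 g13
  have key : ∀ {u v}, u ∈ T0 → v ∈ T0 → G3 (α v) → u * v ≠ v * u → u * u = 1 →
      (∀ w ∈ T0, Commute u (w * u * w⁻¹)) → α u ∈ QQ := fun {u v} hu hv h nc u2 cj =>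
    memQ m1 (hα.mem _ hu) (hα.mem _ hv) h
      (fun e => nc (hα.inj _ (mul_mem hu hv) _ (mul_mem hv hu) (by
        rw [hα.mul _ hu _ hv, hα.mul _ hv _ hu, e])))
      (by rw [← hα.mul _ hu _ hu, u2, em.one]) fun w hw => by
      obtain ⟨w, hw', rfl⟩ := sur w hw
      have hc := mul_mem (mul_mem hw' hu) (inv_mem hw')
      have e : α w * α u * (α w)⁻¹ = α (w * u * w⁻¹) := em.self hw' hu
      rw [e, commute_iff_eq, ← hα.mul _ hu _ hc, ← hα.mul _ hc _ hu, (cj w hw').eq]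
  have p01 : xe 0 1 ∈ AP := by decide +kernel
  have a34 : xe 3 4 ∈ AA := by decide +kernel
  have q01 := key (xm 0 1 (by decide)) (xm 1 4 (by decide)) g14 (by decide +kernel) (by decide +kernel)
    fun w hw => m2.ab.1 _ p01.2 _ (((m2.nrm w).2.2.2.1 hw.1).2 _ p01).2
  have q34 := key (xm 3 4 (by decide)) (xm 0 3 (by decide)) g03 (by decide +kernel) (by decide +kernel)
    fun w hw => m2.ab.2.2.1 _ a34 _ (((m2.nrm w).2.2.2.1 hw.1).1 _ a34)
  let K : Subgroup N2 :=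
    { carrier := {u | u ∈ T0 ∧ α u ∈ QQ}
      one_mem' := ⟨one_mem _, by rw [em.one]; exact one_mem _⟩
      mul_mem' := fun {a b} ha hb => ⟨mul_mem ha.1 hb.1, hα.mul _ ha.1 _ hb.1 ▸ mul_mem ha.2 hb.2⟩
      inv_mem' := fun {a} ha => ⟨inv_mem ha.1, em.inv ha.1 ▸ inv_mem ha.2⟩ }
  have nK : ∀ {u w c}, u ∈ K → w ∈ T0 → c = u * (w * u * w⁻¹) → c ∈ K := fun {u w c} hu hw e => by
    have e1 : α w * α u * (α w)⁻¹ = α (w * u * w⁻¹) := em.self hw hu.1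
    refine e ▸ mul_mem hu ⟨mul_mem (mul_mem hw hu.1) (inv_mem hw), e1 ▸ ?_⟩
    exact ((m2.nrm _).2.2.2.2.1 (m2.le.2.2.2.2.2.2.2.2.2.1 (hα.mem _ hw).1)).1 _ hu.2
  have k01 : xe 0 1 ∈ K := ⟨xm 0 1 (by decide), q01⟩
  have k34 : xe 3 4 ∈ K := ⟨xm 3 4 (by decide), q34⟩
  have k02 : xe 0 2 ∈ K := nK k01 (xm 1 2 (by decide)) (by decide +kernel)
  have k03 : xe 0 3 ∈ K := nK k02 (xm 2 3 (by decide)) (by decide +kernel)
  have k04 : xe 0 4 ∈ K := nK k03 (xm 3 4 (by decide)) (by decide +kernel)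
  have k24 : xe 2 4 ∈ K := nK k34 (xm 2 3 (by decide)) (by decide +kernel)
  have k14 : xe 1 4 ∈ K := nK k24 (xm 1 2 (by decide)) (by decide +kernel)
  intro u hu
  obtain ⟨a, ha, b, hb, rfl⟩ := m2.pQQ u hu
  refine (mul_mem (m2.gAA K (fun i => ?_) ha) (m2.gAP K (fun j => ?_) hb)).2
  · fin_cases i
    exacts [k04, k14, k24, k34, one_mem K]
  · fin_cases j
    exacts [one_mem K, k01, k02, k03, k04]

theorem qch (hB : Base.{u}) : QchStmt := qch' hB.m1 hB.m2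

end Cfsg.Agent.H44.KnQch
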