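import Mathlib
import Cfsg.Agent.H17.KnDefs
import Cfsg.Agent.S2119

/-! Overgroups of the alternating groups of degree 16 to 19. -/

set_option autoImplicit false

namespace Cfsg.Agent.H44.KnR4a

open Equiv Subgroup Cfsg.Agent.H17.Kn
open scoped Pointwise

universe u

theorem exists_swap {A : Type u} [Group A] [Finite A] (hA : IsPGroup 2 A) {n : ℕ}
    (hn : ¬ 2 ∣ n.choose 2) (θ : A →* Perm (Fin n)) :
    ∃ a b : Fin n, a ≠ b ∧ ∀ g, θ g * swap a b = swap a b * θ g := by
  let _ : MulAction A {s : Finset (Fin n) // s.card = 2} :=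
    { smul := fun g s => ⟨θ g • s.1, by rw [Finset.card_smul_finset, s.2]⟩
      one_smul := fun s => Subtype.ext (by
        show θ 1 • s.1 = s.1
        rw [map_one, one_smul])
      mul_smul := fun a b s => Subtype.ext (by
        show θ (a * b) • s.1 = θ a • θ b • s.1
        rw [map_mul, mul_smul]) }
  obtain ⟨⟨s, hs⟩, h⟩ := hA.nonempty_fixed_point_of_prime_not_dvd_card
    {s : Finset (Fin n) // s.card = 2} (by
      rwa [Nat.card_eq_fintype_card, Fintype.card_finset_len, Fintype.card_fin])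
  obtain ⟨a, b, hab, rfl⟩ := Finset.card_eq_two.1 hs
  refine ⟨a, b, hab, fun g => ?_⟩
  have h1 : θ g • ({a, b} : Finset (Fin n)) = {a, b} := congrArg Subtype.val (h g)
  have ha : θ g a ∈ ({a, b} : Finset (Fin n)) := h1 ▸ Finset.smul_mem_smul_finset (by simp)
  have hb : θ g b ∈ ({a, b} : Finset (Fin n)) := h1 ▸ Finset.smul_mem_smul_finset (by simp)
  have hne : θ g a ≠ θ g b := (θ g).injective.ne hab
  rw [mul_swap_eq_swap_mul]
  simp only [Finset.mem_insert, Finset.mem_singleton] at ha hb
  rcases ha with ha | ha <;> rcases hb with hb | hb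
  · exact absurd (ha.trans hb.symm) hne
  · rw [ha, hb]
  · rw [ha, hb, swap_comm]
  · exact absurd (ha.trans hb.symm) hne

theorem r4a : R4aStmt.{u} := by
  intro G _ _ X A n hX hC hA hS h16 h19 ⟨e⟩
  have bij := S2119.result n (by omega) (by omega)
  let c := MulEquiv.ofBijective _ bij
  let θ : G →* Perm (Fin n) := c.symm.toMonoidHom.comp
    ((MulAut.congr e).toMonoidHom.comp (MulAut.conjNormal : G →* MulAut X))
  have hθ : ∀ g, (MulAut.conjNormal (θ g) : MulAut (alternatingGroup (Fin n))) =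
      MulAut.congr e (MulAut.conjNormal g) := fun g => c.apply_symm_apply _
  have inj : Function.Injective θ := (injective_iff_map_eq_one θ).2 fun g hg => by
    have h1 := hθ g
    rw [hg, map_one, eq_comm, MulEquiv.map_eq_one_iff] at h1
    rw [← mem_bot, ← hC]
    intro x hx
    have h2 := congrArg (fun f : MulAut X => (f ⟨x, hx⟩ : G)) h1
    simp only [MulAut.conjNormal_apply, MulAut.one_apply] at h2
    exact (mul_inv_eq_iff_eq_mul.1 h2).symm
  have hx : ∀ x : X, θ x = e x := fun x => bij.1 (by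
    rw [hθ]
    refine MulEquiv.ext fun y => Subtype.ext ?_
    obtain ⟨y, rfl⟩ := e.surjective y
    have : MulAut.conjNormal (x : G) y = x * y * x⁻¹ := Subtype.ext rfl
    simp [this])
  have le : alternatingGroup (Fin n) ≤ θ.range := fun p hp =>
    ⟨e.symm ⟨p, hp⟩, by rw [hx, e.apply_symm_apply]⟩
  have : Nontrivial (Fin n) := Fin.nontrivial_iff_two_le.2 (by omega)
  have h2 := index_dvd_of_le le
  rw [alternatingGroup.index_eq_two] at h2
  rcases (Nat.dvd_prime Nat.prime_two).1 h2 with h3 | h3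
  · have sur : Function.Surjective θ := MonoidHom.range_eq_top.1 (index_eq_one.1 h3)
    refine Or.inr ⟨?_, ⟨MulEquiv.ofBijective θ ⟨inj, sur⟩⟩⟩
    by_contra hn
    obtain ⟨a, b, hab, h⟩ := exists_swap hS.grp (n := n) (by
      rcases (by omega : n = 18 ∨ n = 19) with rfl | rfl <;> decide) (θ.comp A.subtype)
    obtain ⟨t, ht⟩ := sur (swap a b)
    obtain ⟨k, -, hk⟩ := hS.exists_conj (t := t) (fun y hy => inj (by
      rw [map_mul, map_mul, ht]; exact h ⟨y, hy⟩)) (n := 1) (inj (by
      rw [map_pow, ht, map_one, pow_one, pow_two, swap_mul_self]))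
    have h4 := (e ⟨_, hA hk⟩).2
    rw [← hx, Perm.mem_alternatingGroup] at h4
    simp [ht, Perm.sign_swap hab] at h4
  · exact Or.inl ⟨(MonoidHom.ofInjective inj).trans
      (MulEquiv.subgroupCongr (Perm.eq_alternatingGroup_of_index_eq_two h3))⟩

end Cfsg.Agent.H44.KnR4a
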