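import Cfsg.Agent.H44.AsP

/-!
# The root data of `G₂(4)`: the parabolic facts
-/

set_option autoImplicit false
set_option maxRecDepth 100000
set_option synthInstance.maxSize 2000

namespace Cfsg.Agent.H44.AP

open Subgroup H28 H42.AS Function

universe u

/-- The action of `x_a(t)` on `Q_A / V`. -/
def bA (t : F4) (s : Q4) : Q4 := (s.1, s.2.1 + t * s.1, s.2.2.1 + t ^ 2 * s.1,
  s.2.2.2 + t ^ 3 * s.1 + t ^ 2 * s.2.1 + t * s.2.2.1)
/-- The action of `n_a`. -/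
def bN (s : Q4) : Q4 := (s.2.2.2, s.2.2.1, s.2.1, s.1)
/-- The action of `h_a`. -/
def bH (s : Q4) : Q4 := (s.1, om ^ 2 * s.2.1, om * s.2.2.1, s.2.2.2)
/-- The action of `L`. -/
def bL : LI → Q4 → Q4
  | (t, i, none) => bA t ∘ bH^[i]
  | (t, i, some u) => ((bA t ∘ bH^[i]) ∘ bN) ∘ bA u
/-- The action of `y5`. -/
def bY : Q4 → Q4 := bN ∘ bA om
/-- A vector with a regular orbit. -/
def v0 : Q4 := (0, 0, 1, 0)
/-- The commutator form. -/
def β (a s : Q4) : F4 := a.2.2.2 * s.1 + a.2.2.1 * s.2.1 + s.2.2.2 * a.1 + s.2.2.1 * a.2.1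

theorem reg : ∀ j j', bL j v0 = bL j' v0 → j = j' := by decide +kernel
theorem reg1 : ∀ j, bL j v0 = v0 → j = (0, 0, none) := by decide +kernel
theorem β_surj : ∀ a : Q4, a ≠ 0 → ∀ t, ∃ s, β a s = t := fun a ha t => by
  obtain ⟨a1, a2, a3, a4⟩ := a
  by_cases h1 : a1 = 0
  · by_cases h2 : a2 = 0
    · by_cases h3 : a3 = 0
      · have h4 : a4 ≠ 0 := fun h4 => ha (by rw [h1, h2, h3, h4]; rfl)
        exact ⟨(t / a4, 0, 0, 0), by simp [β]; field_simp⟩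
      · exact ⟨(0, t / a3, 0, 0), by simp [β]; field_simp⟩
    · exact ⟨(0, 0, t / a2, 0), by simp [β]; field_simp⟩
  · exact ⟨(0, 0, 0, t / a1), by simp [β]; field_simp⟩
theorem odd1 : ∀ j, j ≠ (0, 0, none) →
    (∃ c, ((bL j ∘ bA c) ∘ (bL j ∘ bA c))^[15] v0 = v0 ∧ ((bL j ∘ bA c) ∘ (bL j ∘ bA c)) v0 ≠ v0) ∨
      ((bL j ∘ bN) ∘ (bL j ∘ bN))^[15] v0 = v0 ∧ ((bL j ∘ bN) ∘ (bL j ∘ bN)) v0 ≠ v0 := by
  decide +kernel
theorem fy0 : ∀ a b c d : F4, ((a, b, c, d) : Q4) ≠ 0 →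
    ∃ i < 5, β (a, b, c, d) (bY^[i] (a, b, c, d)) ≠ 0 := by decide +kernel
theorem cy0 : ∀ a b c d : F4, (bY (a, b, c, d) + bY^[3] (a, b, c, d)) +
    bY (bY (a, b, c, d) + bY^[3] (a, b, c, d)) = (a, b, c, d) := by decide +kernel
theorem cy1 : ∀ j, bL j (bY v0) = bY (bL j v0) → ∃ i < 5, bL j v0 = bY^[i] v0 := by decide +kernel
theorem cy2 : ∀ a b c d : F4, bY (a, b, c, d) = (a, b, c, d) → ((a, b, c, d) : Q4) = 0 := by
  decide +kernel
theorem nof : ∀ j, bL j (1, 0, 0, 0) + (1, 0, 0, 0) = 0 → bL j (0, 0, 0, 1) + (0, 0, 0, 1) = 0 →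
    ¬ ∀ t : F4, bL j (0, t, t ^ 2, 0) + (0, t ^ 2, t, 0) = 0 := by decide +kernel
theorem cps0 : ∀ j, bL j (1, 0, 0, 0) = (1, 0, 0, 0) → bL j (0, 0, 0, 1) = (0, 0, 0, 1) →
    ∃ i, j = (0, i, none) := by decide +kernel
theorem cps1 : ∀ i : Fin 3, (bL (0, i, none))^[3] v0 = v0 := by decide +kernel
theorem sub0 : ∀ a b c d : F4, ((a, b, c, d) : Q4) ≠ 0 → ∃ t u : F4, ∃ e ≠ (0 : F4),
    (a, b, c, d) = (0, 0, 0, e) ∨ bA t (a, b, c, d) + (a, b, c, d) = (0, 0, 0, e) ∨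
      bA u (bA t (a, b, c, d) + (a, b, c, d)) + (bA t (a, b, c, d) + (a, b, c, d)) =
        (0, 0, 0, e) := by decide +kernel

/-- The action of `x_b(t)` on `X_{3a+b} V`. -/
def eB (t : F4) (s : F4 × F4) : F4 × F4 := (s.1, s.2 + t * s.1)
/-- The action of `h_b`. -/
def eH (s : F4 × F4) : F4 × F4 := (om ^ 2 * s.1, om * s.2)
/-- The action of `⟨X_b, n_b⟩`. -/
def eL : LI → F4 × F4 → F4 × F4
  | (t, i, none) => eB t ∘ eH^[i]
  | (t, i, some u) => ((eB t ∘ eH^[i]) ∘ Prod.swap) ∘ eB u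

theorem ereg : ∀ j j', eL j (1, 0) = eL j' (1, 0) → eL j (0, 1) = eL j' (0, 1) → j = j' := by
  decide +kernel
theorem ereg1 : ∀ j, j ≠ (0, 0, none) → ∃ s, eL j s + s ≠ 0 := by decide +kernel

theorem card_LI : Nat.card LI = 60 := by
  simp [LI, card_F4]

variable {G : Type u} [Group G] {D : RD G}

/-- Conjugation by `p` induces `f` on the parameters. -/
def Act {S T : Type} (y : S → T → G) (p : G) (f : S → S) : Prop :=
  ∀ s r, ∃ r', p * y s r * p⁻¹ = y (f s) r'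

theorem Act.mul {S T : Type} {y : S → T → G} {p p' : G} {f f' : S → S} (h : Act y p f)
    (h' : Act y p' f') : Act y (p * p') (f ∘ f') := fun s r => by
  obtain ⟨r1, e1⟩ := h' s r
  obtain ⟨r2, e2⟩ := h (f' s) r1
  exact ⟨r2, by rw [comp_apply, ← e2, ← e1]; group⟩

theorem Act.pow {S T : Type} {y : S → T → G} {p : G} {f : S → S} (h : Act y p f) (i : ℕ) :
    Act y (p ^ i) f^[i] := by
  induction i with
  | zero => exact fun s r => ⟨r, by simp⟩
  | succ i ih => rw [pow_succ, iterate_succ]; exact ih.mul h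

variable (D) in
/-- The elements of `L`. -/
abbrev ela : LI → G := el D.xa D.na D.ha
variable (D) in
/-- The elements of the second Levi factor. -/
abbrev elb : LI → G := el D.xb D.nb D.hb
variable (D) in
/-- The elements of `X_{3a+b} V`. -/
def ev (s : F4 × F4) (_ : Unit) : G := D.xe s.1 * D.xv s.2

theorem xaP (t : F4) : D.xa t ∈ D.P := mem_sup_right (subset_closure (Or.inl ⟨t, rfl⟩))
theorem naP : D.na ∈ D.P := mem_sup_right (subset_closure (Or.inr rfl))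
theorem qq_mem (s : Q4) (r : F4) : qq D s r ∈ D.QA := q_mem _ _ _ _ _
theorem qqP (s : Q4) (r : F4) : qq D s r ∈ D.P := mem_sup_left (qq_mem s r)
theorem xeS (t : F4) : D.xe t ∈ D.PS := subset_closure (by simp)
theorem xvS (t : F4) : D.xv t ∈ D.PS := subset_closure (by simp)
theorem xbS (t : F4) : D.xb t ∈ D.PS := subset_closure (by simp)
theorem nbS : D.nb ∈ D.PS := subset_closure (by simp)
theorem evS (s : F4 × F4) : ev D s () ∈ D.PS := mul_mem (xeS _) (xvS _)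

theorem comm_mem {N : Subgroup G} {g u : G} (hg : g ∈ N) (hu : u ∈ normalizer (N : Set G)) :
    g * u * g⁻¹ * u⁻¹ ∈ N := by
  have := mul_mem hg ((mem_normalizer_iff.1 hu _).1 (inv_mem hg))
  simpa only [mul_assoc] using this

theorem comm_mem' {N : Subgroup G} {g u : G} (hg : g ∈ N) (hu : u ∈ normalizer (N : Set G)) :
    u * g * u⁻¹ * g⁻¹ ∈ N := mul_mem ((mem_normalizer_iff.1 hu _).1 hg) (inv_mem hg)

variable (h : D.Rel)
include h

theorem actA (t : F4) : Act (qq D) (D.xa t) (bA t) := fun _ _ => ⟨_, cja h ..⟩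
theorem actN : Act (qq D) D.na bN := fun _ _ => ⟨_, cjn h ..⟩
theorem actH : Act (qq D) D.ha bH := fun _ _ => ⟨_, cjh h ..⟩
theorem actY : Act (qq D) D.y5 bY := (actN h).mul (actA h om)

theorem actL (j : LI) : Act (qq D) (ela D j) (bL j) := by
  obtain ⟨t, i, _ | u⟩ := j
  · exact (actA h t).mul ((actH h).pow i)
  · exact (((actA h t).mul ((actH h).pow i)).mul (actN h)).mul (actA h u)

theorem cjq (a s : Q4) (r r' : F4) : qq D a r * qq D s r' * (qq D a r)⁻¹ = qq D s (r' + β a s) := by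
  rw [mul_inv_eq_iff_eq_mul, qq_mul h, qq_mul h, add_comm a, β]
  congr 1
  linear_combination (-(s.2.2.2 * a.1 + s.2.2.1 * a.2.1)) * two0

theorem actQ (a : Q4) (r : F4) : Act (qq D) (qq D a r) id := fun _ _ => ⟨_, cjq h ..⟩

theorem actP (a : Q4) (r : F4) (j : LI) : Act (qq D) (qq D a r * ela D j) (bL j) :=
  (actQ h a r).mul (actL h j)

theorem Act.uniq {p : G} {f f' : Q4 → Q4} (h1 : Act (qq D) p f) (h2 : Act (qq D) p f') (s : Q4) :
    f s = f' s := by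
  obtain ⟨r1, e1⟩ := h1 s 0
  obtain ⟨r2, e2⟩ := h2 s 0
  exact (qq_inj h (e1.symm.trans e2)).1

theorem Act.fix {p : G} {f : Q4 → Q4} (h1 : Act (qq D) p f) {s : Q4} {r : F4}
    (e : p * qq D s r = qq D s r * p) : f s = s := by
  obtain ⟨r1, e1⟩ := h1 s r
  exact (qq_inj h (e1.symm.trans (cj e))).1

theorem Act.comm {p : G} {f : Q4 → Q4} (h1 : Act (qq D) p f) (s s' : Q4) (r r' : F4) :
    ∃ r1, p * qq D s r * p⁻¹ * (qq D s' r')⁻¹ = qq D (f s + s') r1 := by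
  obtain ⟨r1, e1⟩ := h1 s r
  exact ⟨_, by rw [e1, qq_inv h, qq_mul h]⟩

theorem Act.inV {p : G} {f : Q4 → Q4} (h1 : Act (qq D) p f) {s s' : Q4} {r r' : F4}
    (e : p * qq D s r * p⁻¹ * (qq D s' r')⁻¹ ∈ D.V) : f s + s' = 0 := by
  obtain ⟨r1, e1⟩ := h1.comm h s s' r r'
  rwa [e1, qq_mem_V h] at e

theorem Act.per {p : G} {f : Q4 → Q4} (h1 : Act (qq D) p f) {k m : ℕ} (e : p ^ 2 ^ k = 1)
    (hm : Odd m) {s : Q4} (e1 : f^[m] s = s) : f s = s := by
  have e2 : IsPeriodicPt f (2 ^ k) s := (h1.pow _).fix h (r := 0) (by rw [e, one_mul, mul_one])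
  have e3 := e2.gcd (e1 : IsPeriodicPt f m s)
  rwa [(Nat.Coprime.pow_left k ((Nat.coprime_two_left).2 hm) : Nat.gcd _ _ = 1)] at e3

theorem elaL (j : LI) : ela D j ∈ D.L :=
  (slA h).el_mem (fun t => subset_closure (Or.inl ⟨t, rfl⟩)) (subset_closure (Or.inr rfl)) j

theorem cardL : Nat.card D.L = 60 := by
  rw [← card_LI]
  refine (Nat.card_eq_of_bijective (fun j => (⟨ela D j, elaL h j⟩ : D.L))
    ⟨fun j j' e => ?_, fun l => ?_⟩).symm
  · have e1 : ela D j = ela D j' := congrArg Subtype.val e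
    exact reg j j' ((actL h j).uniq h (e1 ▸ actL h j') v0)
  · obtain ⟨j, e⟩ := (slA h).ex_el l.2
    exact ⟨j, Subtype.ext e.symm⟩

theorem actB (t : F4) : Act (ev D) (D.xb t) (eB t) := fun s _ => ⟨(), by
  rw [ev, ← conj_mul, cj (h.be t _), cj (h.bv t _), mul_assoc, ← h.vv, add_comm]; rfl⟩
theorem actM : Act (ev D) D.nb Prod.swap := fun s _ => ⟨(), by
  rw [ev, ← conj_mul, cj (h.nbe _), cj (nbv h _), ← h.ev]; rfl⟩
theorem actK : Act (ev D) D.hb eH := fun s _ => ⟨(), by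
  rw [ev, ← conj_mul, cj (h.hbe _), cj (h.hbv _)]; rfl⟩

theorem actLb (j : LI) : Act (ev D) (elb D j) (eL j) := by
  obtain ⟨t, i, _ | u⟩ := j
  · exact (actB h t).mul ((actK h).pow i)
  · exact (((actB h t).mul ((actK h).pow i)).mul (actM h)).mul (actB h u)

theorem ev_q (s : F4 × F4) : ev D s () = q D 0 0 0 s.1 s.2 := by
  rw [ev, qe h, qv h, q_mul h]; simp

theorem ev_mul (s s' : F4 × F4) : ev D s () * ev D s' () = ev D (s + s') () := by
  rw [ev_q h, ev_q h, ev_q h, q_mul h]; simp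

theorem ev_inv (s : F4 × F4) : (ev D s ())⁻¹ = ev D s () := by
  rw [ev_q h, q_inv h]; simp

theorem dev_q (c : F4) (s : F4 × F4) : D.xd c * ev D s () = q D 0 0 c s.1 s.2 := by
  rw [ev_q h, qd h, q_mul h]; simp

theorem actE (c : F4) (a : F4 × F4) : Act (ev D) (D.xd c * ev D a ()) id := fun s _ => ⟨(), by
  rw [mul_inv_eq_iff_eq_mul, dev_q h, id, ev_q h, q_mul h, q_mul h]
  simp [add_comm]⟩

theorem Act.uniqE {p : G} {f f' : F4 × F4 → F4 × F4} (h1 : Act (ev D) p f) (h2 : Act (ev D) p f')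
    (s : F4 × F4) : f s = f' s := by
  obtain ⟨r1, e1⟩ := h1 s ()
  obtain ⟨r2, e2⟩ := h2 s ()
  have e3 := e1.symm.trans e2
  rw [ev_q h, ev_q h] at e3
  exact Prod.ext (q_inj h e3).2.2.2.1 (q_inj h e3).2.2.2.2

theorem elbS (j : LI) : elb D j ∈ D.PS := (slB h).el_mem xbS nbS j

theorem xs_inj {c c' : F4} {s s' : F4 × F4} {j j' : LI}
    (e : D.xd c * ev D s () * elb D j = D.xd c' * ev D s' () * elb D j') :
    c = c' ∧ s = s' ∧ j = j' := by
  have h1 := (actE h c s).mul (actLb h j)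
  have h2 := (actE h c' s').mul (actLb h j')
  rw [← e] at h2
  obtain rfl := ereg j j' (h1.uniqE h h2 _) (h1.uniqE h h2 _)
  rw [mul_left_inj, dev_q h, dev_q h] at e
  obtain ⟨-, -, e1, e2, e3⟩ := q_inj h e
  exact ⟨e1, Prod.ext e2 e3, rfl⟩

theorem snf {g : G} (hg : g ∈ D.PS) : ∃ s j, g = ev D s () * elb D j := by
  suffices ∃ s, ∃ l ∈ closure (Set.range D.xb ∪ {D.nb}), g = ev D s () * l by
    obtain ⟨s, l, hl, rfl⟩ := this
    obtain ⟨j, rfl⟩ := (slB h).ex_el hl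
    exact ⟨s, j, rfl⟩
  have k1 : ∀ a g, (∃ s, ∃ l ∈ closure (Set.range D.xb ∪ {D.nb}), g = ev D s () * l) →
      ∃ s, ∃ l ∈ closure (Set.range D.xb ∪ {D.nb}), ev D a () * g = ev D s () * l := by
    rintro a _ ⟨s, l, hl, rfl⟩
    exact ⟨a + s, l, hl, by rw [← mul_assoc, ev_mul h]⟩
  have k2 : ∀ y f g, y ∈ Set.range D.xb ∪ {D.nb} → Act (ev D) y f →
      (∃ s, ∃ l ∈ closure (Set.range D.xb ∪ {D.nb}), g = ev D s () * l) →
      ∃ s, ∃ l ∈ closure (Set.range D.xb ∪ {D.nb}), y * g = ev D s () * l := by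
    rintro y f _ hy ha ⟨s, l, hl, rfl⟩
    obtain ⟨_, e⟩ := ha s ()
    exact ⟨f s, y * l, mul_mem (subset_closure hy) hl, by rw [← e]; group⟩
  have k3 : ∀ y ∈ Set.range D.xe ∪ Set.range D.xv ∪ Set.range D.xb ∪ {D.nb}, ∀ g,
      (∃ s, ∃ l ∈ closure (Set.range D.xb ∪ {D.nb}), g = ev D s () * l) →
      ∃ s, ∃ l ∈ closure (Set.range D.xb ∪ {D.nb}), y * g = ev D s () * l := by
    rintro _ (((⟨t, rfl⟩ | ⟨t, rfl⟩) | ⟨t, rfl⟩) | rfl) g hg
    · simpa [ev, zero_of h.vv] using k1 (t, 0) g hg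
    · simpa [ev, zero_of h.ee] using k1 (0, t) g hg
    · exact k2 _ _ g (Or.inl ⟨t, rfl⟩) (actB h t) hg
    · exact k2 _ _ g (Or.inr rfl) (actM h) hg
  induction hg using closure_induction_left with
  | one => exact ⟨0, 1, one_mem _, by simp [ev, zero_of h.vv, zero_of h.ee]⟩
  | mul_left y hy l _ ih => exact k3 y hy l ih
  | inv_mul_cancel y hy l _ ih =>
    have e : y⁻¹ = y := by
      rcases hy with ((⟨t, rfl⟩ | ⟨t, rfl⟩) | ⟨t, rfl⟩) | rfl
      exacts [inv_of h.ee t, inv_of h.vv t, inv_of h.bb t, (slB h).ninv]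
    rw [e]; exact k3 y hy l ih

theorem d_cen (c : F4) {g : G} (hg : g ∈ D.PS) : g * D.xd c = D.xd c * g := by
  refine mem_centralizer_singleton_iff.1 ((closure_le (centralizer {D.xd c})).2 ?_ hg)
  rintro _ (((⟨t, rfl⟩ | ⟨t, rfl⟩) | ⟨t, rfl⟩) | rfl) <;> refine mem_centralizer_singleton_iff.2 ?_
  exacts [(h.de c t).symm, (h.dv c t).symm, h.bd t c, h.nbd c]

theorem xsnf {g : G} (hg : g ∈ D.X ⊔ D.PS) : ∃ c s j, g = D.xd c * ev D s () * elb D j := by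
  have h1 : D.PS ≤ normalizer (D.X : Set G) := fun p hp => centralizer_le_normalizer _ fun y hy => by
    obtain ⟨c, rfl⟩ := (mem_X h).1 hy
    exact (d_cen h c hp).symm
  rw [← SetLike.mem_coe, coe_mul_of_right_le_normalizer_left _ _ h1] at hg
  obtain ⟨y, hy, p, hp, rfl⟩ := hg
  obtain ⟨c, rfl⟩ := (mem_X h).1 hy
  obtain ⟨s, j, rfl⟩ := snf h hp
  exact ⟨c, s, j, (mul_assoc _ _ _).symm⟩

theorem cardPS : Nat.card D.PS = 960 := by
  have e : Nat.card ((F4 × F4) × LI) = 960 := by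
    rw [Nat.card_prod, card_LI]; simp [card_F4]
  rw [← e]
  refine (Nat.card_eq_of_bijective (fun y : (F4 × F4) × LI =>
    (⟨ev D y.1 () * elb D y.2, mul_mem (evS _) (elbS h _)⟩ : D.PS))
    ⟨fun y y' e => ?_, fun l => ?_⟩).symm
  · have e1 : ev D y.1 () * elb D y.2 = ev D y'.1 () * elb D y'.2 := congrArg Subtype.val e
    have e2 := xs_inj h (c := 0) (c' := 0) (s := y.1) (s' := y'.1) (j := y.2) (j' := y'.2)
      (by rw [mul_assoc, e1, mul_assoc])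
    exact Prod.ext e2.2.1 e2.2.2
  · obtain ⟨s, j, e⟩ := snf h l.2
    exact ⟨(s, j), Subtype.ext e.symm⟩

theorem cardXS : Nat.card ↥(D.X ⊔ D.PS) = 3840 := by
  have e : Nat.card (F4 × (F4 × F4) × LI) = 3840 := by
    rw [Nat.card_prod, Nat.card_prod, card_LI]; simp [card_F4]
  rw [← e]
  refine (Nat.card_eq_of_bijective (fun y : F4 × (F4 × F4) × LI =>
    (⟨D.xd y.1 * ev D y.2.1 () * elb D y.2.2, mul_mem (mul_mem (mem_sup_left ((mem_X h).2 ⟨_, rfl⟩))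
      (mem_sup_right (evS _))) (mem_sup_right (elbS h _))⟩ : ↥(D.X ⊔ D.PS)))
    ⟨fun y y' e => ?_, fun l => ?_⟩).symm
  · have e2 := xs_inj h (congrArg Subtype.val e)
    exact Prod.ext e2.1 (Prod.ext e2.2.1 e2.2.2)
  · obtain ⟨c, s, j, e⟩ := xsnf h l.2
    exact ⟨(c, s, j), Subtype.ext e.symm⟩

theorem perfPS : ⁅D.PS, D.PS⁆ = D.PS := by
  refine le_antisymm (commutator_le_self _) ((closure_le _).2 ?_)
  obtain ⟨h1, h2⟩ := (slB h).perf xbS nbS
  have h3 : ∀ t, D.xv t ∈ ⁅D.PS, D.PS⁆ := fun t => by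
    have := commutator_mem_commutator (xbS (D := D) 1) (xeS (D := D) t)
    rwa [commutatorElement_def, cj (h.be 1 t), h.ev, mul_inv_cancel_right, one_mul] at this
  rintro _ (((⟨t, rfl⟩ | ⟨t, rfl⟩) | ⟨t, rfl⟩) | rfl)
  · rw [← cj (nbv h t)]
    exact mul_mem (mul_mem h2 (h3 t)) (inv_mem h2)
  exacts [h3 t, h1 t, h2]

theorem normS {N : Subgroup G} (hN : D.X ⊔ D.PS ≤ normalizer (N : Set G)) {g : G} (hg : g ∈ N)
    (h1 : g ∈ D.X ⊔ D.PS) (h2 : g ∉ D.X) : ∃ t, t ≠ 0 ∧ D.xv t ∈ N := by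
  have hS : ∀ p ∈ D.PS, p ∈ normalizer (N : Set G) := fun p hp => hN (mem_sup_right hp)
  have kc : ∀ c s y f, y ∈ D.PS → Act (ev D) y f → D.xd c * ev D s () ∈ N →
      ev D (f s + s) () ∈ N := fun c s y f hy ha hm => by
    obtain ⟨_, e⟩ := ha s ()
    have := comm_mem' hm (hS y hy)
    rwa [← conj_mul, cj (d_cen h c hy), e, mul_inv_rev, ev_inv h, mul_assoc, ← mul_assoc (ev D _ _),
      ev_mul h, ← mul_assoc, ← d_cen h c (evS _), mul_inv_cancel_right] at this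
  have k1 : ∀ c a b, a ≠ 0 → D.xd c * ev D (a, b) () ∈ N → ∃ t, t ≠ 0 ∧ D.xv t ∈ N :=
    fun c a b ha hm => ⟨a, ha, by
      have := kc c _ _ _ (xbS 1) (actB h 1) hm
      rwa [show eB 1 (a, b) + (a, b) = (0, a) from Prod.ext (aa a)
        (by simp only [eB, Prod.snd_add]; linear_combination b * two0), ev, zero_of h.ee,
        one_mul] at this⟩
  have k2 : ∀ c s, s ≠ 0 → D.xd c * ev D s () ∈ N → ∃ t, t ≠ 0 ∧ D.xv t ∈ N := by
    rintro c ⟨a, b⟩ hs hm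
    by_cases ha : a = 0
    · subst ha
      refine k1 0 (b + 0) (0 + b) (fun e => hs (by rw [add_zero] at e; rw [e]; rfl)) ?_
      rw [zero_of h.dd, one_mul]
      exact kc c _ _ _ nbS (actM h) hm
    · exact k1 c a b ha hm
  obtain ⟨c, s, j, rfl⟩ := xsnf h h1
  by_cases hj : j = (0, 0, none)
  · rw [hj, elb, (slB h).el_one, mul_one] at hg h2
    refine k2 c s (fun e => h2 ((mem_X h).2 ⟨c, ?_⟩)) hg
    simp [e, ev, zero_of h.ee, zero_of h.vv]
  · obtain ⟨w, hw⟩ := ereg1 j hj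
    obtain ⟨_, e⟩ := (actE h c s).mul (actLb h j) w ()
    have := comm_mem hg (hS _ (evS w))
    rw [e, ev_inv h, ev_mul h] at this
    exact k2 0 _ hw (by rwa [zero_of h.dd, one_mul])

variable [Finite G]

theorem pnf {p : G} (hp : p ∈ D.P) : ∃ q ∈ D.QA, ∃ l ∈ D.L, p = q * l := by
  have h1 : D.L ≤ normalizer (D.QA : Set G) := fun l hl => mem_normalizer_fintype fun g hg => by
    obtain ⟨j, rfl⟩ := (slA h).ex_el hl
    obtain ⟨s, r, rfl⟩ := qqnf h hg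
    obtain ⟨r', e⟩ := actL h j s r
    exact e ▸ qq_mem _ _
  rw [RD.P, ← SetLike.mem_coe, coe_mul_of_right_le_normalizer_left _ _ h1] at hp
  obtain ⟨y, hy, l, hl, rfl⟩ := hp
  exact ⟨y, hy, l, hl, rfl⟩

theorem pnf' {p : G} (hp : p ∈ D.P) : ∃ s r j, p = qq D s r * ela D j := by
  obtain ⟨y, hy, l, hl, rfl⟩ := pnf h hp
  obtain ⟨j, rfl⟩ := (slA h).ex_el hl
  obtain ⟨s, r, rfl⟩ := qqnf h hy
  exact ⟨s, r, j, rfl⟩

omit [Finite G] h in
theorem cardP0 : Nat.card (Q4 × F4 × LI) = 61440 := by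
  rw [Nat.card_prod, Nat.card_prod F4 LI, card_LI]; simp [card_F4]

theorem cardP : Nat.card D.P = 61440 := by
  rw [← cardP0]
  refine (Nat.card_eq_of_bijective (fun y : Q4 × F4 × LI =>
    (⟨qq D y.1 y.2.1 * ela D y.2.2, mul_mem (qqP _ _) (mem_sup_right (elaL h _))⟩ : D.P))
    ⟨fun y y' e => ?_, fun l => ?_⟩).symm
  · have e1 : qq D y.1 y.2.1 * ela D y.2.2 = qq D y'.1 y'.2.1 * ela D y'.2.2 :=
      congrArg Subtype.val e
    have e2 := reg _ _ ((actP h y.1 y.2.1 y.2.2).uniq h (e1 ▸ actP h y'.1 y'.2.1 y'.2.2) v0)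
    rw [e2, mul_left_inj] at e1
    exact Prod.ext (qq_inj h e1).1 (Prod.ext (qq_inj h e1).2 e2)
  · obtain ⟨s, r, j, e⟩ := pnf' h l.2
    exact ⟨(s, r, j), Subtype.ext e.symm⟩

omit [Finite G] in
theorem normQ {N : Subgroup G} (hN : D.P ≤ normalizer (N : Set G)) {s : Q4} {r : F4}
    (hg : qq D s r ∈ N) (hs : s ≠ 0) : (∀ t, D.xv t ∈ N) ∧ ∃ t, t ≠ 0 ∧ D.xb t ∈ N := by
  have hv : ∀ t, D.xv t ∈ N := fun t => by
    obtain ⟨w, rfl⟩ := β_surj s hs t
    have := comm_mem hg (hN (qqP w 0))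
    rw [cjq h, qq_inv h, qq_mul h, show w + w = 0 from Prod.ext (aa _) (Prod.ext (aa _)
      (Prod.ext (aa _) (aa _))), ← qqv h] at this
    convert this using 2
    linear_combination (-(w.2.2.2 * w.1 + w.2.2.1 * w.2.1)) * two0
  have k1 : ∀ t s, (∃ r, qq D s r ∈ N) → ∃ r, qq D (bA t s + s) r ∈ N := by
    rintro t s ⟨r, hr⟩
    obtain ⟨r1, e⟩ := (actA h t).comm h s s r r
    exact ⟨r1, e ▸ comm_mem' hr (hN (xaP t))⟩
  have k2 : ∀ e, (∃ r, qq D (0, 0, 0, e) r ∈ N) → D.xb e ∈ N := by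
    rintro e ⟨r, hr⟩
    have h1 := mul_mem hr (hv r)
    rw [qqv h, qq_mul h] at h1
    have h2 : D.xe e ∈ N := by rw [qe h]; simpa [qq, aa] using h1
    rw [← cj (nae h e)]
    exact (mem_normalizer_iff.1 (hN naP) _).1 h2
  obtain ⟨a, b, c, d⟩ := s
  obtain ⟨t, u, e, he, h1 | h1 | h1⟩ := sub0 a b c d hs
  · exact ⟨hv, e, he, k2 e (h1 ▸ ⟨r, hg⟩)⟩
  · exact ⟨hv, e, he, k2 e (h1 ▸ k1 t _ ⟨r, hg⟩)⟩
  · exact ⟨hv, e, he, k2 e (h1 ▸ k1 u _ (k1 t _ ⟨r, hg⟩))⟩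

omit [Finite G] in
theorem perfP : ⁅D.P, D.P⁆ = D.P := by
  refine le_antisymm (commutator_le_self _) ?_
  obtain ⟨h1, h2⟩ := (slA h).perf xaP naP
  have hd : ∀ t, D.xd t ∈ ⁅D.P, D.P⁆ := fun t => by
    have e : ∀ t : F4, om * (om * t) + om * t = t := by decide +kernel
    have hh : D.ha ∈ D.P := by
      simpa [el, zero_of h.aa] using (slA h).el_mem xaP naP (0, 1, none)
    have := commutator_mem_commutator hh (qqP (D := D) (0, 0, om * t, 0) 0)
    rwa [qq, ← qd h, commutatorElement_def, cj (h.had _), inv_of h.dd, ← h.dd, e] at this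
  have he : ∀ t, D.xe t ∈ ⁅D.P, D.P⁆ := fun t => by
    have := mul_mem (mul_mem (inv_mem (hd t)) (mul_mem (h1 1) (hd t))) (inv_mem (h1 1))
    rwa [h.ad, one_mul, mul_assoc, mul_inv_cancel_right, inv_mul_cancel_left] at this
  have hb : ∀ t, D.xb t ∈ ⁅D.P, D.P⁆ := fun t =>
    cj (nae h t) ▸ mul_mem (mul_mem h2 (he t)) (inv_mem h2)
  have hc : ∀ t, D.xc t ∈ ⁅D.P, D.P⁆ := fun t =>
    cj (nad h t) ▸ mul_mem (mul_mem h2 (hd t)) (inv_mem h2)
  have hv : ∀ t, D.xv t ∈ ⁅D.P, D.P⁆ := fun t => by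
    have := mul_mem (mul_mem (inv_mem (he t)) (mul_mem (hb 1) (he t))) (inv_mem (hb 1))
    rwa [h.be, one_mul, mul_assoc, mul_inv_cancel_right, inv_mul_cancel_left] at this
  refine sup_le ((closure_le _).2 ?_) ((closure_le _).2 ?_)
  · rintro _ ((((⟨t, rfl⟩ | ⟨t, rfl⟩) | ⟨t, rfl⟩) | ⟨t, rfl⟩) | ⟨t, rfl⟩)
    exacts [hb t, hc t, hd t, he t, hv t]
  · rintro _ (⟨t, rfl⟩ | rfl)
    exacts [h1 t, h2]

theorem triv {p : G} (hp : p ∈ D.P) (h1 : ∀ f, Act (qq D) p f → f v0 = v0) :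
    ∃ s r, p = qq D s r := by
  obtain ⟨s, r, j, rfl⟩ := pnf' h hp
  obtain rfl := reg1 j (h1 _ (actP h s r j))
  exact ⟨s, r, by rw [ela, (slA h).el_one, mul_one]⟩

theorem cPS {p : G} (hp : p ∈ D.P) (h1 : ∀ q ∈ D.PS, p * q = q * p) {k : ℕ} (e : p ^ 2 ^ k = 1) :
    p ∈ D.X := by
  have hb := h1 _ (xbS 1)
  have he := h1 _ (xeS 1)
  rw [qb h] at hb
  rw [qe h] at he
  obtain ⟨⟨a, b, c, d⟩, r, rfl⟩ : ∃ s r, p = qq D s r := by
    obtain ⟨s, r, j, rfl⟩ := pnf' h hp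
    obtain ⟨i, rfl⟩ := cps0 j ((actP h s r j).fix h (s := (1, 0, 0, 0)) hb)
      ((actP h s r j).fix h (s := (0, 0, 0, 1)) he)
    rw [reg1 _ ((actP h s r _).per h e (by decide) (cps1 i))]
    exact ⟨s, r, by rw [ela, (slA h).el_one, mul_one]⟩
  rw [qq, q_mul h, q_mul h] at hb he
  obtain rfl : d = 0 := by simpa using (q_inj h hb).2.2.2.2
  obtain rfl : a = 0 := by simpa using (q_inj h he).2.2.2.2
  have h2 := cj (h1 _ nbS).symm
  have h3 : D.nb * qq D (0, b, c, 0) r * D.nb⁻¹ = D.xa b * q D 0 0 c r 0 := by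
    rw [qq, q, ← conj_mul, ← conj_mul, ← conj_mul, ← conj_mul, cj (nbc h _), cj (h.nbd _),
      cj (nbv h _)]
    simp [q, zero_of h.bb, zero_of h.cc, zero_of h.ee, zero_of h.vv, mul_assoc]
  rw [h3, ← mul_inv_eq_one, mul_assoc, qq, q_inv h, q_mul h] at h2
  obtain ⟨h4, -, -, -, h5, -⟩ := h.nf b _ _ _ _ _ (by simpa only [q, mul_assoc] using h2)
  rw [add_zero] at h5
  rw [h4, h5, qq, ← qd h]
  exact (mem_X h).2 ⟨c, rfl⟩

theorem cy5 {p : G} (hp : p ∈ D.P) (e : p * D.y5 = D.y5 * p) :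
    ∃ t, ∃ i : ℕ, p = D.xv t * D.y5 ^ i := by
  obtain ⟨s, r, j, rfl⟩ := pnf' h hp
  have h1 := (actP h s r j).mul (actY h)
  rw [e] at h1
  obtain ⟨i, -, e1⟩ := cy1 j (h1.uniq h ((actY h).mul (actP h s r j)) v0)
  have hn : D.na ∈ D.L := Subgroup.subset_closure (Or.inr rfl)
  have ha : D.xa om ∈ D.L := Subgroup.subset_closure (Or.inl ⟨om, rfl⟩)
  have hy : D.y5 ^ i ∈ D.L := pow_mem (mul_mem hn ha) i
  obtain ⟨j', e2⟩ := (slA h).ex_el hy
  obtain rfl := reg j j' (e1.trans (((actY h).pow i).uniq h (e2 ▸ actL h j') v0))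
  rw [ela, ← e2] at e ⊢
  rw [mul_assoc, ← pow_succ, pow_succ', ← mul_assoc, ← mul_assoc, mul_left_inj] at e
  obtain ⟨a, b, c, d⟩ := s
  rw [cy2 a b c d ((actY h).fix h e.symm), ← qqv h]
  exact ⟨r, i, rfl⟩

omit h [Finite G] in
theorem par : ParStmt.{u} := fun G _ _ D h =>
  { qnf := fun _ => qnf h
    lnf := fun _ => (slA h).lnf
    pnf := fun _ => pnf h
    cardP := cardP h
    cardPS := cardPS h
    cardXS := cardXS h
    perfP := perfP h
    perfPS := perfPS h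
    perfL := by
      refine le_antisymm (commutator_le_self _) ((closure_le _).2 ?_)
      obtain ⟨h1, h2⟩ := (slA h).perf (H := D.L) (fun t => subset_closure (Or.inl ⟨t, rfl⟩))
        (subset_closure (Or.inr rfl))
      rintro _ (⟨t, rfl⟩ | rfl)
      exacts [h1 t, h2]
    normP := by
      rintro N hN ⟨g, hg, h1, h2⟩
      obtain ⟨s, r, j, rfl⟩ := pnf' h h1
      by_cases hj : j = (0, 0, none)
      · rw [hj, ela, (slA h).el_one, mul_one] at hg h2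
        exact (normQ h hN hg fun e => h2 ((qq_mem_V h).2 e)).2
      · obtain ⟨r1, e⟩ := (actP h s r j).comm h v0 v0 0 0
        refine (normQ h hN (e ▸ comm_mem hg (hN (qqP v0 0))) fun e1 => hj (reg1 j ?_)).2
        rw [eq_neg_of_add_eq_zero_left e1]
        decide +kernel
    normS := fun _ hN ⟨_, hg, h1, h2⟩ => normS h hN hg h1 h2
    o2P := fun N h1 hN h2 g hg => by
      obtain ⟨s, r, j, rfl⟩ := pnf' h (h1 hg)
      have key : ∀ y f, y ∈ D.P → y⁻¹ = y → Act (qq D) y f →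
          ((bL j ∘ f) ∘ (bL j ∘ f))^[15] v0 = v0 → ((bL j ∘ f) ∘ (bL j ∘ f)) v0 = v0 :=
        fun y f hy e ha e1 => by
          obtain ⟨k, e2⟩ := h2 ⟨_, mul_mem hg ((mem_normalizer_iff.1 (hN hy) _).1 hg)⟩
          have e3 : (qq D s r * ela D j * (y * (qq D s r * ela D j) * y⁻¹)) ^ 2 ^ k = 1 :=
            congrArg Subtype.val e2
          refine (((actP h s r j).mul ha).mul ((actP h s r j).mul ha)).per h (k := k) ?_
            (by decide) e1
          rw [← e3, e]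
          simp only [mul_assoc]
      by_cases hj : j = (0, 0, none)
      · rw [hj, ela, (slA h).el_one, mul_one]
        exact qq_mem _ _
      · rcases odd1 j hj with ⟨c, e1, e2⟩ | ⟨e1, e2⟩
        · exact absurd (key _ _ (xaP c) (inv_of h.aa c) (actA h c) e1) e2
        · exact absurd (key _ _ naP (slA h).ninv (actN h) e1) e2
    cardL := cardL h
    cQA := fun p hp h1 => by
      obtain ⟨s, r, rfl⟩ := triv h hp fun f hf => hf.fix h (r := 0) (h1 _ (qq_mem _ _))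
      by_contra h2
      obtain ⟨w, e⟩ := β_surj s (fun e => h2 ((qq_mem_V h).2 e)) 1
      have e1 := cjq h s w r 0
      rw [cj (h1 (qq D w 0) (qq_mem _ _)), e, zero_add] at e1
      exact zero_ne_one (qq_inj h e1).2
    cQV := fun p hp h1 => by
      obtain ⟨s, r, rfl⟩ := triv h hp fun f hf => by
        rw [eq_neg_of_add_eq_zero_left (hf.inV h (r := 0) (r' := 0) (h1 (qq D v0 0) (qq_mem _ _)))]
        decide +kernel
      exact qq_mem _ _
    cPS := fun _ hp h1 ⟨_, e⟩ => cPS h hp h1 e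
    fy := fun u hu h1 => by
      obtain ⟨⟨a, b, c, d⟩, r, rfl⟩ := qqnf h hu
      obtain ⟨i, -, e⟩ := fy0 a b c d fun e => h1 ((qq_mem_V h).2 e)
      obtain ⟨r', e1⟩ := (actY h).pow i (a, b, c, d) r
      refine ⟨i, fun e2 => e ?_⟩
      rw [e1] at e2
      have e3 := cjq h (a, b, c, d) (bY^[i] (a, b, c, d)) r r'
      rw [cj e2.eq] at e3
      exact left_eq_add.1 (qq_inj h e3).2
    cy := fun u hu => by
      obtain ⟨⟨a, b, c, d⟩, r, rfl⟩ := qqnf h hu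
      obtain ⟨r1, e⟩ := actY h (bY (a, b, c, d) + bY^[3] (a, b, c, d)) 0
      obtain ⟨r2, e1⟩ : ∃ r2, (qq D (bY (a, b, c, d) + bY^[3] (a, b, c, d)) 0)⁻¹ *
          qq D (bY (bY (a, b, c, d) + bY^[3] (a, b, c, d))) r1 = qq D (a, b, c, d) r2 :=
        ⟨_, by rw [qq_inv h, qq_mul h, cy0]⟩
      refine ⟨_, qq_mem (bY (a, b, c, d) + bY^[3] (a, b, c, d)) 0, r2 + r, ?_⟩
      rw [e, e1, qqv h, qq_mul h]
      simp [← add_assoc, aa]
    cy5 := fun _ => cy5 h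
    nofrob := fun p hp h1 h2 h3 => by
      obtain ⟨s, r, j, rfl⟩ := pnf' h hp
      rw [qb h] at h1
      rw [qe h] at h2
      refine nof j ((actP h s r j).inV h (s := (1, 0, 0, 0)) (s' := (1, 0, 0, 0)) h1)
        ((actP h s r j).inV h (s := (0, 0, 0, 1)) (s' := (0, 0, 0, 1)) h2) fun t => ?_
      have h4 := h3 t
      rw [qd h, qd h, qc h, qc h, q_mul h, q_mul h] at h4
      simp only [add_zero, zero_add] at h4
      exact (actP h s r j).inV h (s := (0, t, t ^ 2, 0)) (s' := (0, t ^ 2, t, 0)) h4 }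

end Cfsg.Agent.H44.AP
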