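import Cfsg.Agent.H42.ASDefs2
import Cfsg.Agent.H44.AsQ

/-!
# Long root elements of `G₂(4)` commuting with a long root group
-/

set_option autoImplicit false
set_option maxRecDepth 100000
set_option synthInstance.maxSize 2000

namespace Cfsg.Agent.H44.AP

open Subgroup H28 H42.AS Function

universe u

theorem lc0 : ∀ j, bL j (bL j v0) = v0 → j = (0, 0, none) ∨
    ∃ j', ∃ t ≠ (0 : F4), bL j' (bL j v0) = bA t (bL j' v0) := by decide +kernel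
theorem lc1 : ∀ t b d e : F4, t ≠ 0 → ∃ w1 w2 w3 : F4, b = t * w1 ∧ t * b = t ^ 2 * w1 ∧
    d = t ^ 3 * w1 + t ^ 2 * w2 + t * w3 ∧
    e + w3 * b = t ^ 3 * w1 ^ 2 + t * w2 ^ 2 + t ^ 2 * w1 * w2 := by decide +kernel
theorem lc2 : ∀ a b c d : F4, d * a + c * b = 0 → ((a, b, c, d) : Q4) ≠ 0 → ∃ j, ∃ t ≠ (0 : F4),
    bL j (a, b, c, d) = (0, 0, 0, t) ∨ bL j (a, b, c, d) = (0, 0, t, 0) := by decide +kernel
theorem lc3 : ∀ j (τ y : F4), bL j (0, 0, 0, τ * y) = y • bL j (0, 0, 0, τ) := by decide +kernel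
theorem lc4 : ∀ j (τ : F4), (bL j (0, 0, 0, τ)).1 = 0 → ∃ σ, bL j (0, 0, 0, τ) = (0, 0, 0, σ) := by
  decide +kernel
theorem lc5 : ∀ τ : F4, τ ≠ 0 → ∃ i < 3, τ = (om ^ 2) ^ i := by decide +kernel
theorem lc6 : ∀ x : F4, x ≠ 0 → x ≠ 1 → x * x = 1 + x := by decide +kernel

variable {G : Type u} [Group G] {D : RD G}

theorem xaA (t : F4) : D.xa t ∈ D.A := subset_closure (by simp)
theorem xbA (t : F4) : D.xb t ∈ D.A := subset_closure (by simp)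
theorem naA : D.na ∈ D.A := subset_closure (by simp)
theorem nbA : D.nb ∈ D.A := subset_closure (by simp)
theorem rhoA : D.rho ∈ D.A :=
  have h1 : D.hb ∈ D.A :=
    mul_mem (mul_mem (mul_mem (mul_mem (mul_mem (xbA _) nbA) (xbA _)) nbA) (xbA _)) nbA
  mul_mem (mul_mem
    (mul_mem (mul_mem (mul_mem (mul_mem (mul_mem (xaA _) naA) (xaA _)) naA) (xaA _)) naA) h1) h1
theorem cjm {H : Subgroup G} {a y : G} (ha : a ∈ H) (hy : y ∈ H) : a * y * a⁻¹ ∈ H :=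
  mul_mem (mul_mem ha hy) (inv_mem ha)

theorem P_le {H : Subgroup G} (ha : ∀ t, D.xa t ∈ H) (hb : ∀ t, D.xb t ∈ H) (hc : ∀ t, D.xc t ∈ H)
    (hd : ∀ t, D.xd t ∈ H) (he : ∀ t, D.xe t ∈ H) (hv : ∀ t, D.xv t ∈ H) (hn : D.na ∈ H) :
    D.P ≤ H := by
  refine sup_le ((closure_le _).2 ?_) ((closure_le _).2 ?_)
  · rintro _ ((((⟨t, rfl⟩ | ⟨t, rfl⟩) | ⟨t, rfl⟩) | ⟨t, rfl⟩) | ⟨t, rfl⟩)
    exacts [hb t, hc t, hd t, he t, hv t]
  · rintro _ (⟨t, rfl⟩ | rfl)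
    exacts [ha t, hn]

theorem cj_comm {a y z : G} (h : y * z = z * y) :
    a * y * a⁻¹ * (a * z * a⁻¹) = a * z * a⁻¹ * (a * y * a⁻¹) := by rw [conj_mul, conj_mul, h]

section Rel

variable (h : D.Rel)
include h

theorem xbP (t : F4) : D.xb t ∈ D.P := qb h t ▸ qqP (t, 0, 0, 0) 0
theorem xcP (t : F4) : D.xc t ∈ D.P := qc h t ▸ qqP (0, t, 0, 0) 0
theorem xdP (t : F4) : D.xd t ∈ D.P := qd h t ▸ qqP (0, 0, t, 0) 0
theorem xeP (t : F4) : D.xe t ∈ D.P := qe h t ▸ qqP (0, 0, 0, t) 0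
theorem xvP (t : F4) : D.xv t ∈ D.P := qv h t ▸ qqP (0, 0, 0, 0) t
theorem xcA (t : F4) : D.xc t ∈ D.A := cj (h.nba t) ▸ cjm nbA (xaA t)
theorem xdA (t : F4) : D.xd t ∈ D.A := cj (h.nac t) ▸ cjm naA (xcA h t)
theorem xeA (t : F4) : D.xe t ∈ D.A := cj (h.nab t) ▸ cjm naA (xbA t)
theorem xvA (t : F4) : D.xv t ∈ D.A := cj (h.nbe t) ▸ cjm nbA (xeA h t)
theorem P_le_A : D.P ≤ D.A := P_le xaA xbA (xcA h) (xdA h) (xeA h) (xvA h) naA

theorem P_cen (t : F4) {p : G} (hp : p ∈ D.P) : p * D.xv t = D.xv t * p :=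
  (mem_centralizer_singleton_iff.1 (P_le (H := centralizer {D.xv t})
    (fun s => mem_centralizer_singleton_iff.2 (h.av s t))
    (fun s => mem_centralizer_singleton_iff.2 (h.bv s t))
    (fun s => mem_centralizer_singleton_iff.2 (h.cv s t))
    (fun s => mem_centralizer_singleton_iff.2 (h.dv s t))
    (fun s => mem_centralizer_singleton_iff.2 (h.ev s t))
    (fun s => mem_centralizer_singleton_iff.2 (by rw [← h.vv, ← h.vv, add_comm]))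
    (mem_centralizer_singleton_iff.2 (h.nav t)) hp))

theorem xv_inj {s t : F4} (e : D.xv s = D.xv t) : s = t := by
  rw [qv h, qv h] at e
  exact (q_inj h e).2.2.2.2

theorem xv_ne {s : F4} (e : D.xv s = 1) : s = 0 := xv_inj h (e.trans (zero_of h.vv).symm)

theorem L_ext {l l' : G} {f f' : Q4 → Q4} (hl : l ∈ D.L) (hl' : l' ∈ D.L) (h1 : Act (qq D) l f)
    (h2 : Act (qq D) l' f') (e : f v0 = f' v0) : l = l' := by
  obtain ⟨j, rfl⟩ := (slA h).ex_el hl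
  obtain ⟨j', rfl⟩ := (slA h).ex_el hl'
  rw [reg j j' ((((actL h j).uniq h h1 v0).trans e).trans (h2.uniq h (actL h j') v0))]

theorem qq_comm (a s : Q4) (r r' : F4) :
    qq D a r * qq D s r' = D.xv (β a s) * (qq D s r' * qq D a r) := by
  rw [← mul_assoc, ← mul_inv_eq_iff_eq_mul, cjq h, qqv h, qq_mul h]
  simp [add_comm]

theorem be1 : D.xv 1 = D.xb 1 * D.xe 1 * (D.xb 1)⁻¹ * (D.xe 1)⁻¹ := by
  rw [cj (h.be 1 1), h.ev, mul_inv_cancel_right, one_mul]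

theorem rho_v (i : ℕ) (y : F4) :
    D.rho ^ i * D.xv y * (D.rho ^ i)⁻¹ = D.xv ((om ^ 2) ^ i * y) := by
  induction i with
  | zero => simp
  | succ i ih =>
    rw [pow_succ', pow_succ', mul_assoc (om ^ 2), ← cj (h.rv _), ← ih]; group

end Rel

variable [Finite G] (F : D.Fa)
include F

omit [Finite G] in
theorem notComm {t : F4} (ht : t ≠ 0) {u u' : G} (hu : u ∈ D.A) (hu' : u' ∈ D.A)
    (c : u * D.xd t = D.xd t * u) (c' : u' * D.xd t = D.xd t * u') :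
    D.xd t ≠ u * u' * u⁻¹ * u'⁻¹ := fun e => by
  have h := F.rel
  obtain ⟨a, s, j, rfl⟩ := xsnf h (F.glob.centX t ht u hu c)
  obtain ⟨a', s', j', rfl⟩ := xsnf h (F.glob.centX t ht u' hu' c')
  rw [mul_assoc (D.xd a), mul_assoc (D.xd a')] at e
  have h1 := mul_mem (evS (D := D) s) (elbS h j)
  have h2 := mul_mem (evS (D := D) s') (elbS h j')
  generalize ev D s () * elb D j = p at *
  generalize ev D s' () * elb D j' = p' at *
  have k1 : Commute p (D.xd a') := d_cen h a' h1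
  have k2 : Commute p' (D.xd a) := d_cen h a h2
  have k3 : Commute (D.xd a) (D.xd a') := by
    rw [Commute, SemiconjBy, ← h.dd, ← h.dd, add_comm]
  have k4 : Commute p (D.xd a) := d_cen h a h1
  have e1 : D.xd a * p * (D.xd a' * p') * (D.xd a * p)⁻¹ = D.xd a' * (p * p' * p⁻¹) := by
    rw [← conj_mul, cj (k3.mul_left k1).eq, ← k4.eq,
      show p * D.xd a * p' * (p * D.xd a)⁻¹ = p * (D.xd a * p' * (D.xd a)⁻¹) * p⁻¹ by group,
      cj k2.eq.symm]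
  have h3 := mul_mem (cjm h1 h2) (inv_mem h2)
  rw [e1, mul_inv_rev, mul_assoc, ← mul_assoc (p * p' * p⁻¹), ← mul_assoc, ← d_cen h a' h3,
    mul_inv_cancel_right] at e
  obtain ⟨s0, j0, e2⟩ := snf h h3
  refine ht (xs_inj h (c' := 0) (s := 0) (s' := s0) (j := (0, 0, none)) (j' := j0) ?_).1
  rw [mul_assoc (D.xd 0), ← e2, ← e]
  simp [elb, (slB h).el_one, ev, zero_of h.dd, zero_of h.ee, zero_of h.vv]

omit [Finite G] in
theorem long_of {y u u' : G} (hy : y ∈ D.A) (h2 : y * y = 1) (h1 : y ≠ 1) (hu : u ∈ D.A)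
    (hu' : u' ∈ D.A) (c : u * y = y * u) (c' : u' * y = y * u') (e : y = u * u' * u⁻¹ * u'⁻¹) :
    ∃ a ∈ D.A, y = a * D.xv 1 * a⁻¹ := by
  obtain ⟨a, ha, e1 | e1⟩ := F.glob.inv y hy h2 h1
  · exact ⟨a⁻¹, inv_mem ha, by rw [← e1]; group⟩
  · refine absurd ?_ (notComm F one_ne_zero (cjm ha hu) (cjm ha hu') (e1 ▸ cj_comm c)
      (e1 ▸ cj_comm c'))
    rw [← e1, e]; group

omit [Finite G] in
theorem not_short {t : F4} (ht : t ≠ 0) {a : G} (ha : a ∈ D.A) : a * D.xv 1 * a⁻¹ ≠ D.xd t :=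
  fun e => notComm F ht (cjm ha (xbA 1)) (cjm ha (xeA F.rel 1)) (e ▸ cj_comm (F.rel.bv 1 1))
    (e ▸ cj_comm (F.rel.ev 1 1)) (by rw [← e, be1 F.rel]; group)

omit F [Finite G] in
theorem lc : LCStmt.{u} := fun G _ _ D F y hy hV ⟨a, ha, e⟩ => by
  have h := F.rel
  have short : ∀ c ∈ D.A, ∀ t, t ≠ 0 → c * y * c⁻¹ ≠ D.xd t := fun c hc t ht e1 =>
    not_short F ht (mul_mem hc ha) (by rw [← e1, e]; group)
  have y2 : y * y = 1 := by rw [e, conj_mul, sq_of h.vv]; group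
  clear e
  obtain ⟨s, r, j, rfl⟩ := pnf' h hy
  rcases lc0 j (((actP h s r j).mul (actP h s r j)).fix h (r := 0)
    (by rw [y2, one_mul, mul_one])) with rfl | ⟨j', t, ht, e1⟩
  · rw [ela, (slA h).el_one, mul_one] at *
    obtain ⟨a, b, c, d⟩ := s
    have e2 : d * a + c * b = 0 := by
      rw [qq, q_mul h, ← q_zero h] at y2
      linear_combination (q_inj h y2).2.2.2.2 - r * two0
    obtain ⟨j, t, ht, e3⟩ := lc2 a b c d e2 fun e => hV ((qq_mem_V h).2 e)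
    obtain ⟨r', e4⟩ := actL h j (a, b, c, d) r
    have hl : ela D j ∈ D.P := mem_sup_right (elaL h j)
    have e5 : ∀ w, qq D w 0 * ela D j * qq D (a, b, c, d) r * (qq D w 0 * ela D j)⁻¹ =
        qq D (bL j (a, b, c, d)) (r' + β w (bL j (a, b, c, d))) := fun w => by
      rw [← cjq h w _ 0, ← e4]; group
    rcases e3 with e3 | e3
    · refine ⟨_, mul_mem (qqP (r' / t, 0, 0, 0) 0) hl, t, ?_⟩
      rw [e5, e3, qe h]
      exact q_congr rfl rfl rfl rfl (by simp [β, mul_div_cancel₀ _ ht, aa])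
    · refine absurd ?_ (short _ (P_le_A h (mul_mem (qqP (0, r' / t, 0, 0) 0) hl)) t ht)
      rw [e5, e3, qd h]
      exact q_congr rfl rfl rfl rfl (by simp [β, mul_div_cancel₀ _ ht, aa])
  · exfalso
    have hx : D.xa t ∈ D.L := subset_closure (Or.inl ⟨t, rfl⟩)
    have e2 := L_ext h (mul_mem (elaL h j') (elaL h j)) (mul_mem hx (elaL h j'))
      ((actL h j').mul (actL h j)) ((actA h t).mul (actL h j')) e1
    obtain ⟨r', e3⟩ := actL h j' s r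
    obtain ⟨⟨a, b, c, d⟩, e4⟩ : ∃ s', bL j' s = s' := ⟨_, rfl⟩
    have e5 : ela D j' * (qq D s r * ela D j) * (ela D j')⁻¹ = q D a b c d r' * D.xa t := by
      rw [← conj_mul, e3, e4, cj e2]; rfl
    have e6 : q D a b c d r' * (D.xa t * q D a b c d r' * (D.xa t)⁻¹) = q D 0 0 0 0 0 := by
      rw [inv_of h.aa, q_zero h, ← mul_assoc, ← mul_assoc, mul_assoc _ _ (D.xa t), ← e5, conj_mul,
        y2]
      group
    rw [cja h, q_mul h] at e6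
    obtain ⟨-, e7, -, e8, -⟩ := q_inj h e6
    obtain rfl : a = 0 := (mul_eq_zero.1 (by linear_combination e7 - b * two0)).resolve_left ht
    obtain rfl : c = t * b := mul_left_cancel₀ ht (by
      linear_combination e8 - (d + t ^ 2 * b) * two0)
    obtain ⟨w1, w2, w3, k1, k2, k3, k4⟩ := lc1 t b d r' ht
    have e9 : q D w1 w2 w3 0 0 * (q D 0 b (t * b) d r' * D.xa t) * (q D w1 w2 w3 0 0)⁻¹ =
        D.xa t := by
      rw [mul_inv_eq_iff_eq_mul, ← mul_assoc, mul_inv_eq_iff_eq_mul.1 (cja h t w1 w2 w3 0 0),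
        q_mul h]
      congr 1
      exact q_congr (add_zero _) (by rw [← k1]) (by rw [← k2]) (by linear_combination k3)
        (by linear_combination k4)
    refine short (D.na * D.nb * q D w1 w2 w3 0 0 * ela D j') (mul_mem (mul_mem (mul_mem naA nbA)
      (P_le_A h (qqP (w1, w2, w3, 0) 0))) (P_le_A h (mem_sup_right (elaL h j')))) t ht ?_
    rw [← cj (h.nac t), ← cj (h.nba t), ← e9, ← e5]; group

theorem lin (hl : LC D) {a : G} (ha : a ∈ D.A) (h1 : a * D.xv 1 * a⁻¹ ∈ D.P)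
    (h2 : a * D.xv 1 * a⁻¹ ∉ D.V) :
    ∃ j τ, ∀ y, ∃ r, a * D.xv y * a⁻¹ = qq D (y • bL j (0, 0, 0, τ)) r := by
  have h := F.rel
  obtain ⟨p, hp, τ, e⟩ := hl _ h1 h2 ⟨a, ha, rfl⟩
  have τ0 : τ ≠ 0 := fun e1 => by
    rw [e1, zero_of h.ee, conj_eq_one_iff, conj_eq_one_iff] at e
    exact one_ne_zero (xv_ne h e)
  obtain ⟨i, -, rfl⟩ := lc5 τ τ0
  have hm : (D.rho ^ i)⁻¹ * (D.nb * p * a) ∈ D.P := by
    refine F.glob.centV 1 one_ne_zero _ (mul_mem (inv_mem (pow_mem rhoA i))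
      (mul_mem (mul_mem nbA (P_le_A h hp)) ha)) ?_
    rw [← mul_inv_eq_iff_eq_mul, show (D.rho ^ i)⁻¹ * (D.nb * p * a) * D.xv 1 *
      ((D.rho ^ i)⁻¹ * (D.nb * p * a))⁻¹ = (D.rho ^ i)⁻¹ *
        (D.nb * (p * (a * D.xv 1 * a⁻¹) * p⁻¹) * D.nb⁻¹) * D.rho ^ i by group, e, cj (h.nbe _),
      ← mul_one ((om ^ 2) ^ i), ← rho_v h]
    group
  obtain ⟨s, r, j, e1⟩ := pnf' h (inv_mem hp)
  refine ⟨j, (om ^ 2) ^ i, fun y => ?_⟩
  obtain ⟨r', e2⟩ := actP h s r j (0, 0, 0, (om ^ 2) ^ i * y) 0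
  refine ⟨r', ?_⟩
  rw [← lc3, ← e2, ← e1, qq, ← qe h, ← cj (nbv h _), ← rho_v h, ← cj (P_cen h y hm),
    show D.nb * (D.rho ^ i * ((D.rho ^ i)⁻¹ * (D.nb * p * a) * D.xv y *
      ((D.rho ^ i)⁻¹ * (D.nb * p * a))⁻¹) * (D.rho ^ i)⁻¹) * D.nb⁻¹ =
      D.nb * D.nb * (p * a * D.xv y * a⁻¹ * p⁻¹) * (D.nb * D.nb)⁻¹ by group, h.nb2, cj (P_cen h y hm)]
  group

theorem keyK (hl : LC D) {a1 a2 w : G} (h1 : a1 ∈ D.A) (h2 : a2 ∈ D.A)
    (c1 : a1 * D.xv 1 * a1⁻¹ * D.xv 1 = D.xv 1 * (a1 * D.xv 1 * a1⁻¹))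
    (c2 : a2 * D.xv 1 * a2⁻¹ * D.xv 1 = D.xv 1 * (a2 * D.xv 1 * a2⁻¹))
    (c : a2 * D.xv 1 * a2⁻¹ * (a1 * D.xv 1 * a1⁻¹) =
      D.xv 1 * (a1 * D.xv 1 * a1⁻¹ * (a2 * D.xv 1 * a2⁻¹)))
    (hw : ∃ a ∈ D.A, w = a * D.xv 1 * a⁻¹) (w0 : w * D.xv 1 = D.xv 1 * w)
    (w1 : w * (a1 * D.xv 1 * a1⁻¹) = a1 * D.xv 1 * a1⁻¹ * w)
    (w2 : w * (a2 * D.xv 1 * a2⁻¹) = a2 * D.xv 1 * a2⁻¹ * w) (wn : w ≠ D.xv 1) :
    a2 * w * a2⁻¹ * (a1 * w * a1⁻¹) = D.xv 1 * w * (a1 * w * a1⁻¹ * (a2 * w * a2⁻¹)) := by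
  have h := F.rel
  have cV := F.glob.centV 1 one_ne_zero
  have p1 := cV _ (cjm h1 (xvA h 1)) c1
  have p2 := cV _ (cjm h2 (xvA h 1)) c2
  have nc : a2 * D.xv 1 * a2⁻¹ * (a1 * D.xv 1 * a1⁻¹) ≠
      a1 * D.xv 1 * a1⁻¹ * (a2 * D.xv 1 * a2⁻¹) := fun e =>
    one_ne_zero (xv_ne h (mul_eq_right.1 (c.symm.trans e)))
  have n1 : a1 * D.xv 1 * a1⁻¹ ∉ D.V := fun e => by
    obtain ⟨x, e⟩ := (mem_V h).1 e
    exact nc (e ▸ P_cen h x p2)
  have n2 : a2 * D.xv 1 * a2⁻¹ ∉ D.V := fun e => by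
    obtain ⟨x, e⟩ := (mem_V h).1 e
    exact nc (e ▸ (P_cen h x p1).symm)
  have wne : w ≠ 1 := fun e => by
    obtain ⟨a, -, e1⟩ := hw
    rw [e, eq_comm, conj_eq_one_iff] at e1
    exact one_ne_zero (xv_ne h e1)
  by_cases hV : w ∈ D.V
  · obtain ⟨x, rfl⟩ := (mem_V h).1 hV
    obtain ⟨j1, τ1, k1⟩ := lin F hl h1 p1 n1
    obtain ⟨j2, τ2, k2⟩ := lin F hl h2 p2 n2
    generalize bL j1 (0, 0, 0, τ1) = s1 at k1
    generalize bL j2 (0, 0, 0, τ2) = s2 at k2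
    obtain ⟨r1, e1⟩ := k1 1
    obtain ⟨r2, e2⟩ := k2 1
    rw [e1, e2, qq_comm h, mul_left_inj, one_smul, one_smul] at c
    obtain ⟨r3, e3⟩ := k1 x
    obtain ⟨r4, e4⟩ := k2 x
    rw [e3, e4, qq_comm h, ← h.vv, ← lc6 x (fun e => wne (by rw [e, zero_of h.vv]))
      fun e => wn (by rw [e])]
    congr 2
    rw [← mul_one (x * x), ← xv_inj h c]
    simp only [β, Prod.smul_fst, Prod.smul_snd, smul_eq_mul]
    ring
  · exfalso
    obtain ⟨p, hp, τ, e⟩ := hl w (cV w (by obtain ⟨a, ha, rfl⟩ := hw; exact cjm ha (xvA h 1)) w0)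
      hV hw
    have τ0 : τ ≠ 0 := fun e1 => by
      rw [e1, zero_of h.ee, conj_eq_one_iff] at e
      exact wne e
    have key : ∀ a ∈ D.A, a * D.xv 1 * a⁻¹ ∈ D.P → a * D.xv 1 * a⁻¹ ∉ D.V →
        w * (a * D.xv 1 * a⁻¹) = a * D.xv 1 * a⁻¹ * w →
        ∃ σ r, p * (a * D.xv 1 * a⁻¹) * p⁻¹ = qq D (0, 0, 0, σ) r := fun a ha k1 k2 k3 => by
      have e1 : p * a * D.xv 1 * (p * a)⁻¹ = p * (a * D.xv 1 * a⁻¹) * p⁻¹ := by group
      obtain ⟨j, σ, k4⟩ := lin F hl (mul_mem (P_le_A h hp) ha) (e1 ▸ cjm hp k1) fun k4 => by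
        obtain ⟨x, k4⟩ := (mem_V h).1 k4
        refine k2 ((mem_V h).2 ⟨x, ?_⟩)
        rw [← cj (P_cen h x (inv_mem hp)), ← k4]; group
      obtain ⟨r, k5⟩ := k4 1
      rw [e1, one_smul] at k5
      have k6 := cj_comm (a := p) k3
      rw [e, k5, qe h] at k6
      have k7 := xv_ne h (mul_eq_right.1 ((qq_comm h (0, 0, 0, τ) _ 0 r).symm.trans k6))
      obtain ⟨σ', k8⟩ := lc4 j σ (by simpa [β, τ0] using k7)
      exact ⟨σ', r, k8 ▸ k5⟩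
    obtain ⟨σ1, r1, e1⟩ := key a1 h1 p1 n1 w1
    obtain ⟨σ2, r2, e2⟩ := key a2 h2 p2 n2 w2
    refine nc ((MulAut.conj p).injective ?_)
    rw [MulAut.conj_apply, MulAut.conj_apply, ← conj_mul, ← conj_mul (a := a1 * D.xv 1 * a1⁻¹), e1,
      e2, qq_comm h]
    simp [β, zero_of h.vv]

end Cfsg.Agent.H44.AP
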