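import Cfsg.Agent.H44.AsL

/-!
# No pure four-group generated by `t` and a field automorphism of `G₂(4)`
-/

set_option autoImplicit false
set_option maxRecDepth 100000

namespace Cfsg.Agent.H44.AP

open Subgroup H28 H42.AS

universe u

variable {G : Type u} [Group G] {D : RD G} {t : G} {O : Subgroup G} {f cs ds : F4 → G} {c : F4}

theorem bilin {B E b e c1 c2 c4 : G} (h1 : B * E = c1 * (E * B)) (h2 : B * e = c2 * (e * B))
    (h3 : b * E = c2 * (E * b)) (h4 : b * e = c4 * (e * b)) (k1 : Commute c2 B) (k2 : Commute c2 E)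
    (k3 : Commute c4 B) (k4 : Commute c4 E) (k5 : c2 * c2 = 1) (k6 : Commute c1 c2)
    (k7 : Commute c4 c2) (k8 : Commute c4 c1) :
    B * b * (E * e) = c1 * c4 * (E * e * (B * b)) := by
  calc B * b * (E * e) = B * (b * E) * e := by group
    _ = B * c2 * E * (b * e) := by rw [h3]; group
    _ = c2 * B * (E * c4) * e * b := by rw [h4, k1.eq]; group
    _ = c2 * (B * c4) * E * e * b := by rw [← k4.eq]; group
    _ = c2 * c4 * (B * E) * e * b := by rw [← k3.eq]; group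
    _ = c2 * c4 * c1 * E * (B * e) * b := by rw [h1]; group
    _ = c2 * c4 * c1 * (E * c2) * e * B * b := by rw [h2]; group
    _ = c2 * (c4 * c1 * c2) * (E * e * (B * b)) := by rw [← k2.eq]; group
    _ = c1 * c4 * (E * e * (B * b)) := by
      rw [(k7.mul_left k6).eq, ← mul_assoc c2, k5, one_mul, k8.eq]

theorem frobK {g g' : G} (h : D.Frob g) (h' : D.Frob g') : g⁻¹ * g' ∈ D.K := fun a ha => by
  refine (mem_centralizer_singleton_iff.1 ((closure_le (centralizer {g⁻¹ * g'})).2 ?_ ha))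
  have k : ∀ y y', g * y * g⁻¹ = y' → g' * y * g'⁻¹ = y' → y ∈ centralizer {g⁻¹ * g'} :=
    fun y y' e e' => mem_centralizer_singleton_iff.2 (by
      rw [mul_assoc, mul_inv_eq_iff_eq_mul.1 e', ← e]; group)
  rintro _ ((⟨s, rfl⟩ | ⟨s, rfl⟩) | rfl | rfl)
  exacts [k _ _ (h.1 s).1 (h'.1 s).1, k _ _ (h.1 s).2.1 (h'.1 s).2.1, k _ _ (cj h.2.1) (cj h'.2.1),
    k _ _ (cj h.2.2) (cj h'.2.2)]

theorem frob_mul (h : D.Rel) {g k : G} (hk : k ∈ D.K) (hg : D.Frob g) : D.Frob (k * g) := by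
  have e : ∀ y y', g * y * g⁻¹ = y' → y' ∈ D.A → k * g * y * (k * g)⁻¹ = y' := fun y y' e hy => by
    rw [← cj (hk y' hy).symm, ← e]; group
  exact ⟨fun s => ⟨e _ _ (hg.1 s).1 (xaA _), e _ _ (hg.1 s).2.1 (xbA _),
    e _ _ (hg.1 s).2.2.1 (xcA h _), e _ _ (hg.1 s).2.2.2.1 (xdA h _),
    e _ _ (hg.1 s).2.2.2.2.1 (xeA h _), e _ _ (hg.1 s).2.2.2.2.2 (xvA h _)⟩,
    mul_inv_eq_iff_eq_mul.1 (e _ _ (cj hg.2.1) naA), mul_inv_eq_iff_eq_mul.1 (e _ _ (cj hg.2.2) nbA)⟩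

theorem frob_P (h : D.Rel) {g : G} (hg : D.Frob g) : ∀ p ∈ D.P, g * p * g⁻¹ ∈ D.P :=
  P_le (H := D.P.comap (MulAut.conj g).toMonoidHom)
    (fun s => show g * _ * g⁻¹ ∈ _ from (hg.1 s).1 ▸ xaP _)
    (fun s => show g * _ * g⁻¹ ∈ _ from (hg.1 s).2.1 ▸ xbP h _)
    (fun s => show g * _ * g⁻¹ ∈ _ from (hg.1 s).2.2.1 ▸ xcP h _)
    (fun s => show g * _ * g⁻¹ ∈ _ from (hg.1 s).2.2.2.1 ▸ xdP h _)
    (fun s => show g * _ * g⁻¹ ∈ _ from (hg.1 s).2.2.2.2.1 ▸ xeP h _)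
    (fun s => show g * _ * g⁻¹ ∈ _ from (hg.1 s).2.2.2.2.2 ▸ xvP h _)
    (show g * _ * g⁻¹ ∈ _ from cj hg.2.1 ▸ naP)

theorem AK (F : D.Fa) {a : G} (ha : a ∈ D.A) (hk : a ∈ D.K) : a = 1 := by
  have h := F.rel
  have h1 := F.glob.centV 1 one_ne_zero a ha (hk _ (xvA h 1)).symm
  obtain ⟨x, rfl⟩ := (mem_V h).1 (F.par.cQA a h1 fun y hy =>
    (hk y (P_le_A h (mem_sup_left hy))).symm)
  have h2 := hk _ nbA
  rw [nbv h, mul_left_inj, qe h, qv h] at h2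
  rw [← (q_inj h h2).2.2.2.2, zero_of h.vv]

theorem odd_pow (R : RP D t O) {o : G} (ho : o ∈ O) : ∃ n, o ^ (2 * n + 1) = 1 := by
  obtain ⟨n, e⟩ := R.oddO
  exact ⟨n, by rw [← e]; exact congrArg Subtype.val (pow_card_eq_one' (x := (⟨o, ho⟩ : O)))⟩

theorem odd_sq (R : RP D t O) {o : G} (ho : o ∈ O) (e : o * o = 1) : o = 1 := by
  obtain ⟨n, e1⟩ := odd_pow R ho
  rwa [pow_succ, pow_mul, pow_two, e, one_pow, one_mul] at e1

theorem normK {x k : G} (hx : x ∈ normalizer (D.A : Set G)) (hk : k ∈ D.K) : x * k * x⁻¹ ∈ D.K :=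
  fun a ha => by
    have := cj_comm (a := x) (hk _ ((mem_normalizer_iff.1 (inv_mem hx) a).1 ha))
    rwa [show x * (x⁻¹ * a * x⁻¹⁻¹) * x⁻¹ = a by group] at this

theorem normO (R : RP D t O) {x o : G} (hx : x * t = t * x) (ho : o ∈ O) : x * o * x⁻¹ ∈ O := by
  have e : x * o * x⁻¹ * t = t * (x * o * x⁻¹) := by
    have := cj_comm (a := x) (R.Ot o ho)
    rwa [cj hx] at this
  refine (R.cKt _ (normK (R.ct x hx) (R.OK ho)) e).resolve_right fun h => R.t1 ?_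
  obtain ⟨n, e0⟩ := R.oddO
  have e1 : o ^ (2 * n + 1) = 1 := by
    rw [← e0]; exact congrArg Subtype.val (pow_card_eq_one' (x := (⟨o, ho⟩ : O)))
  have e2 : (t * (x * o * x⁻¹)) ^ (2 * n + 1) = 1 := by
    rw [← e0]; exact congrArg Subtype.val (pow_card_eq_one' (x := (⟨_, h⟩ : O)))
  rwa [(show Commute t _ from e.symm).mul_pow, conj_pow, e1, mul_one, mul_inv_cancel, mul_one,
    pow_succ, pow_mul, pow_two, R.t2, one_pow, one_mul] at e2

theorem noComm (F : D.Fa) (R : RP D t O) {g : G} (g1 : g * t = t * g) (g2 : D.Frob g) {u u' : G}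
    (hu : u * t = t * u) (hu' : u' * t = t * u') : t ≠ u * u' * u⁻¹ * u'⁻¹ := fun e => by
  have hO : O ≤ normalizer (D.A : Set G) := fun o ho => centralizer_le_normalizer _ (R.OK ho)
  have mM : ∀ y, y ∈ D.A ⊔ O ↔ ∃ a ∈ D.A, ∃ o ∈ O, a * o = y := fun y => by
    rw [← SetLike.mem_coe, coe_mul_of_right_le_normalizer_left _ _ hO]; rfl
  have nM : ∀ x, x * t = t * x → ∀ y ∈ D.A ⊔ O, x * y * x⁻¹ ∈ D.A ⊔ O := fun x hx y hy => by
    obtain ⟨a, ha, o, ho, rfl⟩ := (mM y).1 hy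
    exact (mM _).2 ⟨_, (mem_normalizer_iff.1 (R.ct x hx) a).1 ha, _, normO R hx ho, conj_mul⟩
  have tinv : t⁻¹ = t := inv_eq_of_mul_eq_one_right R.t2
  have cg : Commute g t := g1
  have dec : ∀ x, x * t = t * x → ∃ m ∈ D.A ⊔ O, ∃ i j : ℕ, x = m * (g ^ i * t ^ j) :=
    fun x hx => by
      have k : ∀ a ∈ D.A, ∀ i : ℕ, (g ^ i)⁻¹ * (a * x) ∈ D.K →
          ∃ m ∈ D.A ⊔ O, ∃ i j : ℕ, x = m * (g ^ i * t ^ j) := fun a ha i hk => by
        have ca : Commute a t := R.tK a ha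
        have k2 : ∀ j : ℕ, (t ^ j)⁻¹ * ((g ^ i)⁻¹ * (a * x)) ∈ O →
            ∃ m ∈ D.A ⊔ O, ∃ i j : ℕ, x = m * (g ^ i * t ^ j) := fun j ho =>
          ⟨_, mul_mem (mem_sup_left (inv_mem ha)) (mem_sup_right (normO R
            ((cg.pow_left i).mul_left ((Commute.refl t).pow_left j)).eq ho)), i, j, by group⟩
        rcases R.cKt _ hk ((cg.pow_left i).inv_left.mul_left (ca.mul_left hx)).eq with h | h
        · exact k2 0 (by simpa using h)
        · exact k2 1 (by rwa [pow_one, tinv])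
      obtain ⟨a, ha, h | h⟩ := F.glob.out x (R.ct x hx)
      · exact k a ha 0 (by simpa using h)
      · exact k a ha 1 (by rw [pow_one]; exact frobK g2 h)
  obtain ⟨m, hm, i, j, rfl⟩ := dec u hu
  obtain ⟨m', hm', i', j', rfl⟩ := dec u' hu'
  have c1 : ∀ i j : ℕ, Commute (g ^ i * t ^ j) t := fun i j =>
    (cg.pow_left i).mul_left ((Commute.refl t).pow_left j)
  have c2 : Commute (g ^ i * t ^ j) (g ^ i' * t ^ j') :=
    (((Commute.refl g).pow_pow i i').mul_left (cg.symm.pow_pow j i')).mul_right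
      ((c1 i j).pow_right j')
  have c3 := (c1 i j).eq
  have c4 := (c1 i' j').eq
  generalize g ^ i * t ^ j = w at *
  generalize g ^ i' * t ^ j' = w' at *
  have h1 := mul_mem (mul_mem (mul_mem hm (nM w c3 m' hm')) (nM w' c4 _ (inv_mem hm))) (inv_mem hm')
  rw [show m * (w * m' * w⁻¹) * (w' * m⁻¹ * w'⁻¹) * m'⁻¹ =
    m * w * m' * (w⁻¹ * w') * m⁻¹ * (m' * w')⁻¹ by group, c2.inv_left.eq,
    show m * w * m' * (w' * w⁻¹) * m⁻¹ * (m' * w')⁻¹ =
      m * w * (m' * w') * (m * w)⁻¹ * (m' * w')⁻¹ by group, ← e] at h1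
  obtain ⟨a, ha, o, ho, e1⟩ := (mM t).1 h1
  have h2 : a = 1 := AK F ha (by
    rw [eq_mul_inv_of_mul_eq e1]; exact mul_mem R.tK (inv_mem (R.OK ho)))
  rw [h2, one_mul] at e1
  exact R.t1 (odd_sq R (e1 ▸ ho) R.t2)

theorem notD (F : D.Fa) (R : RP D t O) {g : G} (g1 : g * t = t * g) (g2 : D.Frob g) {y u u' : G}
    (hu : u * y = y * u) (hu' : u' * y = y * u') (e : y = u * u' * u⁻¹ * u'⁻¹) : ¬ IsConj t y :=
  fun h => by
    obtain ⟨k, e1⟩ := isConj_iff.1 h.symm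
    refine noComm F R g1 g2 (e1 ▸ cj_comm (a := k) hu) (e1 ▸ cj_comm (a := k) hu') ?_
    rw [← e1, e]; group

theorem notDA (F : D.Fa) (R : RP D t O) (Q : RQ D t f cs ds) {g : G} (g1 : g * t = t * g)
    (g2 : D.Frob g) {a : G} (ha : a ∈ D.A) (a2 : a * a = 1) : ¬ IsConj t a := fun h => by
  have a1 : a ≠ 1 := fun e => R.t1 (by rwa [e, isConj_one_left] at h)
  obtain ⟨y, -, e | e⟩ := F.glob.inv a ha a2 a1
  · obtain ⟨k, e1⟩ := isConj_iff.1 (h.trans (isConj_iff.2 ⟨y, e⟩))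
    exact R.noD k (e1 ▸ subset_closure ⟨1, rfl⟩)
  · refine notD F R g1 g2 (Q.dd 1 1) (R.tK _ (xdA F.rel 1)).symm ?_ (h.trans (isConj_iff.2 ⟨y, e⟩))
    rw [cj (Q.dt 1), ← R.tK _ (xdA F.rel 1), mul_inv_cancel_right]

theorem tA (F : D.Fa) (R : RP D t O) (Q : RQ D t f cs ds) {a : G} (ha : a ∈ D.A) (a2 : a * a = 1) :
    IsConj t (t * a) := by
  by_cases a1 : a = 1
  · rw [a1, mul_one]
  obtain ⟨y, hy, e⟩ := F.glob.inv a ha a2 a1
  have k : IsConj (t * (y * a * y⁻¹)) (t * a) :=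
    (isConj_iff.2 ⟨y, by rw [← conj_mul, cj (R.tK y hy)]⟩).symm
  rcases e with e | e
  · obtain ⟨g, -, e1⟩ := R.mov
    exact (isConj_iff.2 ⟨g, e1⟩).trans (e ▸ k)
  · exact (isConj_iff.2 ⟨ds 1, cj (Q.dt 1)⟩).trans (e ▸ k)

theorem star (F : D.Fa) (R : RP D t O) (Q : RQ D t f cs ds) {g : G} (g1 : g * t = t * g)
    (g2 : D.Frob g) (g3 : g * g = 1) (g4 : IsConj t g) (g5 : IsConj t (t * g)) {x : G}
    (x2 : x * x = 1) (hx : x * t = t * x) : x ∈ D.A ∨ IsConj t x := by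
  by_cases h : ∃ a ∈ D.A, a * x ∈ D.K
  · obtain ⟨a, ha, hk⟩ := h
    have ca : Commute a t := R.tK a ha
    have c1 : Commute a x := by
      have := hk a ha
      rwa [mul_assoc, mul_right_inj] at this
    have e1 : a * x * (a * x) = a * a := by
      rw [mul_assoc, ← mul_assoc x, ← c1.eq, mul_assoc, x2, mul_one]
    have a2 : a * a = 1 := AK F (mul_mem ha ha) (e1 ▸ mul_mem hk hk)
    rcases R.cKt _ hk (ca.mul_left hx).eq with h | h
    · left
      rw [eq_inv_of_mul_eq_one_right (odd_sq R h (e1.trans a2))]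
      exact inv_mem ha
    · right
      have e2 := odd_sq R h (by
        rw [mul_assoc, ← mul_assoc (a * x), (ca.mul_left hx).eq, mul_assoc, e1, a2, mul_one, R.t2])
      rw [← mul_assoc] at e2
      rw [eq_inv_of_mul_eq_one_right e2, mul_inv_rev, inv_eq_of_mul_eq_one_right a2,
        inv_eq_of_mul_eq_one_right R.t2, ca.eq]
      exact tA F R Q ha a2
  · right
    obtain ⟨a, ha, h1⟩ := F.glob.outinv x (R.ct x hx) (x2 ▸ one_mem _) fun a ha e => h ⟨a, ha, e⟩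
    have ca : Commute a t := R.tK a ha
    have e1 : a * x * a⁻¹ * (a * x * a⁻¹) = 1 := by rw [conj_mul, x2]; group
    have k : ∀ g', g' * g' = 1 → IsConj t g' → g'⁻¹ * (a * x * a⁻¹) ∈ O → IsConj t x :=
      fun g' e2 h2 ho => by
        obtain ⟨n, e3⟩ := odd_pow R ho
        obtain ⟨o, e4⟩ : ∃ o, a * x * a⁻¹ = g' * o := ⟨g'⁻¹ * (a * x * a⁻¹), by group⟩
        rw [e4, inv_mul_cancel_left] at e3
        rw [e4, ← mul_assoc, mul_eq_one_iff_eq_inv] at e1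
        have e5 : g' * o * g'⁻¹ = o⁻¹ := by rw [inv_eq_of_mul_eq_one_right e2, e1]
        have e6 : g' * o ^ (n + 1) * g'⁻¹ = (o ^ (n + 1))⁻¹ := by rw [← conj_pow, e5, inv_pow]
        refine (h2.trans (isConj_iff.2 ⟨(o ^ (n + 1))⁻¹, ?_⟩)).trans
          (isConj_iff.2 ⟨a, e4⟩).symm
        rw [inv_inv, ← e6, inv_mul_cancel_right, mul_assoc,
          ← pow_add, show n + 1 + (n + 1) = 2 * n + 1 + 1 by ring, pow_succ, e3, one_mul]
    have cg : Commute g t := g1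
    rcases R.cKt _ (frobK g2 h1) (cg.inv_left.mul_left ((ca.mul_left hx).mul_left ca.inv_left)).eq
      with h2 | h2
    · exact k g g3 g4 h2
    · refine k (t * g) (by rw [mul_assoc, ← mul_assoc g, g1, mul_assoc, g3, mul_one, R.t2]) g5 ?_
      rwa [← g1, mul_inv_rev, inv_eq_of_mul_eq_one_right R.t2, mul_assoc]

theorem f_frob (F : D.Fa) (R : RP D t O) (S : RA D t O f c) (Q : RQ D t f cs ds) {g : G}
    (g1 : g * t = t * g) (g2 : D.Frob g) (g3 : g * g = 1) :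
    ∃ y, g * f om * g⁻¹ = f (om ^ 2) * D.xv y := by
  have h := F.rel
  have ginv : g⁻¹ = g := inv_eq_of_mul_eq_one_right g3
  obtain ⟨n, e0⟩ : ∃ n, g * f om * g⁻¹ = f (om ^ 2) * n := ⟨_, (mul_inv_cancel_left _ _).symm⟩
  have e0' : n = (f (om ^ 2))⁻¹ * (g * f om * g⁻¹) := by rw [e0]; group
  have nP : ∀ p ∈ D.P, n * p = p * n := fun p hp => by
    have := cj_comm (a := g) (S.fP om _ (frob_P h g2 p hp))
    rw [show g * (g * p * g⁻¹) * g⁻¹ = g * g * p * (g * g)⁻¹ by group, g3, one_mul, inv_one,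
      mul_one] at this
    exact e0' ▸ ((show Commute _ p from S.fP _ p hp).inv_left.mul_left this).eq
  have nt : n * t = t * n := by
    have e1 : g * f om * g⁻¹ * t * (g * f om * g⁻¹)⁻¹ = f (om ^ 2) * t * (f (om ^ 2))⁻¹ := by
      rw [cj (S.ft _), ← (g2.1 om).2.2.2.2.2, ← cj g1, conj_mul, conj_mul, ← cj (S.ft om)]
      group
    rw [e0] at e1
    rw [← mul_inv_eq_iff_eq_mul]
    refine (MulAut.conj (f (om ^ 2))).injective ?_
    rw [MulAut.conj_apply, MulAut.conj_apply, ← e1]; group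
  obtain ⟨k, hk, p, hp, rfl⟩ := R.cV n (R.ct n nt) fun x => nP _ (xvP h x)
  obtain ⟨y, rfl⟩ := (mem_V h).1 (F.par.cQA p hp fun y hy => by
    have e1 := nP y (mem_sup_left hy)
    rwa [← mul_assoc, hk y (P_le_A h (mem_sup_left hy)), mul_assoc, mul_assoc, mul_right_inj] at e1)
  have vt : Commute (D.xv y) t := R.tK _ (xvA h y)
  have kt : k * t = t * k := by
    rw [mul_assoc, vt.eq, ← mul_assoc, ← mul_assoc, mul_left_inj] at nt
    exact nt
  have fv : Commute (f (om ^ 2)) (D.xv y) := S.fP _ _ (xvP h y)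
  have kv : Commute k (D.xv y) := (hk _ (xvA h y)).symm
  have e2 : f (om ^ 2) * k * (f (om ^ 2) * k) = 1 := by
    have e3 : g * f om * g⁻¹ * (g * f om * g⁻¹) = 1 := by rw [conj_mul, sq_of Q.f_add]; group
    rwa [e0, ← mul_assoc (f _), ← pow_two, (fv.mul_left kv).mul_pow, pow_two (f _ * k),
      pow_two (D.xv y), sq_of h.vv, mul_one] at e3
  rcases R.cKt k hk kt with ho | ho
  · rw [mul_assoc, ← mul_assoc k, S.fO k ho, mul_assoc, ← mul_assoc, sq_of Q.f_add, one_mul] at e2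
    exact ⟨y, by rw [e0, odd_sq R ho e2, one_mul]⟩
  · exfalso
    obtain ⟨o, rfl⟩ : ∃ o, k = t * o := ⟨t * k, by rw [← mul_assoc, R.t2, one_mul]⟩
    rw [← mul_assoc, R.t2, one_mul] at ho
    have c1 : Commute (f (om ^ 2) * t) o :=
      (show Commute _ o from (S.fO o ho _).symm).mul_left (R.Ot o ho).symm
    have e3 : f (om ^ 2) * t * (f (om ^ 2) * t) = D.xv (om ^ 2) := by
      rw [← mul_assoc, S.ft, mul_assoc (t * _) (f _) (f _), sq_of Q.f_add, mul_one,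
        ← R.tK _ (xvA h _), mul_assoc, R.t2, mul_one]
    rw [← mul_assoc (f _) t, ← pow_two, c1.mul_pow, pow_two, e3] at e2
    refine absurd (xv_ne h (AK F (xvA h (om ^ 2)) ?_)) (by decide +kernel)
    rw [eq_inv_of_mul_eq_one_left e2]
    exact inv_mem (R.OK (pow_mem ho 2))

theorem s_v (h : D.Rel) (S : RA D t O f c) (β x : F4) : Commute (sE D f β) (D.xv x) := by
  have := cj_comm (a := D.nb) (S.fP β _ (xeP h x))
  rwa [cj (h.nbe x), (slB h).ninv] at this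

theorem E_eq (h : D.Rel) (β x : F4) :
    D.nb * (f β * D.xv x) * D.nb⁻¹ = sE D f β * D.xe x := by
  rw [← conj_mul, cj (nbv h x), (slB h).ninv]; rfl

theorem bE_comm (h : D.Rel) (S : RA D t O f c) (Q : RQ D t f cs ds) (x y : F4) :
    D.xb y * (sE D f 1 * D.xe x) = f y * D.xv (y * x) * (sE D f 1 * D.xe x * D.xb y) := by
  have e1 : D.xb y * sE D f 1 = f y * (sE D f 1 * D.xb y) := by
    rw [Q.sb, one_mul, ← mul_assoc, ← mul_assoc, sq_of Q.f_add, one_mul]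
  rw [← mul_assoc, e1, mul_assoc, mul_assoc, h.be, h.ev, mul_assoc (D.xv _),
    ← mul_assoc (sE D f 1), (s_v h S 1 _).eq]
  simp only [mul_assoc]

variable [Finite G]

theorem main (F : D.Fa) (hl : LC D) (R : RP D t O) (S : RA D t O f c) (Q : RQ D t f cs ds) {g : G}
    (g1 : g * t = t * g) (g2 : D.Frob g) (g3 : g * g = 1) (g4 : IsConj t g) (g5 : IsConj t (t * g))
    {x : F4} (gw : f 1 * D.xv x * g = g * (f 1 * D.xv x)) :
    D.na * (sE D f 1 * D.xe x) * D.na⁻¹ * (sE D f 1 * D.xe x) = D.xv 1 * (f 1 * D.xv x) *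
      (sE D f 1 * D.xe x * (D.na * (sE D f 1 * D.xe x) * D.na⁻¹)) := by
  have h := F.rel
  have inA : ∀ k, k * g * k⁻¹ = t → ∀ y, y * y = 1 → y * g = g * y → ¬ IsConj t y →
      k * y * k⁻¹ ∈ D.A := fun k e y y2 yg hy =>
    (star F R Q g1 g2 g3 g4 g5 (by rw [conj_mul, y2]; group) (e ▸ cj_comm yg)).resolve_right
      fun h => hy (h.trans (isConj_iff.2 ⟨k, rfl⟩).symm)
  have inA' : ∀ k, k * g * k⁻¹ = t → ∀ y ∈ D.A, y * y = 1 → g * y * g⁻¹ = y →
      k * y * k⁻¹ ∈ D.A := fun k e y hy y2 yg =>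
    inA k e y y2 (mul_inv_eq_iff_eq_mul.1 yg).symm (notDA F R Q g1 g2 hy y2)
  have gb : g * D.xb 1 * g⁻¹ = D.xb 1 := by rw [(g2.1 1).2.1, one_pow]
  have ge : g * D.xe 1 * g⁻¹ = D.xe 1 := by rw [(g2.1 1).2.2.2.2.1, one_pow]
  have gv : g * D.xv 1 * g⁻¹ = D.xv 1 := by rw [(g2.1 1).2.2.2.2.2, one_pow]
  obtain ⟨k, ek, ez⟩ : ∃ k, k * g * k⁻¹ = t ∧ k * D.xv 1 * k⁻¹ = D.xv 1 := by
    obtain ⟨k, e⟩ := isConj_iff.1 g4.symm
    obtain ⟨a, ha, e1⟩ := long_of F (inA' k e _ (xvA h 1) (sq_of h.vv 1) gv)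
      (by rw [conj_mul, sq_of h.vv]; group)
      (fun e => one_ne_zero (xv_ne h (conj_eq_one_iff.1 e)))
      (inA' k e _ (xbA 1) (sq_of h.bb 1) gb) (inA' k e _ (xeA h 1) (sq_of h.ee 1) ge)
      (cj_comm (h.bv 1 1)) (cj_comm (h.ev 1 1)) (by rw [be1 h]; group)
    refine ⟨a⁻¹ * k, ?_, ?_⟩
    · rw [← cj (R.tK _ (inv_mem ha)), ← e]; group
    · rw [show a⁻¹ * k * D.xv 1 * (a⁻¹ * k)⁻¹ = a⁻¹ * (k * D.xv 1 * k⁻¹) * a by group, e1]; group
  have fv : ∀ y z, Commute (f y) (D.xv z) := fun y z => S.fP y _ (xvP h z)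
  have w2 : f 1 * D.xv x * (f 1 * D.xv x) = 1 := by
    rw [← pow_two, (fv 1 x).mul_pow, pow_two, pow_two, sq_of Q.f_add, sq_of h.vv, one_mul]
  have wP : ∀ p ∈ D.P, Commute (f 1 * D.xv x) p := fun p hp =>
    (show Commute _ p from S.fP 1 p hp).mul_left (P_cen h x hp).symm
  have wE : Commute (f 1 * D.xv x) (sE D f 1 * D.xe x) :=
    ((show Commute _ (sE D f 1) from (Q.sf 1 1).symm).mul_left (s_v h S 1 x).symm).mul_right
      (wP _ (xeP h x))
  have ew : f 1 * D.xv x = D.xb 1 * (sE D f 1 * D.xe x) * (D.xb 1)⁻¹ * (sE D f 1 * D.xe x)⁻¹ := by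
    rw [bE_comm h S Q, one_mul]; group
  have wt : ∀ y, f 1 * D.xv x ≠ D.xv y := fun y e => by
    have e1 := S.ft 1
    rw [eq_mul_inv_of_mul_eq e, inv_of h.vv, ← h.vv, R.tK _ (xvA h _), mul_assoc, mul_right_inj,
      eq_comm, mul_eq_right] at e1
    exact one_ne_zero (xv_ne h e1)
  have wA := inA k ek _ w2 gw (notD F R g1 g2 (wP _ (xbP h 1)).symm.eq wE.symm.eq ew)
  have nA := inA' k ek _ naA h.na2 (cj g2.2.1)
  have mA := inA' k ek _ nbA h.nb2 (cj g2.2.2)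
  have ee : k * D.nb * k⁻¹ * D.xv 1 * (k * D.nb * k⁻¹)⁻¹ = k * D.xe 1 * k⁻¹ := by
    rw [← cj (nbv h 1)]; conv_lhs => rw [← ez]
    group
  have eb : k * D.na * k⁻¹ * (k * D.nb * k⁻¹) * D.xv 1 * (k * D.na * k⁻¹ * (k * D.nb * k⁻¹))⁻¹ =
      k * D.xb 1 * k⁻¹ := by
    rw [← cj (nae h 1), ← cj (nbv h 1)]; conv_lhs => rw [← ez]
    group
  have eE : k * D.nb * k⁻¹ * (k * (f 1 * D.xv x) * k⁻¹) * (k * D.nb * k⁻¹)⁻¹ =
      k * (sE D f 1 * D.xe x) * k⁻¹ := by rw [← E_eq h]; group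
  have ew' : k * (f 1 * D.xv x) * k⁻¹ = k * D.xb 1 * k⁻¹ * (k * (sE D f 1 * D.xe x) * k⁻¹) *
      (k * D.xb 1 * k⁻¹)⁻¹ * (k * (sE D f 1 * D.xe x) * k⁻¹)⁻¹ := by
    conv_lhs => rw [ew]
    group
  have cz : ∀ y, y * D.xv 1 = D.xv 1 * y → k * y * k⁻¹ * D.xv 1 = D.xv 1 * (k * y * k⁻¹) :=
    fun y e => by simpa only [ez] using cj_comm (a := k) e
  have key := keyK F hl (w := k * (f 1 * D.xv x) * k⁻¹) mA (mul_mem nA mA)
    (by rw [ee]; exact cz _ (h.ev 1 1)) (by rw [eb]; exact cz _ (h.bv 1 1))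
    (by
      rw [ee, eb, ← ez, conj_mul, conj_mul, conj_mul, h.be, h.ev, one_mul, mul_assoc (D.xv 1)])
    (long_of F wA (by rw [conj_mul, w2]; group)
      (fun e => wt 0 (by rw [conj_eq_one_iff.1 e, zero_of h.vv]))
      (inA' k ek _ (xbA 1) (sq_of h.bb 1) gb) (eE ▸ cjm mA wA)
      (cj_comm (wP _ (xbP h 1)).symm.eq) (cj_comm wE.symm.eq) ew')
    (cz _ (wP _ (xvP h 1)).eq)
    (by rw [ee]; exact cj_comm (wP _ (xeP h 1)).eq) (by rw [eb]; exact cj_comm (wP _ (xbP h 1)).eq)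
    (fun e => wt 1 ((MulAut.conj k).injective (e.trans ez.symm)))
  refine (MulAut.conj k).injective ?_
  rw [← ez] at key
  rw [MulAut.conj_apply, MulAut.conj_apply, ← E_eq h]
  calc _ = _ := by group
    _ = _ := key
    _ = _ := by group

omit [Finite G] in
theorem pure : PureStmt.{u} := fun G _ _ D t O f cs ds c F hl R S Q g g1 g2 g3 g4 g5 => by
  have h := F.rel
  obtain ⟨x, e⟩ := f_frob F R S Q g1 g2 g3
  have fv : ∀ y z, Commute (f y) (D.xv z) := fun y z => S.fP y _ (xvP h z)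
  have vv : ∀ y z, Commute (D.xv y) (D.xv z) := fun y z => P_cen h z (xvP h y)
  have ff : ∀ y z, Commute (f y) (f z) := S.ff
  have o1 : om + om ^ 2 = 1 := by decide +kernel
  have fix : ∀ g y, g * g = 1 → g * f om * g⁻¹ = f (om ^ 2) * D.xv y →
      f 1 * D.xv y * g = g * (f 1 * D.xv y) := fun g y g3 e => by
    have c1 : Commute (f om) (g * f om * g⁻¹) := e ▸ (ff _ _).mul_right (fv _ _)
    rw [← o1, Q.f_add, mul_assoc (f om), ← e, eq_comm, ← mul_inv_eq_iff_eq_mul, ← conj_mul, c1.eq,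
      show g * (g * f om * g⁻¹) * g⁻¹ = g * g * f om * (g * g)⁻¹ by group, g3, one_mul, inv_one,
      mul_one]
  have tinv : t⁻¹ = t := inv_eq_of_mul_eq_one_right R.t2
  have t3 : t * g * (t * g) = 1 := by rw [mul_assoc, ← mul_assoc g, g1, mul_assoc, g3, mul_one, R.t2]
  have e' : t * g * f om * (t * g)⁻¹ = f (om ^ 2) * D.xv (x + om ^ 2) := by
    have e1 : t * f (om ^ 2) * t⁻¹ = f (om ^ 2) * D.xv (om ^ 2) := by
      rw [tinv, mul_assoc, S.ft, ← mul_assoc, ← mul_assoc, R.t2, one_mul, (fv _ _).eq]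
    rw [show t * g * f om * (t * g)⁻¹ = t * (g * f om * g⁻¹) * t⁻¹ by group, e, ← conj_mul, e1,
      cj (R.tK _ (xvA h x)).symm, mul_assoc, ← h.vv, add_comm]
  have m1 := main F hl R S Q g1 g2 g3 g4 g5 (fix g x g3 e)
  have m2 := main F hl R S Q (g := t * g) (by rw [mul_assoc, g1]) (frob_mul h R.tK g2) t3 g5
    (by rwa [← mul_assoc, R.t2, one_mul]) (fix _ _ t3 e')
  have fn : ∀ y, Commute (f y) D.na := fun y => S.fP y _ naP
  have vn : ∀ y, Commute (D.xv y) D.na := fun y => (h.nav y).symm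
  have fE : ∀ y, Commute (f y) (sE D f 1 * D.xe x) := fun y =>
    (show Commute _ (sE D f 1) from (Q.sf 1 y).symm).mul_right (S.fP y _ (xeP h x))
  have vE : ∀ y, Commute (D.xv y) (sE D f 1 * D.xe x) := fun y =>
    (s_v h S 1 y).symm.mul_right (h.ev x y).symm
  have c2 : f (om ^ 2) * D.xv (om ^ 2 * x) * (f (om ^ 2) * D.xv (om ^ 2 * x)) = 1 := by
    rw [← pow_two, (fv _ _).mul_pow, pow_two (f _), pow_two (D.xv _), sq_of Q.f_add, sq_of h.vv,
      one_mul]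
  have h3 := bE_comm h S Q x (om ^ 2)
  have h2 : D.na * (sE D f 1 * D.xe x) * D.na⁻¹ * D.xe (om ^ 2) = f (om ^ 2) * D.xv (om ^ 2 * x) *
      (D.xe (om ^ 2) * (D.na * (sE D f 1 * D.xe x) * D.na⁻¹)) := by
    rw [← cj (h.nab (om ^ 2)), conj_mul, conj_mul, h3, ← conj_mul (a := f _ * D.xv _),
      cj ((fn _).mul_left (vn _)).symm.eq, ← mul_assoc (f _ * D.xv _), c2, one_mul]
  have h4 : D.xb (om ^ 2) * D.xe (om ^ 2) =
      D.xv (om ^ 2 * om ^ 2) * (D.xe (om ^ 2) * D.xb (om ^ 2)) := by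
    rw [h.be, h.ev, mul_assoc]
  have m3 := bilin m1 h2 h3 h4
    ((((fn _).mul_left (vn _)).mul_right ((fE _).mul_left (vE _))).mul_right
      ((fn _).mul_left (vn _)).inv_right) ((fE _).mul_left (vE _))
    (((vn _).mul_right (vE _)).mul_right (vn _).inv_right) (vE _) c2
    (((fv _ _).symm.mul_right (vv _ _)).mul_left (((ff _ _).mul_right (fv _ _)).mul_left
      ((fv _ _).symm.mul_right (vv _ _)))) ((fv _ _).symm.mul_right (vv _ _))
    ((vv _ _).mul_right ((fv _ _).symm.mul_right (vv _ _)))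
  rw [h.ee, ← mul_assoc (sE D f 1), ← conj_mul, cj (nae h _), m3, mul_left_inj, mul_assoc,
    mul_assoc, mul_right_inj, mul_right_inj, h.vv x, mul_right_inj] at m2
  exact absurd (xv_inj h m2) (by decide +kernel)

end Cfsg.Agent.H44.AP
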