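import Cfsg.Agent.H44.TpB

/-! Groups generated by an irreducible class of transvections: the assembly. -/

set_option autoImplicit false
set_option linter.unusedSectionVars false
set_option linter.unusedSimpArgs false
set_option linter.style.haveILetI false

namespace Cfsg.Agent.H44.Tp

open Matrix Cfsg.Geo H26 H25 H25.L45
open scoped MatrixGroups commutatorElement

universe u

variable {F : Type u} [Field F] {n : ℕ} {P : Subgroup (GL (Fin n) F)}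

theorem exists_good' (h3 : T3Stmt.{u}) [Fintype F] (h : CT P)
    {u θ v φ w ψ : Fin n → F} (h1 : TT P u θ) (h2 : Tv P v φ) (h4 : Tv P w ψ)
    (ht : tri u θ v φ w ψ ≠ 0) : ∃ F₀, Good P F₀ := by
  have hT : Inv P fun x ξ => TT P x ξ ∧ ∃ v φ w ψ, Tv P v φ ∧ Tv P w ψ ∧ tri x ξ v φ w ψ ≠ 0 :=
    ⟨fun _ _ h => h.1, fun g hg x ξ ⟨a1, v, φ, w, ψ, a2, a3, a4⟩ => ⟨a1.conj hg, _, _, _, _,
      a2.conj hg, a3.conj hg, by rwa [tri_conj]⟩, u, θ, h1, v, φ, w, ψ, h2, h4, ht⟩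
  have k1 : ∀ x ξ y η, Tv P x ξ → Tv P y η → ξ ⬝ᵥ y ≠ 0 → η ⬝ᵥ x ≠ 0 →
      ∃ z ζ, Tv P z ζ ∧ tri x ξ y η z ζ ≠ 0 := fun x ξ y η hx hy c1 c2 => by
    have hx' := tt_of_left hx c2 c1
    obtain ⟨r, ρ, ⟨a1, v, φ, w, ψ, a2, a3, a4⟩, a5, a6⟩ := h.opp hT hx'.1 hx'.2.1
    obtain ⟨z, ζ, b1, b2⟩ := exists_tri_of_opp a1.2.2 a2 a3 a4 (mul_ne_zero a6 a5) hx.1
    exact exists_tri_of_opp hx b1 a1.2.2 (by rwa [← tri_rot]) (mul_ne_zero c1 c2) hy.1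
  have k2 : ∀ x ξ y η, Tv P x ξ → Tv P y η → ξ ⬝ᵥ y ≠ 0 → η ⬝ᵥ x ≠ 0 →
      (∃ F₀ : Subfield F, (∀ a : F, Tv P (a • x) ξ ↔ a ∈ F₀) ∧ (∀ a : F, Tv P (a • y) η ↔ a ∈ F₀) ∧
        (ξ ⬝ᵥ y) * (η ⬝ᵥ x) ∈ F₀) ∨ ((2 : F) = 0 ∧ (∀ a : F, Tv P (a • x) ξ → a = 0 ∨ a = 1) ∧
        ∀ a : F, Tv P (a • y) η → a = 0 ∨ a = 1) := fun x ξ y η hx hy c1 c2 => by
    obtain ⟨z, ζ, hz, ht⟩ := k1 x ξ y η hx hy c1 c2
    obtain ⟨E, Φ, e, hI, k⟩ := exists_blk_of_tri hx hy hz ht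
    have k0 := k 0
    have k1 := k 1
    simp only [cons_val_zero, cons_val_one] at k0 k1
    have a0 : ∀ a : F, Tv (P.comap (blk E Φ e)) (a • Pi.single 0 1) (ξ ᵥ* E) ↔ Tv P (a • x) ξ :=
      fun a => by rw [tv_blk, mulVec_smul, k0.1, k0.2]
    have a1 : ∀ a : F, Tv (P.comap (blk E Φ e)) (a • Pi.single 1 1) (η ᵥ* E) ↔ Tv P (a • y) η :=
      fun a => by rw [tv_blk, mulVec_smul, k1.1, k1.2]
    have b0 : Tv (P.comap (blk E Φ e)) (Pi.single 0 1) (ξ ᵥ* E) := by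
      simpa using (a0 1).2 (by simpa using hx)
    have b1 : Tv (P.comap (blk E Φ e)) (Pi.single 1 1) (η ᵥ* E) := by
      simpa using (a1 1).2 (by simpa using hy)
    have d0 : (ξ ᵥ* E) ⬝ᵥ Pi.single 1 1 = ξ ⬝ᵥ y := by rw [← dotProduct_mulVec, k1.1]
    have d1 : (η ᵥ* E) ⬝ᵥ Pi.single 0 1 = η ⬝ᵥ x := by rw [← dotProduct_mulVec, k0.1]
    have t0 := tt_of_left b0 (d1 ▸ c2) (d0 ▸ c1)
    have t1 := tt_of_left b1 (d0 ▸ c1) (d1 ▸ c2)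
    rcases h3 F _ (fun g hg => (blk_mem_SL e).1 (h.sl hg)) hI _ _ _ _ b0 b1
      (by rw [d0, d1]; exact mul_ne_zero c1 c2) with ⟨F₀, hG⟩ | ⟨e2, hS, -⟩
    · exact Or.inl ⟨F₀, fun a => (a0 a).symm.trans (hG.root _ _ t0 a),
        fun a => (a1 a).symm.trans (hG.root _ _ t1 a), d0 ▸ d1 ▸ hG.pair _ _ _ _ b0 b1⟩
    · exact Or.inr ⟨e2, fun a ha => hS _ _ t0 a ((a0 a).2 ha), fun a ha => hS _ _ t1 a ((a1 a).2 ha)⟩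
  have k3 : ∀ x ξ, TT P x ξ → ∀ a : F, Tv P (a • x) ξ ↔ Tv P (a • u) θ := fun x ξ hx =>
    h.conn (Q := fun x ξ => ∀ a : F, Tv P (a • x) ξ ↔ Tv P (a • u) θ) h1 (fun _ => Iff.rfl)
      (fun x ξ y η hx hy c1 c2 H a => by
        rw [← H]
        rcases k2 x ξ y η hx hy c1 c2 with ⟨F₀, a1, a2, -⟩ | ⟨-, a1, a2⟩
        · rw [a1, a2]
        · constructor <;> intro ha
          · rcases a2 a ha with rfl | rfl <;> simp [Tv.zero_left, hx]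
          · rcases a1 a ha with rfl | rfl <;> simp [Tv.zero_left, hy]) hx
  by_cases hS : (2 : F) = 0 ∧ L45.Small P
  · refine ⟨subTwo hS.1, fun x ξ hx a => ⟨hS.2 x ξ hx a, ?_⟩, fun x ξ y η hx hy => ?_⟩
    · rintro (rfl | rfl) <;> simp [Tv.zero_left, hx.2.2]
    · by_cases c : ξ ⬝ᵥ y * η ⬝ᵥ x = 0
      · exact Or.inl c
      obtain ⟨z, ζ, hz, ht⟩ := k1 x ξ y η hx hy (left_ne_zero_of_mul c) (right_ne_zero_of_mul c)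
      exact tmon' h3 h hS.1 hS.2 _ _ _ _ _ _ hx hy hz ht
  have k4 := fun x ξ y η hx hy c1 c2 => (k2 x ξ y η hx hy c1 c2).resolve_right fun H =>
    hS ⟨H.1, fun z ζ hz a ha => H.2.1 a ((k3 x ξ (tt_of_left hx c2 c1) a).2 ((k3 z ζ hz a).1 ha))⟩
  obtain ⟨x, ξ, a1, a2, a3⟩ := h.opp (inv_tt ⟨u, θ, h1⟩) h1.1 h1.2.1
  obtain ⟨F₀, b1, -⟩ := k4 _ _ _ _ h1.2.2 a1.2.2 a2 a3
  refine ⟨F₀, fun x ξ hx a => (k3 x ξ hx a).trans (b1 a), fun x ξ y η hx hy => ?_⟩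
  by_cases c : ξ ⬝ᵥ y * η ⬝ᵥ x = 0
  · exact c ▸ zero_mem _
  obtain ⟨F₁, b2, -, b3⟩ := k4 _ _ _ _ hx hy (left_ne_zero_of_mul c) (right_ne_zero_of_mul c)
  exact (b1 _).1 ((k3 x ξ (tt_of_left hx (right_ne_zero_of_mul c) (left_ne_zero_of_mul c)) _).1
    ((b2 _).2 b3))

section

variable {F₀ : Subfield F} (hG : Good P F₀) {v₀ φ₀ : Fin n → F} (h0 : TT P v₀ φ₀)
include hG h0

/-- two axes on a centre force rationality -/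
theorem rational' (h : CT P) {x ξ ζ y : Fin n → F} (hx : TT P x ξ) (hζ : Tv P x ζ)
    (hy : ξ ⬝ᵥ y = 0) (hy' : ζ ⬝ᵥ y ≠ 0) {v θ w η : Fin n → F} (h1 : Nb P v₀ φ₀ v θ)
    (h2 : Nb P v₀ φ₀ w η) : η ⬝ᵥ v ∈ F₀ := by
  obtain ⟨ζ, hζ, y, hy, hy'⟩ := h.conn (Q := fun x ξ => ∃ ζ, Tv P x ζ ∧ ∃ y, ξ ⬝ᵥ y = 0 ∧
      ζ ⬝ᵥ y ≠ 0) hx ⟨ζ, hζ, y, hy, hy'⟩ (fun u φ w ψ hu hw c1 c2 ⟨ζ, hζ, y, hy, hy'⟩ => by
    have r : ζ ⬝ᵥ w / φ ⬝ᵥ w ∈ F₀ := by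
      convert div_mem (hG.pair _ _ _ _ hζ hw) (hG.pair _ _ _ _ hu hw) using 1
      field_simp
    have a1 := hζ.sub_right ((Tv.smul_iff _).1 (hG.smul hu r))
    refine ⟨_, (Tv.smul_iff _).1 (a1.comm_left hw (by simp [c1])), y - (ψ ⬝ᵥ y / ψ ⬝ᵥ u) • u,
      by simp [c2], ?_⟩
    simp [hy, hy', c2, hu.1, hζ.1]) (hG.tt h0 h1)
  by_contra hn
  have t1 := (hG.tt h0 h1).2.2
  have base : ∀ {v θ w η}, Nb P v₀ φ₀ v θ → Nb P v₀ φ₀ w η → η ⬝ᵥ v ∉ F₀ →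
      (φ₀ ⬝ᵥ v = 1 ∧ θ ⬝ᵥ v₀ = -1) ∧ φ₀ ⬝ᵥ w = 1 ∧ η ⬝ᵥ v₀ = -1 := by
    rintro v θ w η (⟨rfl, rfl⟩ | ⟨a1, a2, -⟩) (⟨rfl, rfl⟩ | ⟨b1, b2, -⟩) hn
    · exact (hn (h0.2.2.1 ▸ zero_mem _)).elim
    · exact (hn (b2 ▸ neg_mem (one_mem _))).elim
    · exact (hn (a1 ▸ one_mem _)).elim
    · exact ⟨⟨a1, a2⟩, b1, b2⟩
  obtain ⟨⟨a1, a2⟩, b1, b2⟩ := base h1 h2 hn
  have r : ζ ⬝ᵥ v₀ ∈ F₀ := by simpa [a1] using hG.pair _ _ _ _ hζ h0.2.2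
  obtain ⟨ζ, hζ, z0, z1⟩ : ∃ ζ, Tv P v ζ ∧ ζ ⬝ᵥ v₀ = 0 ∧ ζ ≠ 0 :=
    ⟨_, hζ.add_right ((Tv.smul_iff _).1 (hG.smul t1 r)), by simp [a2], fun e => hy' (by
      simpa [hy] using congrArg (· ⬝ᵥ y) e)⟩
  have z2 : ∀ w η, Nb P v₀ φ₀ w η → ζ ⬝ᵥ w ∈ F₀ := fun w η h2 => by
    have := hG.diff h0 (v := v) (θ := θ + ζ) (Or.inr ⟨a1, by simp [a2, z0], 1, one_ne_zero,
      by simpa using t1.add_right hζ⟩) h2
    convert sub_mem this (hG.diff h0 h1 h2) using 1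
    simp
  have z3 : ∀ w η, Nb P v₀ φ₀ w η → ζ ⬝ᵥ w ≠ 0 → η ⬝ᵥ v ∈ F₀ := fun w η h2 e => by
    convert div_mem (hG.pair _ _ _ _ hζ (hG.tt h0 h2).2.2) (z2 w η h2) using 1
    field_simp
  obtain ⟨s, χ, h3, z4⟩ : ∃ s χ, Nb P v₀ φ₀ s χ ∧ ζ ⬝ᵥ s ≠ 0 := by
    by_contra H
    push Not at H
    have : Submodule.span F {v | ∃ θ, Nb P v₀ φ₀ v θ} ≤ LinearMap.ker (dotProductBilin F F ζ) :=
      Submodule.span_le.2 fun s ⟨χ, hs⟩ => H s χ hs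
    exact z1 (dotProduct_eq_zero _ fun x => this (h.span_centres h0 ▸ trivial))
  have t3 := (hG.tt h0 h3).2.2
  obtain ⟨c1, c2⟩ : φ₀ ⬝ᵥ s = 1 ∧ χ ⬝ᵥ v₀ = -1 := by
    rcases h3 with ⟨rfl, rfl⟩ | ⟨c1, c2, -⟩
    exacts [absurd z0 z4, ⟨c1, c2⟩]
  have main : ∀ w η, Nb P v₀ φ₀ w η → χ ⬝ᵥ w ≠ 0 → η ⬝ᵥ v ∈ F₀ := fun w η h2 e => by
    by_contra hn
    obtain ⟨-, b1, b2⟩ := base h1 h2 hn
    have z5 : ζ ⬝ᵥ w = 0 := by_contra fun e => hn (z3 w η h2 e)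
    have t4 := (hG.tt h0 h2).2.2.conj_tv t3
    by_cases e1 : χ ⬝ᵥ w ∈ F₀
    · have e2 : η ⬝ᵥ s ∈ F₀ := by simpa using sub_mem e1 (hG.diff h0 h3 h2)
      have := hG.pair _ _ _ _ hζ t4
      simp only [dotProduct_add, dotProduct_smul, sub_dotProduct, smul_dotProduct, smul_eq_mul,
        z5] at this
      apply hn
      convert add_mem (div_mem this (mul_mem e1 (z2 _ _ h3))) (mul_mem e2 (z3 _ _ h3 z4)) using 1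
      field_simp
      ring
    have e2 : η ⬝ᵥ s ∉ F₀ := fun e2 => e1 (by simpa using add_mem (hG.diff h0 h3 h2) e2)
    have m1 : 1 + χ ⬝ᵥ w ≠ 0 := fun e => e1 (by
      rw [eq_neg_of_add_eq_zero_right e]; exact neg_mem (one_mem _))
    have m2 : 1 - η ⬝ᵥ s ≠ 0 := fun e => e2 (by rw [← sub_eq_zero.1 e]; exact one_mem _)
    have := z2 ((1 + χ ⬝ᵥ w)⁻¹ • (w + (χ ⬝ᵥ w) • s)) ((1 - η ⬝ᵥ s)⁻¹ • (η - (η ⬝ᵥ s) • χ))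
      (Or.inr ⟨by simp [b1, c1]; field_simp, by simp [b2, c2]; field_simp; ring,
        (1 - η ⬝ᵥ s) * (1 + χ ⬝ᵥ w), mul_ne_zero m2 m1, by
        rw [← Tv.smul_iff, smul_smul, smul_smul]
        convert t4 using 1
        rw [show (1 - η ⬝ᵥ s)⁻¹ * ((1 - η ⬝ᵥ s) * (1 + χ ⬝ᵥ w)) * (1 + χ ⬝ᵥ w)⁻¹ = 1 by field_simp,
          one_smul]⟩)
    simp only [dotProduct_add, dotProduct_smul, smul_eq_mul, z5] at this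
    apply e1
    convert sub_mem (inv_mem (sub_mem (one_mem F₀) (div_mem this (z2 _ _ h3)))) (one_mem _) using 1
    rw [show 1 - (1 + χ ⬝ᵥ w)⁻¹ * (0 + χ ⬝ᵥ w * ζ ⬝ᵥ s) / ζ ⬝ᵥ s = (1 + χ ⬝ᵥ w)⁻¹ by
      field_simp; ring]
    simp
  by_cases e : χ ⬝ᵥ w = 0
  · have := main (w + v₀) (η + φ₀) (Or.inr ⟨by simp [b1, h0.2.2.1], by simp [b2, h0.2.2.1], 1,
      one_ne_zero, by simpa [b1, b2] using (hG.tt h0 h2).2.2.conj_tv h0.2.2⟩) (by simp [e, c2])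
    exact hn (by simpa [a1] using sub_mem this (one_mem F₀))
  · exact hn (main w η h2 e)

end

theorem tp : C6.TpStmt.{u} := by
  intro F _ _ n P hc ht hsub hni hnine
  have h : CT P := ⟨hc, hnine⟩
  have h3 : T3Stmt.{u} := H30.T3.t3
  obtain ⟨v₀, φ₀, h0⟩ := exists_tt ht
  by_cases hs : ∀ v θ w η, Nb P v₀ φ₀ v θ → Nb P v₀ φ₀ w η → θ ⬝ᵥ w = -η ⬝ᵥ v
  · obtain ⟨f, hf, h1, h2⟩ := h.exists_form h0 (σ := idF F) (fun _ => rfl)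
      (fun v θ w η a b => by simpa using hs v θ w η a b) fun _ _ _ _ _ => rfl
    let W : Submodule F (Fin n → F) :=
      { carrier := {x | f x x = 0}
        add_mem' := fun {x y} hx hy => by
          simp only [Set.mem_ofPred_eq, hf.sesq.add_left, hf.sesq.add_right] at hx hy ⊢
          rw [hx, hy, hf.herm y x]
          simp
        zero_mem' := hf.sesq.zero_left 0
        smul_mem' := fun c x hx => by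
          simp only [Set.mem_ofPred_eq, hf.sesq.smul_left, hf.sesq.smul_right] at hx ⊢
          simp [hx] }
    have : Submodule.span F {v | ∃ θ, Nb P v₀ φ₀ v θ} ≤ W := Submodule.span_le.2
      fun v ⟨θ, hv⟩ => (h2 v θ hv v).trans (by
        rcases hv with ⟨rfl, rfl⟩ | ⟨-, -, a, ha, h4⟩
        exacts [h0.2.2.1, by simpa [ha] using h4.1])
    refine Or.inl ⟨f, hf.isSymplecticForm fun v => this (h.span_centres h0 ▸ trivial), ?_⟩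
    rintro _ ⟨g, hg, rfl⟩
    exact mem_isom.1 (h1 hg)
  have base : ∀ {v θ w η}, Nb P v₀ φ₀ v θ → Nb P v₀ φ₀ w η → θ ⬝ᵥ w + η ⬝ᵥ v ≠ 0 →
      (φ₀ ⬝ᵥ v = 1 ∧ θ ⬝ᵥ v₀ = -1 ∧ ∃ a : F, a ≠ 0 ∧ Tv P (a • v) θ) ∧
        φ₀ ⬝ᵥ w = 1 ∧ η ⬝ᵥ v₀ = -1 ∧ ∃ a : F, a ≠ 0 ∧ Tv P (a • w) η := by
    rintro v θ w η (⟨rfl, rfl⟩ | a1) (⟨rfl, rfl⟩ | b1) hn
    · simp [h0.2.2.1] at hn
    · simp [b1.1, b1.2.1] at hn
    · simp [a1.1, a1.2.1] at hn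
    · exact ⟨a1, b1⟩
  push Not at hs
  obtain ⟨v, θ, w, η, h1, h2, hn⟩ := hs
  replace hn : θ ⬝ᵥ w + η ⬝ᵥ v ≠ 0 := fun e => hn (by simpa using eq_neg_of_add_eq_zero_left e)
  obtain ⟨⟨a1, a2, a, ha, a3⟩, b1, b2, b, hb, b3⟩ := base h1 h2 hn
  have ht : tri v₀ φ₀ (a • v) θ (b • w) η ≠ 0 := by
    simp only [tri, dotProduct_smul, smul_eq_mul, a1, a2, b1, b2]
    convert neg_ne_zero.2 (mul_ne_zero (mul_ne_zero ha hb) hn) using 1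
    ring
  obtain ⟨F₀, hG⟩ := exists_good' h3 h h0 a3 b3 ht
  have hr : ∀ v θ (a : F), Nb P v₀ φ₀ v θ → Tv P (a • v) θ → a ∈ F₀ := fun v θ a h1 h2 =>
    (hG.root _ _ (hG.tt h0 h1) a).1 h2
  by_cases hl : ∃ v θ w η, Nb P v₀ φ₀ v θ ∧ Nb P v₀ φ₀ w η ∧ θ ⬝ᵥ w ∈ F₀ ∧ θ ⬝ᵥ w + η ⬝ᵥ v ≠ 0
  · obtain ⟨v, θ, w, η, h1, h2, hm, hn⟩ := hl
    obtain ⟨⟨a1, a2, -⟩, b1, b2, -⟩ := base h1 h2 hn
    have t1 := hG.tt h0 h1
    have t2 := (hG.tt h0 h2).2.2.conj_tv (hG.smul h0.2.2 hm)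
    simp only [dotProduct_smul, smul_eq_mul, b1, b2, one_smul] at t2
    have c1 : θ ⬝ᵥ (w + (θ ⬝ᵥ w) • v₀) = 0 := by simp [a2]
    have c2 : (η - (θ ⬝ᵥ w * -1) • φ₀) ⬝ᵥ v ≠ 0 := by simpa [a1, add_comm] using hn
    have t3 := t1.2.2.comm_left t2 c1
    obtain ⟨y, hy⟩ : ∃ y, θ ⬝ᵥ y ≠ 0 := ⟨v₀, by simp [a2]⟩
    have t4 : TT P (w + (θ ⬝ᵥ w) • v₀) _ := tt_of_left (θ := φ₀) t2 (by simp [b1, h0.2.2.1]) c2
    have hF : F₀ = ⊤ := by_contra fun e => hsub F₀ e (h.realisable_of_nbs h0 (fun _ _ _ _ a b =>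
      rational' hG h0 h t4 ((Tv.smul_iff _).1 t3) (y := y - ((η - (θ ⬝ᵥ w * -1) • φ₀) ⬝ᵥ y /
        (η - (θ ⬝ᵥ w * -1) • φ₀) ⬝ᵥ v) • v) (by
          rw [dotProduct_sub, dotProduct_smul, smul_eq_mul, div_mul_cancel₀ _ c2, sub_self])
        (by rw [smul_dotProduct, dotProduct_sub, dotProduct_smul, t1.2.2.1, smul_zero, sub_zero]
            exact mul_ne_zero c2 hy) b a) hr)
    refine Or.inr ((tlin' h (fun v φ hv a => hG.smul hv (hF ▸ trivial)) _ _ θ t1.2.1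
      t1.2.2 t3 (LinearIndependent.pair_iff.2 fun s t e => ?_)))
    have e1 := congrArg ((η - (θ ⬝ᵥ w * -1) • φ₀) ⬝ᵥ ·) e
    simp only [dotProduct_add _ (s • v), dotProduct_smul, t2.1, smul_zero, add_zero,
      dotProduct_zero, smul_eq_mul, mul_zero] at e1
    have e2 : s = 0 := (mul_eq_zero.1 e1).resolve_right c2
    rw [e2, zero_smul, zero_add, smul_smul] at e
    exact ⟨e2, (mul_eq_zero.1 ((smul_eq_zero.1 e).resolve_right t4.1)).resolve_right c2⟩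
  push Not at hl
  haveI := Fintype.ofFinite F₀
  let τ := FiniteField.frobeniusAlgEquivOfAlgebraic F₀ F
  have τ1 : ∀ x ∈ F₀, τ x = x := fun x hx => τ.commutes ⟨x, hx⟩
  have τ2 : ∀ x, τ x = x → x ∈ F₀ := fun x hx => by
    obtain ⟨y, rfl⟩ := (IsGalois.mem_range_algebraMap_iff_fixed (F := F₀) x).2 fun g => by
      obtain ⟨k, rfl⟩ := (FiniteField.bijective_frobeniusAlgEquivOfAlgebraic_pow F₀ F).2 g
      exact (AlgEquiv.coe_pow τ k).symm ▸ Function.iterate_fixed hx k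
    exact y.2
  have τ3 : ∀ v θ w η, Nb P v₀ φ₀ v θ → Nb P v₀ φ₀ w η → θ ⬝ᵥ w = -τ (η ⬝ᵥ v) := by
    intro v θ w η h1 h2
    have e1 := τ1 _ (hG.diff h0 h1 h2)
    have e2 := τ1 _ (hG.pair _ _ _ _ (hG.tt h0 h1).2.2 (hG.tt h0 h2).2.2)
    rw [map_sub] at e1
    rw [map_mul] at e2
    by_cases e : τ (η ⬝ᵥ v) = η ⬝ᵥ v
    · rw [e]
      exact eq_neg_of_add_eq_zero_right (hl _ _ _ _ h2 h1 (τ2 _ e))
    · apply mul_left_cancel₀ (sub_ne_zero.2 e)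
      linear_combination e2 - τ (η ⬝ᵥ v) * e1
  have hF : (RingHom.comp (τ : F →+* F) (τ : F →+* F)).eqLocusField (RingHom.id F) = ⊤ :=
    by_contra fun e => hsub _ e (h.realisable_of_nbs h0 (fun v θ w η a b => by
      change τ (τ _) = _
      rw [← neg_neg (τ (θ ⬝ᵥ w)), ← τ3 _ _ _ _ b a, map_neg, ← τ3 _ _ _ _ a b]
      rfl) fun v θ a h1 h2 => by
      change τ (τ _) = _
      rw [τ1 _ (hr v θ a h1 h2), τ1 _ (hr v θ a h1 h2)]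
      rfl)
  have e1 : τ (θ ⬝ᵥ w) = -(η ⬝ᵥ v) := by rw [τ3 _ _ _ _ h2 h1, neg_neg]
  have e2 : τ (θ ⬝ᵥ w) = θ ⬝ᵥ w := hni τ.toRingEquiv (fun x => (hF.ge (Subfield.mem_top x) :)) _
  exact absurd (by linear_combination e1 - e2) hn

end Cfsg.Agent.H44.Tp
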