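import Mathlib
import Cfsg.Prelude.Def_Spor_Suz
import Cfsg.Agent.H44.Pres
import Cfsg.Agent.H44.Perm

set_option autoImplicit false
set_option maxRecDepth 1000000
set_option linter.all false
set_option Elab.async false

namespace Cfsg.Agent.H44.Suz

open Cfsg.Agent.H44 Cfsg.Agent.H43 

/-- Letters for the generators. -/
def D : PD Cfsg.Spor.Suz.Gen where
  nc := 7
  gens := [.a, .b, .c, .d, .e, .f, .g]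
  enc := fun x => match x with | .a => 1 | .b => 2 | .c => 3 | .d => 4 | .e => 5 | .f => 6 | .g => 7
  dec := fun x => match x with | 1 => .a | 2 => .b | 3 => .c | 4 => .d | 5 => .e | 6 => .f | _ => .g
  iv := fun x => [0, 1, 2, 3, 4, 5, 6, 7].getD x 0
  es := [(.mul (.l .a) (.inv (.pow (.mul (.l .c) (.l .d)) 4))),
    (.mul (.l .a) (.inv (.pow (.mul (.l .f) (.l .g)) 2))),
    (.pow (.mul (.mul (.mul (.l .a) (.l .b)) (.l .c)) (.l .f)) 5),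
    (.pow (.mul (.mul (.l .b) (.l .f)) (.l .g)) 5),
    (.pow (.mul (.pow (.mul (.mul (.mul (.mul (.l .b) (.l .c)) (.l .d)) (.l .c)) (.l .d)) 5) (.l .e)) 3)]

theorem ok : D.Ok Cfsg.Spor.Suz.edges Cfsg.Spor.Suz.extra :=
  ⟨fun a => by cases a <;> simp [D], by decide +kernel, by decide +kernel, by decide +kernel, rfl⟩

/-- All relators. -/
def Rm : List (List ℕ) := [
  [1, 1],
  [2, 2],
  [3, 3],
  [4, 4],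
  [5, 5],
  [6, 6],
  [7, 7],
  [1, 2, 1, 2, 1, 2, 1, 2, 1, 2],
  [1, 3, 1, 3],
  [1, 4, 1, 4],
  [1, 5, 1, 5],
  [1, 6, 1, 6],
  [1, 7, 1, 7],
  [2, 3, 2, 3, 2, 3],
  [2, 4, 2, 4],
  [2, 5, 2, 5],
  [2, 6, 2, 6, 2, 6],
  [2, 7, 2, 7, 2, 7],
  [3, 4, 3, 4, 3, 4, 3, 4, 3, 4, 3, 4, 3, 4, 3, 4],
  [3, 5, 3, 5],
  [3, 6, 3, 6],
  [3, 7, 3, 7],
  [4, 5, 4, 5, 4, 5],
  [4, 6, 4, 6],
  [4, 7, 4, 7],
  [5, 6, 5, 6],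
  [5, 7, 5, 7],
  [6, 7, 6, 7, 6, 7, 6, 7],
  [1, 4, 3, 4, 3, 4, 3, 4, 3],
  [1, 7, 6, 7, 6],
  [1, 2, 3, 6, 1, 2, 3, 6, 1, 2, 3, 6, 1, 2, 3, 6, 1, 2, 3, 6],
  [2, 6, 7, 2, 6, 7, 2, 6, 7, 2, 6, 7, 2, 6, 7],
  [2, 3, 4, 3, 4, 2, 3, 4, 3, 4, 2, 3, 4, 3, 4, 2, 3, 4, 3, 4, 2, 3, 4, 3, 4, 5, 2, 3, 4, 3, 4, 2, 3, 4, 3, 4, 2, 3, 4, 3, 4, 2, 3, 4, 3, 4, 2, 3, 4, 3, 4, 5, 2, 3, 4, 3, 4, 2, 3, 4, 3, 4, 2, 3, 4, 3, 4, 2, 3, 4, 3, 4, 2, 3, 4, 3, 4, 5]]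

theorem Rm_eq : D.Rm Cfsg.Spor.Suz.edges = Rm := by decide +kernel

/-- The generators of the presented group. -/
def gm : ℕ → (Cfsg.Spor.CoxPresented Cfsg.Spor.Suz.Gen Cfsg.Spor.Suz.edges Cfsg.Spor.Suz.extra) := D.gm Cfsg.Spor.Suz.edges Cfsg.Spor.Suz.extra

theorem sat : Sat gm Rm := Rm_eq ▸ ok.sat_gm

theorem top : gen gm 7 = ⊤ := ok.gen_gm

theorem exists_hom {G : Type*} [Group G] {g : ℕ → G} (hg : Sat g Rm) :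
    ∃ φ : (Cfsg.Spor.CoxPresented Cfsg.Spor.Suz.Gen Cfsg.Spor.Suz.edges Cfsg.Spor.Suz.extra) →* G, ∀ x, 1 ≤ x ∧ x ≤ 7 → φ (gm x) = g x :=
  ok.exists_hom (Rm_eq ▸ hg)

theorem gm_a : gm 1 = PresentedGroup.of Cfsg.Spor.Suz.Gen.a := ok.gm_enc .a
theorem gm_b : gm 2 = PresentedGroup.of Cfsg.Spor.Suz.Gen.b := ok.gm_enc .b
theorem gm_c : gm 3 = PresentedGroup.of Cfsg.Spor.Suz.Gen.c := ok.gm_enc .c
theorem gm_d : gm 4 = PresentedGroup.of Cfsg.Spor.Suz.Gen.d := ok.gm_enc .d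
theorem gm_e : gm 5 = PresentedGroup.of Cfsg.Spor.Suz.Gen.e := ok.gm_enc .e
theorem gm_f : gm 6 = PresentedGroup.of Cfsg.Spor.Suz.Gen.f := ok.gm_enc .f
theorem gm_g : gm 7 = PresentedGroup.of Cfsg.Spor.Suz.Gen.g := ok.gm_enc .g

end Cfsg.Agent.H44.Suz
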