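import Mathlib
import Cfsg.Agent.H42.HtDefs

/-! The element interchanging `t` and `t z` can be chosen to centralise `u`. -/

set_option autoImplicit false

namespace Cfsg.Agent.H44.HtTB

open Cfsg Cfsg.Agent.H63 Cfsg.Agent.H63.SL Cfsg.Agent.H63.AN Subgroup Cfsg.Agent.H42.HT
open Cfsg.Agent.H7.AA (ev d2 Acts KA NA ev_mul ev_one ev_inv ev_pow ev_comm ev_eq_one KA_ev acts_ev
  acts_one)
open Equiv (swap Perm)
open Equiv.Perm (sign)
open scoped commutatorElement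

universe u

theorem cj_comm {G : Type u} [Group G] {a b : G} (g : G) (h : Commute a b) :
    Commute (g * a * g⁻¹) (g * b * g⁻¹) := h.map (MulAut.conj g)

theorem cj_eq {G : Type u} [Group G] {a b : G} (h : Commute a b) : a * b * a⁻¹ = b := by
  rw [h.eq, mul_inv_cancel_right]

theorem tb : TbStmt.{u} := by
  intro ff G _ _ ψ t fr _ u s d g nw gz
  have h5 : 5 ≤ Fintype.card (Fin 10) := by simp
  have sz : sign z8 = 1 := by decide
  have uniq : ∀ {x : G} {ρ τ : P}, Acts ψ x ρ → Acts ψ x τ → ρ = τ := H7.AA.Acts.uniq h5 fr.inj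
  have az := acts_ev (ψ := ψ) sz
  have zz : H7.AA.ev ψ z8 * H7.AA.ev ψ z8 = 1 := by
    rw [← ev_mul sz sz, show z8 * z8 = 1 by decide, ev_one]
  have tz : Commute t (H7.AA.ev ψ z8) := KA_ev fr.tK _
  have uz : Commute u (H7.AA.ev ψ z8) := nw.ua.comm sz (by decide)
  have sz' : Commute s (H7.AA.ev ψ z8) := nw.sA _ z8_mem
  have gt := gz.gt
  have gz' := gz.gz
  have good : ∀ o, Od ψ t o → Gz ψ t (o * g) := fun o ho => by
    have oz : Commute o (H7.AA.ev ψ z8) := KA_ev ho.1 _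
    refine ⟨?_, oz.mul_left gz'⟩
    rw [show o * g * t * (o * g)⁻¹ = o * (g * t * g⁻¹) * o⁻¹ by group, gt,
      cj_eq (ho.2.1.mul_right oz)]
  generalize hz : H7.AA.ev ψ z8 = z at *
  have gtz : g * (t * z) * g⁻¹ = t := by
    rw [show g * (t * z) * g⁻¹ = g * t * g⁻¹ * (g * z * g⁻¹) by group, gt, cj_eq gz', mul_assoc, zz,
      mul_one]
  have up : ∀ x, Commute x t → Commute x z → Commute (g * x * g⁻¹) t ∧ Commute (g * x * g⁻¹) z :=
    fun x a b => ⟨gtz ▸ cj_comm g (a.mul_right b), cj_eq gz' ▸ cj_comm g b⟩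
  have dn : ∀ x, Commute x t → Commute x z → Commute (g⁻¹ * x * g) t ∧ Commute (g⁻¹ * x * g) z := by
    intro x a b
    have e1 := cj_comm g⁻¹ (a.mul_right b)
    have e2 := cj_comm g⁻¹ b
    rw [← gt, show g⁻¹ * (g * t * g⁻¹) * g⁻¹⁻¹ = t by group, inv_inv] at e1
    rw [cj_eq gz'.inv_left, inv_inv] at e2
    exact ⟨e1, e2⟩
  obtain ⟨u't, u'z⟩ := up u nw.ut uz
  obtain ⟨q, hq⟩ := fr.act _ u't
  have u'2 : g * u * g⁻¹ * (g * u * g⁻¹) = 1 := by
    rw [show g * u * g⁻¹ * (g * u * g⁻¹) = g * (u * u) * g⁻¹ by group, nw.u2]; group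
  have is2 : Is2 (g * u * g⁻¹) := ⟨1, by rw [pow_one, pow_two, u'2]⟩
  have ncj : ∀ k k' : G, k * u * k⁻¹ ≠ k' * t * k'⁻¹ := fun k k' e =>
    nw.nu (isConj_iff.2 ⟨k⁻¹ * k', by
      rw [show k⁻¹ * k' * t * (k⁻¹ * k')⁻¹ = k⁻¹ * (k' * t * k'⁻¹) * k by group, ← e]; group⟩)
  have hcz := ff.cz q (hq.comm_perm fr.inj sz (hz ▸ u'z)) fun σ hσ cσ => by
    have sσ : sign σ = 1 := hσ.2
    have sc : sign ⁅σ, q⁆ = 1 := by simp [commutatorElement_def, sσ]
    obtain ⟨nt, nz⟩ := dn (H7.AA.ev ψ σ) (KA_ev fr.tK σ).symm (hz ▸ ev_comm sσ sz cσ)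
    obtain ⟨p, hp⟩ := fr.act _ nt
    have p23 := ff.z23 p (hp.comm_perm fr.inj sz (hz ▸ nz))
    generalize hn : g⁻¹ * H7.AA.ev ψ σ * g = n at *
    have kK : ⁅n, u⁆ ∈ KA ψ := by
      have := (hp.conj nw.ua).mul nw.ua.inv
      rw [cj_eq p23, mul_inv_cancel] at this
      exact this.KA
    have kt : Commute ⁅n, u⁆ t :=
      ((nt.mul_left nw.ut).mul_left nt.inv_left).mul_left nw.ut.inv_left
    have e : g * ⁅n, u⁆ * g⁻¹ = H7.AA.ev ψ ⁅σ, q⁆ := by
      have e1 := hq σ⁻¹ (by simp [sσ])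
      rw [show ⁅σ, q⁆ = σ * (q * σ⁻¹ * q⁻¹) by group, ev_mul sσ (by simp [sσ]), ← e1, ev_inv sσ, ← hn]
      group
    rcases fr.ker _ kK kt with ho | ho
    · have e2 : orderOf ⁅σ, q⁆ ∣ orderOf ⁅n, u⁆ := orderOf_dvd_of_pow_eq_one
        (ev_eq_one fr.inj (by simp [sc]) (by
          rw [ev_pow sc, ← e, conj_pow, pow_orderOf_eq_one]; group))
      exact ho.2.2.of_dvd_nat e2
    · exfalso
      obtain ⟨m, hm⟩ := ho.2.2
      have e2 := pow_orderOf_eq_one (⁅n, u⁆ * t)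
      rw [hm, kt.mul_pow, pow_succ t, pow_mul t, pow_two t, fr.t2, one_pow, one_mul] at e2
      have e3 : ⁅n, u⁆ ^ (2 * m + 1) = t := by
        rw [eq_inv_of_mul_eq_one_left e2, inv_eq_of_mul_eq_one_right fr.t2]
      refine fr.tn (⁅σ, q⁆ ^ (2 * m + 1) * z8) ?_
      rw [ev_mul (by simp [sc]) sz, ev_pow sc, ← e, conj_pow, e3, gt, hz, mul_assoc, zz, mul_one]
  rcases hcz with rfl | rfl | rfl | rfl
  · exfalso
    rcases fr.r2 _ hq.KA u't is2 with e | e
    · rw [conj_eq_one_iff] at e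
      exact absurd (uniq nw.ua (e ▸ acts_one)) (by decide)
    · exact ncj g 1 (by rw [e]; group)
  · obtain ⟨o, ho, e | e⟩ := fr.lift _ u _ u'2 nw.u2 u't nw.ut hq nw.ua
    · refine ⟨o * g, good o ho, mul_inv_eq_iff_eq_mul.1 ?_⟩
      exact (by group : o * g * u * (o * g)⁻¹ = o * (g * u * g⁻¹) * o⁻¹).trans e
    · exact absurd (by rw [nw.st, ← e]; group) (ncj (o * g) s)
  · exfalso
    rcases fr.ev2 _ _ u't is2 hq sz with e | e
    · rw [hz, ← cj_eq gz'] at e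
      have e' : u = z := by simpa using e
      exact absurd (uniq nw.ua (e' ▸ az)) (by decide)
    · exact ncj g g (by rw [e, hz, gt])
  · exfalso
    obtain ⟨o, ho, e | e⟩ := fr.lift _ (u * z) _ u'2 (by
      rw [← pow_two, uz.mul_pow, pow_two, pow_two, nw.u2, zz, one_mul]) u't
      (nw.ut.mul_left tz.symm) hq (nw.ua.mul az)
    · have g1 := (good o ho).gt
      rw [hz] at g1
      have g2 : o * g * u * (o * g)⁻¹ = u * z := by rw [← e]; group
      generalize o * g = g' at g1 g2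
      have kt : Commute (s⁻¹ * g' * s) t := by
        refine mul_inv_eq_iff_eq_mul.1 ?_
        calc s⁻¹ * g' * s * t * (s⁻¹ * g' * s)⁻¹ = s⁻¹ * (g' * (s * t * s⁻¹) * g'⁻¹) * s := by group
          _ = s⁻¹ * (g' * t * g'⁻¹ * (g' * u * g'⁻¹)) * s := by rw [nw.st]; group
          _ = s⁻¹ * (t * u) * s := by
            rw [g1, g2, uz.eq, mul_assoc t, ← mul_assoc z, zz, one_mul]
          _ = t := by rw [← nw.st]; group
      have ku : s⁻¹ * g' * s * u * (s⁻¹ * g' * s)⁻¹ = u * z := by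
        calc _ = s⁻¹ * (g' * (s * u * s⁻¹) * g'⁻¹) * s⁻¹⁻¹ := by group
          _ = u * z := by rw [cj_eq nw.su, g2, cj_eq (nw.su.mul_right sz').inv_left]
      obtain ⟨p, hp⟩ := fr.act _ kt
      have e2 := uniq (hp.conj nw.ua) (ku ▸ nw.ua.mul az)
      rw [← Equiv.swap_apply_apply] at e2
      exact absurd e2 (by generalize p 2 = a; generalize p 3 = b; revert a b; decide)
    · refine ncj (o * g) (s * g) ?_
      rw [show s * g * t * (s * g)⁻¹ = s * (g * t * g⁻¹) * s⁻¹ by group, gt,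
        show s * (t * z) * s⁻¹ = s * t * s⁻¹ * (s * z * s⁻¹) by group, nw.st, cj_eq sz', mul_assoc t,
        ← e]
      group

end Cfsg.Agent.H44.HtTB
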