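import Cfsg.Agent.H42.ASDefs
import Cfsg.Agent.H29.G2Oct
import Cfsg.Agent.H44.MatW
import Cfsg.Agent.H37.Autos

/-!
# The root data of `G₂(4)`: the relations
-/

set_option autoImplicit false
set_option maxRecDepth 100000

namespace Cfsg.Agent.H44.AF

open Cfsg.Lie Cfsg.Agent.H44.MW Cfsg.Agent.H46 Cfsg.Agent.H47.M3 H28 H29 H24 H37 H42.AS

/-- The group. -/
abbrev G0 : Type := chevG2.group F4

/-- The root elements. -/
noncomputable def x (r : ℕ) (t : F4) : G0 := validG2.xE F4 r t

/-- The representation on the octonions. -/
noncomputable def ρ : G0 →* Matrix (Fin 8) (Fin 8) F4 :=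
  (autMat F4).comp (exists_g2Iso F4).choose.toMonoidHom

theorem ρ_inj : Function.Injective ρ :=
  autMat_injective.comp (exists_g2Iso F4).choose.injective

theorem ρ_x {r : ℕ} (hr : r < 12) (t : F4) : ρ (x r t) = evT t (g2Y 1 r) := by
  have h := (exists_g2Iso F4).choose_spec r hr t (x r t) (validG2.eq_xE_iff.2 rfl)
  change autMat F4 ((exists_g2Iso F4).choose (x r t)) = _
  rw [h, g2y, autMat_autOfMat]

/-- The codes of the root elements. -/
def cs : List ℕ := [0x1000000001000000001000000001000000001000000001000000001000000001,
  0x1000000001100000001000000001000000001000000011000000001000000001,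
  0x1000000001200000001000000001000000001000000021000000001000000001,
  0x1000000001300000001000000001000000001000000031000000001000000001,
  0x1000000001000000001000000001000000001000000001000000001000000001,
  0x1000000001010000001000000001000000001000000001000000101000000001,
  0x1000000001020000001000000001000000001000000001000000201000000001,
  0x1000000001030000001000000001000000001000000001000000301000000001,
  0x1000000001000000001000000001000000001000000001000000001000000001,
  0x1000100011001001001000000001000000001000000101000010001000001001,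
  0x1000200021003002001000000001000000001000000201000020001000002001,
  0x1000300031002003001000000001000000001000000301000030001000003001,
  0x1000000001000000001000000001000000001000000001000000001000000001,
  0x1010000001000010001000000001100000001000101001010000001000100001,
  0x1020000001000020001000000001200000001000203001020000001000200001,
  0x1030000001000030001000000001300000001000302001030000001000300001,
  0x1000000001000000001000000001000000001000000001000000001000000001,
  0x1001000001000100001010000001000000001000000001001001001100010001,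
  0x1002000001000200001020000001000000001000000001002003001200020001,
  0x1003000001000300001030000001000000001000000001003002001300030001,
  0x1000000001000000001000000001000000001000000001000000001000000001,
  0x1000000001000000001000000011000000001000000001100000001000000001,
  0x1000000001000000001000000021000000001000000001200000001000000001,
  0x1000000001000000001000000031000000001000000001300000001000000001,
  0x1000000001000000001000000001000000001000000001000000001000000001,
  0x1000000001000000001100000001000000001000000001000000011000000001,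
  0x1000000001000000001200000001000000001000000001000000021000000001,
  0x1000000001000000001300000001000000001000000001000000031000000001,
  0x1000000001000000001000000001000000001000000001000000001000000001,
  0x1000001001000000001000001001001100101000010001000000001000000011,
  0x1000002001000000001000002001003200201000020001000000001000000021,
  0x1000003001000000001000003001002300301000030001000000001000000031,
  0x1000000001000000001000000001000000001000000001000000001000000001,
  0x1000010001000000101001010001000000011000000001000100001000000101,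
  0x1000020001000000201003020001000000021000000001000200001000000201,
  0x1000030001000000301002030001000000031000000001000300001000000301,
  0x1000000001000000001000000001000000001000000001000000001000000001,
  0x1100000001000000001000100001010011001001000001000000001001000001,
  0x1200000001000000001000200001020023001002000001000000001002000001,
  0x1300000001000000001000300001030032001003000001000000001003000001,
  0x1000000001000000001000000001000000001000000001000000001000000001,
  0x1000000001000000001000000101000000001010000001000000001000000001,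
  0x1000000001000000001000000201000000001020000001000000001000000001,
  0x1000000001000000001000000301000000001030000001000000001000000001,
  0x1000000001000000001000000001000000001000000001000000001000000001,
  0x1000000001000000011000000001000000001100000001000000001000000001,
  0x1000000001000000021000000001000000001200000001000000001000000001,
  0x1000000001000000031000000001000000001300000001000000001000000001]

/-- The code of a root element. -/
noncomputable def cx (r : ℕ) (t : F4) : ℕ := getL cs (4 * r + t.re.val + 2 * t.im.val)

theorem cx_ok : ∀ r < 12, ∀ t : F4, canonB 4 4 (8 * 8) (cx r t) = true ∧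
    decM φ4 4 (Equiv.refl (Fin 8)) (cx r t) = evT t (g2Y 1 r) := by decide +kernel

variable {G : Type*} [Group G] (φ : G0 →* G)

/-- `n` is the code of `a`. -/
class Cdd (a : G) (n : outParam ℕ) : Prop where
  h : ∃ b, φ b = a ∧ Canon 4 4 (8 * 8) n ∧ decM φ4 4 (Equiv.refl (Fin 8)) n = ρ b

theorem mc : MC φ4 4 4 8 (mul4 8) := mc4 (by norm_num) le_rfl

instance cdOne : Cdd φ 1 (rep (4 * (8 + 1)) 8 1) :=
  ⟨1, map_one _, mc.canon, by rw [mc.dec_one, map_one]⟩

instance cdMul {a b : G} {n m : ℕ} [h1 : Cdd φ a n] [h2 : Cdd φ b m] :
    Cdd φ (a * b) (mul4 8 n m) := by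
  obtain ⟨a, rfl, h3, h4⟩ := h1
  obtain ⟨b, rfl, h5, h6⟩ := h2
  exact ⟨a * b, map_mul _ _ _, (mc.spec _ _ h3 h5).1, by
    rw [decM_mul mc.spec h3 h5, h4, h6, map_mul]⟩

instance cdPow2 {a : G} {n : ℕ} [Cdd φ a n] : Cdd φ (a ^ 2) (mul4 8 n n) := by
  rw [pow_two]; infer_instance

instance cdPow3 {a : G} {n : ℕ} [Cdd φ a n] : Cdd φ (a ^ 3) (mul4 8 (mul4 8 n n) n) := by
  rw [pow_succ]; infer_instance

instance cdPow5 {a : G} {n : ℕ} [Cdd φ a n] :
    Cdd φ (a ^ 5) (mul4 8 (mul4 8 (mul4 8 n n) n) (mul4 8 n n)) := by
  rw [show 5 = 3 + 2 from rfl, pow_add]; infer_instance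

theorem cdx {r : ℕ} (hr : r < 12) (t : F4) : Cdd φ (φ (x r t)) (cx r t) :=
  ⟨_, rfl, canon_of_canonB (cx_ok r hr t).1, by rw [(cx_ok r hr t).2, ρ_x hr]⟩

theorem eqc {a b : G} {n m : ℕ} [h1 : Cdd φ a n] [h2 : Cdd φ b m] (h : n = m) : a = b := by
  obtain ⟨a, rfl, -, h4⟩ := h1
  obtain ⟨b, rfl, -, h6⟩ := h2
  rw [ρ_inj (by rw [← h4, ← h6, h] : ρ a = ρ b)]

theorem ceq (hφ : Function.Injective φ) {a b : G} {n m : ℕ} [h1 : Cdd φ a n] [h2 : Cdd φ b m]
    (h : a = b) : n = m := by
  obtain ⟨a, rfl, h3, h4⟩ := h1
  obtain ⟨b, rfl, h5, h6⟩ := h2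
  exact decM_inj (φ := φ4) (by norm_num) (by decide +kernel) h3 h5 (by rw [h4, h6, hφ h])

theorem Cdd.of {a : G} {n : ℕ} [h : Cdd φ a n] {m : ℕ} (e : n = m) : Cdd φ a m := e ▸ h

/-- The root data. -/
noncomputable def D : RD G where
  xa t := φ (x 7 t)
  xb t := φ (x 6 t)
  xc t := φ (x 8 t)
  xd t := φ (x 9 t)
  xe t := φ (x 10 t)
  xv t := φ (x 11 t)
  na := φ (x 7 1) * φ (x 4 1) * φ (x 7 1)
  nb := φ (x 6 1) * φ (x 5 1) * φ (x 6 1)

instance cd4 (t : F4) : Cdd φ (φ (x 4 t)) (cx 4 t) := cdx φ (by norm_num) t
instance cd5 (t : F4) : Cdd φ (φ (x 5 t)) (cx 5 t) := cdx φ (by norm_num) t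
instance cd6 (t : F4) : Cdd φ (φ (x 6 t)) (cx 6 t) := cdx φ (by norm_num) t
instance cd7 (t : F4) : Cdd φ (φ (x 7 t)) (cx 7 t) := cdx φ (by norm_num) t
instance cda (t : F4) : Cdd φ ((D φ).xa t) (cx 7 t) := cdx φ (by norm_num) t
instance cdb (t : F4) : Cdd φ ((D φ).xb t) (cx 6 t) := cdx φ (by norm_num) t
instance cdc (t : F4) : Cdd φ ((D φ).xc t) (cx 8 t) := cdx φ (by norm_num) t
instance cdd (t : F4) : Cdd φ ((D φ).xd t) (cx 9 t) := cdx φ (by norm_num) t
instance cde (t : F4) : Cdd φ ((D φ).xe t) (cx 10 t) := cdx φ (by norm_num) t
instance cdv (t : F4) : Cdd φ ((D φ).xv t) (cx 11 t) := cdx φ (by norm_num) t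

instance cdna : Cdd φ (D φ).na 0x100000100000010000000001000100000010000000001000010000000 :=
  Cdd.of φ (a := φ (x 7 1) * φ (x 4 1) * φ (x 7 1)) (by decide +kernel)

instance cdnb : Cdd φ (D φ).nb 0x1000000001000000000100000010000000001000000000100000010000000001 :=
  Cdd.of φ (a := φ (x 6 1) * φ (x 5 1) * φ (x 6 1)) (by decide +kernel)

instance cdha : Cdd φ (D φ).ha 0x1000000002000000002000000002000000003000000003000000003000000001 :=
  Cdd.of φ (a := (D φ).xa om * (D φ).na * (D φ).xa (om ^ 2) * (D φ).na * (D φ).xa om * (D φ).na)
    (by decide +kernel)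

instance cdhb : Cdd φ (D φ).hb 0x1000000001000000003000000002000000001000000002000000003000000001 :=
  Cdd.of φ (a := (D φ).xb om * (D φ).nb * (D φ).xb (om ^ 2) * (D φ).nb * (D φ).xb om * (D φ).nb)
    (by decide +kernel)

instance cdrho : Cdd φ (D φ).rho 0x1000000002000000003000000001000000003000000002000000001000000001 :=
  Cdd.of φ (a := (D φ).ha * (D φ).hb * (D φ).hb) (by decide +kernel)

instance cdy5 : Cdd φ (D φ).y5 0x2000100000100000010002003001200102000010002000001000010020000 :=
  Cdd.of φ (a := (D φ).na * (D φ).xa om) (by decide +kernel)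

set_option synthInstance.maxSize 2000 in
theorem nf0 : ∀ t0 t1 t2 t3 t4 t5 : F4, mul4 8 (mul4 8 (mul4 8 (mul4 8 (mul4 8 (cx 7 t0) (cx 6 t1))
    (cx 8 t2)) (cx 9 t3)) (cx 10 t4)) (cx 11 t5) = rep (4 * (8 + 1)) 8 1 →
    t0 = 0 ∧ t1 = 0 ∧ t2 = 0 ∧ t3 = 0 ∧ t4 = 0 ∧ t5 = 0 := by decide +kernel

theorem rel (hφ : Function.Injective φ) : (D φ).Rel where
  aa := fun t u => eqc φ (by revert t u; decide +kernel)
  bb := fun t u => eqc φ (by revert t u; decide +kernel)
  cc := fun t u => eqc φ (by revert t u; decide +kernel)
  dd := fun t u => eqc φ (by revert t u; decide +kernel)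
  ee := fun t u => eqc φ (by revert t u; decide +kernel)
  vv := fun t u => eqc φ (by revert t u; decide +kernel)
  ab := fun t u => eqc φ (by revert t u; decide +kernel)
  ac := fun t u => eqc φ (by revert t u; decide +kernel)
  ad := fun t u => eqc φ (by revert t u; decide +kernel)
  ae := fun t u => eqc φ (by revert t u; decide +kernel)
  av := fun t u => eqc φ (by revert t u; decide +kernel)
  bc := fun t u => eqc φ (by revert t u; decide +kernel)
  bd := fun t u => eqc φ (by revert t u; decide +kernel)
  be := fun t u => eqc φ (by revert t u; decide +kernel)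
  bv := fun t u => eqc φ (by revert t u; decide +kernel)
  cd := fun t u => eqc φ (by revert t u; decide +kernel)
  ce := fun t u => eqc φ (by revert t u; decide +kernel)
  cv := fun t u => eqc φ (by revert t u; decide +kernel)
  de := fun t u => eqc φ (by revert t u; decide +kernel)
  dv := fun t u => eqc φ (by revert t u; decide +kernel)
  ev := fun t u => eqc φ (by revert t u; decide +kernel)
  na2 := eqc φ (by decide +kernel)
  nb2 := eqc φ (by decide +kernel)
  na3 := eqc φ (by decide +kernel)
  nb3 := eqc φ (by decide +kernel)
  nah := eqc φ (by decide +kernel)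
  nbh := eqc φ (by decide +kernel)
  hb3 := eqc φ (by decide +kernel)
  ha3 := eqc φ (by decide +kernel)
  r3 := eqc φ (by decide +kernel)
  rn := eqc φ (by decide +kernel)
  nbr := eqc φ (by decide +kernel)
  y55 := eqc φ (by decide +kernel)
  nab := fun t => eqc φ (by revert t; decide +kernel)
  nac := fun t => eqc φ (by revert t; decide +kernel)
  nav := fun t => eqc φ (by revert t; decide +kernel)
  nba := fun t => eqc φ (by revert t; decide +kernel)
  nbd := fun t => eqc φ (by revert t; decide +kernel)
  nbe := fun t => eqc φ (by revert t; decide +kernel)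
  hbb := fun t => eqc φ (by revert t; decide +kernel)
  hbe := fun t => eqc φ (by revert t; decide +kernel)
  hbv := fun t => eqc φ (by revert t; decide +kernel)
  haa := fun t => eqc φ (by revert t; decide +kernel)
  hab := fun t => eqc φ (by revert t; decide +kernel)
  hac := fun t => eqc φ (by revert t; decide +kernel)
  had := fun t => eqc φ (by revert t; decide +kernel)
  hae := fun t => eqc φ (by revert t; decide +kernel)
  hav := fun t => eqc φ (by revert t; decide +kernel)
  ra := fun t => eqc φ (by revert t; decide +kernel)
  rb := fun t => eqc φ (by revert t; decide +kernel)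
  rc := fun t => eqc φ (by revert t; decide +kernel)
  rd := fun t => eqc φ (by revert t; decide +kernel)
  re := fun t => eqc φ (by revert t; decide +kernel)
  rv := fun t => eqc φ (by revert t; decide +kernel)
  nf := fun t0 t1 t2 t3 t4 t5 h => nf0 t0 t1 t2 t3 t4 t5 (ceq φ hφ h)

theorem x4_eq (t : F4) : φ (x 4 t) = (D φ).na * (D φ).xa t * (D φ).na :=
  eqc φ (by revert t; decide +kernel)

theorem x5_eq (t : F4) : φ (x 5 t) = (D φ).nb * (D φ).xb t * (D φ).nb :=
  eqc φ (by revert t; decide +kernel)

theorem ha_nb : (D φ).ha * (D φ).nb = (D φ).nb * (D φ).ha := eqc φ (by decide +kernel)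

theorem gen1 (t : F4) : (D φ).na * φ (x 5 1) * (D φ).na * (D φ).xb t =
    (D φ).xb t * ((D φ).na * φ (x 5 1) * (D φ).na) := eqc φ (by revert t; decide +kernel)

theorem gen2 : (D φ).nb =
    (D φ).xb 1 * ((D φ).na * ((D φ).na * φ (x 5 1) * (D φ).na) * (D φ).na) * (D φ).xb 1 :=
  eqc φ (by decide +kernel)

end Cfsg.Agent.H44.AF
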