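import Cfsg.Agent.H42.ASDefs

/-!
# The root data of `G₂(4)`: normal forms in the parabolic subgroups
-/

set_option autoImplicit false
set_option maxRecDepth 100000

namespace Cfsg.Agent.H44.AP

open Subgroup H28 H42.AS

universe u

theorem aa : ∀ t : F4, t + t = 0 := by decide +kernel
theorem two0 : (2 : F4) = 0 := by decide +kernel
theorem cases4 : ∀ t : F4, t = 0 ∨ t = 1 ∨ t = om ∨ t = om ^ 2 := by decide +kernel

variable {G : Type u} [Group G]

theorem cj {g a b : G} (h : g * a = b * g) : g * a * g⁻¹ = b := by rw [h, mul_inv_cancel_right]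

/-- Indices of the elements of `SL₂(4)`. -/
abbrev LI : Type := F4 × Fin 3 × Option F4

/-- The Bruhat normal form. -/
def el (x : F4 → G) (n h : G) : LI → G
  | (t, i, none) => x t * h ^ (i : ℕ)
  | (t, i, some u) => x t * h ^ (i : ℕ) * n * x u

/-- Relations of `SL₂(4)`. -/
structure SL (x : F4 → G) (n h : G) : Prop where
  xx : ∀ t u, x (t + u) = x t * x u
  n2 : n * n = 1
  n3 : (n * x 1) ^ 3 = 1
  hd : h = x om * n * x (om ^ 2) * n * x om * n
  nh : n * h = h ^ 2 * n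
  h3 : h ^ 3 = 1
  hx : ∀ t, h * x t = x (om ^ 2 * t) * h

theorem zero_of {y : F4 → G} (h : ∀ t u, y (t + u) = y t * y u) : y 0 = 1 := by
  have h1 := h 0 0
  rw [add_zero] at h1
  exact mul_eq_left.1 h1.symm

theorem sq_of {y : F4 → G} (h : ∀ t u, y (t + u) = y t * y u) (t : F4) : y t * y t = 1 := by
  rw [← h, aa, zero_of h]

theorem inv_of {y : F4 → G} (h : ∀ t u, y (t + u) = y t * y u) (t : F4) : (y t)⁻¹ = y t :=
  inv_eq_of_mul_eq_one_right (sq_of h t)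

namespace SL

variable {x : F4 → G} {n h : G} (S : SL x n h)
include S

theorem ninv : n⁻¹ = n := inv_eq_of_mul_eq_one_right S.n2

theorem hxi (i : ℕ) (t : F4) : ∃ t', h ^ i * x t = x t' * h ^ i := by
  induction i with
  | zero => exact ⟨t, by simp⟩
  | succ i ih =>
    obtain ⟨t', e⟩ := ih
    exact ⟨_, by rw [pow_succ', mul_assoc, e, ← mul_assoc, S.hx, mul_assoc]⟩

theorem xhi (i : ℕ) (t : F4) : ∃ t', x t * h ^ i = h ^ i * x t' := by
  induction i generalizing t with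
  | zero => exact ⟨t, by simp⟩
  | succ i ih =>
    obtain ⟨t', e⟩ := ih (om * t)
    have e1 : ∀ t : F4, om ^ 2 * (om * t) = t := by decide +kernel
    exact ⟨t', by rw [pow_succ', ← mul_assoc, ← e1 t, ← S.hx, mul_assoc, e, mul_assoc]⟩

theorem nhi (i : ℕ) : n * h ^ i = h ^ (2 * i) * n := by
  induction i with
  | zero => simp
  | succ i ih => rw [pow_succ, ← mul_assoc, ih, mul_assoc, S.nh, ← mul_assoc, ← pow_add]; rfl

theorem n_eq : n = x 1 * (n * x 1 * n) * x 1 := by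
  have h1 := S.n3
  rw [pow_succ, pow_two, mul_eq_one_iff_eq_inv, mul_inv_rev, S.ninv, inv_of S.xx] at h1
  rw [show x 1 * (n * x 1 * n) * x 1 = x 1 * (n * x 1 * (n * x 1)) by group, h1, ← mul_assoc,
    sq_of S.xx, one_mul]

theorem nxn {t : F4} (ht : t ≠ 0) : ∃ a b, ∃ k : ℕ, n * x t * n = x a * h ^ k * n * x b := by
  have e1 : n * x 1 * n = x 1 * n * x 1 := by
    conv_rhs => rw [S.n_eq]
    rw [show x 1 * (x 1 * (n * x 1 * n) * x 1) * x 1 = x 1 * x 1 * (n * x 1 * n) * (x 1 * x 1) by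
      group, sq_of S.xx]
    group
  have e2 : n * x (om ^ 2) * n = x om * h * n * x om := by
    conv_rhs => rw [S.hd]
    rw [show x om * (x om * n * x (om ^ 2) * n * x om * n) * n * x om =
      x om * x om * (n * x (om ^ 2) * n) * (x om * (n * n) * x om) by group, S.n2, mul_one,
      sq_of S.xx]
    group
  rcases cases4 t with rfl | rfl | rfl | rfl
  · exact absurd rfl ht
  · exact ⟨1, 1, 0, by rw [e1]; simp⟩
  · have e3 : x om = h * x (om ^ 2) * h ^ 2 := by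
      rw [S.hx, mul_assoc, ← pow_succ', S.h3, mul_one]
      congr 1
    obtain ⟨a, e4⟩ := S.hxi 2 om
    obtain ⟨b, e5⟩ := S.xhi 4 om
    have e6 : h ^ 2 * n = n * h ^ 4 := by
      rw [S.nhi, show 2 * 4 = 3 + 3 + 2 from rfl, pow_add, pow_add, S.h3, one_mul, one_mul]
    refine ⟨a, b, 2 + 1 + 2 * 4, ?_⟩
    calc n * x om * n = n * h * x (om ^ 2) * (h ^ 2 * n) := by
          conv_lhs => rw [e3]
          group
      _ = h ^ 2 * (n * x (om ^ 2) * n) * h ^ 4 := by rw [e6, S.nh]; group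
      _ = h ^ 2 * x om * h * (n * (x om * h ^ 4)) := by rw [e2]; group
      _ = x a * h ^ 2 * h * (n * h ^ 4 * x b) := by rw [e4, e5]; group
      _ = _ := by rw [S.nhi]; group
  · exact ⟨om, om, 1, by rw [e2, pow_one]⟩

theorem lnf {l : G} (hl : l ∈ closure (Set.range x ∪ {n})) :
    ∃ t u, ∃ i : ℕ, l = x t * h ^ i ∨ l = x t * h ^ i * n * x u := by
  have k1 : ∀ c l, (∃ t u, ∃ i : ℕ, l = x t * h ^ i ∨ l = x t * h ^ i * n * x u) →
      ∃ t u, ∃ i : ℕ, x c * l = x t * h ^ i ∨ x c * l = x t * h ^ i * n * x u := by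
    rintro c _ ⟨t, u, i, rfl | rfl⟩
    · exact ⟨c + t, u, i, Or.inl (by rw [S.xx]; group)⟩
    · exact ⟨c + t, u, i, Or.inr (by rw [S.xx]; group)⟩
  have k2 : ∀ l, (∃ t u, ∃ i : ℕ, l = x t * h ^ i ∨ l = x t * h ^ i * n * x u) →
      ∃ t u, ∃ i : ℕ, n * l = x t * h ^ i ∨ n * l = x t * h ^ i * n * x u := by
    rintro _ ⟨t, u, i, rfl | rfl⟩
    · obtain ⟨t', e⟩ := S.xhi i t
      exact ⟨0, t', 2 * i, Or.inr (by rw [e, ← mul_assoc, S.nhi, zero_of S.xx, one_mul])⟩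
    · have e0 : h ^ i * n = n * h ^ (2 * i) := by
        rw [← one_mul (h ^ i * n), ← S.n2, mul_assoc, ← mul_assoc n (h ^ i), S.nhi,
          mul_assoc (h ^ (2 * i)), S.n2, mul_one]
      by_cases ht : t = 0
      · obtain ⟨u', e⟩ := S.hxi (2 * i) u
        refine ⟨u', 0, 2 * i, Or.inl ?_⟩
        rw [ht, zero_of S.xx, one_mul, e0, ← e, ← mul_assoc, ← mul_assoc, S.n2, one_mul]
      · obtain ⟨a, b, k, e⟩ := S.nxn ht
        obtain ⟨b', e1⟩ := S.xhi (2 * i) b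
        refine ⟨a, b' + u, k + 2 * (2 * i), Or.inr ?_⟩
        calc n * (x t * h ^ i * n * x u) = n * x t * n * h ^ (2 * i) * x u := by
              rw [mul_assoc (x t), e0]; group
          _ = x a * h ^ k * (n * (x b * h ^ (2 * i))) * x u := by rw [e]; group
          _ = x a * h ^ k * (n * h ^ (2 * i)) * x b' * x u := by rw [e1]; group
          _ = _ := by rw [S.nhi, S.xx]; group
  induction hl using closure_induction_left with
  | one => exact ⟨0, 0, 0, Or.inl (by simp [zero_of S.xx])⟩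
  | mul_left y hy l _ ih =>
    rcases hy with ⟨c, rfl⟩ | rfl
    exacts [k1 c l ih, k2 l ih]
  | inv_mul_cancel y hy l _ ih =>
    rcases hy with ⟨c, rfl⟩ | rfl
    · rw [inv_of S.xx]; exact k1 c l ih
    · rw [S.ninv]; exact k2 l ih

theorem ex_el {l : G} (hl : l ∈ closure (Set.range x ∪ {n})) : ∃ j, l = el x n h j := by
  obtain ⟨t, u, i, e⟩ := S.lnf hl
  have e1 : h ^ i = h ^ (i % 3) := by
    conv_lhs => rw [← Nat.div_add_mod i 3, pow_add, pow_mul, S.h3, one_pow, one_mul]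
  rw [e1] at e
  rcases e with rfl | rfl
  · exact ⟨(t, ⟨i % 3, Nat.mod_lt _ (by norm_num)⟩, none), rfl⟩
  · exact ⟨(t, ⟨i % 3, Nat.mod_lt _ (by norm_num)⟩, some u), rfl⟩

theorem el_mem {H : Subgroup G} (hx : ∀ t, x t ∈ H) (hn : n ∈ H) (j : LI) : el x n h j ∈ H := by
  have hh : h ∈ H := by
    rw [S.hd]
    exact mul_mem (mul_mem (mul_mem (mul_mem (mul_mem (hx _) hn) (hx _)) hn) (hx _)) hn
  obtain ⟨t, i, _ | u⟩ := j
  · exact mul_mem (hx t) (pow_mem hh _)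
  · exact mul_mem (mul_mem (mul_mem (hx t) (pow_mem hh _)) hn) (hx u)

theorem el_one : el x n h (0, 0, none) = 1 := by simp [el, zero_of S.xx]

theorem perf {H : Subgroup G} (hx : ∀ t, x t ∈ H) (hn : n ∈ H) :
    (∀ t, x t ∈ ⁅H, H⁆) ∧ n ∈ ⁅H, H⁆ := by
  have hh : h ∈ H := by simpa [el, zero_of S.xx] using S.el_mem hx hn (0, 1, none)
  have h1 : ∀ t, x t ∈ ⁅H, H⁆ := fun t => by
    have e : ∀ t : F4, om ^ 2 * (om ^ 2 * t) + om ^ 2 * t = t := by decide +kernel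
    have := commutator_mem_commutator hh (hx (om ^ 2 * t))
    rwa [commutatorElement_def, cj (S.hx _), inv_of S.xx, ← S.xx, e] at this
  refine ⟨h1, ?_⟩
  rw [S.n_eq]
  refine mul_mem (mul_mem (h1 1) ?_) (h1 1)
  have := mul_mem (commutator_mem_commutator hn (hx 1)) (h1 1)
  rwa [commutatorElement_def, inv_mul_cancel_right, S.ninv] at this

end SL

variable {D : RD G}

theorem slA (h : D.Rel) : SL D.xa D.na D.ha := ⟨h.aa, h.na2, h.na3, rfl, h.nah, h.ha3, h.haa⟩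
theorem slB (h : D.Rel) : SL D.xb D.nb D.hb := ⟨h.bb, h.nb2, h.nb3, rfl, h.nbh, h.hb3, h.hbb⟩

/-- Coordinates on `Q_A / V`. -/
abbrev Q4 : Type := F4 × F4 × F4 × F4

variable (D) in
/-- The elements of `Q_A`. -/
def q (a b c d e : F4) : G := D.xb a * D.xc b * D.xd c * D.xe d * D.xv e

variable (D) in
/-- The same with grouped coordinates. -/
def qq (s : Q4) (r : F4) : G := q D s.1 s.2.1 s.2.2.1 s.2.2.2 r

variable (h : D.Rel)
include h

theorem q_mul (a b c d e a' b' c' d' e' : F4) : q D a b c d e * q D a' b' c' d' e' =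
    q D (a + a') (b + b') (c + c') (d + d') (e + e' + d * a' + c * b') := by
  have vb : ∀ t u g, D.xv t * (D.xb u * g) = D.xb u * (D.xv t * g) := fun t u g => by
    rw [← mul_assoc, ← h.bv, mul_assoc]
  have vc : ∀ t u g, D.xv t * (D.xc u * g) = D.xc u * (D.xv t * g) := fun t u g => by
    rw [← mul_assoc, ← h.cv, mul_assoc]
  have vd : ∀ t u g, D.xv t * (D.xd u * g) = D.xd u * (D.xv t * g) := fun t u g => by
    rw [← mul_assoc, ← h.dv, mul_assoc]
  have ve : ∀ t u g, D.xv t * (D.xe u * g) = D.xe u * (D.xv t * g) := fun t u g => by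
    rw [← mul_assoc, ← h.ev, mul_assoc]
  have eb : ∀ t u g, D.xe t * (D.xb u * g) = D.xb u * (D.xe t * (D.xv (t * u) * g)) :=
    fun t u g => by
      rw [← mul_assoc (D.xb u), h.be, mul_assoc, mul_assoc, ← vb, ← mul_assoc (D.xv _), mul_comm u,
        sq_of h.vv, one_mul]
  have dc : ∀ t u g, D.xd t * (D.xc u * g) = D.xc u * (D.xd t * (D.xv (t * u) * g)) :=
    fun t u g => by
      rw [← mul_assoc (D.xc u), h.cd, mul_assoc, mul_assoc, ← vc, ← mul_assoc (D.xv _), mul_comm u,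
        sq_of h.vv, one_mul]
  have cb : ∀ t u g, D.xc t * (D.xb u * g) = D.xb u * (D.xc t * g) := fun t u g => by
    rw [← mul_assoc, ← h.bc, mul_assoc]
  have db : ∀ t u g, D.xd t * (D.xb u * g) = D.xb u * (D.xd t * g) := fun t u g => by
    rw [← mul_assoc, ← h.bd, mul_assoc]
  have ec : ∀ t u g, D.xe t * (D.xc u * g) = D.xc u * (D.xe t * g) := fun t u g => by
    rw [← mul_assoc, ← h.ce, mul_assoc]
  have ed : ∀ t u g, D.xe t * (D.xd u * g) = D.xd u * (D.xe t * g) := fun t u g => by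
    rw [← mul_assoc, ← h.de, mul_assoc]
  simp only [q, h.bb, h.cc, h.dd, h.ee, mul_assoc, vb, vc, vd, ve, eb, dc, cb, db, ec, ed, ← h.vv]
  congr 9
  ring

theorem q_zero : q D 0 0 0 0 0 = 1 := by
  simp [q, zero_of h.bb, zero_of h.cc, zero_of h.dd, zero_of h.ee, zero_of h.vv]

theorem qb (t : F4) : D.xb t = q D t 0 0 0 0 := by
  simp [q, zero_of h.cc, zero_of h.dd, zero_of h.ee, zero_of h.vv]
theorem qc (t : F4) : D.xc t = q D 0 t 0 0 0 := by
  simp [q, zero_of h.bb, zero_of h.dd, zero_of h.ee, zero_of h.vv]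
theorem qd (t : F4) : D.xd t = q D 0 0 t 0 0 := by
  simp [q, zero_of h.bb, zero_of h.cc, zero_of h.ee, zero_of h.vv]
theorem qe (t : F4) : D.xe t = q D 0 0 0 t 0 := by
  simp [q, zero_of h.bb, zero_of h.cc, zero_of h.dd, zero_of h.vv]
theorem qv (t : F4) : D.xv t = q D 0 0 0 0 t := by
  simp [q, zero_of h.bb, zero_of h.cc, zero_of h.dd, zero_of h.ee]

omit h in
theorem q_congr {a b c d e a' b' c' d' e' : F4} (h1 : a = a') (h2 : b = b') (h3 : c = c')
    (h4 : d = d') (h5 : e = e') : q D a b c d e = q D a' b' c' d' e' := by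
  rw [h1, h2, h3, h4, h5]

theorem q_inv (a b c d e : F4) : (q D a b c d e)⁻¹ = q D a b c d (e + d * a + c * b) := by
  rw [inv_eq_iff_mul_eq_one, q_mul h, ← q_zero h]
  exact q_congr (aa _) (aa _) (aa _) (aa _) (by linear_combination (e + d * a + c * b) * two0)

theorem q_inj {a b c d e a' b' c' d' e' : F4} (e0 : q D a b c d e = q D a' b' c' d' e') :
    a = a' ∧ b = b' ∧ c = c' ∧ d = d' ∧ e = e' := by
  have e1 : q D a b c d e * (q D a' b' c' d' e')⁻¹ = 1 := by rw [e0, mul_inv_cancel]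
  rw [q_inv h, q_mul h] at e1
  obtain ⟨-, h1, h2, h3, h4, h5⟩ := h.nf 0 _ _ _ _ _ (by rw [zero_of h.aa, one_mul]; exact e1)
  have k : ∀ x y : F4, x + y = 0 → x = y := by decide +kernel
  obtain rfl := k _ _ h1
  obtain rfl := k _ _ h2
  obtain rfl := k _ _ h3
  obtain rfl := k _ _ h4
  exact ⟨rfl, rfl, rfl, rfl, k _ _ (by linear_combination h5 - (d * a + c * b) * two0)⟩

theorem qq_inj {s s' : Q4} {r r' : F4} (e : qq D s r = qq D s' r') : s = s' ∧ r = r' := by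
  obtain ⟨h1, h2, h3, h4, h5⟩ := q_inj h e
  exact ⟨Prod.ext h1 (Prod.ext h2 (Prod.ext h3 h4)), h5⟩

theorem qq_mul (s s' : Q4) (r r' : F4) : qq D s r * qq D s' r' =
    qq D (s + s') (r + r' + s.2.2.2 * s'.1 + s.2.2.1 * s'.2.1) := q_mul h ..

theorem qq_inv (s : Q4) (r : F4) :
    (qq D s r)⁻¹ = qq D s (r + s.2.2.2 * s.1 + s.2.2.1 * s.2.1) := q_inv h ..

theorem qqv (t : F4) : D.xv t = qq D 0 t := qv h t

theorem cja (t a b c d e : F4) : D.xa t * q D a b c d e * (D.xa t)⁻¹ =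
    q D a (b + t * a) (c + t ^ 2 * a) (d + t ^ 3 * a + t ^ 2 * b + t * c)
      (e + t ^ 3 * a ^ 2 + t * b ^ 2 + t ^ 2 * a * b) := by
  have e1 : D.xa t * D.xb a * (D.xa t)⁻¹ = q D a (t * a) (t ^ 2 * a) (t ^ 3 * a) (t ^ 3 * a ^ 2) :=
    cj (h.ab t a)
  have e2 : D.xa t * D.xc b * (D.xa t)⁻¹ = q D 0 b 0 (t ^ 2 * b) (t * b ^ 2) := by
    rw [cj (h.ac t b)]; simp [q, zero_of h.bb, zero_of h.dd]
  have e3 : D.xa t * D.xd c * (D.xa t)⁻¹ = q D 0 0 c (t * c) 0 := by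
    rw [cj (h.ad t c)]; simp [q, zero_of h.bb, zero_of h.cc, zero_of h.vv]
  rw [q, ← conj_mul, ← conj_mul, ← conj_mul, ← conj_mul, e1, e2, e3, cj (h.ae t d), cj (h.av t e),
    qe h, qv h, q_mul h, q_mul h, q_mul h, q_mul h]
  exact q_congr (by ring) (by ring) (by ring) (by ring) (by ring)

theorem nae (t : F4) : D.na * D.xe t = D.xb t * D.na := by
  rw [← cj (h.nab t), (slA h).ninv, ← mul_assoc, ← mul_assoc, h.na2, one_mul]

theorem nad (t : F4) : D.na * D.xd t = D.xc t * D.na := by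
  rw [← cj (h.nac t), (slA h).ninv, ← mul_assoc, ← mul_assoc, h.na2, one_mul]

theorem nbv (t : F4) : D.nb * D.xv t = D.xe t * D.nb := by
  rw [← cj (h.nbe t), (slB h).ninv, ← mul_assoc, ← mul_assoc, h.nb2, one_mul]

theorem nbc (t : F4) : D.nb * D.xc t = D.xa t * D.nb := by
  rw [← cj (h.nba t), (slB h).ninv, ← mul_assoc, ← mul_assoc, h.nb2, one_mul]

theorem cjn (a b c d e : F4) : D.na * q D a b c d e * D.na⁻¹ =
    q D d c b a (e + a * d + b * c) := by
  rw [q, ← conj_mul, ← conj_mul, ← conj_mul, ← conj_mul, cj (h.nab a), cj (h.nac b), cj (nad h c),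
    cj (nae h d), cj (h.nav e), qe h, qd h, qc h, qb h, qv h, q_mul h, q_mul h, q_mul h, q_mul h]
  exact q_congr (by ring) (by ring) (by ring) (by ring) (by ring)

theorem cjh (a b c d e : F4) : D.ha * q D a b c d e * D.ha⁻¹ =
    q D a (om ^ 2 * b) (om * c) d e := by
  rw [q, ← conj_mul, ← conj_mul, ← conj_mul, ← conj_mul, cj (h.hab a), cj (h.hac b), cj (h.had c),
    cj (h.hae d), cj (h.hav e), q]

omit h in
theorem q_mem (a b c d e : F4) : q D a b c d e ∈ D.QA :=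
  mul_mem (mul_mem (mul_mem (mul_mem (subset_closure (by simp)) (subset_closure (by simp)))
    (subset_closure (by simp))) (subset_closure (by simp))) (subset_closure (by simp))

theorem qnf {g : G} (hg : g ∈ D.QA) : ∃ a b c d e, g = q D a b c d e := by
  induction hg using closure_induction with
  | mem _ h1 =>
    rcases h1 with (((⟨t, rfl⟩ | ⟨t, rfl⟩) | ⟨t, rfl⟩) | ⟨t, rfl⟩) | ⟨t, rfl⟩
    exacts [⟨_, _, _, _, _, qb h t⟩, ⟨_, _, _, _, _, qc h t⟩, ⟨_, _, _, _, _, qd h t⟩,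
      ⟨_, _, _, _, _, qe h t⟩, ⟨_, _, _, _, _, qv h t⟩]
  | one => exact ⟨_, _, _, _, _, (q_zero h).symm⟩
  | mul _ _ _ _ h1 h2 =>
    obtain ⟨a, b, c, d, e, rfl⟩ := h1
    obtain ⟨a', b', c', d', e', rfl⟩ := h2
    exact ⟨_, _, _, _, _, q_mul h ..⟩
  | inv _ _ h1 =>
    obtain ⟨a, b, c, d, e, rfl⟩ := h1
    exact ⟨_, _, _, _, _, q_inv h ..⟩

theorem qqnf {g : G} (hg : g ∈ D.QA) : ∃ s r, g = qq D s r := by
  obtain ⟨a, b, c, d, e, rfl⟩ := qnf h hg
  exact ⟨(a, b, c, d), e, rfl⟩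

theorem mem_V {g : G} : g ∈ D.V ↔ ∃ t, g = D.xv t := by
  refine ⟨fun hg => ?_, by rintro ⟨t, rfl⟩; exact subset_closure ⟨t, rfl⟩⟩
  induction hg using closure_induction with
  | mem _ h1 => obtain ⟨t, rfl⟩ := h1; exact ⟨t, rfl⟩
  | one => exact ⟨0, (zero_of h.vv).symm⟩
  | mul _ _ _ _ h1 h2 =>
    obtain ⟨t, rfl⟩ := h1
    obtain ⟨s, rfl⟩ := h2
    exact ⟨_, (h.vv t s).symm⟩
  | inv _ _ h1 =>
    obtain ⟨t, rfl⟩ := h1
    exact ⟨t, inv_of h.vv t⟩

theorem mem_X {g : G} : g ∈ D.X ↔ ∃ t, g = D.xd t := by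
  refine ⟨fun hg => ?_, by rintro ⟨t, rfl⟩; exact subset_closure ⟨t, rfl⟩⟩
  induction hg using closure_induction with
  | mem _ h1 => obtain ⟨t, rfl⟩ := h1; exact ⟨t, rfl⟩
  | one => exact ⟨0, (zero_of h.dd).symm⟩
  | mul _ _ _ _ h1 h2 =>
    obtain ⟨t, rfl⟩ := h1
    obtain ⟨s, rfl⟩ := h2
    exact ⟨_, (h.dd t s).symm⟩
  | inv _ _ h1 =>
    obtain ⟨t, rfl⟩ := h1
    exact ⟨t, inv_of h.dd t⟩

theorem qq_mem_V {s : Q4} {r : F4} : qq D s r ∈ D.V ↔ s = 0 := by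
  rw [mem_V h]
  exact ⟨fun ⟨t, e⟩ => (qq_inj h (e.trans (qqv h t))).1, by rintro rfl; exact ⟨r, (qqv h r).symm⟩⟩

end Cfsg.Agent.H44.AP
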