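import Cfsg.Agent.H44.CkDefs

/-!
Project CK: the numerical data (element order, centralizer order) of the non-identity classes of a
finite group and the constraints they satisfy.
-/

set_option autoImplicit false

namespace Cfsg.Agent.H44.CK

universe u

/-- A list of pairs (element order, centralizer order). -/
abbrev Dat := List (ℕ × ℕ)

/-- The element orders. -/
def ords (L : Dat) : List ℕ := L.map Prod.fst

/-- The number of classes of elements of order `o`. -/
def mu (L : Dat) (o : ℕ) : ℕ := (ords L).count o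

/-- The number of classes of elements of even order. -/
def ev (L : Dat) : ℕ := (ords L).countP fun o => o % 2 == 0

/-- The number of solutions of `y ^ d = 1` in the centralizer (of order `c`) of an element of
order `o`. -/
def frN (L : Dat) (o c d : ℕ) : ℕ :=
  1 + (L.map fun y => if y.1 ≠ o ∧ o ∣ y.1 ∧ y.1 / o ∣ d then c / y.2 else 0).sum

structure Bas (n : ℕ) (L : Dat) : Prop where
  pos : 0 < n
  two : ∀ x ∈ L, 2 ≤ x.1
  od : ∀ x ∈ L, x.1 ∣ x.2
  dn : ∀ x ∈ L, x.2 ∣ n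
  sum : (L.map fun x => n / x.2).sum + 1 = n
  pw : ∀ x ∈ L, ∀ d, d ∣ x.1 → 2 ≤ d → ∃ y ∈ L, y.1 = d ∧ x.2 ∣ y.2
  up : ∀ x ∈ (1, n) :: L, ∀ p, p.Prime → p ∣ x.2 → ¬ p ∣ x.1 →
    ∃ y ∈ L, y.1 = p * x.1 ∧ y.2 ∣ x.2 ∧ y.2.factorization p = x.2.factorization p

def Fro (n : ℕ) (L : Dat) : Prop :=
  ∀ x ∈ (1, n) :: L, mu L x.1 ≤ 1 → ∀ d, d ∣ x.2 → d.Coprime x.1 →
    d ∣ frN L x.1 x.2 d ∧ frN L x.1 x.2 d * x.1 ≤ x.2

structure Pri (n : ℕ) (L : Dat) : Prop where
  e1 : ∀ x ∈ L, x.1.Prime → x.1 ≠ 2 → ¬ x.1 ^ 2 ∣ x.2 →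
    ¬ x.1 ^ 2 ∣ n ∧ ∃ e ∈ ords L, e * mu L x.1 + 1 = x.1
  gal : ∀ p ∈ ords L, p.Prime → ∃ e ∈ 1 :: ords L, ∃ t ≤ mu L p, e * t + 1 = p
  hig : ∀ p, p.Prime → (p, p) ∈ L → 2 * mu L p + 1 = p → ∃ q ∈ ords L, q.Prime ∧ 7 < q ∧ q ≠ p

structure Inv (n : ℕ) (L : Dat) : Prop where
  bs : ∀ x ∈ L, x.1 = 2 → ∃ y ∈ L, y.1.Prime ∧ y.1 ≠ 2 ∧ y.1 * x.2 ^ 2 ≤ n * y.2
  th : L.Pairwise fun x y => x.1 = 2 → y.1 = 2 → 2 * n ≤ x.2 * y.2 * ev L

structure Sml (L : Dat) : Prop where
  m8 : ∀ x ∈ L, (∃ k, x.1 = 2 ^ k) → 8 ∣ x.2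
  c3 : (3, 3) ∉ L
  c6 : (6, 6) ∈ L → 2 ≤ mu L 2
  o4 : 4 ∈ ords L
  o6 : 6 ∈ ords L
  big : ∃ p ∈ ords L, p.Prime ∧ 5 ≤ p

structure Good (n : ℕ) (L : Dat) : Prop where
  s64 : 64 ∣ n
  bas : Bas n L
  fro : Fro n L
  pri : Pri n L
  inv : Inv n L
  sml : Sml L

section

variable {G : Type u} [Group G]

/-- The order of the centralizer. -/
noncomputable def cc (g : G) : ℕ := Nat.card (Subgroup.centralizer ({g} : Set G))

theorem cc_conj {g h : G} (H : IsConj g h) : cc g = cc h := by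
  obtain ⟨k, rfl⟩ := isConj_iff.1 H
  refine Nat.card_congr ⟨fun x => ⟨k * x * k⁻¹, ?_⟩, fun x => ⟨k⁻¹ * x * k, ?_⟩, ?_, ?_⟩
  · have := Subgroup.mem_centralizer_singleton_iff.1 x.2
    rw [Subgroup.mem_centralizer_singleton_iff]
    calc k * x * k⁻¹ * (k * g * k⁻¹) = k * (x * g) * k⁻¹ := by group
      _ = _ := by rw [this]; group
  · have := Subgroup.mem_centralizer_singleton_iff.1 x.2
    rw [Subgroup.mem_centralizer_singleton_iff]
    calc k⁻¹ * x * k * g = k⁻¹ * (x * (k * g * k⁻¹)) * k := by group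
      _ = _ := by rw [this]; group
  · intro x; ext; simp [mul_assoc]
  · intro x; ext; simp [mul_assoc]

theorem orderOf_conj' {g h : G} (H : IsConj g h) : orderOf g = orderOf h := by
  obtain ⟨k, rfl⟩ := isConj_iff.1 H
  exact (MulAut.conj k).orderOf_eq g |>.symm

/-- Element order and centralizer order of a class. -/
noncomputable def oc (C : ConjClasses G) : ℕ × ℕ :=
  Quotient.liftOn C (fun g => (orderOf g, cc g))
    fun _ _ h => Prod.ext (orderOf_conj' h) (cc_conj h)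

@[simp] theorem oc_mk (g : G) : oc (ConjClasses.mk g) = (orderOf g, cc g) := rfl

open Classical in
/-- The non-identity classes. -/
noncomputable def cls (G : Type u) [Group G] [Finite G] : Finset (ConjClasses G) :=
  (Set.toFinite (Set.univ : Set (ConjClasses G))).toFinset.erase (ConjClasses.mk 1)

/-- The data of `G`. -/
noncomputable def data (G : Type u) [Group G] [Finite G] : Dat := (cls G).toList.map oc

variable [Finite G]

theorem mk_mem_cls {g : G} : ConjClasses.mk g ∈ cls G ↔ g ≠ 1 := by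
  simp [cls, ConjClasses.mk_eq_mk_iff_isConj]

theorem mem_data {x : ℕ × ℕ} : x ∈ data G ↔ ∃ g : G, g ≠ 1 ∧ (orderOf g, cc g) = x := by
  simp only [data, List.mem_map, Finset.mem_toList]
  constructor
  · rintro ⟨C, hC, rfl⟩
    obtain ⟨g, rfl⟩ := ConjClasses.exists_rep C
    exact ⟨g, mk_mem_cls.1 hC, rfl⟩
  · rintro ⟨g, hg, rfl⟩
    exact ⟨_, mk_mem_cls.2 hg, rfl⟩

theorem mem_data' {x : ℕ × ℕ} :
    x ∈ (1, Nat.card G) :: data G ↔ ∃ g : G, (orderOf g, cc g) = x := by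
  have h1 : cc (1 : G) = Nat.card G := by
    have : Subgroup.centralizer ({1} : Set G) = ⊤ := by
      ext x; simp [Subgroup.mem_centralizer_singleton_iff]
    rw [cc, this, Subgroup.card_top]
  rw [List.mem_cons, mem_data]
  constructor
  · rintro (rfl | ⟨g, -, h⟩)
    · exact ⟨1, by simp [h1]⟩
    · exact ⟨g, h⟩
  · rintro ⟨g, rfl⟩
    by_cases hg : g = 1
    · left; simp [hg, h1]
    · exact Or.inr ⟨g, hg, rfl⟩

theorem mem_ords {o : ℕ} : o ∈ ords (data G) ↔ ∃ g : G, g ≠ 1 ∧ orderOf g = o := by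
  simp only [ords, List.mem_map, mem_data]
  constructor
  · rintro ⟨_, ⟨g, hg, rfl⟩, rfl⟩
    exact ⟨g, hg, rfl⟩
  · rintro ⟨g, hg, rfl⟩
    exact ⟨_, ⟨g, hg, rfl⟩, rfl⟩

theorem sum_data (f : ℕ × ℕ → ℕ) : ((data G).map f).sum = ∑ C ∈ cls G, f (oc C) := by
  rw [data, List.map_map, Finset.sum_map_toList]
  rfl

theorem countP_data (p : ℕ → Bool) :
    (ords (data G)).countP p = ((cls G).filter fun C => p (oc C).1 = true).card := by
  classical
  rw [ords, data, List.map_map, List.countP_map, List.countP_eq_length_filter,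
    ← List.toFinset_card_of_nodup ((Finset.nodup_toList _).filter _)]
  congr 1
  ext C
  simp

theorem mu_data (o : ℕ) : mu (data G) o = ((cls G).filter fun C => (oc C).1 = o).card := by
  rw [mu, List.count, countP_data]
  simp

theorem ev_data : ev (data G) = ((cls G).filter fun C => (oc C).1 % 2 = 0).card := by
  rw [ev, countP_data]
  simp

theorem pairwise_data {R : ℕ × ℕ → ℕ × ℕ → Prop}
    (h : ∀ g h : G, g ≠ 1 → h ≠ 1 → ¬ IsConj g h → R (orderOf g, cc g) (orderOf h, cc h)) :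
    (data G).Pairwise R := by
  rw [data, List.pairwise_map]
  refine (Finset.nodup_toList (cls G)).imp_of_mem fun {C D} hC hD hne => ?_
  obtain ⟨g, rfl⟩ := ConjClasses.exists_rep C
  obtain ⟨k, rfl⟩ := ConjClasses.exists_rep D
  rw [Finset.mem_toList, mk_mem_cls] at hC hD
  exact h g k hC hD fun hc => hne (ConjClasses.mk_eq_mk_iff_isConj.2 hc)

theorem length_data : (data G).length + 1 = kk G := by
  classical
  rw [data, List.length_map, Finset.length_toList, cls, Finset.card_erase_add_one (by simp),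
    ← Set.ncard_eq_toFinset_card _ (Set.toFinite _), Set.ncard_univ]

end

def BasStmt : Prop := ∀ (G : Type u) [Group G] [Finite G], Bas (Nat.card G) (data G)

def FroStmt : Prop := ∀ (G : Type u) [Group G] [Finite G], Fro (Nat.card G) (data G)

def PriStmt : Prop :=
  ∀ (G : Type u) [Group G] [Finite G] [IsSimpleGroup G], ¬ IsMulCommutative G → ¬ Known G →
    Pri (Nat.card G) (data G)

def InvStmt : Prop :=
  ∀ (G : Type u) [Group G] [Finite G] [IsSimpleGroup G], ¬ IsMulCommutative G →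
    Inv (Nat.card G) (data G)

def SmlStmt : Prop :=
  ∀ (G : Type u) [Group G] [Finite G] [IsSimpleGroup G], ¬ IsMulCommutative G → ¬ Known G →
    64 ∣ Nat.card G → Sml (data G)

end Cfsg.Agent.H44.CK
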