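import Cfsg.Agent.H73.CVKit
import Cfsg.Agent.H47.C6K0

/-! The centraliser of the diagonal element `U` is monomial (project CV; port of `H31.CuK0`). -/

set_option autoImplicit false

namespace Cfsg.Agent.H44.CvK0

open Matrix Cfsg.Geo Subgroup
open Cfsg.Agent.H25 Cfsg.Agent.H73.CV
open Cfsg.Agent.H25.CU (qF hf subSU qF_eq hf_eq)
open Cfsg.Agent.H25.C6 hiding Fld Mod Bc Low Ar Tri StdStmt NrmStmt EsStmt GeoStmt TpStmt TvStmt OddStmt ZsStmt H3bStmt
  H3cStmt H3dStmt H3Stmt A1Stmt K0Stmt SwStmt PrimStmt RealStmt BigStmt SmallStmt ClsStmt A2Stmt CopStmt Tv5Stmt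
  LiftStmt KbStmt KoddStmt UqStmt One
open Cfsg.Agent.H47.C6K0 (ex_ab comm_ker)
open scoped MatrixGroups commutatorElement

universe u

variable {F : Type u} [Field F] [Fintype F] {r n p : ℕ} [Fact r.Prime] {ω : Fˣ}
  {G : Subgroup (GL (ZMod r) F)}

variable (ω G) in
/-- the centraliser of `U` -/
abbrev CZ : Subgroup (GL (ZMod r) F) := G ⊓ centralizer {gU r ω}

theorem zero (h : Fld r n p ω) (g : CZ ω G) {i j : ZMod r} (h1 : j ≠ i) (h2 : j ≠ -i) :
    g.1.1 i j = 0 :=
  entry_eq_zero (d := fun i => ch ω (i * i)) (mem_centralizer_singleton_iff.1 g.2.2) fun e =>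
    (mul_self_eq_mul_self_iff.1 (h.ch_inj e).symm).elim h1 h2

theorem row (h : Fld r n p ω) (g k : CZ ω G) {i : ZMod r} (hi : i ≠ 0) (j : ZMod r) :
    (g * k).1.1 i j = g.1.1 i i * k.1.1 i j + g.1.1 i (-i) * k.1.1 (-i) j :=
  Finset.sum_eq_add_of_mem (f := fun l => g.1.1 i l * k.1.1 l j) i (-i) (Finset.mem_univ _)
    (Finset.mem_univ _) (h.neg_ne hi).symm fun c _ hc => by rw [zero h g hc.1 hc.2, zero_mul]

/-- the block of an index -/
def blk (h : Fld r n p ω) {i : ZMod r} (hi : i ≠ 0) : CZ ω G →* Matrix (Fin 2) (Fin 2) F where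
  toFun g := !![g.1.1 i i, g.1.1 i (-i); g.1.1 (-i) i, g.1.1 (-i) (-i)]
  map_one' := by
    ext a b
    fin_cases a <;> fin_cases b <;> simp [h.neg_ne hi, (h.neg_ne hi).symm]
  map_mul' g k := by
    have h1 := row h g k hi
    have h2 := row h g k (neg_ne_zero.2 hi)
    rw [neg_neg] at h2
    rw [mul_fin_two, h1, h1, h2, h2, add_comm (_ * k.1.1 (-i) i) (g.1.1 (-i) i * _),
      add_comm (_ * k.1.1 (-i) (-i)) (g.1.1 (-i) i * _)]

theorem blk_apply (h : Fld r n p ω) {i : ZMod r} (hi : i ≠ 0) (g : CZ ω G) :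
    blk h hi g = !![g.1.1 i i, g.1.1 i (-i); g.1.1 (-i) i, g.1.1 (-i) (-i)] := rfl

/-- the entry at zero -/
def blk0 (h : Fld r n p ω) : CZ ω G →* F where
  toFun g := g.1.1 0 0
  map_one' := by simp
  map_mul' g k := Finset.sum_eq_single (f := fun l => g.1.1 0 l * k.1.1 l 0) 0
    (fun c _ hc => by rw [zero h g hc (by rwa [neg_zero]), zero_mul]) (by simp)

theorem det_blk (h : Fld r n p ω) {i : ZMod r} (hi : i ≠ 0) {g : CZ ω G}
    (hg : g ∈ commutator (CZ ω G)) :
    g.1.1 i i * g.1.1 (-i) (-i) - g.1.1 i (-i) * g.1.1 (-i) i = 1 := by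
  have := comm_ker (detMonoidHom.comp (blk h hi)) hg
  rwa [MonoidHom.comp_apply, coe_detMonoidHom, blk_apply, det_fin_two_of] at this

theorem no_inv (h : Mod n p ω G) (hp : p ≠ 2) (hN : NoH G) {g : CZ ω G}
    (hg : g ∈ commutator (CZ ω G)) (h2 : g * g = 1) : g = 1 := by
  have hF := h.fld
  obtain ⟨d, e⟩ : ∃ d, g.1 = gD d := exists_gD fun i j hij => by
    by_cases hj : j = -i
    · subst hj
      have hi : i ≠ 0 := by rintro rfl; simp at hij
      have h3 := det_blk hF hi hg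
      have h4 := row hF g g hi i
      have h5 := row hF g g hi (-i)
      rw [h2] at h4 h5
      simp only [OneMemClass.coe_one, Units.val_one, one_apply_eq, one_apply_ne hij] at h4 h5
      exact (mul_eq_zero.1 (show 2 * g.1.1 i (-i) = 0 by
        linear_combination -g.1.1 i (-i) * h3 + g.1.1 i (-i) * h4 - g.1.1 i i * h5)).resolve_left
          (hF.two_ne hp)
    · exact zero hF g hij.symm hj
  have h3 : d * d = 1 := gD_injective (by
    rw [map_mul, ← e, map_one, ← Subgroup.coe_mul, h2, OneMemClass.coe_one])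
  have h4 : d 0 = 1 := Units.ext (by
    have : g.1.1 0 0 = 1 := comm_ker (blk0 hF) hg
    rwa [e, coe_gD, diagonal_apply_eq] at this)
  have h5 : ∀ j, d j ^ r = d j := fun j => by
    rw [hF.r_eq, pow_succ, pow_mul, pow_two, show d j * d j = 1 from congrFun h3 j, one_pow, one_mul]
  refine Subtype.ext ?_
  rw [e, show d = 1 from funext fun j => by
    rw [← h5, h.toGen.dg hN (e ▸ g.2.1) j 0, h4, one_pow]; rfl, map_one]
  rfl

theorem odd_comm (h : Mod n p ω G) (hp : p ≠ 2) (hN : NoH G) :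
    Odd (Nat.card (commutator (CZ ω G))) := by
  by_contra e
  obtain ⟨x, hx⟩ := exists_prime_orderOf_dvd_card' 2 (Nat.not_odd_iff_even.1 e).two_dvd
  have h1 : x ^ 2 = 1 := hx ▸ pow_orderOf_eq_one x
  have h2 := no_inv h hp hN x.2 (by rw [← pow_two]; exact congrArg Subtype.val h1)
  rw [show x = 1 from Subtype.ext h2, orderOf_one] at hx
  omega

theorem key (h : Mod n p ω G) (hp : p ≠ 2) (hN : NoH G) {k : ZMod r} (hk : k ≠ 0) (g : CZ ω G) :
    g.1.1 k k * g.1.1 k (-k) = 0 ∧ (g.1.1 k k = 0 → g.1.1 (-k) (-k) = 0) := by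
  have hF := h.fld
  have ho := odd_comm h hp hN
  have := S0205.result ho
  have : Group.IsSolvable (CZ ω G) := Group.isSolvable_of_ker_le_range
    (commutator (CZ ω G)).subtype Abelianization.of (by rw [Abelianization.ker_of, range_subtype])
  let X : CZ ω G := ⟨gX r ω, h.x, mem_centralizer_singleton_iff.2 (gD_comm _ _)⟩
  let T : CZ ω G := ⟨gT r F, h.t, mem_centralizer_singleton_iff.2 commute_U_T.symm⟩
  have n1 := hF.neg_ne hk
  have eX : blk hF hk X = !![(ch ω k : F), 0; 0, (ch ω k : F)⁻¹] := by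
    simp [blk_apply, X, gX_eq, coe_gD, n1, n1.symm, ch_neg hF.pow_r]
  have eT : blk hF hk T = !![0, 1; 1, 0] := by
    simp [blk_apply, T, gT, coe_gP, pm_apply, n1, n1.symm]
  have eX' : blk hF hk X⁻¹ = !![(ch ω k : F)⁻¹, 0; 0, (ch ω k : F)] := by
    simp [blk_apply, X, gX_eq, ← map_inv, coe_gD, n1, n1.symm, ch_neg hF.pow_r]
  have eT' : T⁻¹ = T := Subtype.ext gT_inv
  have u4 : (ch ω k : F) ^ 4 ≠ 1 := fun e => by
    have h1 : ch ω (k * ((4 : ℕ) : ZMod r)) = 1 := by rw [ch_mul_nat hF.pow_r]; exact Units.ext e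
    exact mul_ne_zero hk (Cfsg.Agent.H73.CV.Fld.cast_ne_zmod (by norm_num) (by have := hF.seven_le; omega))
      (hF.ch_eq_one.1 h1)
  have u0 := (ch ω k).ne_zero
  generalize (ch ω k : F) = u at eX eX' u4 u0
  obtain ⟨A, hA, A1, A2, a, ha, a1⟩ := ex_ab (blk hF hk) (x := ⁅X, T⁆)
    (commutator_mem_commutator (mem_top _) (mem_top _)) fun e => u4 (by
      rw [commutatorElement_def, eT', map_mul, map_mul, map_mul, eX, eT, eX'] at e
      have := congrFun (congrFun e 0) 0
      simp at this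
      linear_combination (u ^ 2 + 1) * this)
  have dg : ∀ b ∈ A, b.1.1 k (-k) = 0 ∧ b.1.1 (-k) k = 0 := fun b hb => by
    have h1 := congrFun (congrFun (A2 b hb _ (hA.conj_mem b hb X)) 0) 0
    have h2 := congrFun (congrFun (A2 b hb _ (hA.conj_mem b hb T)) 0) 0
    rw [map_mul, map_mul, eX, eX', blk_apply] at h1
    rw [eT', map_mul, map_mul, eT, blk_apply] at h2
    simp only [mul_fin_two, of_apply, cons_val', cons_val_zero, cons_val_fin_one] at h1 h2
    generalize b.1.1 k (-k) = x at h1 h2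
    generalize b.1.1 (-k) k = y at h1 h2
    have h3 : x * y = 0 := (mul_eq_zero.1 (show (u ^ 4 - 1) * (x * y) = 0 by
      field_simp at h1; linear_combination -h1)).resolve_left (sub_ne_zero.2 u4)
    have h4 : x * x = y * y := by linear_combination h2
    rcases mul_eq_zero.1 h3 with e | e
    · exact ⟨e, mul_self_eq_zero.1 (by rw [← h4, e, mul_zero])⟩
    · exact ⟨mul_self_eq_zero.1 (by rw [h4, e, mul_zero]), e⟩
  have ne : a.1.1 k k ≠ a.1.1 (-k) (-k) := fun e => a1 (by
    have h1 := det_blk hF hk (A1 ha)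
    have h2 : blk hF hk a ^ 2 = 1 := by
      rw [(dg a ha).1, zero_mul, sub_zero, ← e] at h1
      rw [pow_two, blk_apply, (dg a ha).1, (dg a ha).2, ← e, mul_fin_two, one_fin_two]
      simp [h1]
    obtain ⟨m, hm⟩ := ho
    have h3 : a ^ (2 * m + 1) = 1 :=
      congrArg Subtype.val (hm ▸ pow_card_eq_one' (x := (⟨a, A1 ha⟩ : commutator (CZ ω G))))
    have h4 := congrArg (blk hF hk) h3
    rwa [map_pow, pow_succ, pow_mul, h2, one_pow, one_mul, map_one] at h4)
  have hb := hA.conj_mem a ha g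
  have e : blk hF hk g * blk hF hk a = blk hF hk (g * a * g⁻¹) * blk hF hk g := by
    rw [← map_mul, ← map_mul, inv_mul_cancel_right]
  have d0 : det (blk hF hk g) ≠ 0 := ((isUnit_iff_isUnit_det _).1
    ((Group.isUnit g).map (blk hF hk))).ne_zero
  rw [blk_apply, det_fin_two_of] at d0
  rw [blk_apply, blk_apply, blk_apply, (dg a ha).1, (dg a ha).2, (dg _ hb).1, (dg _ hb).2,
    mul_fin_two, mul_fin_two] at e
  have e00 := congrFun (congrFun e 0) 0
  have e01 := congrFun (congrFun e 0) 1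
  have e10 := congrFun (congrFun e 1) 0
  have e11 := congrFun (congrFun e 1) 1
  simp only [of_apply, cons_val', cons_val_zero, cons_val_one, cons_val_fin_one] at e00 e01 e10 e11
  have s := sub_ne_zero.2 ne
  refine ⟨(mul_eq_zero_iff_left s).1 ?_, fun h0 => ?_⟩
  · linear_combination g.1.1 k (-k) * e00 - g.1.1 k k * e01
  · have h1 : g.1.1 (-k) k ≠ 0 := fun h1 => d0 (by rw [h0, h1]; ring)
    refine (mul_eq_zero_iff_left h1).1 ((mul_eq_zero_iff_left s).1 ?_)
    linear_combination g.1.1 (-k) (-k) * e10 - g.1.1 (-k) k * e11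

theorem k0 : K0Stmt.{u} := by
  intro F _ _ r n p _ ω G h hp hN g hg hu
  classical
  let g' : CZ ω G := ⟨g, hg, mem_centralizer_singleton_iff.2 hu⟩
  have h1 : ∀ i, g.1 i i = 0 → g.1 (-i) (-i) = 0 := fun i hi => by
    by_cases e : i = 0
    · rwa [e, neg_zero, ← e]
    · exact (key h hp hN e g').2 hi
  have hs : Function.Involutive fun i => if g.1 i i = 0 then -i else i := fun i => by
    by_cases e : g.1 i i = 0
    · simp [e, h1 i e]
    · simp [e]
  have h2 : ∀ i j, j ≠ hs.toPerm _ i → g.1 i j = 0 := fun i j hj => by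
    replace hj : j ≠ if g.1 i i = 0 then -i else i := hj
    by_cases e1 : j = i
    · by_contra e
      rw [e1] at e
      exact hj (by rw [if_neg e, e1])
    by_cases e2 : j = -i
    · have hi : i ≠ 0 := by rintro rfl; exact e1 (by simpa using e2)
      rw [e2]
      exact (mul_eq_zero.1 (key h hp hN hi g').1).resolve_left fun e => hj (by rw [if_pos e, e2])
    · exact zero h.fld g' e1 e2
  obtain ⟨d, e⟩ := exists_gD (g := g * gP F (hs.toPerm _)) fun i j hij => by
    rw [Units.val_mul, coe_gP, mul_pm_apply]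
    exact h2 _ _ fun e => hij ((hs.toPerm _).injective e).symm
  refine ⟨d, (hs.toPerm _)⁻¹, fun i => ?_, by rw [← e, map_inv, mul_inv_cancel_right]⟩
  show (if g.1 i i = 0 then -i else i) = i ∨ (if g.1 i i = 0 then -i else i) = -i
  split_ifs <;> simp

end Cfsg.Agent.H44.CvK0
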