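import Cfsg.Agent.H63.GvDefs

/-! Project CY, chapter IV, piece TF: a triangle with two flat sides. -/

set_option autoImplicit false

namespace Cfsg.Agent.H44.CyTf

open Subgroup MulAction Cfsg.Agent.H11.Cy Cfsg.Agent.H45.Iv Cfsg.Agent.H63.Gv
open scoped commutatorElement

variable {G : Type} [Group G] {Ω : Type} [MulAction G Ω] {p : ℕ} {A : Ω → Subgroup G}

theorem gen (st : St p A) {x : Ω} {a : G} (ha : a ∈ A x) (a1 : a ≠ 1) {K : Subgroup G}
    (hK : a ∈ K) : A x ≤ K := by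
  have : Fact (Nat.card (A x)).Prime := ⟨by rw [st.card]; exact st.pp⟩
  rcases (K.subgroupOf (A x)).eq_bot_or_eq_top_of_prime_card with e | e
  · have : (⟨a, ha⟩ : A x) ∈ K.subgroupOf (A x) := hK
    rw [e, mem_bot] at this
    exact absurd (congrArg Subtype.val this) a1
  · exact subgroupOf_eq_top.1 e

omit [MulAction G Ω] in
theorem a_le {P : Set Ω} {w : Ω} (hw : w ∈ P) : A w ≤ Ms A P := le_iSup₂_of_le w hw le_rfl

theorem notZ (st : St p A) (cx : Cx p A) {y b : Ω} (yb : y ≠ b) {a β : G} (ha : a ∈ A y)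
    (a1 : a ≠ 1) (hβ : β ∈ A b) : a * β⁻¹ ∉ Zl A y b := fun h => by
  have h1 : (a * β⁻¹) • b = b := (cx.sk.fx y b yb _ h).2.1 (cx.sk.ln y b).2
  rw [mul_smul, st.fix b _ (inv_mem hβ)] at h1
  rcases st.semi y b a ha h1 with e | e
  · exact a1 e
  · exact yb e.symm

theorem core (st : St p A) (cx : Cx p A) {P : Set Ω} (sub : Sub A P) {y b c : Ω} (hy : y ∈ P)
    (hb : b ∈ P) (hc : c ∈ P) (yb : y ≠ b) (yc : y ≠ c) {a β γ : G} (ha : a ∈ A y) (a1 : a ≠ 1)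
    (hβ : β ∈ A b) (hγ : γ ∈ A c) {u v : G} (e1 : u = a * β⁻¹) (e2 : v = a * γ⁻¹)
    (hu : u ∈ Rl A y b) (hv : v ∈ Rl A y c) (u2 : u * u ∈ Cs A P) (v2 : v * v ∈ Cs A P) :
    ⁅u, v⁆ * ⁅u, v⁆ = 1 ∧ A y ≤ centralizer {⁅u, v⁆} ∧ A b ≤ centralizer {⁅u, v⁆} ∧
      A c ≤ centralizer {⁅u, v⁆} := by
  have sk := cx.sk
  have ls := cx.ls
  have nu : u ∉ Zl A y b := e1 ▸ notZ st cx yb ha a1 hβ
  have key : ∀ w ∈ P, ¬ ∀ w', (u⁻¹ * v) • w' = w' ↔ w' = w := fun w hw h => by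
    have h1 : v • w = u • w := by rw [← inv_smul_eq_iff, ← mul_smul, (h w).2 rfl]
    refine cx.fpf y b yb u hu nu w ((h _).1 ?_)
    rw [mul_smul, inv_smul_eq_iff, ← mul_smul u, sk.csfix P _ u2 w hw, ← h1, ← mul_smul,
      sk.csfix P _ v2 w hw]
  have eg : u⁻¹ * v = β * γ⁻¹ := by rw [e1, e2]; group
  by_cases h : b = c
  · subst h
    have hg : u⁻¹ * v ∈ A b := eg ▸ mul_mem hβ (inv_mem hγ)
    by_cases h1 : u⁻¹ * v = 1
    · have : ⁅u, v⁆ = 1 := by rw [← inv_mul_eq_one.1 h1, commutatorElement_self]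
      rw [this]
      exact ⟨one_mul 1, fun _ _ => by simp [mem_centralizer_singleton_iff],
        fun _ _ => by simp [mem_centralizer_singleton_iff],
        fun _ _ => by simp [mem_centralizer_singleton_iff]⟩
    · exact absurd (fun w => ⟨fun hw => (st.semi b w _ hg hw).resolve_left h1,
        fun hw => hw ▸ st.fix b _ hg⟩) (key b hb)
  have h1 : u⁻¹ * v ∈ Rl A b c := by
    by_contra h1
    obtain ⟨w, hw, h2, -⟩ := (ls b c h).1.out _
      (eg ▸ mul_mem (mem_sup_left hβ) (inv_mem (mem_sup_right hγ))) h1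
    exact key w (sub b hb c hc h hw) h2
  have gZ := (ls b c h).2.1.sq _ h1
  have g4 := (ls b c h).2.2.1.zsq _ gZ
  have u4 := (ls y b yb).2.2.1.zsq _ ((ls y b yb).2.1.sq _ hu)
  have v4 := (ls y c yc).2.2.1.zsq _ ((ls y c yc).2.1.sq _ hv)
  have uM : u ∈ Ms A P := e1 ▸ mul_mem (a_le hy ha) (inv_mem (a_le hb hβ))
  have vM : v ∈ Ms A P := e2 ▸ mul_mem (a_le hy ha) (inv_mem (a_le hc hγ))
  have cu : ∀ m ∈ Ms A P, Commute m (u * u) := fun m hm => mem_centralizer_iff.1 u2 m hm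
  have cv : ∀ m ∈ Ms A P, Commute m (v * v) := fun m hm => mem_centralizer_iff.1 v2 m hm
  have ed : ⁅u, v⁆ = u * u * (u⁻¹ * v * (u⁻¹ * v)) * (v * v)⁻¹ := by
    rw [commutatorElement_def]; group
  have gM : u⁻¹ * v ∈ Ms A P := mul_mem (inv_mem uM) vM
  have ug : Commute u (u⁻¹ * v * (u⁻¹ * v)) := by
    have i1 : u⁻¹ = u * (u * u) := inv_eq_of_mul_eq_one_right (by rw [← u4]; group)
    have i2 : v = v⁻¹ * (v * v) := by group
    have i3 : u⁻¹ * v * (u⁻¹ * v) = v⁻¹ * u * (v⁻¹ * u) :=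
      eq_inv_of_mul_eq_one_left g4 |>.trans (by group)
    have i4 : v * u⁻¹ = v⁻¹ * u * (v * v * (u * u)) := by
      calc v * u⁻¹ = v⁻¹ * (v * v * u) * (u * u) := by rw [i1]; group
        _ = _ := by rw [← (cv u uM).eq]; group
    have ck : Commute (v⁻¹ * u) (v * v * (u * u)) :=
      (cv _ (mul_mem (inv_mem vM) uM)).mul_right (cu _ (mul_mem (inv_mem vM) uM))
    have k2 : v * v * (u * u) * (v * v * (u * u)) = 1 := by
      calc _ = v * v * (u * u * (v * v)) * (u * u) := by group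
        _ = v * v * (v * v) * (u * u * (u * u)) := by rw [(cv _ (mul_mem uM uM)).eq]; group
        _ = 1 := by rw [u4, v4, one_mul]
    have i5 : v * u⁻¹ * (v * u⁻¹) = v⁻¹ * u * (v⁻¹ * u) := by
      rw [i4, ck.symm.mul_mul_mul_comm, k2, mul_one]
    show u * _ = _ * u
    calc u * (u⁻¹ * v * (u⁻¹ * v)) = v * u⁻¹ * (v * u⁻¹) * u := by group
      _ = _ := by rw [i5, i3]
  have cg : ∀ m ∈ Fl A b c, Commute m (u⁻¹ * v * (u⁻¹ * v)) := fun m hm =>
    mem_centralizer_iff.1 gZ.2 m hm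
  have fin : ∀ m ∈ Ms A P, Commute m (u⁻¹ * v * (u⁻¹ * v)) → m ∈ centralizer {⁅u, v⁆} :=
    fun m hm h => by
      rw [mem_centralizer_singleton_iff, ed]
      exact (((cu m hm).mul_right h).mul_right (cv m hm).inv_right).eq
  refine ⟨?_, gen st ha a1 (fin a (a_le hy ha) ?_), fun m hm => fin m (a_le hb hm)
    (cg m (mem_sup_left hm)), fun m hm => fin m (a_le hc hm) (cg m (mem_sup_right hm))⟩
  · have c1 := cu _ (mul_mem gM gM)
    have c2 := (cv _ (mul_mem (mul_mem uM uM) (mul_mem gM gM))).inv_right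
    rw [ed, c2.symm.mul_mul_mul_comm, c1.mul_mul_mul_comm, u4, g4, ← mul_inv_rev, v4]
    simp
  · have : a = u * β := by rw [e1]; group
    rw [this]
    exact ug.mul_left (cg β (mem_sup_left hβ))

theorem R_le (cx : Cx p A) {y b : Ω} (yb : y ≠ b) : Rl A y b ≤ Fl A y b :=
  le_sup_left.trans_eq (cx.ls y b yb).1.sup

theorem R_nz (cx : Cx p A) {y b : Ω} (yb : y ≠ b) : Nz A y (Rl A y b) := fun a ha s hs => by
  have := mul_mem (commutator_mem_commutator (mem_sup_left ha : a ∈ Fl A y b) (R_le cx yb hs)) hs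
  rwa [commutatorElement_def, inv_mul_cancel_right] at this

theorem span (cx : Cx p A) {y b : Ω} (yb : y ≠ b) {r : G} (hr : r ∈ Rl A y b) (nr : r ∉ Zl A y b)
    {X : Subgroup G} (hX : ∀ a ∈ A y, a * r * a⁻¹ ∈ X) : Rl A y b ≤ X := by
  obtain ⟨la, -, lc, -⟩ := cx.ls y b yb
  set W0 := closure {w | ∃ a ∈ A y, w = a * r * a⁻¹} with hW
  have h0 : W0 ≤ X := (closure_le _).2 (by rintro _ ⟨a, ha, rfl⟩; exact hX a ha)
  have h1 : W0 ≤ Rl A y b := (closure_le _).2 (by rintro _ ⟨a, ha, rfl⟩; exact R_nz cx yb a ha r hr)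
  have cz : ∀ z ∈ Zl A y b, ∀ m ∈ Fl A y b, Commute m z := fun z hz m hm =>
    mem_centralizer_iff.1 hz.2 m hm
  have h2 : ∀ a ∈ A y, W0 ≤ W0.comap (MulAut.conj a).toMonoidHom := fun a ha =>
    (closure_le _).2 (by
      rintro _ ⟨a', ha', rfl⟩
      exact subset_closure ⟨a * a', mul_mem ha ha', by simp [mul_assoc]⟩)
  let W : Subgroup G :=
    { carrier := {u | ∃ w ∈ W0, ∃ z ∈ Zl A y b, u = w * z}
      one_mem' := ⟨1, one_mem _, 1, one_mem _, by simp⟩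
      mul_mem' := by
        rintro _ _ ⟨w, hw, z, hz, rfl⟩ ⟨w', hw', z', hz', rfl⟩
        exact ⟨_, mul_mem hw hw', _, mul_mem hz hz',
          (cz z hz w' (R_le cx yb (h1 hw'))).symm.mul_mul_mul_comm _ _⟩
      inv_mem' := by
        rintro _ ⟨w, hw, z, hz, rfl⟩
        exact ⟨_, inv_mem hw, _, inv_mem hz, by
          rw [(cz z hz w (R_le cx yb (h1 hw))).eq, mul_inv_rev]⟩ }
  have hW : W = Rl A y b := by
    refine (lc.irr W (fun z hz => ⟨1, one_mem _, z, hz, (one_mul z).symm⟩) ?_ ?_).resolve_left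
      fun e => nr (e ▸ ⟨r, subset_closure ⟨1, one_mem _, by simp⟩, 1, one_mem _, (mul_one r).symm⟩)
    · rintro _ ⟨w, hw, z, hz, rfl⟩; exact mul_mem (h1 hw) (la.zle hz)
    · rintro a ha _ ⟨w, hw, z, hz, rfl⟩
      refine ⟨a * w * a⁻¹, h2 a ha hw, z, hz, ?_⟩
      rw [mul_assoc (a * w), (cz z hz a⁻¹ (inv_mem (mem_sup_left ha))).eq]; group
  have hZ : Zl A y b ≤ W0 := lc.zd.trans (commutator_le.2 fun u hu v hv => by
    rw [← hW] at hu hv
    obtain ⟨w, hw, z, hz, rfl⟩ := hu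
    obtain ⟨w', hw', z', hz', rfl⟩ := hv
    have c1 := cz z hz _ (mul_mem (R_le cx yb (h1 hw')) hz'.1)
    have c2 := (cz z' hz' _ (inv_mem (R_le cx yb (h1 hw)))).eq
    have : ⁅w * z, w' * z'⁆ = w * w' * w⁻¹ * w'⁻¹ := by
      calc ⁅w * z, w' * z'⁆ = w * (z * (w' * z')) * z⁻¹ * w⁻¹ * z'⁻¹ * w'⁻¹ := by
            rw [commutatorElement_def]; group
        _ = w * w' * (z' * w⁻¹) * z'⁻¹ * w'⁻¹ := by rw [← c1.eq]; group
        _ = _ := by rw [← c2]; group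
    rw [this]
    exact mul_mem (mul_mem (mul_mem hw hw') (inv_mem hw)) (inv_mem hw'))
  intro u hu
  rw [← hW] at hu
  obtain ⟨w, hw, z, hz, rfl⟩ := hu
  exact h0 (mul_mem hw (hZ hz))

/-- The central involutions of `M`. -/
def Dc (M : Subgroup G) : Subgroup G where
  carrier := {d | d ∈ M ∧ M ≤ centralizer {d} ∧ d * d = 1}
  one_mem' := ⟨one_mem _, fun _ _ => by simp [mem_centralizer_singleton_iff], one_mul 1⟩
  mul_mem' := by
    rintro d e ⟨h1, h2, h3⟩ ⟨h4, h5, h6⟩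
    refine ⟨mul_mem h1 h4, fun m hm => mem_centralizer_singleton_iff.2
      (Commute.mul_right (mem_centralizer_singleton_iff.1 (h2 hm))
        (mem_centralizer_singleton_iff.1 (h5 hm))), ?_⟩
    have c : Commute e d := mem_centralizer_singleton_iff.1 (h2 h4)
    rw [c.mul_mul_mul_comm, h3, h6, one_mul]
  inv_mem' := by
    rintro d ⟨h1, h2, h3⟩
    rw [inv_eq_of_mul_eq_one_right h3]; exact ⟨h1, h2, h3⟩

theorem Dc_comm {M : Subgroup G} {d m : G} (hd : d ∈ Dc M) (hm : m ∈ M) : m * d = d * m :=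
  mem_centralizer_singleton_iff.1 (hd.2.1 hm)

/-- The elements of `M` that commute with `v` modulo `Dc M`. -/
def Xc (M : Subgroup G) (v : G) : Subgroup G where
  carrier := {u | u ∈ M ∧ ⁅u, v⁆ ∈ Dc M}
  one_mem' := ⟨one_mem _, by simp⟩
  mul_mem' := by
    rintro u u' ⟨h1, h2⟩ ⟨h3, h4⟩
    refine ⟨mul_mem h1 h3, ?_⟩
    have : ⁅u * u', v⁆ = ⁅u', v⁆ * ⁅u, v⁆ := by
      calc ⁅u * u', v⁆ = u * ⁅u', v⁆ * u⁻¹ * ⁅u, v⁆ := by simp only [commutatorElement_def]; group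
        _ = _ := by rw [Dc_comm h4 h1]; group
    rw [this]; exact mul_mem h4 h2
  inv_mem' := by
    rintro u ⟨h1, h2⟩
    refine ⟨inv_mem h1, ?_⟩
    have : ⁅u⁻¹, v⁆ = ⁅u, v⁆⁻¹ := by
      calc ⁅u⁻¹, v⁆ = u⁻¹ * ⁅u, v⁆⁻¹ * u := by simp only [commutatorElement_def]; group
        _ = _ := by rw [Dc_comm (inv_mem h2) (inv_mem h1)]; group
    rw [this]; exact inv_mem h2

theorem tf : TfStmt := by
  intro G _ _ Ω _ _ p A st cx P mb _ y hy b hb c hc yb yc a ha a1 ⟨β, hβ, hr, r2⟩ ⟨γ, hγ, hs, s2⟩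
  set M := A y ⊔ A b ⊔ A c with hM
  have yM : A y ≤ M := le_sup_left.trans le_sup_left
  have bM : Rl A y b ≤ M := (R_le cx yb).trans le_sup_left
  have cM : Rl A y c ≤ M := (R_le cx yc).trans (sup_le yM le_sup_right)
  have cj : ∀ x ∈ P, y ≠ x → ∀ β ∈ A x, a * β⁻¹ ∈ Rl A y x → a * β⁻¹ * (a * β⁻¹) ∈ Cs A P →
      ∀ a' ∈ A y, a' • x ∈ P ∧ y ≠ a' • x ∧ a' * β * a'⁻¹ ∈ A (a' • x) ∧
        a' * (a * β⁻¹) * a'⁻¹ = a * (a' * β * a'⁻¹)⁻¹ ∧ a' * (a * β⁻¹) * a'⁻¹ ∈ Rl A y (a' • x) ∧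
        a' * (a * β⁻¹) * a'⁻¹ * (a' * (a * β⁻¹) * a'⁻¹) ∈ Cs A P ∧
        ∀ K : Subgroup G, A y ≤ K → A (a' • x) ≤ K → A x ≤ K := by
    intro x hx yx β hβ hr r2 a' ha'
    have fy := st.fix y a' ha'
    have ca : a' * a = a * a' :=
      mem_centralizer_singleton_iff.1 (gen st ha a1 (mem_centralizer_singleton_iff.2 rfl) ha')
    refine ⟨cx.sk.inv P mb.1 a' (a_le hy ha') x hx, fun e => yx ?_, st.eqv a' x β hβ, ?_, ?_, ?_,
      fun K h1 h2 m hm => ?_⟩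
    · exact (smul_left_cancel_iff a').1 (fy.trans e)
    · rw [← mul_assoc, ca]; group
    · have := (cx.sk.cj a' y x _).2.1 hr
      rwa [fy] at this
    · have c : a' * _ = _ * a' := mem_centralizer_iff.1 r2 a' (a_le hy ha')
      have : a' * (a * β⁻¹) * a'⁻¹ * (a' * (a * β⁻¹) * a'⁻¹) = a * β⁻¹ * (a * β⁻¹) := by
        calc _ = a' * (a * β⁻¹ * (a * β⁻¹)) * a'⁻¹ := by group
          _ = _ := by rw [c]; group
      rwa [this]
    · have := mul_mem (mul_mem (inv_mem (h1 ha')) (h2 (st.eqv a' x m hm))) (h1 ha')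
      simpa [mul_assoc] using this
  have base : ∀ a₁ ∈ A y, ∀ a₂ ∈ A y,
      ⁅a₁ * (a * β⁻¹) * a₁⁻¹, a₂ * (a * γ⁻¹) * a₂⁻¹⁆ ∈ Dc M := fun a₁ h₁ a₂ h₂ => by
    obtain ⟨p1, p2, p3, p4, p5, p6, p7⟩ := cj b hb yb β hβ hr r2 a₁ h₁
    obtain ⟨q1, q2, q3, q4, q5, q6, q7⟩ := cj c hc yc γ hγ hs s2 a₂ h₂
    obtain ⟨d1, d2, d3, d4⟩ := core st cx mb.1 hy p1 q1 p2 q2 ha a1 p3 q3 p4 q4 p5 q5 p6 q6
    have m1 := bM (R_nz cx yb a₁ h₁ _ hr)
    have m2 := cM (R_nz cx yc a₂ h₂ _ hs)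
    exact ⟨mul_mem (mul_mem (mul_mem m1 m2) (inv_mem m1)) (inv_mem m2),
      sup_le (sup_le d2 (p7 _ d2 d3)) (q7 _ d2 d4), d1⟩
  have all : ∀ v ∈ Rl A y c, ∀ u ∈ Rl A y b, ⁅v, u⁆ ∈ Dc M := fun v hv u hu => by
    refine (span cx yc hs (notZ st cx yc ha a1 hγ) (X := Xc M u) (fun a₂ h₂ =>
      ⟨cM (R_nz cx yc a₂ h₂ _ hs), ?_⟩) hv).2
    rw [← commutatorElement_inv]
    exact inv_mem (span cx yb hr (notZ st cx yb ha a1 hβ) (X := Xc M _) (fun a₁ h₁ =>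
      ⟨bM (R_nz cx yb a₁ h₁ _ hr), base a₁ h₁ a₂ h₂⟩) hu).2
  have D2 : IsPGroup 2 (Dc M) := fun d => ⟨1, Subtype.ext (by simpa [sq] using d.2.2.2)⟩
  have T2 : IsPGroup 2 ↥(Rl A y b ⊔ Dc M) :=
    (cx.ls y b yb).1.r2.to_sup_of_normal_right' D2 fun u hu =>
      mem_normalizer_fintype fun d hd => by
        rw [Dc_comm hd (bM hu), mul_inv_cancel_right]; exact hd
  have S2 : IsPGroup 2 ↥(Rl A y c ⊔ (Rl A y b ⊔ Dc M)) :=
    (cx.ls y c yc).1.r2.to_sup_of_normal_right' T2 fun v hv =>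
      mem_normalizer_fintype fun d hd => by
        have : Rl A y b ⊔ Dc M ≤ (Rl A y b ⊔ Dc M).comap (MulAut.conj v).toMonoidHom := by
          refine sup_le (fun u hu => ?_) fun d hd => ?_
          · have := mul_mem (mem_sup_right (all v hv u hu) : _ ∈ Rl A y b ⊔ Dc M) (mem_sup_left hu)
            rwa [commutatorElement_def, inv_mul_cancel_right] at this
          · show v * d * v⁻¹ ∈ Rl A y b ⊔ Dc M
            rw [Dc_comm hd (cM hv), mul_inv_cancel_right]; exact mem_sup_right hd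
        exact this hd
  refine ⟨Rl A y b ⊔ Rl A y c, S2.to_le (sup_le (le_sup_left.trans le_sup_right) le_sup_left),
    fun a' ha' s hs => ?_, sup_le (cx.sk.fle P y hy b hb).2 (cx.sk.fle P y hy c hc).2 |>.trans
      (commutator_le.2 fun u hu v hv =>
        mul_mem (mul_mem (mul_mem hu hv) (inv_mem hu)) (inv_mem hv)), le_antisymm
      (sup_le (sup_le bM cM) yM) (sup_le (sup_le le_sup_right ?_) ?_)⟩
  · have : Rl A y b ⊔ Rl A y c ≤ (Rl A y b ⊔ Rl A y c).comap (MulAut.conj a').toMonoidHom :=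
      sup_le (fun u hu => mem_sup_left (R_nz cx yb a' ha' u hu))
        fun u hu => mem_sup_right (R_nz cx yc a' ha' u hu)
    exact this hs
  · exact (le_sup_right.trans_eq (cx.ls y b yb).1.sup.symm).trans
      (sup_le_sup_right le_sup_left _)
  · exact (le_sup_right.trans_eq (cx.ls y c yc).1.sup.symm).trans
      (sup_le_sup_right le_sup_right _)

end Cfsg.Agent.H44.CyTf
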