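import Cfsg.Agent.H44.Coset
import Cfsg.Agent.H44.EFi23AD0

set_option autoImplicit false
set_option maxRecDepth 1000000
set_option linter.all false
set_option Elab.async false

namespace Cfsg.Agent.H44.EFi23A
open Cfsg.Agent.H44

/-- The relators. -/
def R : List (List ℕ) := [[1, 1],
  [2, 2],
  [3, 3],
  [4, 4],
  [5, 5],
  [6, 6],
  [7, 7],
  [8, 8],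
  [9, 9],
  [10, 10],
  [1, 2, 1, 2, 1, 2],
  [1, 3, 1, 3],
  [1, 4, 1, 4],
  [1, 5, 1, 5],
  [1, 6, 1, 6],
  [1, 7, 1, 7],
  [1, 10, 1, 10],
  [1, 8, 1, 8],
  [1, 9, 1, 9],
  [2, 3, 2, 3, 2, 3],
  [2, 4, 2, 4],
  [2, 5, 2, 5],
  [2, 6, 2, 6],
  [2, 7, 2, 7],
  [2, 10, 2, 10],
  [2, 8, 2, 8],
  [2, 9, 2, 9],
  [3, 4, 3, 4, 3, 4],
  [3, 5, 3, 5],
  [3, 6, 3, 6],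
  [3, 7, 3, 7],
  [3, 10, 3, 10],
  [3, 8, 3, 8],
  [3, 9, 3, 9],
  [4, 5, 4, 5, 4, 5],
  [4, 6, 4, 6],
  [4, 7, 4, 7],
  [4, 10, 4, 10],
  [4, 8, 4, 8, 4, 8],
  [4, 9, 4, 9],
  [5, 6, 5, 6, 5, 6],
  [5, 7, 5, 7],
  [5, 10, 5, 10],
  [5, 8, 5, 8],
  [5, 9, 5, 9],
  [6, 7, 6, 7, 6, 7],
  [6, 10, 6, 10],
  [6, 8, 6, 8],
  [6, 9, 6, 9],
  [7, 10, 7, 10, 7, 10],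
  [7, 8, 7, 8],
  [7, 9, 7, 9],
  [8, 10, 8, 10],
  [8, 9, 8, 9, 8, 9],
  [9, 10, 9, 10],
  [4, 3, 2, 4, 5, 6, 4, 8, 9, 4, 3, 2, 4, 5, 6, 4, 8, 9, 4, 3, 2, 4, 5, 6, 4, 8, 9, 4, 3, 2, 4, 5, 6, 4, 8, 9, 4, 3, 2, 4, 5, 6, 4, 8, 9, 4, 3, 2, 4, 5, 6, 4, 8, 9, 4, 3, 2, 4, 5, 6, 4, 8, 9, 4, 3, 2, 4, 5, 6, 4, 8, 9, 4, 3, 2, 4, 5, 6, 4, 8, 9, 4, 3, 2, 4, 5, 6, 4, 8, 9],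
  [1, 2, 3, 4, 5, 6, 8, 1, 2, 3, 4, 5, 6, 8, 1, 2, 3, 4, 5, 6, 8, 1, 2, 3, 4, 5, 6, 8, 1, 2, 3, 4, 5, 6, 8, 1, 2, 3, 4, 5, 6, 8, 1, 2, 3, 4, 5, 6, 8, 1, 2, 3, 4, 5, 6, 8, 1, 2, 3, 4, 5, 6, 8]]
/-- The subgroup generators. -/
def S : List (List ℕ) := [[1],
  [2],
  [3],
  [4],
  [5],
  [6],
  [7],
  [8],
  [9]]
def Wr : List (List ℕ) := [[10, 10],
  [1, 10, 1, 10],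
  [2, 10, 2, 10],
  [3, 10, 3, 10],
  [4, 10, 4, 10],
  [5, 10, 5, 10],
  [6, 10, 6, 10],
  [7, 7],
  [8, 10, 8, 10],
  [9, 10, 9, 10],
  [1, 7, 1, 7],
  [2, 7, 2, 7],
  [3, 7, 3, 7],
  [4, 7, 4, 7],
  [5, 7, 5, 7],
  [6, 6],
  [8, 7, 8, 7],
  [9, 7, 9, 7],
  [10, 7, 10, 7, 10, 7],
  [1, 6, 1, 6],
  [2, 6, 2, 6],
  [3, 6, 3, 6],
  [4, 6, 4, 6],
  [5, 5],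
  [7, 6, 7, 6, 7, 6],
  [8, 6, 8, 6],
  [9, 6, 9, 6],
  [10, 6, 10, 6],
  [1, 5, 1, 5],
  [2, 5, 2, 5],
  [3, 5, 3, 5],
  [4, 4],
  [6, 5, 6, 5, 6, 5],
  [7, 5, 7, 5],
  [8, 5, 8, 5],
  [9, 5, 9, 5],
  [10, 5, 10, 5],
  [1, 4, 1, 4],
  [2, 4, 2, 4],
  [3, 3],
  [5, 4, 5, 4, 5, 4],
  [6, 4, 6, 4],
  [7, 4, 7, 4],
  [8, 8],
  [9, 4, 9, 4],
  [10, 4, 10, 4],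
  [1, 3, 1, 3],
  [2, 2],
  [4, 3, 4, 3, 4, 3],
  [5, 3, 5, 3],
  [6, 3, 6, 3],
  [7, 3, 7, 3],
  [9, 3, 9, 3],
  [10, 3, 10, 3],
  [1, 8, 1, 8],
  [2, 8, 2, 8],
  [4, 8, 4, 8, 4, 8],
  [5, 8, 5, 8],
  [6, 8, 6, 8],
  [7, 8, 7, 8],
  [9, 9],
  [10, 8, 10, 8],
  [1, 1],
  [3, 2, 3, 2, 3, 2],
  [4, 2, 4, 2],
  [5, 2, 5, 2],
  [6, 2, 6, 2],
  [7, 2, 7, 2],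
  [9, 2, 9, 2],
  [10, 2, 10, 2],
  [3, 8, 3, 8],
  [1, 9, 1, 9],
  [2, 9, 2, 9],
  [4, 9, 4, 9],
  [5, 9, 5, 9],
  [6, 9, 6, 9],
  [7, 9, 7, 9],
  [8, 9, 8, 9, 8, 9],
  [10, 9, 10, 9],
  [2, 1, 2, 1, 2, 1],
  [3, 1, 3, 1],
  [4, 1, 4, 1],
  [5, 1, 5, 1],
  [6, 1, 6, 1],
  [7, 1, 7, 1],
  [9, 1, 9, 1],
  [10, 1, 10, 1],
  [3, 4, 3, 4, 3, 4],
  [8, 4, 8, 4, 8, 4],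
  [3, 9, 3, 9],
  [4, 5, 4, 5, 4, 5],
  [2, 3, 2, 3, 2, 3],
  [8, 3, 8, 3],
  [5, 6, 5, 6, 5, 6],
  [9, 8, 9, 8, 9, 8],
  [6, 7, 6, 7, 6, 7],
  [1, 2, 1, 2, 1, 2],
  [8, 2, 8, 2],
  [7, 10, 7, 10, 7, 10],
  [8, 1, 8, 1],
  [8, 1, 2, 3, 4, 5, 6, 8, 1, 2, 3, 4, 5, 6, 8, 1, 2, 3, 4, 5, 6, 8, 1, 2, 3, 4, 5, 6, 8, 1, 2, 3, 4, 5, 6, 8, 1, 2, 3, 4, 5, 6, 8, 1, 2, 3, 4, 5, 6, 8, 1, 2, 3, 4, 5, 6, 8, 1, 2, 3, 4, 5, 6],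
  [5, 4, 3, 2, 1, 8, 6, 5, 4, 3, 2, 1, 8, 6, 5, 4, 3, 2, 1, 8, 6, 5, 4, 3, 2, 1, 8, 6, 5, 4, 3, 2, 1, 8, 6, 5, 4, 3, 2, 1, 8, 6, 5, 4, 3, 2, 1, 8, 6, 5, 4, 3, 2, 1, 8, 6, 5, 4, 3, 2, 1, 8, 6],
  [5, 6, 4, 8, 9, 4, 3, 2, 4, 5, 6, 4, 8, 9, 4, 3, 2, 4, 5, 6, 4, 8, 9, 4, 3, 2, 4, 5, 6, 4, 8, 9, 4, 3, 2, 4, 5, 6, 4, 8, 9, 4, 3, 2, 4, 5, 6, 4, 8, 9, 4, 3, 2, 4, 5, 6, 4, 8, 9, 4, 3, 2, 4, 5, 6, 4, 8, 9, 4, 3, 2, 4, 5, 6, 4, 8, 9, 4, 3, 2, 4, 5, 6, 4, 8, 9, 4, 3, 2, 4],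
  [2, 3, 4, 5, 6, 8, 1, 2, 3, 4, 5, 6, 8, 1, 2, 3, 4, 5, 6, 8, 1, 2, 3, 4, 5, 6, 8, 1, 2, 3, 4, 5, 6, 8, 1, 2, 3, 4, 5, 6, 8, 1, 2, 3, 4, 5, 6, 8, 1, 2, 3, 4, 5, 6, 8, 1, 2, 3, 4, 5, 6, 8, 1],
  [3, 4, 9, 8, 4, 6, 5, 4, 2, 3, 4, 9, 8, 4, 6, 5, 4, 2, 3, 4, 9, 8, 4, 6, 5, 4, 2, 3, 4, 9, 8, 4, 6, 5, 4, 2, 3, 4, 9, 8, 4, 6, 5, 4, 2, 3, 4, 9, 8, 4, 6, 5, 4, 2, 3, 4, 9, 8, 4, 6, 5, 4, 2, 3, 4, 9, 8, 4, 6, 5, 4, 2, 3, 4, 9, 8, 4, 6, 5, 4, 2, 3, 4, 9, 8, 4, 6, 5, 4, 2],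
  [6, 4, 8, 9, 4, 3, 2, 4, 5, 6, 4, 8, 9, 4, 3, 2, 4, 5, 6, 4, 8, 9, 4, 3, 2, 4, 5, 6, 4, 8, 9, 4, 3, 2, 4, 5, 6, 4, 8, 9, 4, 3, 2, 4, 5, 6, 4, 8, 9, 4, 3, 2, 4, 5, 6, 4, 8, 9, 4, 3, 2, 4, 5, 6, 4, 8, 9, 4, 3, 2, 4, 5, 6, 4, 8, 9, 4, 3, 2, 4, 5, 6, 4, 8, 9, 4, 3, 2, 4, 5],
  [4, 9, 8, 4, 6, 5, 4, 2, 3, 4, 9, 8, 4, 6, 5, 4, 2, 3, 4, 9, 8, 4, 6, 5, 4, 2, 3, 4, 9, 8, 4, 6, 5, 4, 2, 3, 4, 9, 8, 4, 6, 5, 4, 2, 3, 4, 9, 8, 4, 6, 5, 4, 2, 3, 4, 9, 8, 4, 6, 5, 4, 2, 3, 4, 9, 8, 4, 6, 5, 4, 2, 3, 4, 9, 8, 4, 6, 5, 4, 2, 3, 4, 9, 8, 4, 6, 5, 4, 2, 3],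
  [3, 4, 5, 6, 8, 1, 2, 3, 4, 5, 6, 8, 1, 2, 3, 4, 5, 6, 8, 1, 2, 3, 4, 5, 6, 8, 1, 2, 3, 4, 5, 6, 8, 1, 2, 3, 4, 5, 6, 8, 1, 2, 3, 4, 5, 6, 8, 1, 2, 3, 4, 5, 6, 8, 1, 2, 3, 4, 5, 6, 8, 1, 2],
  [6, 5, 4, 3, 2, 1, 8, 6, 5, 4, 3, 2, 1, 8, 6, 5, 4, 3, 2, 1, 8, 6, 5, 4, 3, 2, 1, 8, 6, 5, 4, 3, 2, 1, 8, 6, 5, 4, 3, 2, 1, 8, 6, 5, 4, 3, 2, 1, 8, 6, 5, 4, 3, 2, 1, 8, 6, 5, 4, 3, 2, 1, 8],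
  [4, 3, 2, 4, 5, 6, 4, 8, 9, 4, 3, 2, 4, 5, 6, 4, 8, 9, 4, 3, 2, 4, 5, 6, 4, 8, 9, 4, 3, 2, 4, 5, 6, 4, 8, 9, 4, 3, 2, 4, 5, 6, 4, 8, 9, 4, 3, 2, 4, 5, 6, 4, 8, 9, 4, 3, 2, 4, 5, 6, 4, 8, 9, 4, 3, 2, 4, 5, 6, 4, 8, 9, 4, 3, 2, 4, 5, 6, 4, 8, 9, 4, 3, 2, 4, 5, 6, 4, 8, 9],
  [4, 2, 3, 4, 9, 8, 4, 6, 5, 4, 2, 3, 4, 9, 8, 4, 6, 5, 4, 2, 3, 4, 9, 8, 4, 6, 5, 4, 2, 3, 4, 9, 8, 4, 6, 5, 4, 2, 3, 4, 9, 8, 4, 6, 5, 4, 2, 3, 4, 9, 8, 4, 6, 5, 4, 2, 3, 4, 9, 8, 4, 6, 5, 4, 2, 3, 4, 9, 8, 4, 6, 5, 4, 2, 3, 4, 9, 8, 4, 6, 5, 4, 2, 3, 4, 9, 8, 4, 6, 5],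
  [9, 4, 3, 2, 4, 5, 6, 4, 8, 9, 4, 3, 2, 4, 5, 6, 4, 8, 9, 4, 3, 2, 4, 5, 6, 4, 8, 9, 4, 3, 2, 4, 5, 6, 4, 8, 9, 4, 3, 2, 4, 5, 6, 4, 8, 9, 4, 3, 2, 4, 5, 6, 4, 8, 9, 4, 3, 2, 4, 5, 6, 4, 8, 9, 4, 3, 2, 4, 5, 6, 4, 8, 9, 4, 3, 2, 4, 5, 6, 4, 8, 9, 4, 3, 2, 4, 5, 6, 4, 8],
  [4, 3, 2, 1, 8, 6, 5, 4, 3, 2, 1, 8, 6, 5, 4, 3, 2, 1, 8, 6, 5, 4, 3, 2, 1, 8, 6, 5, 4, 3, 2, 1, 8, 6, 5, 4, 3, 2, 1, 8, 6, 5, 4, 3, 2, 1, 8, 6, 5, 4, 3, 2, 1, 8, 6, 5, 4, 3, 2, 1, 8, 6, 5],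
  [1, 2, 3, 4, 5, 6, 8, 1, 2, 3, 4, 5, 6, 8, 1, 2, 3, 4, 5, 6, 8, 1, 2, 3, 4, 5, 6, 8, 1, 2, 3, 4, 5, 6, 8, 1, 2, 3, 4, 5, 6, 8, 1, 2, 3, 4, 5, 6, 8, 1, 2, 3, 4, 5, 6, 8, 1, 2, 3, 4, 5, 6, 8],
  [3, 2, 1, 8, 6, 5, 4, 3, 2, 1, 8, 6, 5, 4, 3, 2, 1, 8, 6, 5, 4, 3, 2, 1, 8, 6, 5, 4, 3, 2, 1, 8, 6, 5, 4, 3, 2, 1, 8, 6, 5, 4, 3, 2, 1, 8, 6, 5, 4, 3, 2, 1, 8, 6, 5, 4, 3, 2, 1, 8, 6, 5, 4],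
  [4, 8, 9, 4, 3, 2, 4, 5, 6, 4, 8, 9, 4, 3, 2, 4, 5, 6, 4, 8, 9, 4, 3, 2, 4, 5, 6, 4, 8, 9, 4, 3, 2, 4, 5, 6, 4, 8, 9, 4, 3, 2, 4, 5, 6, 4, 8, 9, 4, 3, 2, 4, 5, 6, 4, 8, 9, 4, 3, 2, 4, 5, 6, 4, 8, 9, 4, 3, 2, 4, 5, 6, 4, 8, 9, 4, 3, 2, 4, 5, 6, 4, 8, 9, 4, 3, 2, 4, 5, 6],
  [1, 8, 6, 5, 4, 3, 2, 1, 8, 6, 5, 4, 3, 2, 1, 8, 6, 5, 4, 3, 2, 1, 8, 6, 5, 4, 3, 2, 1, 8, 6, 5, 4, 3, 2, 1, 8, 6, 5, 4, 3, 2, 1, 8, 6, 5, 4, 3, 2, 1, 8, 6, 5, 4, 3, 2, 1, 8, 6, 5, 4, 3, 2],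
  [3, 2, 4, 5, 6, 4, 8, 9, 4, 3, 2, 4, 5, 6, 4, 8, 9, 4, 3, 2, 4, 5, 6, 4, 8, 9, 4, 3, 2, 4, 5, 6, 4, 8, 9, 4, 3, 2, 4, 5, 6, 4, 8, 9, 4, 3, 2, 4, 5, 6, 4, 8, 9, 4, 3, 2, 4, 5, 6, 4, 8, 9, 4, 3, 2, 4, 5, 6, 4, 8, 9, 4, 3, 2, 4, 5, 6, 4, 8, 9, 4, 3, 2, 4, 5, 6, 4, 8, 9, 4],
  [4, 5, 6, 8, 1, 2, 3, 4, 5, 6, 8, 1, 2, 3, 4, 5, 6, 8, 1, 2, 3, 4, 5, 6, 8, 1, 2, 3, 4, 5, 6, 8, 1, 2, 3, 4, 5, 6, 8, 1, 2, 3, 4, 5, 6, 8, 1, 2, 3, 4, 5, 6, 8, 1, 2, 3, 4, 5, 6, 8, 1, 2, 3],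
  [2, 4, 5, 6, 4, 8, 9, 4, 3, 2, 4, 5, 6, 4, 8, 9, 4, 3, 2, 4, 5, 6, 4, 8, 9, 4, 3, 2, 4, 5, 6, 4, 8, 9, 4, 3, 2, 4, 5, 6, 4, 8, 9, 4, 3, 2, 4, 5, 6, 4, 8, 9, 4, 3, 2, 4, 5, 6, 4, 8, 9, 4, 3, 2, 4, 5, 6, 4, 8, 9, 4, 3, 2, 4, 5, 6, 4, 8, 9, 4, 3, 2, 4, 5, 6, 4, 8, 9, 4, 3],
  [6, 8, 1, 2, 3, 4, 5, 6, 8, 1, 2, 3, 4, 5, 6, 8, 1, 2, 3, 4, 5, 6, 8, 1, 2, 3, 4, 5, 6, 8, 1, 2, 3, 4, 5, 6, 8, 1, 2, 3, 4, 5, 6, 8, 1, 2, 3, 4, 5, 6, 8, 1, 2, 3, 4, 5, 6, 8, 1, 2, 3, 4, 5],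
  [5, 6, 8, 1, 2, 3, 4, 5, 6, 8, 1, 2, 3, 4, 5, 6, 8, 1, 2, 3, 4, 5, 6, 8, 1, 2, 3, 4, 5, 6, 8, 1, 2, 3, 4, 5, 6, 8, 1, 2, 3, 4, 5, 6, 8, 1, 2, 3, 4, 5, 6, 8, 1, 2, 3, 4, 5, 6, 8, 1, 2, 3, 4],
  [8, 4, 6, 5, 4, 2, 3, 4, 9, 8, 4, 6, 5, 4, 2, 3, 4, 9, 8, 4, 6, 5, 4, 2, 3, 4, 9, 8, 4, 6, 5, 4, 2, 3, 4, 9, 8, 4, 6, 5, 4, 2, 3, 4, 9, 8, 4, 6, 5, 4, 2, 3, 4, 9, 8, 4, 6, 5, 4, 2, 3, 4, 9, 8, 4, 6, 5, 4, 2, 3, 4, 9, 8, 4, 6, 5, 4, 2, 3, 4, 9, 8, 4, 6, 5, 4, 2, 3, 4, 9],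
  [4, 6, 5, 4, 2, 3, 4, 9, 8, 4, 6, 5, 4, 2, 3, 4, 9, 8, 4, 6, 5, 4, 2, 3, 4, 9, 8, 4, 6, 5, 4, 2, 3, 4, 9, 8, 4, 6, 5, 4, 2, 3, 4, 9, 8, 4, 6, 5, 4, 2, 3, 4, 9, 8, 4, 6, 5, 4, 2, 3, 4, 9, 8, 4, 6, 5, 4, 2, 3, 4, 9, 8, 4, 6, 5, 4, 2, 3, 4, 9, 8, 4, 6, 5, 4, 2, 3, 4, 9, 8],
  [2, 1, 8, 6, 5, 4, 3, 2, 1, 8, 6, 5, 4, 3, 2, 1, 8, 6, 5, 4, 3, 2, 1, 8, 6, 5, 4, 3, 2, 1, 8, 6, 5, 4, 3, 2, 1, 8, 6, 5, 4, 3, 2, 1, 8, 6, 5, 4, 3, 2, 1, 8, 6, 5, 4, 3, 2, 1, 8, 6, 5, 4, 3],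
  [5, 4, 2, 3, 4, 9, 8, 4, 6, 5, 4, 2, 3, 4, 9, 8, 4, 6, 5, 4, 2, 3, 4, 9, 8, 4, 6, 5, 4, 2, 3, 4, 9, 8, 4, 6, 5, 4, 2, 3, 4, 9, 8, 4, 6, 5, 4, 2, 3, 4, 9, 8, 4, 6, 5, 4, 2, 3, 4, 9, 8, 4, 6, 5, 4, 2, 3, 4, 9, 8, 4, 6, 5, 4, 2, 3, 4, 9, 8, 4, 6, 5, 4, 2, 3, 4, 9, 8, 4, 6]]
def Wn : List (List ℕ) := [[1, 11],
  [2, 13],
  [3, 15],
  [4, 17],
  [5, 19],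
  [6, 21],
  [7, 23],
  [8, 25],
  [9, 27],
  [2, 8, 2, 8],
  [2, 9, 2, 9],
  [3, 8, 3, 8],
  [4, 3, 4, 3, 4, 3],
  [5, 8, 5, 8],
  [6, 8, 6, 8],
  [7, 9, 7, 9],
  [7, 8, 7, 8],
  [8, 3, 8, 3],
  [9, 2, 9, 2],
  [5, 3, 5, 3],
  [2, 3, 2, 3, 2, 3],
  [5, 9, 5, 9],
  [1, 3, 1, 3],
  [3, 6, 3, 6],
  [8, 10, 8, 10],
  [6, 9, 6, 9],
  [9, 10, 9, 10],
  [6, 4, 6, 4],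
  [8, 4, 8, 4, 8, 4],
  [2, 1, 2, 1, 2, 1],
  [1, 9, 1, 9],
  [1, 8, 1, 8],
  [2, 10, 2, 10],
  [7, 4, 7, 4],
  [3, 10, 3, 10],
  [7, 3, 7, 3],
  [7, 2, 7, 2],
  [7, 1, 7, 1],
  [2, 4, 2, 4],
  [8, 2, 8, 2],
  [3, 2, 3, 2, 3, 2],
  [3, 5, 3, 5],
  [8, 5, 8, 5],
  [9, 1, 9, 1],
  [2, 5, 2, 5],
  [9, 5, 9, 5],
  [1, 5, 1, 5],
  [4, 6, 4, 6],
  [1, 6, 1, 6],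
  [3, 9, 3, 9],
  [4, 9, 4, 9],
  [6, 3, 6, 3],
  [4, 5, 4, 5, 4, 5],
  [6, 1, 6, 1],
  [7, 5, 7, 5],
  [1, 10, 1, 10],
  [4, 2, 4, 2],
  [8, 1, 8, 1],
  [8, 6, 8, 6],
  [9, 4, 9, 4],
  [2, 6, 2, 6],
  [9, 6, 9, 6],
  [1, 4, 1, 4],
  [9, 3, 9, 3],
  [4, 8, 4, 8, 4, 8],
  [1, 2, 1, 2, 1, 2],
  [3, 7, 3, 7],
  [4, 10, 4, 10],
  [5, 10, 5, 10],
  [8, 7, 8, 7],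
  [9, 7, 9, 7],
  [3, 1, 3, 1],
  [6, 2, 6, 2],
  [3, 4, 3, 4, 3, 4],
  [2, 7, 2, 7],
  [4, 1, 4, 1],
  [5, 4, 5, 4, 5, 4],
  [1, 7, 1, 7],
  [5, 2, 5, 2],
  [6, 7, 6, 7, 6, 7],
  [9, 8, 9, 8, 9, 8],
  [8, 9, 8, 9, 8, 9],
  [5, 6, 5, 6, 5, 6],
  [4, 7, 4, 7],
  [5, 7, 5, 7],
  [6, 10, 6, 10],
  [10, 7, 10, 7, 10, 7],
  [7, 6, 7, 6, 7, 6],
  [10, 6, 10, 6],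
  [6, 5, 6, 5, 6, 5],
  [5, 1, 5, 1],
  [5, 4, 2, 3, 4, 9, 8, 4, 6, 5, 4, 2, 3, 4, 9, 8, 4, 6, 5, 4, 2, 3, 4, 9, 8, 4, 6, 5, 4, 2, 3, 4, 9, 8, 4, 6, 5, 4, 2, 3, 4, 9, 8, 4, 6, 5, 4, 2, 3, 4, 9, 8, 4, 6, 5, 4, 2, 3, 4, 9, 8, 4, 6, 5, 4, 2, 3, 4, 9, 8, 4, 6, 5, 4, 2, 3, 4, 9, 8, 4, 6, 5, 4, 2, 3, 4, 9, 8, 4, 6],
  [5, 5],
  [9, 9],
  [3, 3],
  [4, 4],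
  [6, 6],
  [1, 1],
  [2, 2],
  [7, 7],
  [8, 8],
  [4, 6, 5, 4, 2, 3, 4, 9, 8, 4, 6, 5, 4, 2, 3, 4, 9, 8, 4, 6, 5, 4, 2, 3, 4, 9, 8, 4, 6, 5, 4, 2, 3, 4, 9, 8, 4, 6, 5, 4, 2, 3, 4, 9, 8, 4, 6, 5, 4, 2, 3, 4, 9, 8, 4, 6, 5, 4, 2, 3, 4, 9, 8, 4, 6, 5, 4, 2, 3, 4, 9, 8, 4, 6, 5, 4, 2, 3, 4, 9, 8, 4, 6, 5, 4, 2, 3, 4, 9, 8],
  [10, 10],
  [2, 3, 4, 5, 6, 8, 1, 2, 3, 4, 5, 6, 8, 1, 2, 3, 4, 5, 6, 8, 1, 2, 3, 4, 5, 6, 8, 1, 2, 3, 4, 5, 6, 8, 1, 2, 3, 4, 5, 6, 8, 1, 2, 3, 4, 5, 6, 8, 1, 2, 3, 4, 5, 6, 8, 1, 2, 3, 4, 5, 6, 8, 1],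
  [4, 5, 6, 8, 1, 2, 3, 4, 5, 6, 8, 1, 2, 3, 4, 5, 6, 8, 1, 2, 3, 4, 5, 6, 8, 1, 2, 3, 4, 5, 6, 8, 1, 2, 3, 4, 5, 6, 8, 1, 2, 3, 4, 5, 6, 8, 1, 2, 3, 4, 5, 6, 8, 1, 2, 3, 4, 5, 6, 8, 1, 2, 3],
  [8, 1, 2, 3, 4, 5, 6, 8, 1, 2, 3, 4, 5, 6, 8, 1, 2, 3, 4, 5, 6, 8, 1, 2, 3, 4, 5, 6, 8, 1, 2, 3, 4, 5, 6, 8, 1, 2, 3, 4, 5, 6, 8, 1, 2, 3, 4, 5, 6, 8, 1, 2, 3, 4, 5, 6, 8, 1, 2, 3, 4, 5, 6],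
  [8, 6, 5, 4, 3, 2, 1, 8, 6, 5, 4, 3, 2, 1, 8, 6, 5, 4, 3, 2, 1, 8, 6, 5, 4, 3, 2, 1, 8, 6, 5, 4, 3, 2, 1, 8, 6, 5, 4, 3, 2, 1, 8, 6, 5, 4, 3, 2, 1, 8, 6, 5, 4, 3, 2, 1, 8, 6, 5, 4, 3, 2, 1],
  [5, 6, 8, 1, 2, 3, 4, 5, 6, 8, 1, 2, 3, 4, 5, 6, 8, 1, 2, 3, 4, 5, 6, 8, 1, 2, 3, 4, 5, 6, 8, 1, 2, 3, 4, 5, 6, 8, 1, 2, 3, 4, 5, 6, 8, 1, 2, 3, 4, 5, 6, 8, 1, 2, 3, 4, 5, 6, 8, 1, 2, 3, 4]]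
def cr : List (ℕ × ℕ × ℕ) := [(0, 0, 0), (1, 16, 0), (1, 24, 0), (1, 31, 0), (1, 37, 0), (1, 42, 0), (1, 46, 0), (0, 0, 0), (1, 52, 0), (1, 54, 0), (1, 15, 0), (1, 23, 0), (1, 30, 0), (1, 36, 0), (1, 41, 0), (0, 0, 0), (1, 50, 1), (1, 51, 1), (1, 49, 1), (1, 14, 0), (1, 22, 0), (1, 29, 0), (1, 35, 0), (0, 0, 0), (1, 45, 1), (1, 47, 1), (1, 48, 1), (1, 46, 1), (1, 13, 0), (1, 21, 0), (1, 28, 0), (0, 0, 0), (1, 40, 1), (1, 41, 1), (1, 43, 1), (1, 44, 1), (1, 42, 1), (1, 12, 0), (1, 20, 0), (0, 0, 0), (1, 34, 1), (1, 35, 1), (1, 36, 1), (0, 0, 0), (1, 39, 1), (1, 37, 1), (1, 11, 0), (0, 0, 0), (1, 27, 1), (1, 28, 1), (1, 29, 1), (1, 30, 1), (1, 33, 1), (1, 31, 1), (1, 17, 0), (1, 25, 0), (1, 38,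 0), (1, 43, 0), (1, 47, 0), (1, 50, 0), (0, 0, 0), (1, 52, 1), (0, 0, 0), (1, 19, 1), (1, 20, 1), (1, 21, 1), (1, 22, 1), (1, 23, 1), (1, 26, 1), (1, 24, 1), (1, 32, 0), (1, 18, 0), (1, 26, 0), (1, 39, 0), (1, 44, 0), (1, 48, 0), (1, 51, 0), (1, 53, 0), (1, 54, 1), (1, 10, 1), (1, 11, 1), (1, 12, 1), (1, 13, 1), (1, 14, 1), (1, 15, 1), (1, 18, 1), (1, 16, 1), (1, 27, 0), (1, 38, 1), (1, 33, 0), (1, 34, 0), (1, 19, 0), (1, 32, 1), (1, 40, 0), (1, 53, 1), (1, 45, 0), (1, 10, 0), (1, 25, 1), (1, 49, 0), (1, 17, 1), (1, 56, 6), (2, 56, 2), (1, 55, 4), (1, 56, 1), (2, 55, 7), (1, 55, 5), (2, 55, 8), (1, 56, 2), (2, 56, 1), (1, 55, 0), (2, 55, 5), (1, 55, 8), (2, 56, 3), (1, 56, 0), (2, 56, 4), (1,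 55, 6), (2, 56, 6), (1, 55, 1), (1, 56, 3), (1, 55, 2), (1, 56, 5), (1, 56, 4), (2, 55, 1), (2, 55, 2), (2, 56, 5), (2, 55, 4)]
def cn : List (ℕ × ℕ × ℕ) := [(1, 57, 0), (1, 58, 0), (1, 59, 0), (1, 60, 0), (1, 61, 0), (1, 62, 0), (1, 63, 0), (1, 64, 0), (1, 65, 0), (1, 25, 0), (1, 26, 0), (1, 32, 0), (1, 27, 1), (1, 43, 0), (1, 47, 0), (1, 51, 0), (1, 50, 0), (1, 32, 1), (1, 26, 1), (1, 28, 1), (1, 19, 0), (1, 44, 0), (1, 11, 0), (1, 29, 0), (1, 52, 0), (1, 48, 0), (1, 54, 0), (1, 35, 1), (1, 38, 1), (1, 10, 1), (1, 18, 0), (1, 17, 0), (1, 24, 0), (1, 36, 1), (1, 31, 0), (1, 30, 1), (1, 23, 1), (1, 15, 1), (1, 20, 0), (1, 25, 1), (1, 19, 1), (1, 28, 0), (1, 43, 1), (1, 18, 1), (1, 21, 0), (1,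 44, 1), (1, 13, 0), (1, 35, 0), (1, 14, 0), (1, 33, 0), (1, 39, 0), (1, 29, 1), (1, 34, 0), (1, 14, 1), (1, 41, 1), (1, 16, 0), (1, 20, 1), (1, 17, 1), (1, 47, 1), (1, 39, 1), (1, 22, 0), (1, 48, 1), (1, 12, 0), (1, 33, 1), (1, 38, 0), (1, 10, 0), (1, 30, 0), (1, 37, 0), (1, 42, 0), (1, 50, 1), (1, 51, 1), (1, 11, 1), (1, 22, 1), (1, 27, 0), (1, 23, 0), (1, 12, 1), (1, 34, 1), (1, 15, 0), (1, 21, 1), (1, 45, 0), (1, 53, 1), (1, 53, 0), (1, 40, 0), (1, 36, 0), (1, 41, 0), (1, 46, 0), (1, 49, 1), (1, 45, 1), (1, 46, 1), (1, 40, 1), (1, 13, 1), (2, 55, 4), (0, 0, 0), (0, 0, 0), (0, 0, 0), (0, 0, 0), (0, 0, 0), (0, 0, 0), (0, 0, 0), (0, 0, 0), (0, 0, 0), (2, 55, 2), (0, 0, 0), (1, 56, 1), (1, 56,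 3), (1, 56, 6), (2, 56, 0), (1, 56, 4)]
noncomputable def rT : Tr := (.node (.node (.node (.node (.node rT0
 rT1)
 (.node rT2
 rT3))
 (.node (.node rT4
 rT5)
 (.node rT6
 rT7)))
 (.node (.node (.node rT8
 rT9)
 (.node rT10
 rT11))
 (.node (.node rT12
 rT13)
 (.node rT14
 rT15))))
 (.node (.node (.node (.node rT16
 rT17)
 (.node rT18
 rT19))
 (.node (.node rT20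
 rT21)
 (.node rT22
 rT23)))
 (.node (.node (.node rT24
 rT25)
 (.node rT26
 rT27))
 (.node (.node rT28
 rT29)
 (.node rT30
 (.leaf (nat_lit 0)))))))
noncomputable def gT : Tr := (.node (.node (.node gT0
 gT1)
 (.node gT2
 gT3))
 (.node (.node gT4
 (.leaf (nat_lit 0)))
 (.leaf (nat_lit 0))))
noncomputable def rC (i : ℕ) : ℕ := rT.get (nat_lit 1024) i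
noncomputable def gC (i : ℕ) : ℕ := gT.get (nat_lit 256) i
noncomputable def row (p : ℕ) : ℕ := rec2 rC (nat_lit 4) (nat_lit 15) (nat_lit 264) (nat_lit 0xffffffffffffffffffffffffffffffffffffffffffffffffffffffffffffffffff) p
noncomputable def gf (p : ℕ) : ℕ := rec2 gC (nat_lit 7) (nat_lit 127) (nat_lit 45) (nat_lit 0x1fffffffffff) p
noncomputable def gw (c : ℕ) : List ℕ := nth [] Wr c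
noncomputable def wn (c : ℕ) : ℕ := pack (nat_lit 5) (nth [] Wn c) (nat_lit 0)
noncomputable def C : Cert :=
  { n := (nat_lit 31671), na := (nat_lit 10026), M := (nat_lit 38406), nc := (nat_lit 10), W := (nat_lit 16), EB := (nat_lit 24),
    LB := (nat_lit 5), nreg := (nat_lit 126), ivT := (nat_lit 0x1be6757c56d3a464f835cb62928398a418820), base := (nat_lit 0xaaaa800),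
    row := row, gf := gf, gw := gw, wn := wn }
theorem masks : Masks C (nat_lit 65535) (nat_lit 0xffffff) (nat_lit 31) (nat_lit 37) (nat_lit 0x1fffffffff) :=
  ⟨by decide +kernel, by decide +kernel, by decide +kernel, by decide +kernel, by decide +kernel⟩
noncomputable def rchk : ℕ → ℕ → ℕ → Bool :=
  rowChk row gf gw (nat_lit 31671) (nat_lit 38406) (nat_lit 10) (nat_lit 16) (nat_lit 65535) (nat_lit 24) (nat_lit 0xffffff) (nat_lit 5) (nat_lit 31) (nat_lit 37) (nat_lit 0x1fffffffff) (nat_lit 126) (nat_lit 0x1be6757c56d3a464f835cb62928398a418820) (nat_lit 16) (nat_lit 65535) (nat_lit 9) (nat_lit 511)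
noncomputable def fchk : ℕ → ℕ → ℕ → Bool :=
  auxRun row gf wn (nat_lit 31671) (nat_lit 10026) (nat_lit 38406) (nat_lit 10) (nat_lit 16) (nat_lit 65535) (nat_lit 24) (nat_lit 0xffffff) (nat_lit 5) (nat_lit 31) (nat_lit 37) (nat_lit 0x1be6757c56d3a464f835cb62928398a418820) (nat_lit 0xaaaa800) (nat_lit 17) (nat_lit 131071)
theorem rows_of {lo hi : ℕ} {t : JL} (h : t.run rchk (nat_lit 90) hi lo = true) : C.RowsOK lo hi :=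
  rowsOK_of_run masks h
theorem facts_of {lo hi : ℕ} {t : JL} (h : t.run fchk (nat_lit 20) hi lo = true) : C.FactsOK lo hi :=
  factsOK_of_run masks h
theorem words_ok : wordsChk 31671 10 16 5 126 38887245277291440725472999101695773506635808 178956288 R S Wr Wn cr cn = true := by
  decide +kernel

end Cfsg.Agent.H44.EFi23A

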