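import Cfsg.Agent.H44.Coset
import Cfsg.Agent.H44.EHeAD0

set_option autoImplicit false
set_option maxRecDepth 1000000
set_option linter.all false
set_option Elab.async false

namespace Cfsg.Agent.H44.EHeA
open Cfsg.Agent.H44

/-- The relators. -/
def R : List (List ℕ) := [[1, 1],
  [2, 2],
  [3, 3],
  [4, 4],
  [5, 5],
  [6, 6],
  [7, 7],
  [1, 2, 1, 2, 1, 2, 1, 2],
  [1, 3, 1, 3],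
  [1, 4, 1, 4],
  [1, 5, 1, 5],
  [1, 6, 1, 6],
  [1, 7, 1, 7],
  [2, 3, 2, 3, 2, 3],
  [2, 4, 2, 4],
  [2, 5, 2, 5],
  [2, 6, 2, 6],
  [2, 7, 2, 7],
  [3, 4, 3, 4, 3, 4, 3, 4, 3, 4, 3, 4, 3, 4, 3, 4, 3, 4, 3, 4],
  [3, 5, 3, 5],
  [3, 6, 3, 6],
  [3, 7, 3, 7],
  [4, 5, 4, 5, 4, 5],
  [4, 6, 4, 6, 4, 6],
  [4, 7, 4, 7, 4, 7],
  [5, 6, 5, 6],
  [5, 7, 5, 7],
  [6, 7, 6, 7, 6, 7, 6, 7],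
  [5, 7, 6, 7, 6],
  [5, 3, 2, 1, 3, 2, 1, 3, 2, 1],
  [1, 4, 3, 4, 3, 4, 3, 4, 3, 4, 3],
  [3, 4, 6, 7, 3, 4, 6, 7, 3, 4, 6, 7, 3, 4, 6, 7],
  [3, 4, 5, 3, 4, 5, 3, 4, 5, 3, 4, 5, 3, 4, 5]]
/-- The subgroup generators. -/
def S : List (List ℕ) := [[1],
  [3],
  [4],
  [5],
  [6],
  [7]]
def Wr : List (List ℕ) := [[2, 2],
  [1, 1],
  [3, 3],
  [4, 2, 4, 2],
  [5, 2, 5, 2],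
  [6, 2, 6, 2],
  [7, 2, 7, 2],
  [4, 1, 4, 1],
  [5, 1, 5, 1],
  [6, 1, 6, 1],
  [7, 1, 7, 1],
  [2, 3, 2, 3, 2, 3],
  [4, 4],
  [5, 3, 5, 3],
  [6, 3, 6, 3],
  [7, 3, 7, 3],
  [1, 2, 1, 2, 1, 2, 1, 2],
  [3, 5, 1, 2, 3, 1, 2, 3, 1, 2],
  [1, 3, 1, 3],
  [2, 1, 3, 2, 1, 3, 2, 1, 5, 3],
  [2, 4, 2, 4],
  [5, 5],
  [6, 6],
  [7, 7],
  [1, 4, 1, 4],
  [2, 5, 2, 5],
  [4, 5, 4, 5, 4, 5],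
  [2, 6, 2, 6],
  [4, 6, 4, 6, 4, 6],
  [2, 7, 2, 7],
  [4, 7, 4, 7, 4, 7],
  [1, 5, 1, 5],
  [1, 6, 1, 6],
  [1, 7, 1, 7],
  [3, 2, 3, 2, 3, 2],
  [3, 5, 3, 5],
  [3, 6, 3, 6],
  [3, 7, 3, 7],
  [5, 6, 5, 6],
  [5, 7, 5, 7],
  [6, 7, 6, 5, 7],
  [7, 6, 5, 7, 6],
  [3, 4, 3, 4, 3, 4, 3, 4, 3, 1, 4],
  [2, 1, 3, 2, 1, 5, 3, 2, 1, 3],
  [3, 1, 3, 1],
  [5, 3, 2, 1, 3, 2, 1, 3, 2, 1],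
  [3, 4, 5, 3, 4, 5, 3, 4, 5, 3, 4, 5, 3, 4, 5],
  [4, 3, 7, 6, 4, 3, 7, 6, 4, 3, 7, 6, 4, 3, 7, 6],
  [5, 4, 5, 4, 5, 4],
  [6, 4, 6, 4, 6, 4],
  [7, 4, 7, 4, 7, 4],
  [2, 1, 2, 1, 2, 1, 2, 1],
  [7, 5, 7, 5],
  [6, 5, 6, 5],
  [3, 4, 3, 4, 3, 1, 4, 3, 4, 3, 4],
  [7, 6, 7, 6, 5],
  [5, 6, 7, 6, 7],
  [5, 7, 6, 7, 6],
  [1, 3, 2, 1, 3, 2, 1, 5, 3, 2],
  [6, 7, 6, 7, 5],
  [6, 7, 5, 6, 7],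
  [4, 6, 7, 3, 4, 6, 7, 3, 4, 6, 7, 3, 4, 6, 7, 3],
  [7, 3, 4, 6, 7, 3, 4, 6, 7, 3, 4, 6, 7, 3, 4, 6],
  [3, 7, 6, 4, 3, 7, 6, 4, 3, 7, 6, 4, 3, 7, 6, 4],
  [3, 5, 4, 3, 5, 4, 3, 5, 4, 3, 5, 4, 3, 5, 4],
  [6, 5, 7, 6, 7],
  [1, 5, 3, 2, 1, 3, 2, 1, 3, 2],
  [7, 5, 6, 7, 6],
  [4, 3, 4, 3, 4, 3, 4, 3, 1, 4, 3],
  [2, 3, 1, 2, 3, 5, 1, 2, 3, 1],
  [5, 4, 3, 5, 4, 3, 5, 4, 3, 5, 4, 3, 5, 4, 3],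
  [7, 6, 4, 3, 7, 6, 4, 3, 7, 6, 4, 3, 7, 6, 4, 3],
  [6, 7, 3, 4, 6, 7, 3, 4, 6, 7, 3, 4, 6, 7, 3, 4],
  [4, 3, 1, 4, 3, 4, 3, 4, 3, 4, 3],
  [3, 4, 3, 4, 3, 4, 1, 3, 4, 3, 4],
  [4, 3, 5, 4, 3, 5, 4, 3, 5, 4, 3, 5, 4, 3, 5],
  [3, 4, 3, 4, 3, 4, 3, 1, 4, 3, 4],
  [4, 5, 3, 4, 5, 3, 4, 5, 3, 4, 5, 3, 4, 5, 3],
  [3, 1, 4, 3, 4, 3, 4, 3, 4, 3, 4],
  [7, 6, 7, 5, 6],
  [5, 3, 4, 5, 3, 4, 5, 3, 4, 5, 3, 4, 5, 3, 4],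
  [4, 3, 4, 3, 1, 4, 3, 4, 3, 4, 3],
  [3, 4, 3, 1, 4, 3, 4, 3, 4, 3, 4],
  [2, 3, 5, 1, 2, 3, 1, 2, 3, 1],
  [6, 4, 3, 7, 6, 4, 3, 7, 6, 4, 3, 7, 6, 4, 3, 7],
  [4, 3, 4, 3, 4, 3, 4, 3, 4, 3, 1],
  [1, 2, 3, 5, 1, 2, 3, 1, 2, 3],
  [3, 4, 6, 7, 3, 4, 6, 7, 3, 4, 6, 7, 3, 4, 6, 7],
  [2, 3, 1, 2, 3, 1, 2, 3, 5, 1],
  [4, 3, 4, 3, 4, 3, 1, 4, 3, 4, 3],
  [3, 2, 1, 3, 2, 1, 3, 2, 1, 5],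
  [3, 1, 2, 3, 1, 2, 3, 5, 1, 2],
  [5, 1, 2, 3, 1, 2, 3, 1, 2, 3],
  [2, 1, 5, 3, 2, 1, 3, 2, 1, 3],
  [1, 3, 4, 3, 4, 3, 4, 3, 4, 3, 4],
  [1, 2, 3, 1, 2, 3, 1, 2, 3, 5],
  [3, 1, 2, 3, 5, 1, 2, 3, 1, 2],
  [3, 2, 1, 5, 3, 2, 1, 3, 2, 1],
  [4, 1, 3, 4, 3, 4, 3, 4, 3, 4, 3],
  [1, 4, 3, 4, 3, 4, 3, 4, 3, 4, 3],
  [3, 4, 3, 4, 3, 4, 3, 4, 1, 3, 4],
  [3, 2, 1, 3, 2, 1, 5, 3, 2, 1],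
  [4, 3, 4, 3, 4, 1, 3, 4, 3, 4, 3],
  [3, 4, 1, 3, 4, 3, 4, 3, 4, 3, 4],
  [3, 4, 3, 4, 3, 4, 3, 4, 3, 4, 1],
  [1, 3, 2, 1, 5, 3, 2, 1, 3, 2],
  [4, 3, 4, 1, 3, 4, 3, 4, 3, 4, 3],
  [3, 4, 3, 4, 1, 3, 4, 3, 4, 3, 4]]
def Wn : List (List ℕ) := [[1, 8],
  [3, 10],
  [4, 12],
  [5, 14],
  [6, 16],
  [7, 18],
  [1, 6, 1, 6],
  [1, 7, 1, 7],
  [3, 7, 6, 4, 3, 7, 6, 4, 3, 7, 6, 4, 3, 7, 6, 4],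
  [4, 4],
  [2, 6, 2, 6],
  [3, 6, 3, 6],
  [5, 6, 5, 6],
  [6, 7, 6, 5, 7],
  [4, 6, 4, 6, 4, 6],
  [5, 5],
  [6, 6],
  [7, 7],
  [1, 1],
  [2, 2],
  [3, 3],
  [2, 7, 2, 7],
  [3, 7, 3, 7],
  [5, 7, 5, 7],
  [6, 5, 7, 6, 7],
  [1, 3, 1, 3],
  [6, 3, 6, 3],
  [7, 3, 7, 3],
  [1, 4, 1, 4],
  [4, 3, 4, 3, 1, 4, 3, 4, 3, 4, 3],
  [5, 3, 4, 5, 3, 4, 5, 3, 4, 5, 3, 4, 5, 3, 4],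
  [3, 5, 4, 3, 5, 4, 3, 5, 4, 3, 5, 4, 3, 5, 4],
  [3, 4, 3, 4, 1, 3, 4, 3, 4, 3, 4],
  [6, 4, 6, 4, 6, 4],
  [7, 4, 7, 4, 7, 4],
  [7, 6, 5, 7, 6],
  [4, 7, 4, 7, 4, 7],
  [1, 5, 1, 5],
  [5, 4, 3, 5, 4, 3, 5, 4, 3, 5, 4, 3, 5, 4, 3],
  [3, 4, 5, 3, 4, 5, 3, 4, 5, 3, 4, 5, 3, 4, 5],
  [2, 3, 2, 3, 2, 3],
  [4, 3, 7, 6, 4, 3, 7, 6, 4, 3, 7, 6, 4, 3, 7, 6],
  [3, 2, 3, 2, 3, 2],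
  [1, 3, 2, 1, 5, 3, 2, 1, 3, 2],
  [2, 1, 5, 3, 2, 1, 3, 2, 1, 3],
  [2, 4, 2, 4],
  [2, 3, 5, 1, 2, 3, 1, 2, 3, 1],
  [5, 1, 5, 1],
  [6, 2, 6, 2],
  [3, 4, 3, 4, 3, 4, 3, 4, 3, 1, 4],
  [3, 5, 3, 5],
  [6, 5, 6, 5],
  [4, 2, 4, 2],
  [3, 4, 3, 1, 4, 3, 4, 3, 4, 3, 4],
  [3, 2, 1, 3, 2, 1, 3, 2, 1, 5],
  [5, 7, 6, 7, 6],
  [2, 1, 3, 2, 1, 5, 3, 2, 1, 3],
  [3, 1, 2, 3, 1, 2, 3, 5, 1, 2],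
  [3, 1, 2, 3, 5, 1, 2, 3, 1, 2],
  [7, 3, 4, 6, 7, 3, 4, 6, 7, 3, 4, 6, 7, 3, 4, 6],
  [5, 4, 5, 4, 5, 4],
  [1, 2, 1, 2, 1, 2, 1, 2],
  [5, 3, 2, 1, 3, 2, 1, 3, 2, 1],
  [2, 5, 2, 5],
  [3, 1, 3, 1],
  [4, 3, 5, 4, 3, 5, 4, 3, 5, 4, 3, 5, 4, 3, 5],
  [5, 3, 5, 3],
  [4, 5, 3, 4, 5, 3, 4, 5, 3, 4, 5, 3, 4, 5, 3],
  [7, 5, 6, 7, 6],
  [4, 6, 7, 3, 4, 6, 7, 3, 4, 6, 7, 3, 4, 6, 7, 3],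
  [7, 6, 4, 3, 7, 6, 4, 3, 7, 6, 4, 3, 7, 6, 4, 3],
  [6, 7, 5, 6, 7],
  [4, 1, 4, 1],
  [4, 5, 4, 5, 4, 5],
  [7, 2, 7, 2],
  [5, 2, 5, 2],
  [6, 7, 3, 4, 6, 7, 3, 4, 6, 7, 3, 4, 6, 7, 3, 4],
  [1, 3, 2, 1, 3, 2, 1, 5, 3, 2],
  [3, 4, 3, 4, 3, 4, 1, 3, 4, 3, 4],
  [7, 5, 7, 5],
  [7, 1, 7, 1],
  [2, 3, 1, 2, 3, 5, 1, 2, 3, 1],
  [3, 4, 3, 4, 3, 4, 3, 1, 4, 3, 4],
  [3, 4, 3, 4, 3, 1, 4, 3, 4, 3, 4],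
  [6, 7, 6, 7, 5],
  [4, 3, 4, 3, 4, 3, 4, 3, 4, 3, 1],
  [6, 1, 6, 1]]
def cr : List (ℕ × ℕ × ℕ) := [(0, 0, 0), (0, 0, 0), (0, 0, 0), (1, 14, 1), (1, 15, 1), (1, 16, 1), (1, 17, 1), (1, 9, 1), (1, 10, 1), (1, 11, 1), (1, 12, 1), (1, 13, 0), (0, 0, 0), (1, 19, 1), (1, 20, 1), (1, 21, 1), (1, 7, 0), (2, 29, 8), (1, 8, 0), (1, 29, 2), (1, 14, 0), (0, 0, 0), (0, 0, 0), (0, 0, 0), (1, 9, 0), (1, 15, 0), (1, 22, 0), (1, 16, 0), (1, 23, 0), (1, 17, 0), (1, 24, 0), (1, 10, 0), (1, 11, 0), (1, 12, 0), (1, 13, 1), (1, 19, 0), (1, 20, 0), (1, 21, 0), (1, 25, 0), (1, 26, 0), (1, 28, 2), (1, 28, 3), (1, 30, 2), (1, 29, 5), (1, 8, 1), (1, 29, 0), (1, 32, 0), (2, 31, 2), (1, 22, 1), (1, 23, 1), (1, 24, 1), (1, 7, 1), (1, 26, 1), (1, 25, 1), (1, 30, 6), (1,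 28, 1), (2, 28, 4), (1, 28, 0), (1, 29, 3), (2, 28, 0), (2, 28, 2), (1, 31, 1), (1, 31, 3), (2, 31, 3), (2, 32, 2), (1, 28, 4), (1, 29, 9), (2, 28, 3), (1, 30, 3), (2, 29, 4), (2, 32, 0), (2, 31, 0), (1, 31, 2), (1, 30, 9), (2, 30, 4), (2, 32, 1), (1, 30, 4), (1, 32, 1), (1, 30, 10), (2, 28, 1), (1, 32, 2), (1, 30, 7), (1, 30, 8), (2, 29, 7), (2, 31, 1), (1, 30, 1), (2, 29, 6), (1, 31, 0), (2, 29, 1), (1, 30, 5), (1, 29, 1), (2, 29, 2), (2, 29, 9), (1, 29, 8), (2, 30, 10), (2, 29, 0), (2, 29, 5), (1, 29, 7), (2, 30, 9), (1, 30, 0), (2, 30, 2), (1, 29, 4), (2, 30, 5), (2, 30, 8), (2, 30, 0), (1, 29, 6), (2, 30, 7), (2, 30, 6)]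
def cn : List (ℕ × ℕ × ℕ) := [(1, 33, 0), (1, 34, 0), (1, 35, 0), (1, 36, 0), (1, 37, 0), (1, 38, 0), (1, 11, 0), (1, 12, 0), (2, 31, 3), (0, 0, 0), (1, 16, 0), (1, 20, 0), (1, 25, 0), (1, 28, 2), (1, 23, 0), (0, 0, 0), (0, 0, 0), (0, 0, 0), (0, 0, 0), (0, 0, 0), (0, 0, 0), (1, 17, 0), (1, 21, 0), (1, 26, 0), (1, 28, 4), (1, 8, 0), (1, 20, 1), (1, 21, 1), (1, 9, 0), (1, 30, 7), (1, 32, 2), (2, 32, 2), (2, 30, 6), (1, 23, 1), (1, 24, 1), (1, 28, 3), (1, 24, 0), (1, 10, 0), (2, 32, 0), (1, 32, 0), (1, 13, 0), (2, 31, 2), (1, 13, 1), (1, 29, 6), (1, 29, 8), (1, 14, 0), (2, 29, 7), (1, 10, 1), (1, 16, 1), (1, 30, 2), (1, 19, 0), (1, 25, 1), (1, 14, 1), (1, 30, 8), (1, 29, 1), (1, 28, 0), (1, 29, 5), (2, 29, 2), (2, 29, 5), (1, 31, 3), (1, 22, 1),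 (1, 7, 0), (1, 29, 0), (1, 15, 0), (1, 8, 1), (2, 32, 1), (1, 19, 1), (1, 32, 1), (2, 28, 3), (1, 31, 1), (2, 31, 0), (2, 28, 2), (1, 9, 1), (1, 22, 0), (1, 17, 1), (1, 15, 1), (1, 31, 2), (1, 29, 3), (2, 30, 4), (1, 26, 1), (1, 12, 1), (2, 29, 4), (1, 30, 4), (1, 30, 6), (2, 28, 0), (1, 30, 1), (1, 11, 1)]
noncomputable def rT : Tr := (.node (.node (.node (.node (.node (.node rT0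
 rT1)
 (.node rT2
 rT3))
 (.node (.node rT4
 rT5)
 (.node rT6
 rT7)))
 (.node (.node (.node rT8
 rT9)
 (.node rT10
 rT11))
 (.node (.node rT12
 rT13)
 (.node rT14
 rT15))))
 (.node (.node (.node (.node rT16
 rT17)
 (.node rT18
 rT19))
 (.node (.node rT20
 rT21)
 (.node rT22
 rT23)))
 (.node (.node (.node rT24
 rT25)
 (.node rT26
 rT27))
 (.node (.node rT28
 rT29)
 (.node rT30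
 rT31)))))
 (.node (.node (.node (.node (.node rT32
 rT33)
 (.node rT34
 rT35))
 (.node (.node rT36
 rT37)
 (.node rT38
 rT39)))
 (.node (.node (.node rT40
 rT41)
 (.node rT42
 rT43))
 (.node (.node rT44
 rT45)
 (.node rT46
 rT47))))
 (.node (.node (.node (.node rT48
 (.leaf (nat_lit 0)))
 (.leaf (nat_lit 0)))
 (.leaf (nat_lit 0)))
 (.leaf (nat_lit 0)))))
noncomputable def gT : Tr := gT0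
noncomputable def rC (i : ℕ) : ℕ := rT.get (nat_lit 2048) i
noncomputable def gC (i : ℕ) : ℕ := gT.get (nat_lit 8) i
noncomputable def row (p : ℕ) : ℕ := rec2 rC (nat_lit 4) (nat_lit 15) (nat_lit 192) (nat_lit 0xffffffffffffffffffffffffffffffffffffffffffffffff) p
noncomputable def gf (p : ℕ) : ℕ := rec2 gC (nat_lit 7) (nat_lit 127) (nat_lit 45) (nat_lit 0x1fffffffffff) p
noncomputable def gw (c : ℕ) : List ℕ := nth [] Wr c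
noncomputable def wn (c : ℕ) : ℕ := pack (nat_lit 5) (nth [] Wn c) (nat_lit 0)
noncomputable def C : Cert :=
  { n := (nat_lit 49980), na := (nat_lit 314), M := (nat_lit 1392), nc := (nat_lit 7), W := (nat_lit 16), EB := (nat_lit 24),
    LB := (nat_lit 5), nreg := (nat_lit 108), ivT := (nat_lit 0x94e1173d8d52d09398a418820), base := (nat_lit 349440),
    row := row, gf := gf, gw := gw, wn := wn }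
theorem masks : Masks C (nat_lit 65535) (nat_lit 0xffffff) (nat_lit 31) (nat_lit 37) (nat_lit 0x1fffffffff) :=
  ⟨by decide +kernel, by decide +kernel, by decide +kernel, by decide +kernel, by decide +kernel⟩
noncomputable def rchk : ℕ → ℕ → ℕ → Bool :=
  rowChk row gf gw (nat_lit 49980) (nat_lit 1392) (nat_lit 7) (nat_lit 16) (nat_lit 65535) (nat_lit 24) (nat_lit 0xffffff) (nat_lit 5) (nat_lit 31) (nat_lit 37) (nat_lit 0x1fffffffff) (nat_lit 108) (nat_lit 0x94e1173d8d52d09398a418820) (nat_lit 11) (nat_lit 2047) (nat_lit 8) (nat_lit 255)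
noncomputable def fchk : ℕ → ℕ → ℕ → Bool :=
  auxRun row gf wn (nat_lit 49980) (nat_lit 314) (nat_lit 1392) (nat_lit 7) (nat_lit 16) (nat_lit 65535) (nat_lit 24) (nat_lit 0xffffff) (nat_lit 5) (nat_lit 31) (nat_lit 37) (nat_lit 0x94e1173d8d52d09398a418820) (nat_lit 349440) (nat_lit 12) (nat_lit 4095)
theorem rows_of {lo hi : ℕ} {t : JL} (h : t.run rchk (nat_lit 56) hi lo = true) : C.RowsOK lo hi :=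
  rowsOK_of_run masks h
theorem facts_of {lo hi : ℕ} {t : JL} (h : t.run fchk (nat_lit 20) hi lo = true) : C.FactsOK lo hi :=
  factsOK_of_run masks h
theorem words_ok : wordsChk 49980 7 16 5 108 737214392205380596375629170720 349440 R S Wr Wn cr cn = true := by
  decide +kernel

end Cfsg.Agent.H44.EHeA

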