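import Cfsg.Agent.H44.Coset
import Cfsg.Agent.H44.EO8sD0

set_option autoImplicit false
set_option maxRecDepth 1000000
set_option linter.all false
set_option Elab.async false

namespace Cfsg.Agent.H44.EO8s
open Cfsg.Agent.H44

/-- The relators. -/
def R : List (List ℕ) := [[1, 1],
  [2, 2],
  [3, 3],
  [4, 4],
  [5, 5],
  [6, 6],
  [7, 7],
  [8, 8],
  [9, 9],
  [10, 10],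
  [1, 2, 1, 2, 1, 2],
  [1, 3, 1, 3],
  [1, 4, 1, 4],
  [1, 5, 1, 5],
  [1, 6, 1, 6],
  [1, 7, 1, 7],
  [1, 8, 1, 8],
  [1, 9, 1, 9, 1, 9],
  [1, 10, 1, 10],
  [2, 3, 2, 3, 2, 3],
  [2, 4, 2, 4],
  [2, 5, 2, 5],
  [2, 6, 2, 6],
  [2, 7, 2, 7],
  [2, 8, 2, 8],
  [2, 9, 2, 9],
  [2, 10, 2, 10],
  [3, 4, 3, 4, 3, 4],
  [3, 5, 3, 5],
  [3, 6, 3, 6],
  [3, 7, 3, 7],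
  [3, 8, 3, 8],
  [3, 9, 3, 9],
  [3, 10, 3, 10],
  [4, 5, 4, 5, 4, 5],
  [4, 6, 4, 6],
  [4, 7, 4, 7, 4, 7],
  [4, 8, 4, 8],
  [4, 9, 4, 9],
  [4, 10, 4, 10],
  [5, 6, 5, 6, 5, 6],
  [5, 7, 5, 7],
  [5, 8, 5, 8],
  [5, 9, 5, 9],
  [5, 10, 5, 10],
  [6, 7, 6, 7],
  [6, 8, 6, 8],
  [6, 9, 6, 9],
  [6, 10, 6, 10],
  [7, 8, 7, 8, 7, 8],
  [7, 9, 7, 9],
  [7, 10, 7, 10],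
  [8, 9, 8, 9],
  [8, 10, 8, 10],
  [9, 10, 9, 10, 9, 10],
  [10, 7, 6, 5, 4, 3, 2, 1, 7, 6, 5, 4, 3, 2, 1, 7, 6, 5, 4, 3, 2, 1, 7, 6, 5, 4, 3, 2, 1, 7, 6, 5, 4, 3, 2, 1, 7, 6, 5, 4, 3, 2, 1, 7, 6, 5, 4, 3, 2, 1, 7, 6, 5, 4, 3, 2, 1, 7, 6, 5, 4, 3, 2, 1]]
/-- The subgroup generators. -/
def S : List (List ℕ) := [[1],
  [2],
  [3],
  [4],
  [5],
  [6],
  [7],
  [9],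
  [10]]
def Wr : List (List ℕ) := [[8, 8],
  [1, 8, 1, 8],
  [2, 8, 2, 8],
  [3, 8, 3, 8],
  [4, 8, 4, 8],
  [5, 8, 5, 8],
  [6, 8, 6, 8],
  [7, 7],
  [9, 8, 9, 8],
  [10, 8, 10, 8],
  [1, 7, 1, 7],
  [2, 7, 2, 7],
  [3, 7, 3, 7],
  [4, 4],
  [5, 7, 5, 7],
  [6, 7, 6, 7],
  [8, 7, 8, 7, 8, 7],
  [9, 7, 9, 7],
  [10, 7, 10, 7],
  [1, 4, 1, 4],
  [2, 4, 2, 4],
  [3, 3],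
  [5, 5],
  [6, 4, 6, 4],
  [7, 4, 7, 4, 7, 4],
  [8, 4, 8, 4],
  [9, 4, 9, 4],
  [10, 4, 10, 4],
  [1, 3, 1, 3],
  [2, 2],
  [4, 3, 4, 3, 4, 3],
  [6, 3, 6, 3],
  [7, 3, 7, 3],
  [8, 3, 8, 3],
  [9, 3, 9, 3],
  [10, 3, 10, 3],
  [1, 5, 1, 5],
  [2, 5, 2, 5],
  [4, 5, 4, 5, 4, 5],
  [6, 6],
  [7, 5, 7, 5],
  [8, 5, 8, 5],
  [9, 5, 9, 5],
  [10, 5, 10, 5],
  [1, 1],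
  [3, 2, 3, 2, 3, 2],
  [4, 2, 4, 2],
  [6, 2, 6, 2],
  [7, 2, 7, 2],
  [8, 2, 8, 2],
  [9, 2, 9, 2],
  [10, 2, 10, 2],
  [3, 5, 3, 5],
  [1, 6, 1, 6],
  [2, 6, 2, 6],
  [4, 6, 4, 6],
  [5, 6, 5, 6, 5, 6],
  [7, 6, 7, 6],
  [8, 6, 8, 6],
  [9, 6, 9, 6],
  [10, 6, 10, 6],
  [2, 1, 2, 1, 2, 1],
  [3, 1, 3, 1],
  [4, 1, 4, 1],
  [6, 1, 6, 1],
  [7, 1, 7, 1],
  [8, 1, 8, 1],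
  [9, 9],
  [10, 1, 10, 1],
  [3, 4, 3, 4, 3, 4],
  [5, 4, 5, 4, 5, 4],
  [3, 6, 3, 6],
  [1, 9, 1, 9, 1, 9],
  [2, 9, 2, 9],
  [3, 9, 3, 9],
  [4, 9, 4, 9],
  [6, 9, 6, 9],
  [7, 9, 7, 9],
  [8, 9, 8, 9],
  [10, 10],
  [4, 7, 4, 7, 4, 7],
  [5, 9, 5, 9],
  [1, 10, 1, 10],
  [2, 10, 2, 10],
  [3, 10, 3, 10],
  [4, 10, 4, 10],
  [6, 10, 6, 10],
  [7, 10, 7, 10],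
  [8, 10, 8, 10],
  [9, 10, 9, 10, 9, 10],
  [2, 3, 2, 3, 2, 3],
  [5, 3, 5, 3],
  [6, 5, 6, 5, 6, 5],
  [7, 8, 7, 8, 7, 8],
  [5, 10, 5, 10],
  [1, 2, 1, 2, 1, 2],
  [5, 2, 5, 2],
  [5, 1, 5, 1],
  [9, 1, 9, 1, 9, 1],
  [10, 9, 10, 9, 10, 9],
  [7, 10, 1, 2, 3, 4, 5, 6, 7, 1, 2, 3, 4, 5, 6, 7, 1, 2, 3, 4, 5, 6, 7, 1, 2, 3, 4, 5, 6, 7, 1, 2, 3, 4, 5, 6, 7, 1, 2, 3, 4, 5, 6, 7, 1, 2, 3, 4, 5, 6, 7, 1, 2, 3, 4, 5, 6, 7, 1, 2, 3, 4, 5, 6],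
  [2, 1, 7, 6, 5, 4, 3, 2, 1, 7, 6, 5, 4, 3, 2, 1, 7, 6, 5, 4, 3, 2, 1, 7, 6, 5, 4, 3, 2, 1, 7, 6, 5, 4, 3, 2, 1, 7, 6, 5, 4, 3, 2, 1, 7, 6, 5, 4, 3, 2, 1, 7, 6, 5, 4, 3, 2, 1, 10, 7, 6, 5, 4, 3],
  [10, 7, 6, 5, 4, 3, 2, 1, 7, 6, 5, 4, 3, 2, 1, 7, 6, 5, 4, 3, 2, 1, 7, 6, 5, 4, 3, 2, 1, 7, 6, 5, 4, 3, 2, 1, 7, 6, 5, 4, 3, 2, 1, 7, 6, 5, 4, 3, 2, 1, 7, 6, 5, 4, 3, 2, 1, 7, 6, 5, 4, 3, 2, 1],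
  [1, 2, 3, 4, 5, 6, 7, 1, 2, 3, 4, 5, 6, 7, 1, 2, 3, 4, 5, 6, 7, 1, 2, 3, 4, 5, 6, 7, 1, 2, 3, 4, 5, 6, 7, 1, 2, 3, 4, 5, 6, 7, 1, 2, 3, 4, 5, 6, 7, 1, 2, 3, 4, 5, 6, 7, 1, 2, 3, 4, 5, 6, 7, 10],
  [4, 5, 6, 7, 1, 2, 3, 4, 5, 6, 7, 1, 2, 3, 4, 5, 6, 7, 1, 2, 3, 4, 5, 6, 7, 1, 2, 3, 4, 5, 6, 7, 1, 2, 3, 4, 5, 6, 7, 1, 2, 3, 4, 5, 6, 7, 1, 2, 3, 4, 5, 6, 7, 1, 2, 3, 4, 5, 6, 7, 10, 1, 2, 3],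
  [3, 4, 5, 6, 7, 1, 2, 3, 4, 5, 6, 7, 1, 2, 3, 4, 5, 6, 7, 1, 2, 3, 4, 5, 6, 7, 1, 2, 3, 4, 5, 6, 7, 1, 2, 3, 4, 5, 6, 7, 1, 2, 3, 4, 5, 6, 7, 1, 2, 3, 4, 5, 6, 7, 1, 2, 3, 4, 5, 6, 7, 10, 1, 2],
  [3, 2, 1, 7, 6, 5, 4, 3, 2, 1, 7, 6, 5, 4, 3, 2, 1, 7, 6, 5, 4, 3, 2, 1, 7, 6, 5, 4, 3, 2, 1, 7, 6, 5, 4, 3, 2, 1, 7, 6, 5, 4, 3, 2, 1, 7, 6, 5, 4, 3, 2, 1, 7, 6, 5, 4, 3, 2, 1, 10, 7, 6, 5, 4],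
  [2, 3, 4, 5, 6, 7, 1, 2, 3, 4, 5, 6, 7, 1, 2, 3, 4, 5, 6, 7, 1, 2, 3, 4, 5, 6, 7, 1, 2, 3, 4, 5, 6, 7, 1, 2, 3, 4, 5, 6, 7, 1, 2, 3, 4, 5, 6, 7, 1, 2, 3, 4, 5, 6, 7, 1, 2, 3, 4, 5, 6, 7, 10, 1],
  [5, 6, 7, 1, 2, 3, 4, 5, 6, 7, 1, 2, 3, 4, 5, 6, 7, 1, 2, 3, 4, 5, 6, 7, 1, 2, 3, 4, 5, 6, 7, 1, 2, 3, 4, 5, 6, 7, 10, 1, 2, 3, 4, 5, 6, 7, 1, 2, 3, 4, 5, 6, 7, 1, 2, 3, 4, 5, 6, 7, 1, 2, 3, 4],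
  [10, 1, 2, 3, 4, 5, 6, 7, 1, 2, 3, 4, 5, 6, 7, 1, 2, 3, 4, 5, 6, 7, 1, 2, 3, 4, 5, 6, 7, 1, 2, 3, 4, 5, 6, 7, 1, 2, 3, 4, 5, 6, 7, 1, 2, 3, 4, 5, 6, 7, 1, 2, 3, 4, 5, 6, 7, 1, 2, 3, 4, 5, 6, 7],
  [1, 2, 3, 4, 5, 6, 7, 1, 2, 3, 4, 5, 6, 7, 1, 2, 3, 4, 5, 6, 7, 1, 2, 3, 4, 5, 6, 7, 1, 2, 3, 4, 5, 6, 7, 1, 2, 3, 4, 5, 6, 7, 1, 2, 3, 4, 5, 6, 7, 1, 2, 3, 4, 5, 6, 7, 10, 1, 2, 3, 4, 5, 6, 7],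
  [7, 1, 2, 3, 4, 5, 6, 7, 1, 2, 3, 4, 5, 6, 7, 1, 2, 3, 4, 5, 6, 7, 1, 2, 3, 4, 5, 6, 7, 1, 2, 3, 4, 5, 6, 7, 1, 2, 3, 4, 5, 6, 7, 1, 2, 3, 4, 5, 6, 7, 1, 2, 3, 4, 5, 6, 7, 10, 1, 2, 3, 4, 5, 6],
  [1, 7, 6, 5, 4, 3, 2, 1, 7, 6, 5, 4, 3, 2, 1, 7, 6, 5, 4, 3, 2, 1, 7, 6, 5, 4, 3, 2, 1, 7, 6, 5, 4, 3, 2, 1, 7, 6, 5, 4, 3, 2, 1, 7, 6, 5, 4, 3, 2, 1, 7, 6, 5, 4, 3, 2, 1, 10, 7, 6, 5, 4, 3, 2],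
  [7, 1, 2, 3, 4, 5, 6, 7, 1, 2, 3, 4, 5, 6, 7, 1, 2, 3, 4, 5, 6, 7, 1, 2, 3, 4, 5, 6, 7, 10, 1, 2, 3, 4, 5, 6, 7, 1, 2, 3, 4, 5, 6, 7, 1, 2, 3, 4, 5, 6, 7, 1, 2, 3, 4, 5, 6, 7, 1, 2, 3, 4, 5, 6],
  [1, 2, 3, 4, 5, 6, 7, 1, 2, 3, 4, 5, 6, 7, 1, 2, 3, 4, 5, 6, 7, 1, 2, 3, 4, 5, 6, 7, 1, 2, 3, 4, 5, 6, 7, 1, 2, 3, 4, 5, 6, 7, 10, 1, 2, 3, 4, 5, 6, 7, 1, 2, 3, 4, 5, 6, 7, 1, 2, 3, 4, 5, 6, 7],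
  [5, 6, 7, 1, 2, 3, 4, 5, 6, 7, 1, 2, 3, 4, 5, 6, 7, 1, 2, 3, 4, 5, 6, 7, 1, 2, 3, 4, 5, 6, 7, 1, 2, 3, 4, 5, 6, 7, 1, 2, 3, 4, 5, 6, 7, 1, 2, 3, 4, 5, 6, 7, 1, 2, 3, 4, 5, 6, 7, 10, 1, 2, 3, 4]]
def Wn : List (List ℕ) := [[1, 11],
  [2, 13],
  [3, 15],
  [4, 17],
  [5, 19],
  [6, 21],
  [7, 23],
  [9, 25],
  [10, 27],
  [5, 1, 5, 1],
  [2, 10, 2, 10],
  [5, 10, 5, 10],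
  [1, 10, 1, 10],
  [4, 10, 4, 10],
  [7, 9, 7, 9],
  [6, 10, 6, 10],
  [6, 9, 6, 9],
  [4, 6, 4, 6],
  [2, 9, 2, 9],
  [3, 9, 3, 9],
  [4, 9, 4, 9],
  [3, 1, 3, 1],
  [3, 10, 3, 10],
  [8, 1, 8, 1],
  [8, 10, 8, 10],
  [9, 3, 9, 3],
  [2, 3, 2, 3, 2, 3],
  [9, 5, 9, 5],
  [5, 9, 5, 9],
  [6, 2, 6, 2],
  [7, 2, 7, 2],
  [1, 2, 1, 2, 1, 2],
  [6, 1, 6, 1],
  [6, 5, 6, 5, 6, 5],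
  [6, 7, 6, 7],
  [8, 9, 8, 9],
  [4, 1, 4, 1],
  [5, 2, 5, 2],
  [8, 2, 8, 2],
  [7, 1, 7, 1],
  [7, 10, 7, 10],
  [3, 5, 3, 5],
  [4, 3, 4, 3, 4, 3],
  [2, 5, 2, 5],
  [9, 6, 9, 6],
  [1, 3, 1, 3],
  [6, 3, 6, 3],
  [7, 3, 7, 3],
  [8, 3, 8, 3],
  [10, 3, 10, 3],
  [1, 5, 1, 5],
  [7, 5, 7, 5],
  [4, 5, 4, 5, 4, 5],
  [5, 7, 5, 7],
  [4, 2, 4, 2],
  [2, 1, 2, 1, 2, 1],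
  [1, 6, 1, 6],
  [9, 2, 9, 2],
  [2, 6, 2, 6],
  [10, 2, 10, 2],
  [3, 2, 3, 2, 3, 2],
  [8, 5, 8, 5],
  [7, 6, 7, 6],
  [9, 4, 9, 4],
  [1, 9, 1, 9, 1, 9],
  [5, 4, 5, 4, 5, 4],
  [3, 6, 3, 6],
  [10, 5, 10, 5],
  [1, 4, 1, 4],
  [8, 4, 8, 4],
  [3, 4, 3, 4, 3, 4],
  [9, 7, 9, 7],
  [3, 7, 3, 7],
  [7, 4, 7, 4, 7, 4],
  [2, 4, 2, 4],
  [10, 4, 10, 4],
  [1, 7, 1, 7],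
  [9, 8, 9, 8],
  [2, 7, 2, 7],
  [5, 8, 5, 8],
  [1, 8, 1, 8],
  [7, 8, 7, 8, 7, 8],
  [6, 4, 6, 4],
  [4, 3, 2, 1, 7, 6, 5, 4, 3, 2, 1, 7, 6, 5, 4, 3, 2, 1, 7, 6, 5, 4, 3, 2, 1, 7, 6, 5, 4, 3, 2, 1, 7, 6, 5, 4, 3, 2, 1, 7, 6, 5, 4, 3, 2, 1, 7, 6, 5, 4, 3, 2, 1, 7, 6, 5, 4, 3, 2, 1, 10, 7, 6, 5],
  [3, 2, 1, 7, 6, 5, 4, 3, 2, 1, 7, 6, 5, 4, 3, 2, 1, 7, 6, 5, 4, 3, 2, 1, 7, 6, 5, 4, 3, 2, 1, 7, 6, 5, 4, 3, 2, 1, 7, 6, 5, 4, 3, 2, 1, 7, 6, 5, 4, 3, 2, 1, 7, 6, 5, 4, 3, 2, 1, 10, 7, 6, 5, 4],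
  [9, 1, 9, 1, 9, 1],
  [5, 3, 5, 3],
  [8, 7, 8, 7, 8, 7],
  [5, 6, 5, 6, 5, 6],
  [8, 6, 8, 6],
  [2, 1, 10, 7, 6, 5, 4, 3, 2, 1, 7, 6, 5, 4, 3, 2, 1, 7, 6, 5, 4, 3, 2, 1, 7, 6, 5, 4, 3, 2, 1, 7, 6, 5, 4, 3, 2, 1, 7, 6, 5, 4, 3, 2, 1, 7, 6, 5, 4, 3, 2, 1, 7, 6, 5, 4, 3, 2, 1, 7, 6, 5, 4, 3],
  [2, 2],
  [5, 5],
  [1, 1],
  [4, 4],
  [7, 7],
  [6, 6],
  [3, 3],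
  [9, 9],
  [8, 8],
  [10, 10],
  [2, 8, 2, 8],
  [6, 8, 6, 8],
  [4, 7, 4, 7, 4, 7],
  [3, 8, 3, 8],
  [4, 8, 4, 8],
  [10, 9, 10, 9, 10, 9],
  [10, 6, 10, 6],
  [9, 10, 9, 10, 9, 10],
  [10, 7, 10, 7],
  [10, 1, 10, 1],
  [3, 4, 5, 6, 7, 1, 2, 3, 4, 5, 6, 7, 1, 2, 3, 4, 5, 6, 7, 1, 2, 3, 4, 5, 6, 7, 1, 2, 3, 4, 5, 6, 7, 1, 2, 3, 4, 5, 6, 7, 1, 2, 3, 4, 5, 6, 7, 1, 2, 3, 4, 5, 6, 7, 10, 1, 2, 3, 4, 5, 6, 7, 1, 2],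
  [4, 5, 6, 7, 10, 1, 2, 3, 4, 5, 6, 7, 1, 2, 3, 4, 5, 6, 7, 1, 2, 3, 4, 5, 6, 7, 1, 2, 3, 4, 5, 6, 7, 1, 2, 3, 4, 5, 6, 7, 1, 2, 3, 4, 5, 6, 7, 1, 2, 3, 4, 5, 6, 7, 1, 2, 3, 4, 5, 6, 7, 1, 2, 3],
  [10, 8, 10, 8],
  [4, 5, 6, 7, 1, 2, 3, 4, 5, 6, 7, 1, 2, 3, 4, 5, 6, 7, 1, 2, 3, 4, 5, 6, 7, 1, 2, 3, 4, 5, 6, 7, 1, 2, 3, 4, 5, 6, 7, 1, 2, 3, 4, 5, 6, 7, 10, 1, 2, 3, 4, 5, 6, 7, 1, 2, 3, 4, 5, 6, 7, 1, 2, 3],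
  [5, 4, 3, 2, 1, 7, 6, 5, 4, 3, 2, 1, 7, 6, 5, 4, 3, 2, 1, 7, 6, 5, 4, 3, 2, 1, 7, 6, 5, 4, 3, 2, 1, 7, 6, 5, 4, 3, 2, 1, 10, 7, 6, 5, 4, 3, 2, 1, 7, 6, 5, 4, 3, 2, 1, 7, 6, 5, 4, 3, 2, 1, 7, 6],
  [5, 4, 3, 2, 1, 7, 6, 5, 4, 3, 2, 1, 7, 6, 5, 4, 3, 2, 1, 7, 6, 5, 4, 3, 2, 1, 7, 6, 5, 4, 3, 2, 1, 7, 6, 5, 4, 3, 2, 1, 7, 6, 5, 4, 3, 2, 1, 7, 6, 5, 4, 3, 2, 1, 7, 6, 5, 4, 3, 2, 1, 10, 7, 6]]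
def cr : List (ℕ × ℕ × ℕ) := [(0, 0, 0), (1, 16, 0), (1, 24, 0), (1, 31, 0), (1, 37, 0), (1, 42, 0), (1, 46, 0), (0, 0, 0), (1, 52, 1), (1, 53, 1), (1, 15, 0), (1, 23, 0), (1, 30, 0), (0, 0, 0), (1, 41, 0), (1, 45, 0), (1, 49, 1), (1, 50, 1), (1, 51, 1), (1, 12, 0), (1, 20, 0), (0, 0, 0), (0, 0, 0), (1, 35, 1), (1, 36, 1), (1, 37, 1), (1, 38, 1), (1, 39, 1), (1, 11, 0), (0, 0, 0), (1, 27, 1), (1, 29, 1), (1, 30, 1), (1, 31, 1), (1, 32, 1), (1, 33, 1), (1, 13, 0), (1, 21, 0), (1, 34, 0), (0, 0, 0), (1, 41, 1), (1, 42, 1), (1, 43, 1), (1, 44, 1), (0, 0, 0), (1, 19, 1), (1, 20, 1), (1, 22, 1), (1, 23, 1), (1, 24, 1), (1, 25, 1), (1, 26, 1), (1, 28, 0), (1, 14, 0), (1, 22, 0), (1, 35, 0), (1, 40, 0), (1, 45, 1), (1, 46, 1),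 (1, 47, 1), (1, 48, 1), (1, 10, 1), (1, 11, 1), (1, 12, 1), (1, 14, 1), (1, 15, 1), (1, 16, 1), (0, 0, 0), (1, 18, 1), (1, 27, 0), (1, 34, 1), (1, 29, 0), (1, 17, 0), (1, 25, 0), (1, 32, 0), (1, 38, 0), (1, 47, 0), (1, 50, 0), (1, 52, 0), (0, 0, 0), (1, 36, 0), (1, 43, 0), (1, 18, 0), (1, 26, 0), (1, 33, 0), (1, 39, 0), (1, 48, 0), (1, 51, 0), (1, 53, 0), (1, 54, 0), (1, 19, 0), (1, 28, 1), (1, 40, 1), (1, 49, 0), (1, 44, 0), (1, 10, 0), (1, 21, 1), (1, 13, 1), (1, 17, 1), (1, 54, 1), (2, 55, 62), (1, 55, 6), (1, 55, 0), (2, 55, 0), (2, 55, 3), (2, 55, 2), (1, 55, 5), (2, 55, 1), (2, 55, 25), (2, 55, 63), (2, 55, 7), (2, 55, 6), (1, 55, 7), (2, 55, 34), (2, 55, 21), (2, 55, 4)]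
def cn : List (ℕ × ℕ × ℕ) := [(1, 56, 0), (1, 57, 0), (1, 58, 0), (1, 59, 0), (1, 60, 0), (1, 61, 0), (1, 62, 0), (1, 63, 0), (1, 64, 0), (1, 13, 1), (1, 26, 0), (1, 44, 0), (1, 18, 0), (1, 39, 0), (1, 50, 0), (1, 48, 0), (1, 47, 0), (1, 35, 0), (1, 25, 0), (1, 32, 0), (1, 38, 0), (1, 11, 1), (1, 33, 0), (1, 16, 1), (1, 53, 0), (1, 32, 1), (1, 19, 0), (1, 43, 1), (1, 43, 0), (1, 22, 1), (1, 23, 1), (1, 10, 0), (1, 14, 1), (1, 40, 1), (1, 45, 0), (1, 52, 0), (1, 12, 1), (1, 21, 1), (1, 24, 1), (1, 15, 1), (1, 51, 0), (1, 28, 0), (1, 27, 1), (1, 21, 0), (1, 47, 1), (1, 11, 0), (1, 29, 1), (1, 30, 1), (1, 31, 1), (1, 33, 1), (1, 13, 0), (1, 41, 1), (1, 34, 0), (1, 41, 0), (1, 20, 1), (1, 10, 1), (1, 14, 0), (1, 25, 1), (1,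 22, 0), (1, 26, 1), (1, 19, 1), (1, 42, 1), (1, 45, 1), (1, 38, 1), (1, 17, 0), (1, 34, 1), (1, 29, 0), (1, 44, 1), (1, 12, 0), (1, 37, 1), (1, 27, 0), (1, 50, 1), (1, 30, 0), (1, 36, 1), (1, 20, 0), (1, 39, 1), (1, 15, 0), (1, 52, 1), (1, 23, 0), (1, 42, 0), (1, 16, 0), (1, 49, 0), (1, 35, 1), (1, 55, 4), (1, 55, 5), (1, 17, 1), (1, 28, 1), (1, 49, 1), (1, 40, 0), (1, 46, 1), (1, 55, 62), (0, 0, 0), (0, 0, 0), (0, 0, 0), (0, 0, 0), (0, 0, 0), (0, 0, 0), (0, 0, 0), (0, 0, 0), (0, 0, 0), (0, 0, 0), (1, 24, 0), (1, 46, 0), (1, 36, 0), (1, 31, 0), (1, 37, 0), (1, 54, 1), (1, 48, 1), (1, 54, 0), (1, 51, 1), (1, 18, 1), (2, 55, 9), (2, 55, 59), (1, 53, 1), (2, 55, 17), (1, 55, 24), (1, 55, 3)]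
noncomputable def rT : Tr := (.node (.node (.node (.node (.node rT0
 rT1)
 (.node rT2
 rT3))
 (.node (.node rT4
 rT5)
 (.node rT6
 rT7)))
 (.node (.node (.node rT8
 rT9)
 (.node rT10
 rT11))
 (.node (.node rT12
 rT13)
 (.node rT14
 rT15))))
 (.node (.node (.node (.node rT16
 rT17)
 (.node rT18
 rT19))
 (.node (.node rT20
 rT21)
 (.node rT22
 rT23)))
 (.node (.node (.node rT24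
 rT25)
 (.node rT26
 rT27))
 (.leaf (nat_lit 0)))))
noncomputable def gT : Tr := (.node (.node (.node gT0
 gT1)
 (.node gT2
 gT3))
 (.node (.node gT4
 (.leaf (nat_lit 0)))
 (.leaf (nat_lit 0))))
noncomputable def rC (i : ℕ) : ℕ := rT.get (nat_lit 1024) i
noncomputable def gC (i : ℕ) : ℕ := gT.get (nat_lit 256) i
noncomputable def row (p : ℕ) : ℕ := rec2 rC (nat_lit 4) (nat_lit 15) (nat_lit 264) (nat_lit 0xffffffffffffffffffffffffffffffffffffffffffffffffffffffffffffffffff) p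
noncomputable def gf (p : ℕ) : ℕ := rec2 gC (nat_lit 7) (nat_lit 127) (nat_lit 45) (nat_lit 0x1fffffffffff) p
noncomputable def gw (c : ℕ) : List ℕ := nth [] Wr c
noncomputable def wn (c : ℕ) : ℕ := pack (nat_lit 5) (nth [] Wn c) (nat_lit 0)
noncomputable def C : Cert :=
  { n := (nat_lit 28431), na := (nat_lit 8832), M := (nat_lit 33004), nc := (nat_lit 10), W := (nat_lit 16), EB := (nat_lit 24),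
    LB := (nat_lit 5), nreg := (nat_lit 116), ivT := (nat_lit 0x1be6757c56d3a464f835cb62928398a418820), base := (nat_lit 0xaaaa800),
    row := row, gf := gf, gw := gw, wn := wn }
theorem masks : Masks C (nat_lit 65535) (nat_lit 0xffffff) (nat_lit 31) (nat_lit 37) (nat_lit 0x1fffffffff) :=
  ⟨by decide +kernel, by decide +kernel, by decide +kernel, by decide +kernel, by decide +kernel⟩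
noncomputable def rchk : ℕ → ℕ → ℕ → Bool :=
  rowChk row gf gw (nat_lit 28431) (nat_lit 33004) (nat_lit 10) (nat_lit 16) (nat_lit 65535) (nat_lit 24) (nat_lit 0xffffff) (nat_lit 5) (nat_lit 31) (nat_lit 37) (nat_lit 0x1fffffffff) (nat_lit 116) (nat_lit 0x1be6757c56d3a464f835cb62928398a418820) (nat_lit 16) (nat_lit 65535) (nat_lit 9) (nat_lit 511)
noncomputable def fchk : ℕ → ℕ → ℕ → Bool :=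
  auxRun row gf wn (nat_lit 28431) (nat_lit 8832) (nat_lit 33004) (nat_lit 10) (nat_lit 16) (nat_lit 65535) (nat_lit 24) (nat_lit 0xffffff) (nat_lit 5) (nat_lit 31) (nat_lit 37) (nat_lit 0x1be6757c56d3a464f835cb62928398a418820) (nat_lit 0xaaaa800) (nat_lit 17) (nat_lit 131071)
theorem rows_of {lo hi : ℕ} {t : JL} (h : t.run rchk (nat_lit 90) hi lo = true) : C.RowsOK lo hi :=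
  rowsOK_of_run masks h
theorem facts_of {lo hi : ℕ} {t : JL} (h : t.run fchk (nat_lit 20) hi lo = true) : C.FactsOK lo hi :=
  factsOK_of_run masks h
theorem words_ok : wordsChk 28431 10 16 5 116 38887245277291440725472999101695773506635808 178956288 R S Wr Wn cr cn = true := by
  decide +kernel

end Cfsg.Agent.H44.EO8s

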