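import Cfsg.Agent.H44.Coset
import Cfsg.Agent.H44.EONAD0
import Cfsg.Agent.H44.EONAD1
import Cfsg.Agent.H44.EONAD2
import Cfsg.Agent.H44.EONAD3
import Cfsg.Agent.H44.EONAD4

set_option autoImplicit false
set_option maxRecDepth 1000000
set_option linter.all false
set_option Elab.async false

namespace Cfsg.Agent.H44.EONA
open Cfsg.Agent.H44

/-- The relators. -/
def R : List (List ℕ) := [[1, 1],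
  [2, 2],
  [3, 3],
  [4, 4],
  [5, 5],
  [6, 6],
  [7, 8],
  [1, 2, 1, 2, 1, 2],
  [1, 3, 1, 3],
  [1, 4, 1, 4],
  [1, 5, 1, 5],
  [1, 6, 1, 6],
  [2, 3, 2, 3, 2, 3],
  [2, 4, 2, 4],
  [2, 5, 2, 5],
  [2, 6, 2, 6],
  [3, 4, 3, 4, 3, 4, 3, 4, 3, 4, 3, 4, 3, 4, 3, 4],
  [3, 5, 3, 5],
  [3, 6, 3, 6],
  [4, 5, 4, 5, 4, 5],
  [4, 6, 4, 6],
  [5, 6, 5, 6, 5, 6],
  [1, 6, 8, 8],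
  [1, 6, 4, 3, 4, 3, 4, 3, 4, 3],
  [3, 8, 4, 8, 4, 3, 4, 7, 4, 7],
  [4, 8, 3, 8, 3, 4, 3, 7, 3, 7],
  [2, 3, 4, 7, 2, 3, 4, 7, 2, 3, 4, 7, 2, 3, 4, 7, 2, 3, 4, 7],
  [7, 2, 3, 7, 3, 2, 7, 2, 3, 7, 3],
  [7, 5, 4, 7, 4, 5, 7, 5, 4, 7, 4]]
/-- The subgroup generators. -/
def S : List (List ℕ) := [[1],
  [2],
  [3],
  [4],
  [5],
  [6]]
def Wr : List (List ℕ) := [[7, 8],
  [8, 7],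
  [2, 2],
  [3, 3],
  [4, 4],
  [5, 5],
  [7, 6, 1, 7],
  [1, 1],
  [3, 4, 7, 4, 7, 3, 8, 4, 8, 4],
  [6, 6],
  [2, 4, 2, 4],
  [2, 5, 2, 5],
  [3, 5, 3, 5],
  [4, 8, 3, 8, 3, 4, 3, 7, 3, 7],
  [3, 8, 4, 8, 4, 3, 4, 7, 4, 7],
  [1, 3, 1, 3],
  [1, 4, 1, 4],
  [1, 5, 1, 5],
  [3, 2, 3, 2, 3, 2],
  [2, 6, 2, 6],
  [8, 1, 6, 8],
  [6, 3, 6, 3],
  [6, 2, 6, 2],
  [2, 3, 8, 3, 2, 8, 3, 8, 3, 2, 8],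
  [3, 8, 3, 2, 8, 2, 3, 8, 3, 2, 8],
  [4, 7, 3, 8, 4, 8, 4, 3, 4, 7],
  [3, 6, 3, 6],
  [5, 4, 8, 4, 5, 8, 4, 8, 4, 5, 8],
  [5, 4, 5, 4, 5, 4],
  [8, 4, 5, 8, 5, 4, 8, 4, 5, 8, 4],
  [6, 8, 8, 1],
  [1, 6, 1, 6],
  [5, 7, 5, 4, 7, 4, 7, 5, 4, 7, 4],
  [4, 6, 4, 6],
  [4, 7, 5, 4, 7, 4, 5, 7, 5, 4, 7],
  [6, 4, 6, 4],
  [8, 8, 1, 6],
  [5, 6, 5, 6, 5, 6],
  [3, 1, 3, 1],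
  [5, 2, 5, 2],
  [7, 4, 7, 3, 8, 4, 8, 4, 3, 4],
  [2, 3, 2, 3, 2, 3],
  [3, 7, 4, 8, 3, 8, 3, 4, 3, 7],
  [4, 7, 4, 7, 3, 8, 4, 8, 4, 3],
  [8, 3, 4, 3, 7, 3, 7, 4, 8, 3],
  [1, 7, 7, 6],
  [7, 2, 3, 7, 3, 7, 2, 3, 7, 3, 2],
  [2, 3, 7, 3, 2, 7, 2, 3, 7, 3, 7],
  [4, 2, 4, 2],
  [3, 8, 3, 4, 3, 7, 3, 7, 4, 8],
  [4, 3, 4, 7, 4, 7, 3, 8, 4, 8],
  [4, 5, 8, 4, 8, 4, 5, 8, 5, 4, 8],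
  [8, 4, 3, 4, 7, 4, 7, 3, 8, 4],
  [7, 4, 5, 7, 5, 4, 7, 4, 7, 5, 4],
  [5, 3, 5, 3],
  [7, 7, 6, 1],
  [3, 4, 3, 7, 3, 7, 4, 8, 3, 8],
  [4, 5, 4, 5, 4, 5],
  [6, 5, 6, 5, 6, 5],
  [7, 3, 7, 4, 8, 3, 8, 3, 4, 3],
  [7, 5, 4, 7, 4, 7, 5, 4, 7, 4, 5],
  [2, 1, 2, 1, 2, 1],
  [6, 1, 6, 1],
  [5, 1, 5, 1],
  [7, 4, 7, 5, 4, 7, 4, 5, 7, 5, 4],
  [7, 3, 2, 7, 2, 3, 7, 3, 7, 2, 3],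
  [1, 6, 8, 8],
  [8, 3, 2, 8, 2, 3, 8, 3, 2, 8, 3],
  [3, 4, 3, 4, 3, 4, 3, 1, 6, 4],
  [4, 8, 4, 3, 4, 7, 4, 7, 3, 8],
  [1, 2, 1, 2, 1, 2],
  [3, 7, 2, 3, 7, 3, 2, 7, 2, 3, 7],
  [4, 3, 4, 3, 4, 3, 1, 6, 4, 3],
  [5, 4, 7, 4, 7, 5, 4, 7, 4, 5, 7],
  [3, 2, 8, 3, 8, 3, 2, 8, 2, 3, 8],
  [4, 7, 4, 5, 7, 5, 4, 7, 4, 7, 5],
  [8, 5, 4, 8, 4, 5, 8, 4, 8, 4, 5],
  [8, 3, 2, 8, 3, 8, 3, 2, 8, 2, 3],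
  [7, 3, 7, 2, 3, 7, 3, 2, 7, 2, 3],
  [8, 2, 3, 8, 3, 2, 8, 3, 8, 3, 2],
  [3, 2, 8, 2, 3, 8, 3, 2, 8, 3, 8],
  [6, 1, 7, 7],
  [4, 5, 8, 5, 4, 8, 4, 5, 8, 4, 8],
  [8, 4, 8, 4, 3, 4, 7, 4, 7, 3],
  [8, 4, 8, 4, 5, 8, 5, 4, 8, 4, 5],
  [8, 4, 5, 8, 4, 8, 4, 5, 8, 5, 4],
  [2, 3, 7, 3, 7, 2, 3, 7, 3, 2, 7],
  [3, 7, 3, 7, 4, 8, 3, 8, 3, 4],
  [3, 7, 3, 2, 7, 2, 3, 7, 3, 7, 2],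
  [6, 4, 3, 4, 3, 4, 3, 4, 3, 1],
  [8, 3, 8, 3, 4, 3, 7, 3, 7, 4],
  [4, 8, 4, 5, 8, 5, 4, 8, 4, 5, 8],
  [4, 1, 4, 1],
  [4, 7, 2, 3, 4, 7, 2, 3, 4, 7, 2, 3, 4, 7, 2, 3, 4, 7, 2, 3],
  [3, 4, 7, 2, 3, 4, 7, 2, 3, 4, 7, 2, 3, 4, 7, 2, 3, 4, 7, 2],
  [4, 5, 7, 5, 4, 7, 4, 7, 5, 4, 7],
  [2, 7, 2, 3, 7, 3, 7, 2, 3, 7, 3],
  [4, 3, 7, 3, 7, 4, 8, 3, 8, 3],
  [7, 4, 8, 3, 8, 3, 4, 3, 7, 3],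
  [3, 2, 8, 4, 3, 2, 8, 4, 3, 2, 8, 4, 3, 2, 8, 4, 3, 2, 8, 4],
  [3, 2, 7, 2, 3, 7, 3, 7, 2, 3, 7],
  [3, 4, 3, 4, 3, 1, 6, 4, 3, 4],
  [4, 3, 2, 8, 4, 3, 2, 8, 4, 3, 2, 8, 4, 3, 2, 8, 4, 3, 2, 8],
  [3, 7, 3, 7, 2, 3, 7, 3, 2, 7, 2],
  [2, 8, 3, 8, 3, 2, 8, 2, 3, 8, 3],
  [2, 8, 4, 3, 2, 8, 4, 3, 2, 8, 4, 3, 2, 8, 4, 3, 2, 8, 4, 3],
  [7, 5, 4, 7, 4, 5, 7, 5, 4, 7, 4],
  [5, 8, 5, 4, 8, 4, 5, 8, 4, 8, 4],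
  [4, 8, 4, 5, 8, 4, 8, 4, 5, 8, 5],
  [5, 8, 4, 8, 4, 5, 8, 5, 4, 8, 4],
  [4, 7, 4, 7, 5, 4, 7, 4, 5, 7, 5],
  [2, 8, 2, 3, 8, 3, 2, 8, 3, 8, 3],
  [3, 8, 3, 2, 8, 3, 8, 3, 2, 8, 2],
  [8, 3, 8, 3, 2, 8, 2, 3, 8, 3, 2],
  [7, 2, 3, 7, 3, 2, 7, 2, 3, 7, 3],
  [7, 3, 8, 4, 8, 4, 3, 4, 7, 4],
  [5, 4, 7, 4, 5, 7, 5, 4, 7, 4, 7],
  [4, 6, 1, 3, 4, 3, 4, 3, 4, 3],
  [4, 3, 1, 6, 4, 3, 4, 3, 4, 3],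
  [6, 1, 3, 4, 3, 4, 3, 4, 3, 4],
  [4, 3, 4, 3, 1, 6, 4, 3, 4, 3],
  [7, 2, 3, 4, 7, 2, 3, 4, 7, 2, 3, 4, 7, 2, 3, 4, 7, 2, 3, 4],
  [3, 4, 3, 4, 3, 4, 3, 4, 6, 1],
  [2, 3, 4, 7, 2, 3, 4, 7, 2, 3, 4, 7, 2, 3, 4, 7, 2, 3, 4, 7],
  [4, 3, 4, 3, 4, 3, 4, 3, 4, 3, 4, 3, 4, 3, 4, 3],
  [3, 1, 6, 4, 3, 4, 3, 4, 3, 4],
  [8, 4, 3, 2, 8, 4, 3, 2, 8, 4, 3, 2, 8, 4, 3, 2, 8, 4, 3, 2],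
  [4, 3, 4, 3, 4, 3, 4, 3, 1, 6],
  [1, 3, 4, 3, 4, 3, 4, 3, 4, 6],
  [1, 6, 4, 3, 4, 3, 4, 3, 4, 3],
  [3, 4, 3, 1, 6, 4, 3, 4, 3, 4],
  [4, 3, 4, 3, 4, 3, 4, 6, 1, 3],
  [4, 3, 4, 3, 4, 6, 1, 3, 4, 3],
  [3, 4, 3, 4, 3, 4, 6, 1, 3, 4],
  [3, 4, 6, 1, 3, 4, 3, 4, 3, 4],
  [4, 3, 4, 6, 1, 3, 4, 3, 4, 3],
  [3, 4, 3, 4, 6, 1, 3, 4, 3, 4],
  [3, 4, 3, 4, 3, 4, 3, 4, 3, 4, 3, 4, 3, 4, 3, 4]]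
def Wn : List (List ℕ) := [[1, 9],
  [2, 11],
  [3, 13],
  [4, 15],
  [5, 17],
  [6, 19],
  [6, 8, 8, 1],
  [6, 2, 6, 2],
  [1, 3, 1, 3],
  [6, 3, 6, 3],
  [1, 4, 1, 4],
  [6, 4, 6, 4],
  [1, 5, 1, 5],
  [7, 6, 1, 7],
  [6, 1, 6, 1],
  [7, 7, 6, 1],
  [2, 1, 2, 1, 2, 1],
  [8, 1, 6, 8],
  [1, 6, 1, 6],
  [8, 8, 1, 6],
  [5, 6, 5, 6, 5, 6],
  [4, 2, 4, 2],
  [3, 7, 3, 2, 7, 2, 3, 7, 3, 7, 2],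
  [8, 3, 8, 3, 4, 3, 7, 3, 7, 4],
  [4, 4],
  [4, 1, 4, 1],
  [4, 3, 7, 3, 7, 4, 8, 3, 8, 3],
  [2, 8, 2, 3, 8, 3, 2, 8, 3, 8, 3],
  [3, 4, 7, 4, 7, 3, 8, 4, 8, 4],
  [5, 8, 5, 4, 8, 4, 5, 8, 4, 8, 4],
  [3, 5, 3, 5],
  [4, 5, 8, 4, 8, 4, 5, 8, 5, 4, 8],
  [3, 8, 4, 8, 4, 3, 4, 7, 4, 7],
  [3, 1, 3, 1],
  [3, 6, 3, 6],
  [2, 4, 2, 4],
  [2, 5, 2, 5],
  [3, 2, 3, 2, 3, 2],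
  [8, 3, 2, 8, 2, 3, 8, 3, 2, 8, 3],
  [4, 6, 4, 6],
  [8, 4, 5, 8, 5, 4, 8, 4, 5, 8, 4],
  [3, 2, 8, 2, 3, 8, 3, 2, 8, 3, 8],
  [2, 2],
  [3, 3],
  [7, 2, 3, 7, 3, 7, 2, 3, 7, 3, 2],
  [2, 6, 2, 6],
  [3, 7, 3, 7, 2, 3, 7, 3, 2, 7, 2],
  [8, 3, 2, 8, 3, 8, 3, 2, 8, 2, 3],
  [1, 2, 1, 2, 1, 2],
  [6, 6],
  [8, 7],
  [7, 8],
  [1, 1],
  [5, 5],
  [5, 4, 5, 4, 5, 4],
  [7, 5, 4, 7, 4, 7, 5, 4, 7, 4, 5],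
  [5, 1, 5, 1],
  [3, 7, 3, 7, 4, 8, 3, 8, 3, 4],
  [8, 5, 4, 8, 4, 5, 8, 4, 8, 4, 5],
  [6, 5, 6, 5, 6, 5],
  [5, 2, 5, 2],
  [4, 3, 1, 6, 4, 3, 4, 3, 4, 3],
  [4, 5, 7, 5, 4, 7, 4, 7, 5, 4, 7],
  [4, 8, 4, 5, 8, 4, 8, 4, 5, 8, 5],
  [5, 7, 5, 4, 7, 4, 7, 5, 4, 7, 4],
  [7, 4, 5, 7, 5, 4, 7, 4, 7, 5, 4],
  [8, 4, 5, 8, 4, 8, 4, 5, 8, 5, 4],
  [5, 3, 5, 3],
  [2, 7, 2, 3, 7, 3, 7, 2, 3, 7, 3],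
  [3, 8, 3, 2, 8, 3, 8, 3, 2, 8, 2],
  [2, 3, 7, 3, 7, 2, 3, 7, 3, 2, 7],
  [4, 7, 4, 7, 5, 4, 7, 4, 5, 7, 5],
  [5, 4, 7, 4, 7, 5, 4, 7, 4, 5, 7],
  [7, 3, 2, 7, 2, 3, 7, 3, 7, 2, 3],
  [7, 2, 3, 7, 3, 2, 7, 2, 3, 7, 3],
  [2, 8, 3, 8, 3, 2, 8, 2, 3, 8, 3],
  [5, 4, 7, 4, 5, 7, 5, 4, 7, 4, 7],
  [2, 3, 7, 3, 2, 7, 2, 3, 7, 3, 7],
  [4, 7, 2, 3, 4, 7, 2, 3, 4, 7, 2, 3, 4, 7, 2, 3, 4, 7, 2, 3],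
  [2, 3, 8, 3, 2, 8, 3, 8, 3, 2, 8],
  [3, 8, 3, 2, 8, 2, 3, 8, 3, 2, 8],
  [5, 4, 8, 4, 5, 8, 4, 8, 4, 5, 8],
  [4, 8, 4, 5, 8, 5, 4, 8, 4, 5, 8],
  [4, 5, 4, 5, 4, 5],
  [4, 7, 4, 5, 7, 5, 4, 7, 4, 7, 5],
  [4, 3, 4, 3, 4, 3, 1, 6, 4, 3],
  [4, 7, 3, 8, 4, 8, 4, 3, 4, 7],
  [4, 3, 4, 7, 4, 7, 3, 8, 4, 8],
  [8, 4, 3, 4, 7, 4, 7, 3, 8, 4],
  [7, 4, 7, 3, 8, 4, 8, 4, 3, 4],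
  [1, 7, 7, 6],
  [7, 5, 4, 7, 4, 5, 7, 5, 4, 7, 4],
  [3, 2, 8, 4, 3, 2, 8, 4, 3, 2, 8, 4, 3, 2, 8, 4, 3, 2, 8, 4],
  [6, 1, 7, 7],
  [4, 8, 4, 3, 4, 7, 4, 7, 3, 8],
  [3, 7, 4, 8, 3, 8, 3, 4, 3, 7],
  [1, 6, 8, 8],
  [3, 4, 3, 7, 3, 7, 4, 8, 3, 8],
  [3, 2, 7, 2, 3, 7, 3, 7, 2, 3, 7],
  [8, 4, 8, 4, 3, 4, 7, 4, 7, 3],
  [4, 7, 4, 7, 3, 8, 4, 8, 4, 3],
  [7, 4, 8, 3, 8, 3, 4, 3, 7, 3],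
  [8, 3, 8, 3, 2, 8, 2, 3, 8, 3, 2],
  [4, 8, 3, 8, 3, 4, 3, 7, 3, 7],
  [3, 2, 8, 3, 8, 3, 2, 8, 2, 3, 8],
  [8, 2, 3, 8, 3, 2, 8, 3, 8, 3, 2],
  [7, 3, 7, 2, 3, 7, 3, 2, 7, 2, 3],
  [7, 3, 7, 4, 8, 3, 8, 3, 4, 3],
  [8, 4, 8, 4, 5, 8, 5, 4, 8, 4, 5],
  [8, 3, 4, 3, 7, 3, 7, 4, 8, 3],
  [7, 4, 7, 5, 4, 7, 4, 5, 7, 5, 4],
  [3, 8, 3, 4, 3, 7, 3, 7, 4, 8],
  [7, 3, 8, 4, 8, 4, 3, 4, 7, 4],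
  [3, 4, 3, 4, 3, 4, 3, 1, 6, 4],
  [2, 3, 2, 3, 2, 3],
  [3, 7, 2, 3, 7, 3, 2, 7, 2, 3, 7],
  [4, 7, 5, 4, 7, 4, 5, 7, 5, 4, 7],
  [4, 5, 8, 5, 4, 8, 4, 5, 8, 4, 8],
  [3, 4, 3, 1, 6, 4, 3, 4, 3, 4],
  [3, 4, 3, 4, 6, 1, 3, 4, 3, 4],
  [3, 4, 3, 4, 3, 1, 6, 4, 3, 4],
  [6, 1, 3, 4, 3, 4, 3, 4, 3, 4],
  [5, 8, 4, 8, 4, 5, 8, 5, 4, 8, 4],
  [2, 3, 4, 7, 2, 3, 4, 7, 2, 3, 4, 7, 2, 3, 4, 7, 2, 3, 4, 7],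
  [4, 3, 4, 3, 4, 3, 4, 3, 1, 6],
  [7, 2, 3, 4, 7, 2, 3, 4, 7, 2, 3, 4, 7, 2, 3, 4, 7, 2, 3, 4],
  [6, 4, 3, 4, 3, 4, 3, 4, 3, 1],
  [4, 3, 2, 8, 4, 3, 2, 8, 4, 3, 2, 8, 4, 3, 2, 8, 4, 3, 2, 8],
  [2, 8, 4, 3, 2, 8, 4, 3, 2, 8, 4, 3, 2, 8, 4, 3, 2, 8, 4, 3],
  [3, 4, 3, 4, 3, 4, 3, 4, 6, 1],
  [4, 6, 1, 3, 4, 3, 4, 3, 4, 3],
  [8, 4, 3, 2, 8, 4, 3, 2, 8, 4, 3, 2, 8, 4, 3, 2, 8, 4, 3, 2],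
  [3, 1, 6, 4, 3, 4, 3, 4, 3, 4],
  [1, 6, 4, 3, 4, 3, 4, 3, 4, 3],
  [4, 3, 4, 3, 1, 6, 4, 3, 4, 3],
  [3, 4, 6, 1, 3, 4, 3, 4, 3, 4],
  [3, 4, 7, 2, 3, 4, 7, 2, 3, 4, 7, 2, 3, 4, 7, 2, 3, 4, 7, 2],
  [4, 3, 4, 3, 4, 3, 4, 6, 1, 3],
  [4, 3, 4, 3, 4, 3, 4, 3, 4, 3, 4, 3, 4, 3, 4, 3],
  [1, 3, 4, 3, 4, 3, 4, 3, 4, 6],
  [3, 4, 3, 4, 3, 4, 3, 4, 3, 4, 3, 4, 3, 4, 3, 4],
  [4, 3, 4, 6, 1, 3, 4, 3, 4, 3],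
  [3, 4, 3, 4, 3, 4, 6, 1, 3, 4],
  [4, 3, 4, 3, 4, 6, 1, 3, 4, 3]]
def cr : List (ℕ × ℕ × ℕ) := [(0, 0, 0), (0, 0, 0), (0, 0, 0), (0, 0, 0), (0, 0, 0), (0, 0, 0), (2, 22, 1), (0, 0, 0), (1, 24, 5), (0, 0, 0), (1, 13, 0), (1, 14, 0), (1, 17, 0), (1, 25, 0), (1, 24, 0), (1, 8, 0), (1, 9, 0), (1, 10, 0), (1, 12, 1), (1, 15, 0), (1, 22, 3), (1, 18, 1), (1, 15, 1), (2, 27, 5), (2, 27, 0), (1, 24, 8), (1, 18, 0), (2, 28, 5), (1, 19, 1), (2, 28, 1), (1, 22, 1), (1, 11, 0), (1, 28, 5), (1, 20, 0), (1, 28, 10), (1, 20, 1), (1, 22, 2), (1, 21, 0), (1, 8, 1), (1, 14, 1), (1, 24, 7), (1, 12, 0), (1, 25, 8), (1, 24, 6), (1, 25, 3), (2, 22, 3), (1, 27, 6), (1, 27, 1), (1, 13, 1), (1, 25, 2), (1, 24, 4), (2, 28, 8), (1, 24, 3), (1, 28, 3), (1, 17, 1), (2,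 22, 0), (1, 25, 4), (1, 19, 0), (1, 21, 1), (1, 25, 7), (1, 28, 6), (1, 7, 1), (1, 11, 1), (1, 10, 1), (1, 28, 9), (1, 27, 3), (1, 22, 0), (2, 27, 1), (1, 23, 3), (1, 24, 2), (1, 7, 0), (1, 27, 10), (1, 23, 4), (1, 28, 7), (2, 27, 8), (1, 28, 2), (2, 28, 4), (2, 27, 7), (1, 27, 9), (2, 27, 4), (2, 27, 2), (2, 22, 2), (2, 28, 2), (1, 24, 1), (2, 28, 10), (2, 28, 7), (1, 27, 7), (1, 25, 6), (1, 27, 2), (1, 23, 1), (1, 25, 1), (2, 28, 0), (1, 9, 1), (1, 26, 2), (1, 26, 1), (1, 28, 4), (1, 27, 5), (1, 25, 5), (1, 25, 9), (2, 26, 2), (1, 27, 4), (1, 23, 5), (2, 26, 1), (1, 27, 8), (2, 27, 9), (2, 26, 3), (1, 28, 0), (2, 28, 3), (2, 28, 6), (2, 28, 9), (1, 28, 8), (2, 27, 3), (2, 27, 6), (2, 27, 10), (1, 27, 0), (1, 24, 9), (1, 28, 1), (2, 23, 7),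 (1, 23, 8), (2, 23, 8), (1, 23, 6), (1, 26, 3), (2, 23, 0), (1, 26, 0), (1, 16, 1), (1, 23, 9), (2, 26, 0), (1, 23, 2), (2, 23, 9), (1, 23, 0), (1, 23, 7), (2, 23, 1), (2, 23, 3), (2, 23, 2), (2, 23, 6), (2, 23, 5), (2, 23, 4), (1, 16, 0)]
def cn : List (ℕ × ℕ × ℕ) := [(1, 29, 0), (1, 30, 0), (1, 31, 0), (1, 32, 0), (1, 33, 0), (1, 34, 0), (1, 22, 1), (1, 15, 1), (1, 8, 0), (1, 18, 1), (1, 9, 0), (1, 20, 1), (1, 10, 0), (2, 22, 1), (1, 11, 1), (2, 22, 0), (1, 7, 1), (1, 22, 3), (1, 11, 0), (1, 22, 2), (1, 21, 0), (1, 13, 1), (1, 27, 2), (1, 25, 1), (0, 0, 0), (1, 9, 1), (1, 25, 5), (2, 27, 3), (1, 24, 5), (2, 28, 3), (1, 17, 0), (2, 28, 8), (1, 24, 0), (1, 8, 1), (1, 18, 0), (1, 13, 0), (1, 14, 0), (1, 12, 1), (2, 27, 1), (1, 20, 0), (2, 28,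 1), (2, 27, 2), (0, 0, 0), (0, 0, 0), (1, 27, 6), (1, 15, 0), (1, 27, 8), (2, 27, 7), (1, 7, 0), (0, 0, 0), (0, 0, 0), (0, 0, 0), (0, 0, 0), (0, 0, 0), (1, 19, 1), (1, 28, 6), (1, 10, 1), (1, 25, 6), (2, 28, 4), (1, 21, 1), (1, 14, 1), (1, 23, 8), (1, 28, 4), (2, 28, 6), (1, 28, 5), (1, 28, 3), (2, 28, 7), (1, 17, 1), (1, 27, 5), (2, 27, 6), (1, 27, 7), (1, 28, 8), (1, 28, 7), (1, 27, 3), (1, 27, 0), (2, 27, 9), (1, 28, 1), (1, 27, 1), (1, 26, 2), (2, 27, 5), (2, 27, 0), (2, 28, 5), (2, 28, 0), (1, 19, 0), (1, 28, 2), (1, 23, 4), (1, 24, 8), (1, 24, 4), (1, 24, 3), (1, 24, 7), (2, 22, 3), (1, 28, 0), (2, 26, 2), (2, 22, 2), (1, 24, 2), (1, 25, 8), (1, 22, 0), (1, 25, 4), (1, 27, 4), (1, 24, 1), (1, 24, 6), (1, 25, 9), (2, 27, 10), (1, 25,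 0), (2, 27, 8), (2, 27, 4), (1, 27, 9), (1, 25, 7), (2, 28, 10), (1, 25, 3), (1, 28, 9), (1, 25, 2), (1, 24, 9), (1, 23, 3), (1, 12, 0), (1, 27, 10), (1, 28, 10), (2, 28, 2), (1, 23, 7), (2, 23, 4), (1, 23, 5), (2, 23, 8), (2, 28, 9), (1, 26, 0), (1, 23, 2), (1, 26, 3), (1, 23, 1), (2, 26, 1), (2, 26, 3), (2, 23, 0), (2, 23, 7), (2, 26, 0), (1, 23, 9), (1, 23, 0), (1, 23, 6), (2, 23, 6), (1, 26, 1), (2, 23, 1), (1, 16, 1), (2, 23, 9), (1, 16, 0), (2, 23, 5), (2, 23, 2), (2, 23, 3)]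
noncomputable def rT : Tr := (.node (.node (.node (.node (.node (.node (.node rT0
 rT1)
 (.node rT2
 rT3))
 (.node (.node rT4
 rT5)
 (.node rT6
 rT7)))
 (.node (.node (.node rT8
 rT9)
 (.node rT10
 rT11))
 (.node (.node rT12
 rT13)
 (.node rT14
 rT15))))
 (.node (.node (.node (.node rT16
 rT17)
 (.node rT18
 rT19))
 (.node (.node rT20
 rT21)
 (.node rT22
 rT23)))
 (.node (.node (.node rT24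
 rT25)
 (.node rT26
 rT27))
 (.node (.node rT28
 rT29)
 (.node rT30
 rT31)))))
 (.node (.node (.node (.node (.node rT32
 rT33)
 (.node rT34
 rT35))
 (.node (.node rT36
 rT37)
 (.node rT38
 rT39)))
 (.node (.node (.node rT40
 rT41)
 (.node rT42
 rT43))
 (.node (.node rT44
 rT45)
 (.node rT46
 rT47))))
 (.node (.node (.node (.node rT48
 rT49)
 (.node rT50
 rT51))
 (.node (.node rT52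
 rT53)
 (.node rT54
 rT55)))
 (.node (.node (.node rT56
 rT57)
 (.node rT58
 rT59))
 (.node (.node rT60
 rT61)
 (.node rT62
 rT63))))))
 (.node (.node (.node (.node (.node (.node rT64
 rT65)
 (.node rT66
 rT67))
 (.node (.node rT68
 rT69)
 (.node rT70
 rT71)))
 (.node (.node (.node rT72
 rT73)
 (.node rT74
 rT75))
 (.node (.node rT76
 rT77)
 (.node rT78
 rT79))))
 (.node (.node (.node (.node rT80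
 rT81)
 (.node rT82
 rT83))
 (.node (.node rT84
 rT85)
 (.node rT86
 rT87)))
 (.node (.node (.node rT88
 rT89)
 (.node rT90
 rT91))
 (.node (.node rT92
 rT93)
 (.node rT94
 rT95)))))
 (.node (.node (.node (.node (.node rT96
 rT97)
 (.node rT98
 rT99))
 (.node (.node rT100
 rT101)
 (.node rT102
 rT103)))
 (.node (.node (.node rT104
 rT105)
 (.node rT106
 rT107))
 (.node (.node rT108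
 rT109)
 (.node rT110
 rT111))))
 (.node (.node (.node (.node rT112
 rT113)
 (.node rT114
 rT115))
 (.node (.node rT116
 rT117)
 (.node rT118
 rT119)))
 (.leaf (nat_lit 0))))))
noncomputable def gT : Tr := (.node (.node (.node (.node (.node (.node (.node gT0
 gT1)
 (.node gT2
 gT3))
 (.node (.node gT4
 gT5)
 (.node gT6
 gT7)))
 (.node (.node (.node gT8
 gT9)
 (.node gT10
 gT11))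
 (.node (.node gT12
 gT13)
 (.node gT14
 gT15))))
 (.node (.node (.node (.node gT16
 gT17)
 (.node gT18
 gT19))
 (.node (.node gT20
 gT21)
 (.node gT22
 gT23)))
 (.node (.node (.node gT24
 gT25)
 (.node gT26
 gT27))
 (.node (.node gT28
 gT29)
 (.node gT30
 gT31)))))
 (.node (.node (.node (.node (.node gT32
 gT33)
 (.node gT34
 gT35))
 (.node (.node gT36
 gT37)
 (.node gT38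
 gT39)))
 (.node (.node (.node gT40
 gT41)
 (.node gT42
 gT43))
 (.node (.node gT44
 gT45)
 (.node gT46
 gT47))))
 (.node (.node (.node (.node gT48
 gT49)
 (.node gT50
 gT51))
 (.node (.node gT52
 gT53)
 (.node gT54
 gT55)))
 (.node (.node (.node gT56
 gT57)
 (.node gT58
 gT59))
 (.node (.node gT60
 gT61)
 (.node gT62
 gT63))))))
 (.node (.node (.node (.node (.node (.node gT64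
 gT65)
 (.node gT66
 gT67))
 (.node (.node gT68
 gT69)
 (.node gT70
 gT71)))
 (.node (.node (.node gT72
 gT73)
 (.node gT74
 gT75))
 (.node (.node gT76
 (.leaf (nat_lit 0)))
 (.leaf (nat_lit 0)))))
 (.leaf (nat_lit 0)))
 (.leaf (nat_lit 0))))
noncomputable def rC (i : ℕ) : ℕ := rT.get (nat_lit 4096) i
noncomputable def gC (i : ℕ) : ℕ := gT.get (nat_lit 4096) i
noncomputable def row (p : ℕ) : ℕ := rec2 rC (nat_lit 4) (nat_lit 15) (nat_lit 252) (nat_lit 0xfffffffffffffffffffffffffffffffffffffffffffffffffffffffffffffff) p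
noncomputable def gf (p : ℕ) : ℕ := rec2 gC (nat_lit 6) (nat_lit 63) (nat_lit 51) (nat_lit 0x7ffffffffffff) p
noncomputable def gw (c : ℕ) : List ℕ := nth [] Wr c
noncomputable def wn (c : ℕ) : ℕ := pack (nat_lit 5) (nth [] Wn c) (nat_lit 0)
noncomputable def C : Cert :=
  { n := (nat_lit 122760), na := (nat_lit 68669), M := (nat_lit 312049), nc := (nat_lit 8), W := (nat_lit 18), EB := (nat_lit 28),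
    LB := (nat_lit 5), nreg := (nat_lit 138), ivT := (nat_lit 0x13a464f835cb62547418a418820), base := (nat_lit 698880),
    row := row, gf := gf, gw := gw, wn := wn }
theorem masks : Masks C (nat_lit 262143) (nat_lit 0xfffffff) (nat_lit 31) (nat_lit 41) (nat_lit 0x1ffffffffff) :=
  ⟨by decide +kernel, by decide +kernel, by decide +kernel, by decide +kernel, by decide +kernel⟩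
noncomputable def rchk : ℕ → ℕ → ℕ → Bool :=
  rowChk row gf gw (nat_lit 122760) (nat_lit 312049) (nat_lit 8) (nat_lit 18) (nat_lit 262143) (nat_lit 28) (nat_lit 0xfffffff) (nat_lit 5) (nat_lit 31) (nat_lit 41) (nat_lit 0x1ffffffffff) (nat_lit 138) (nat_lit 0x13a464f835cb62547418a418820) (nat_lit 19) (nat_lit 524287) (nat_lit 9) (nat_lit 511)
noncomputable def fchk : ℕ → ℕ → ℕ → Bool :=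
  auxRun row gf wn (nat_lit 122760) (nat_lit 68669) (nat_lit 312049) (nat_lit 8) (nat_lit 18) (nat_lit 262143) (nat_lit 28) (nat_lit 0xfffffff) (nat_lit 5) (nat_lit 31) (nat_lit 41) (nat_lit 0x13a464f835cb62547418a418820) (nat_lit 698880) (nat_lit 20) (nat_lit 0xfffff)
theorem rows_of {lo hi : ℕ} {t : JL} (h : t.run rchk (nat_lit 72) hi lo = true) : C.RowsOK lo hi :=
  rowsOK_of_run masks h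
theorem facts_of {lo hi : ℕ} {t : JL} (h : t.run fchk (nat_lit 20) hi lo = true) : C.FactsOK lo hi :=
  factsOK_of_run masks h
theorem words_ok : wordsChk 122760 8 18 5 138 24899403105646480400628997785632 698880 R S Wr Wn cr cn = true := by
  decide +kernel

end Cfsg.Agent.H44.EONA

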