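import Cfsg.Agent.H78.G40B
import Cfsg.Agent.H90.Basic

/-! Project L40G (S3140), piece `Cv2bS`: the odd core of `C(V)` in the symplectic case. -/

set_option autoImplicit false

namespace Cfsg.Agent.H44.G40Cv2b

open Subgroup Cfsg.Agent.H78.G40 Cfsg.Agent.H46.L40 Cfsg.Agent.H83

universe u

theorem perm4 : ∀ (σ τ : Equiv.Perm (Fin 4)) (a : Fin 4), σ a = a → τ a = a → (∀ b, τ b = b → b = a) →
    τ ^ 3 = 1 → Equiv.Perm.sign σ = 1 → ∃ j : Fin 3, τ ^ (j : ℕ) = σ := by decide +kernel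

theorem act4 {N : Type u} [Group N] [Finite N] (V Q : Subgroup N) [V.Normal] [Q.Normal]
    (h4 : V.relIndex Q = 4) (κ n : N) (hκ : κ ^ 3 = 1)
    (hf : ∀ y ∈ Q, κ * y * κ⁻¹ * y⁻¹ ∈ V → y ∈ V) (hn : Odd (orderOf n)) :
    ∃ j : ℕ, ∀ y ∈ Q, (κ ^ j)⁻¹ * n * y * ((κ ^ j)⁻¹ * n)⁻¹ * y⁻¹ ∈ V := by
  have : (Q.map (QuotientGroup.mk' V)).Normal := Normal.map inferInstance _ (QuotientGroup.mk'_surjective V)
  have hc : Nat.card (Q.map (QuotientGroup.mk' V)) = 4 := by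
    rw [← relIndex_ker, QuotientGroup.ker_mk', h4]
  let e := Finite.equivFinOfCardEq hc
  let ρ0 : N →* Equiv.Perm (Q.map (QuotientGroup.mk' V)) :=
    (MulAut.toPerm _).comp (MulAut.conjNormal.comp (QuotientGroup.mk' V))
  let ρ : N →* Equiv.Perm (Fin 4) := e.permCongrHom.toMonoidHom.comp ρ0
  have key : ∀ (g y : N) (hy : y ∈ Q), ρ g (e ⟨_, mem_map_of_mem _ hy⟩) = e ⟨_, mem_map_of_mem _ hy⟩ ↔
      g * y * g⁻¹ * y⁻¹ ∈ V := fun g y hy => by
    have : ρ g (e ⟨_, mem_map_of_mem _ hy⟩) = e (ρ0 g ⟨_, mem_map_of_mem _ hy⟩) := by simp [ρ]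
    rw [this, e.injective.eq_iff, Subtype.ext_iff, ← QuotientGroup.eq_one_iff]
    exact mul_inv_eq_one.symm
  obtain ⟨j, hj⟩ := perm4 (ρ n) (ρ κ) _ ((key n 1 (one_mem _)).2 (by simp))
    ((key κ 1 (one_mem _)).2 (by simp)) (fun b hb => by
      obtain ⟨⟨_, y, hy, rfl⟩, rfl⟩ := e.surjective b
      exact congrArg e (Subtype.ext (((QuotientGroup.eq_one_iff _).2
        (hf y hy ((key κ y hy).1 hb))).trans (map_one _).symm)))
    (by rw [← map_pow, hκ, map_one]) (by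
      have h := congrArg (fun g => Equiv.Perm.sign (ρ g)) (pow_orderOf_eq_one n)
      simp only [map_pow, map_one] at h
      rcases Int.units_eq_one_or (Equiv.Perm.sign (ρ n)) with h' | h'
      · exact h'
      · rw [h', hn.neg_one_pow] at h
        exact absurd h (by decide))
  exact ⟨j, fun y hy => (key _ y hy).1 (by rw [map_mul, map_inv, map_pow, hj, inv_mul_cancel]; rfl)⟩

theorem odd_mul {C : Type u} [Group C] [Finite C] (h : Odd (center C).index) {x y : C}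
    (hx : Odd (orderOf x)) (hy : Odd (orderOf y)) : Odd (orderOf (x * y)) := by
  have h1 : MonoidHom.transferCenterPow C (x * y) ^ (orderOf x * orderOf y) = 1 := by
    rw [map_mul, Commute.mul_pow (Subtype.ext (mem_center_iff.1 (Subtype.prop _) _)), ← map_pow, ← map_pow, pow_mul, pow_orderOf_eq_one, one_pow, mul_comm,
      pow_mul, pow_orderOf_eq_one, one_pow, map_one, mul_one]
  have h2 : (x * y) ^ ((center C).index * (orderOf x * orderOf y)) = 1 := by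
    rw [pow_mul]; exact congrArg Subtype.val h1
  exact (h.mul (hx.mul hy)).of_dvd_nat (orderOf_dvd_of_pow_eq_one h2)

theorem tab4 {G : Type u} [Group G] {z a : G} (hz : z * z = 1) (ha : a * a = 1) (h : a * z = z * a) :
    ∀ x ∈ [1, z, a, z * a], x * x = 1 ∧ x⁻¹ ∈ [1, z, a, z * a] ∧
      ∀ y ∈ [1, z, a, z * a], x * y ∈ [1, z, a, z * a] := by
  have h1 : ∀ x, z * (z * x) = x := fun x => by rw [← mul_assoc, hz, one_mul]
  have h2 : ∀ x, a * (z * x) = z * (a * x) := fun x => by rw [← mul_assoc, h, mul_assoc]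
  simp [mul_assoc, h1, h2, hz, ha, h, inv_eq_of_mul_eq_one_right hz, inv_eq_of_mul_eq_one_right ha]

theorem tabV (x : S3) (hx : x ∈ [1, z0, a0, z0 * a0]) : x * x = 1 ∧ x⁻¹ ∈ [1, z0, a0, z0 * a0] ∧
    ∀ y ∈ [1, z0, a0, z0 * a0], x * y ∈ [1, z0, a0, z0 * a0] :=
  tab4 (by decide) (by decide) (by decide) x hx

theorem mem_V0 (m : S3) : m ∈ V0 ↔ m ∈ [1, z0, a0, z0 * a0] := by
  refine ⟨fun h => ?_, fun h => ?_⟩
  · induction h using closure_induction with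
    | mem x hx => rcases hx with rfl | rfl <;> simp
    | one => simp
    | mul x y _ _ hx hy => exact (tabV x hx).2.2 y hy
    | inv x _ hx => exact (tabV x hx).2.1
  · have h1 : z0 ∈ V0 := subset_closure (by simp)
    have h2 : a0 ∈ V0 := subset_closure (by simp)
    simp only [List.mem_cons, List.not_mem_nil, or_false] at h
    rcases h with rfl | rfl | rfl | rfl
    exacts [one_mem _, h1, h2, mul_mem h1 h2]

theorem card_V0 : Nat.card V0 = 4 :=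
  (Nat.subtype_card [1, z0, a0, z0 * a0].toFinset fun m => List.mem_toFinset.trans (mem_V0 m).symm).trans
    (List.toFinset_card_of_nodup (by decide +kernel))

theorem sq_V0 : ∀ m ∈ V0, m * m = 1 := fun m hm => (tabV m ((mem_V0 m).1 hm)).1

theorem core {G : Type u} [Group G] [Finite G] (N V A R : Subgroup G) (Q : Fin 3 → Subgroup G)
    (κ : Fin 3 → G) (hS : IsSylowIn 2 A N) (hNV : N ≤ centralizer V) (hV2 : ∀ v ∈ V, v * v = 1)
    (hA : A = ⨆ i, Q i) (h4 : ∀ i, V.relIndex (Q i) = 4)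
    (hNQ : ∀ i, N ≤ normalizer (Q i : Set G)) (hAR : A ≤ R) (hκ : ∀ i, κ i ∈ N ∧ κ i ∈ R ∧ κ i ^ 3 = 1)
    (hf : ∀ i, ∀ y ∈ Q i, κ i * y * (κ i)⁻¹ * y⁻¹ ∈ V → y ∈ V)
    (hc : ∀ i j, i ≠ j → ∀ y ∈ Q j, κ i * y = y * κ i) :
    ∃ I : Subgroup G, Odd (Nat.card I) ∧ (∀ x, x ∈ I ↔ x ∈ N ∧ Odd (orderOf x) ∧
      ∀ i, ∀ y ∈ Q i, x * y * x⁻¹ * y⁻¹ ∈ V) ∧ I ≤ centralizer A ∧ N ≤ R ⊔ I := by
  have hQA : ∀ i, Q i ≤ A := fun i => hA ▸ le_iSup Q i
  have hNA : N ≤ normalizer (A : Set G) := fun x hx => by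
    rw [hA]
    exact iInf_normalizer_le_normalizer_iSup Q (mem_iInf.2 fun i => hNQ i hx)
  have step : ∀ x ∈ N, ∀ y, x * y * x⁻¹ * y⁻¹ ∈ V → ∀ k : ℕ,
      x ^ k * y * (x ^ k)⁻¹ * y⁻¹ = (x * y * x⁻¹ * y⁻¹) ^ k := fun x hx y hv k => by
    induction k with
    | zero => simp
    | succ k ih =>
      calc x ^ (k + 1) * y * (x ^ (k + 1))⁻¹ * y⁻¹
          = x ^ k * (x * y * x⁻¹ * y⁻¹) * y * (x ^ k)⁻¹ * y⁻¹ := by group
        _ = _ := by rw [← hNV (pow_mem hx k) _ hv, pow_succ' (x * y * x⁻¹ * y⁻¹), ← ih]; group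
  have hodd : Odd (center (N ⊓ centralizer A : Subgroup G)).index := by
    obtain ⟨P⟩ : Nonempty (Sylow 2 (N ⊓ centralizer A : Subgroup G)) := inferInstance
    refine Nat.not_even_iff_odd.1 fun h => P.not_dvd_index
      ((even_iff_two_dvd.1 h).trans (index_dvd_of_le fun x hx => ?_))
    obtain ⟨k, hk⟩ := P.isPGroup' ⟨x, hx⟩
    have hxA : (x : G) ∈ A := hS.mem_of_norm x.2.1 (k := k)
      (congrArg (fun y : P => ((y : (N ⊓ centralizer A : Subgroup G)) : G)) hk) (hNA x.2.1)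
    exact mem_center_iff.2 fun g => Subtype.ext (g.2.2 x hxA).symm
  let I : Subgroup G :=
    { carrier := {x | x ∈ N ⊓ centralizer A ∧ Odd (orderOf x)}
      mul_mem' := fun {a b} ha hb => ⟨mul_mem ha.1 hb.1, by
        have := odd_mul hodd (x := ⟨a, ha.1⟩) (y := ⟨b, hb.1⟩) (by rw [orderOf_mk]; exact ha.2)
          (by rw [orderOf_mk]; exact hb.2)
        rwa [← orderOf_coe] at this⟩
      one_mem' := ⟨one_mem _, by simp⟩
      inv_mem' := fun ha => ⟨inv_mem ha.1, by rw [orderOf_inv]; exact ha.2⟩ }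
  have mI : ∀ x, x ∈ I ↔ x ∈ N ∧ Odd (orderOf x) ∧ ∀ i, ∀ y ∈ Q i, x * y * x⁻¹ * y⁻¹ ∈ V := fun x => by
    refine ⟨fun h => ⟨h.1.1, h.2, fun i y hy => ?_⟩, fun h => ⟨⟨h.1, ?_⟩, h.2.1⟩⟩
    · rw [← h.1.2 y (hQA i hy)]; simp
    · refine le_centralizer_iff.1 (show A ≤ centralizer (zpowers x) from ?_) (mem_zpowers x)
      rw [hA, zpowers_eq_closure, centralizer_closure]
      refine iSup_le fun i y hy => mem_centralizer_singleton_iff.2 ?_
      obtain ⟨m, hm⟩ := h.2.1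
      have e := step x h.1 y (h.2.2 i y hy) (orderOf x)
      rw [pow_orderOf_eq_one, hm, pow_succ, pow_mul, pow_two, hV2 _ (h.2.2 i y hy), one_pow] at e
      have : x * y * x⁻¹ * y⁻¹ = 1 := by simpa using e.symm
      exact (mul_inv_eq_iff_eq_mul.1 (mul_inv_eq_one.1 this)).symm
  refine ⟨I, Nat.not_even_iff_odd.1 fun h => ?_, mI, fun x hx => hx.1.2, ?_⟩
  · obtain ⟨x, hx⟩ := exists_prime_orderOf_dvd_card' 2 (even_iff_two_dvd.1 h)
    have := x.2.2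
    rw [orderOf_coe, hx] at this
    exact absurd this (by decide)
  have split : ∀ x ∈ N, ∃ b : ℕ, Odd (orderOf (x ^ b)) ∧ (x ^ b ∈ R ⊔ I → x ∈ R ⊔ I) := fun x hx => by
    obtain ⟨a, b, k, h1, h2, h3⟩ := H90.exists_pPart 2 x
    refine ⟨b, Nat.not_even_iff_odd.1 fun h => h3 (even_iff_two_dvd.1 h), fun h => ?_⟩
    rw [← h1]
    exact mul_mem (mem_sup_left (hAR (hS.mem_of_norm (pow_mem hx a) h2 (hNA (pow_mem hx a))))) h
  intro x0 hx0
  obtain ⟨b, ho, hb⟩ := split x0 hx0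
  refine hb ?_
  have hx := pow_mem hx0 b
  generalize x0 ^ b = x at ho hx
  have hj : ∀ i, ∃ j : ℕ, ∀ y ∈ Q i, (κ i ^ j)⁻¹ * x * y * ((κ i ^ j)⁻¹ * x)⁻¹ * y⁻¹ ∈ V := fun i => by
    have hQN : Q i ≤ N := (hQA i).trans hS.le
    have : (V.subgroupOf N).Normal := ⟨fun v hv g => by
      rw [mem_subgroupOf] at hv ⊢
      rwa [coe_mul, coe_mul, ← hNV g.2 _ hv, coe_inv, mul_inv_cancel_right]⟩
    have : ((Q i).subgroupOf N).Normal := (normal_subgroupOf_iff_le_normalizer hQN).2 (hNQ i)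
    obtain ⟨j, hj⟩ := act4 (V.subgroupOf N) ((Q i).subgroupOf N)
      (by rw [relIndex_subgroupOf hQN, h4]) ⟨κ i, (hκ i).1⟩ ⟨x, hx⟩ (Subtype.ext (hκ i).2.2)
      (fun y hy h => hf i y hy h) (by rwa [orderOf_mk])
    exact ⟨j, fun y hy => hj ⟨y, hQN hy⟩ hy⟩
  choose j hj using hj
  set g : Fin 3 → G := fun i => (κ i ^ j i)⁻¹ with hg
  have gN : ∀ i, g i ∈ N := fun i => inv_mem (pow_mem (hκ i).1 _)
  have gR : ∀ i, g i ∈ R := fun i => inv_mem (pow_mem (hκ i).2.1 _)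
  have gc : ∀ i k, i ≠ k → ∀ y ∈ Q k, g i * y * (g i)⁻¹ = y := fun i k h y hy =>
    mul_inv_eq_iff_eq_mul.2 ((Commute.pow_left (hc i k h y hy) _).inv_left)
  have nq : ∀ w ∈ N, ∀ i, ∀ y ∈ Q i, w * y * w⁻¹ ∈ Q i := fun w hw i y hy =>
    (mem_normalizer_iff.1 (hNQ i hw) y).1 hy
  have hw : ∀ i, ∀ y ∈ Q i, g 0 * g 1 * g 2 * x * y * (g 0 * g 1 * g 2 * x)⁻¹ * y⁻¹ ∈ V := by
    intro i y hy
    have e : g 0 * g 1 * g 2 * x * y * (g 0 * g 1 * g 2 * x)⁻¹ =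
        g 0 * (g 1 * (g 2 * (x * y * x⁻¹) * (g 2)⁻¹) * (g 1)⁻¹) * (g 0)⁻¹ := by group
    have e2 : g i * x * y * (g i * x)⁻¹ = g i * (x * y * x⁻¹) * (g i)⁻¹ := by group
    have h1 := nq x hx i y hy
    have h2 := nq _ (gN i) i _ h1
    have h3 := hj i y hy
    rw [e2] at h3
    rw [e]
    obtain rfl | rfl | rfl : i = 0 ∨ i = 1 ∨ i = 2 := by omega
    · rwa [gc 2 0 (by decide) _ h1, gc 1 0 (by decide) _ h1]
    · rwa [gc 2 1 (by decide) _ h1, gc 0 1 (by decide) _ h2]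
    · rwa [gc 1 2 (by decide) _ h2, gc 0 2 (by decide) _ h2]
  have hwN : g 0 * g 1 * g 2 * x ∈ N := mul_mem (mul_mem (mul_mem (gN 0) (gN 1)) (gN 2)) hx
  obtain ⟨c, hco, hcb⟩ := split _ hwN
  have := hcb (mem_sup_right ((mI _).2 ⟨pow_mem hwN c, hco, fun i y hy => by
    rw [step _ hwN y (hw i y hy)]; exact pow_mem (hw i y hy) c⟩))
  exact (mul_mem_cancel_left (mem_sup_left (mul_mem (mul_mem (gR 0) (gR 1)) (gR 2)))).1 this

theorem cv2b : Cv2bS.{u} := by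
  intro X _ e σ τ θ D fa fb G _ _ S ψ T hS hN
  have hV : S.V = (V0.map e).map ψ := by
    rw [map_map]; exact congrArg (V0.map ·) (MonoidHom.ext fun m => (T.he m).symm)
  have hR : ∀ x, ψ x ∈ S.R := fun x => T.rg ▸ ⟨x, rfl⟩
  have hVQ : ∀ i, S.V ≤ (Qs e D i).map ψ := fun i => hV ▸ map_mono le_sup_right
  obtain ⟨I, h1, h2, h3, h4⟩ := core (S.X ⊓ centralizer S.V) S.V _ S.R (fun i => (Qs e D i).map ψ)
    (fun i => ψ (D.κ i)) hS inf_le_right
    (by rintro _ ⟨m, hm, rfl⟩; rw [← map_mul, sq_V0 m hm, map_one])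
    (by
      rw [← Subgroup.map_iSup]
      congr 1
      refine le_antisymm ((closure_le _).2 ?_) (iSup_le fun i => sup_le (closure_mono ?_) fa.VA)
      · rintro _ (⟨i, rfl⟩ | ⟨i, rfl⟩) <;>
          exact mem_iSup_of_mem i (mem_sup_left (subset_closure (by simp)))
      · rintro _ (rfl | rfl) <;> simp)
    (fun i => by
      have e1 := card_mul_index (S.V.subgroupOf ((Qs e D i).map ψ))
      rw [Nat.card_congr (subgroupOfEquivOfLe (hVQ i)).toEquiv, card_map_of_injective S.inj, card_V0,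
        card_map_of_injective T.inj, fa.c16] at e1
      unfold relIndex
      omega)
    hN (by rintro _ ⟨x, -, rfl⟩; exact hR x)
    (fun i => ⟨⟨S.fn.le (hR _), by
      rw [hV]
      rintro _ ⟨v, hv, rfl⟩
      rw [← map_mul, ← map_mul, fb.κV i v hv]⟩, hR _, by rw [← map_pow, fb.κo, map_one]⟩)
    (by
      rintro i _ ⟨y, hy, rfl⟩ h
      rw [hV] at h ⊢
      rw [← map_inv, ← map_inv, ← map_mul, ← map_mul, ← map_mul, mem_map_iff_mem T.inj] at h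
      exact mem_map_of_mem _ (fb.κ3 i y hy h))
    (by
      rintro i j h _ ⟨y, hy, rfl⟩
      rw [← map_mul, ← map_mul, fb.κc i j h y hy])
  exact ⟨I, h1, h2, h3, h4⟩

end Cfsg.Agent.H44.G40Cv2b
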