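import Cfsg.Agent.H78.G40A
import Cfsg.Agent.H10.BB2

/-! Project L40G (S3140), piece `Odd4S`: odd order subgroups normalised by `t` and `a`. -/

set_option autoImplicit false

namespace Cfsg.Agent.H44.G40Odd4

open Subgroup Cfsg.Agent.H78.G40 Cfsg.Agent.H46.L40

universe u

theorem odd4 : Odd4S.{u} := by
  intro G _ _ S hV I hI hodd ht ha hz
  have haa : S.a * S.a = 1 := by rw [← map_mul, show a0 * a0 = 1 by decide, map_one]
  have ha2 : orderOf S.a = 2 := orderOf_eq_prime (by rw [pow_two, haa]) fun e =>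
    (by decide : a0 ≠ 1) (S.inj (e.trans (map_one _).symm))
  have hc : S.a * S.t = S.t * S.a := (S.tL a0).symm
  have haR : S.a ∈ S.R := subset_closure (Or.inl ⟨a0, rfl⟩)
  refine (H10.Bender.le_sup_cent_four hodd ha2 S.t2 (fun e => S.fn.tF (e ▸ S.LX a0)) hc ha ht).trans
    (sup_le (sup_le (fun x hx => hV ⟨hI hx.1, ?_⟩) fun x hx => ?_) fun x hx => ?_)
  · rw [Dat.V, V0, MonoidHom.map_closure, centralizer_closure]
    rintro _ ⟨m, rfl | rfl, rfl⟩
    · exact (mem_centralizer_singleton_iff.1 (hz hx.1)).symm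
    · exact (mem_centralizer_singleton_iff.1 hx.2).symm
  · refine S.fn.ct 1 (one_mem _) (by rw [one_mul, S.fn.tt]) x (hI hx.1) ?_
    rw [one_mul]
    exact mem_centralizer_singleton_iff.1 hx.2
  · refine S.fn.ct S.a haR ?_ x (hI hx.1) (mem_centralizer_singleton_iff.1 hx.2)
    rw [mul_assoc, ← mul_assoc S.t, ← hc, mul_assoc, S.fn.tt, mul_one, haa]

end Cfsg.Agent.H44.G40Odd4
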