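import Cfsg.Agent.H76.HBDefs
import Cfsg.Agent.S0679
import Cfsg.Agent.S0418

/-! Project HB: the assembly. -/

set_option autoImplicit false

namespace Cfsg.Agent.H44.Hb

open MulAction Subgroup Cfsg.Agent.H83 Cfsg.Agent.H76.HB Cfsg.Agent.H56.TT
open scoped Cfsg.Agent.H63

universe u v

variable {G : Type u} {Ω : Type v} [Group G] [MulAction G Ω]

theorem Two.tr (h : Two G Ω) (a x : Ω) : ∃ g : G, g • a = x := by
  by_cases e : a = x
  · exact ⟨1, by simp [e]⟩
  · exact (h a x x a e (Ne.symm e)).imp fun _ h => h.1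

theorem exists_st [Finite G] (h : Two G Ω) {a : Ω} {N : Subgroup G} (hle : N ≤ stabilizer G a)
    (hn : ∀ g ∈ stabilizer G a, ∀ n ∈ N, g * n * g⁻¹ ∈ N) {q i : ℕ}
    (hb : ∀ N' : Subgroup G, Nonempty (N' ≃* N) → BS N' q i) :
    ∃ NN : Ω → Subgroup G, St NN q i := by
  choose g hg using Two.tr h a
  refine ⟨fun x => cj (g x) N, h, fun k x => ?_, fun x y hy => ?_, fun x =>
    hb _ ⟨(N.equivMapOfInjective _ (MulAut.conj (g x)).injective).symm⟩⟩
  · have h1 : (g (k • x))⁻¹ * (k * g x) ∈ stabilizer G a := by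
      rw [mem_stabilizer_iff, mul_smul, mul_smul, hg, inv_smul_eq_iff, hg]
    have h2 : (g (k • x))⁻¹ * (k * g x) ∈ N[N] := mem_normalizer_fintype (hn _ h1)
    change cj (g (k • x)) N = cj k (cj (g x) N)
    rw [← cj_mul, ← cj_eq_self h2, ← cj_mul, mul_inv_cancel_left, cj_eq_self h2]
  · have h1 := hle (mem_cj.1 hy)
    rw [mem_stabilizer_iff, mul_smul, mul_smul, hg, inv_smul_eq_iff, hg] at h1
    exact h1

theorem six [Finite G] [Fintype Ω] [FaithfulSMul G Ω] (h : Two G Ω) (h6 : Fintype.card Ω = 6)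
    {a : Ω} {N : Subgroup G} (hle : N ≤ stabilizer G a) (hN : Nat.card N = 60) :
    Nonempty (G ≃* alternatingGroup (Fin 6)) ∨ Nonempty (G ≃* Equiv.Perm (Fin 6)) := by
  have : IsPretransitive G Ω := ⟨Two.tr h⟩
  let f : G →* Equiv.Perm (Fin 6) :=
    (Fintype.equivFinOfCardEq h6).permCongrHom.toMonoidHom.comp (toPermHom G Ω)
  have hf : Function.Injective f :=
    (Fintype.equivFinOfCardEq h6).permCongrHom.injective.comp toPerm_injective
  have e := MonoidHom.ofInjective hf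
  have h1 := (stabilizer G a).card_mul_index
  rw [index_stabilizer_of_transitive, Nat.card_eq_fintype_card (α := Ω), h6] at h1
  have h2 : 60 ≤ Nat.card (stabilizer G a) := hN ▸ card_le_of_le hle
  have h3 := f.range.card_mul_index
  rw [← Nat.card_congr e.toEquiv, Nat.card_perm, Nat.card_fin] at h3
  have h4 : f.range.index ≤ 2 := by
    by_contra hc
    have : Nat.card G * 3 ≤ Nat.card G * f.range.index := Nat.mul_le_mul_left _ (by omega)
    simp only [Nat.factorial] at h3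
    omega
  have h5 := f.range.index_ne_zero_of_finite
  obtain h | h : f.range.index = 2 ∨ f.range.index = 1 := by omega
  · exact Or.inl ⟨e.trans (MulEquiv.subgroupCongr (Equiv.Perm.eq_alternatingGroup_of_index_eq_two h))⟩
  · exact Or.inr ⟨e.trans ((MulEquiv.subgroupCongr (index_eq_one.1 h)).trans topEquiv)⟩

theorem eleven [Finite G] [Fintype Ω] [FaithfulSMul G Ω] (h : Two G Ω) (h11 : Fintype.card Ω = 11)
    {K : Subgroup G} [K.Normal] (hK : Nat.card K = 660) (hs : ¬ Group.IsSolvable K) :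
    Nonempty (G ≃* Matrix.ProjectiveSpecialLinearGroup (Fin 2) (ZMod 11)) := by
  classical
  let f := toPermHom G Ω
  have hf : Function.Injective f := toPerm_injective
  have e := MonoidHom.ofInjective hf
  have : IsPretransitive f.range Ω := ⟨fun x y => by
    obtain ⟨g, hg⟩ := Two.tr h x y
    exact ⟨⟨f g, g, rfl⟩, hg⟩⟩
  have hA : ¬ alternatingGroup Ω ≤ f.range := fun hA => by
    have hc : Nat.card (K.map f) = 660 := (card_map' f hf K).trans hK
    have hn : ((K.map f).subgroupOf (alternatingGroup Ω)).Normal := ⟨fun n hn g => by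
      obtain ⟨k, hk, e1⟩ := mem_subgroupOf.1 hn
      obtain ⟨x, e2⟩ := hA g.2
      exact mem_subgroupOf.2 ⟨x * k * x⁻¹, Normal.conj_mem inferInstance k hk x, by simp [e1, e2]⟩⟩
    have := alternatingGroup.isSimpleGroup (α := Ω) (by rw [Nat.card_eq_fintype_card, h11]; norm_num)
    have : Nontrivial Ω := Fintype.one_lt_card_iff_nontrivial.1 (by omega)
    rcases hn.eq_bot_or_eq_top with h1 | h1
    · have h2 : Function.Injective (Equiv.Perm.sign.comp (K.map f).subtype) :=
        (injective_iff_map_eq_one _).2 fun x hx => by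
          have : (⟨x, hx⟩ : alternatingGroup Ω) ∈ (K.map f).subgroupOf (alternatingGroup Ω) := x.2
          rw [h1, mem_bot] at this
          exact Subtype.ext (Subtype.ext_iff.1 this :)
      have := Nat.card_le_card_of_injective _ h2
      rw [hc] at this
      simp at this
    · have := card_le_of_le (subgroupOf_eq_top.1 h1)
      rw [hc, nat_card_alternatingGroup, Nat.card_eq_fintype_card, h11] at this
      simp [Nat.factorial] at this
  rcases S0679.result h11 f.range (fun hc => hs (Group.isSolvable_of_isSolvable_injective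
    (f := e.toMonoidHom.comp K.subtype) (e.injective.comp K.subtype_injective))) hA with
    ⟨h4, h5⟩ | ⟨⟨e'⟩⟩
  · obtain ⟨h6, h7⟩ := S0418.result h11 f.range h5
    have := e.isSimpleGroup
    rw [← Nat.card_congr e.toEquiv] at h7
    rcases (inferInstance : K.Normal).eq_bot_or_eq_top with rfl | rfl
    · simp at hK
    · rw [card_top] at hK
      omega
  · exact ⟨e.trans e'⟩

theorem asm : AsmStmt.{u, v} := by
  intro l2 sz u3 s0 s1 s3 gold even G Ω _ _ _ _ _ h2 a N hle hn hN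
  have ht : Two G Ω := fun a b c d h1 h3 => is_two_pretransitive_iff.1 h2 h1 h3
  obtain ⟨q, i, hb, h4⟩ : ∃ q i, (∀ N' : Subgroup G, Nonempty (N' ≃* N) → BS N' q i) ∧
      (i = 1 → q = 4 → ∃ (F : Type) (_ : Field F) (_ : Fintype F), Fintype.card F = 4 ∧
        Nonempty (N ≃* Matrix.ProjectiveSpecialLinearGroup (Fin 2) F)) := by
    obtain ⟨F, _, _, m, hF, hm, ⟨⟨e⟩⟩ | ⟨⟨k, rfl⟩, ⟨e⟩⟩ | ⟨K, _, _, hK, ⟨e⟩⟩⟩ := hN
    · exact ⟨_, 1, fun N' ⟨e'⟩ => l2 G N' F m hF hm ⟨e'.trans e⟩,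
        fun _ h => ⟨F, _, _, hF.trans h, ⟨e⟩⟩⟩
    · rw [show (2 * k + 1 + 1) / 2 = k + 1 by omega] at e
      exact ⟨_, 2, fun N' ⟨e'⟩ => sz G N' F k hF (by omega) ⟨e'.trans e⟩, fun h => by omega⟩
    · exact ⟨_, 3, fun N' ⟨e'⟩ => u3 G N' K m hK hm ⟨e'.trans e⟩, fun h => by omega⟩
  obtain ⟨NN, st⟩ := exists_st ht hle hn hb
  have gam := s1 G Ω NN q i st (s0 G Ω NN q i st)
  by_cases hr : RNS G Ω
  · exact Or.inr (Or.inr hr)
  rcases Nat.even_or_odd (Nat.card Ω) with h | h
  · have : Nonempty Ω := ⟨a⟩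
    obtain ⟨h1, h3, h5⟩ := (even G Ω NN q i st gam h).resolve_left hr
    rw [Nat.card_eq_fintype_card] at h5
    exact Or.inl ⟨h5, six ht h5 hle ((hb N ⟨MulEquiv.refl _⟩).c60 h1 h3), h4 h1 h3⟩
  · obtain ⟨h1, h3, h5, K, _, h6, h7⟩ := gold G Ω NN q i st gam (s3 G Ω NN q i st gam) h hr
    rw [Nat.card_eq_fintype_card] at h5
    have : Fact (Nat.Prime 11) := ⟨by norm_num⟩
    exact Or.inr (Or.inl ⟨h5, ⟨ZMod 11, inferInstance, inferInstance, ZMod.card 11,
      eleven ht h5 h6 h7⟩, h4 h1 h3⟩)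

end Cfsg.Agent.H44.Hb
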