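import Cfsg.Agent.H76.HBDefs
import Cfsg.Agent.H77.PSL2
import Cfsg.Agent.H87.GoldFacts

/-! Project HB: the structure `BS` of `L₂(2 ^ m)`. -/

set_option autoImplicit false

namespace Cfsg.Agent.H44.Hb

open Subgroup Cfsg.Agent.H83 Cfsg.Agent.H76.HB Cfsg.Agent.H77
open scoped Cfsg.Agent.H63

universe u

theorem cj_map {M G : Type*} [Group M] [Group G] (f : M →* G) (w : M) (T : Subgroup M) :
    cj (f w) (T.map f) = (cj w T).map f := by
  ext x
  simp only [mem_map]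
  constructor
  · rintro ⟨_, ⟨y, hy, rfl⟩, rfl⟩
    exact ⟨_, ⟨y, hy, rfl⟩, by simp⟩
  · rintro ⟨_, ⟨y, hy, rfl⟩, rfl⟩
    exact ⟨_, ⟨y, hy, rfl⟩, by simp⟩

/-- `BS` from a model group. -/
theorem of_model {G : Type u} {M : Type*} [Group G] [Finite G] [Group M] [Finite M]
    {N : Subgroup G}
    (e : N ≃* M) {T : Subgroup M} {w : M} {q i : ℕ} (simple : IsSimpleGroup M)
    (nonab : ¬ IsMulCommutative M) (pow : ∃ m, 2 ≤ m ∧ q = 2 ^ m)
    (ty : i = 1 ∨ (i = 2 ∧ 8 ≤ q) ∨ i = 3) (c60 : i = 1 → q = 4 → Nat.card M = 60)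
    (hT : IsSylowIn 2 T ⊤) (hw : w ∉ N[T]) (ti : ∀ x ∈ T, w * x * w⁻¹ ∈ T → x = 1)
    (bruhat : ∀ g, g ∈ N[T] ∨ ∃ t ∈ T, ∃ b ∈ N[T], g = t * w * b)
    (bp : ∀ f : M →* G, Function.Injective f →
      BP ((⊤ : Subgroup M).map f) (T.map f) ((cj w T).map f) q i) : BS N q i := by
  let f : M →* G := N.subtype.comp e.symm.toMonoidHom
  have hf : Function.Injective f := N.subtype_injective.comp e.symm.injective
  have hN : (⊤ : Subgroup M).map f = N := by
    ext x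
    constructor
    · rintro ⟨y, -, rfl⟩
      exact (e.symm y).2
    · intro hx
      exact ⟨e ⟨x, hx⟩, trivial, by simp [f]⟩
  refine BS.of_pair (T := T.map f) (w := f w) e.isSimpleGroup (fun h => nonab ⟨⟨fun a b => ?_⟩⟩)
    pow ty (fun h1 h2 => (Nat.card_congr e.toEquiv).trans (c60 h1 h2)) (hN ▸ hT.map f)
    (e.symm w).2 (fun h => hw ((map_mem_N f hf).1 h)) ?_ ?_ ?_
  · exact e.symm.injective (by rw [map_mul, map_mul, h.1.1])
  · rintro _ ⟨x, hx, rfl⟩ h
    rw [← map_inv, ← map_mul, ← map_mul, mem_map_iff_mem hf] at h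
    rw [ti x hx h, map_one]
  · intro g hg
    rw [← hN] at hg
    obtain ⟨g, -, rfl⟩ := hg
    rcases bruhat g with h | ⟨t, ht, b, hb, rfl⟩
    · exact Or.inl ((map_mem_N f hf).2 h)
    · exact Or.inr ⟨_, mem_map_of_mem f ht, _, (map_mem_N f hf).2 hb, by simp⟩
  · rw [cj_map, ← hN]
    exact bp f hf

variable {F : Type} [Field F]

/-- The upper unitriangular matrices. -/
def up (F : Type) [Field F] : Multiplicative F →* SL2 F where
  toFun b := uts 1 b.toAdd
  map_one' := uts_one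
  map_mul' a b := by rw [uts_mul]; simp [add_comm]

theorem up_inj : Function.Injective (up F) := fun _ _ e => (uts_inj.1 e).2

theorem mem_up {g : SL2 F} : g ∈ (up F).range ↔ ∃ b, g = uts 1 b :=
  ⟨fun ⟨_, h⟩ => ⟨_, h.symm⟩, fun ⟨b, h⟩ => ⟨Multiplicative.ofAdd b, h.symm⟩⟩

def ww (F : Type) [Field F] : SL2 F := ⟨!![0, -1; 1, 0], by simp [Matrix.det_fin_two]⟩

theorem coe_ww : (ww F : M2 F) = !![0, -1; 1, 0] := rfl

theorem coe_ww_inv : (((ww F)⁻¹ : SL2 F) : M2 F) = !![0, 1; -1, 0] := by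
  rw [sl_coe_inv, coe_ww, Matrix.adjugate_fin_two]
  simp

theorem conj_up (a : Fˣ) (b x : F) :
    uts a b * uts 1 x * (uts a b)⁻¹ = uts 1 ((a : F) ^ 2 * x) := by
  rw [mul_inv_eq_iff_eq_mul, uts_mul, uts_mul, uts_inj]
  refine ⟨by simp, ?_⟩
  simp only [inv_one, Units.val_one, Units.val_inv_eq_inv_val]
  field_simp
  ring

theorem mem_N [Finite F] {g : SL2 F} : g ∈ N[(up F).range] ↔ (g : M2 F) 1 0 = 0 := by
  constructor
  · intro h
    obtain ⟨b, hb⟩ := mem_up.1 ((mem_normalizer_iff.1 h _).1 (mem_up.2 ⟨1, rfl⟩))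
    rw [mul_inv_eq_iff_eq_mul, sl_ext_iff, Matrix.SpecialLinearGroup.coe_mul,
      Matrix.SpecialLinearGroup.coe_mul, m2_ext_iff] at hb
    simp only [m2_mul_apply, uts00, uts01, uts10, uts11, inv_one, Units.val_one] at hb
    linear_combination hb.2.2.2
  · intro h
    obtain ⟨a, b, rfl⟩ := exists_eq_uts h
    refine mem_normalizer_fintype fun x hx => ?_
    obtain ⟨x, rfl⟩ := mem_up.1 hx
    exact mem_up.2 ⟨_, conj_up a b x⟩

theorem ww_conj (g : SL2 F) :
    (((ww F)⁻¹ * g * ww F : SL2 F) : M2 F) 1 0 = -(g : M2 F) 0 1 := by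
  simp only [sl_coe_mul, coe_ww, coe_ww_inv, m2_mul_apply]
  simp

theorem ww_conj' (g : SL2 F) :
    ((ww F * g * (ww F)⁻¹ : SL2 F) : M2 F) 1 0 = -(g : M2 F) 0 1 := by
  simp only [sl_coe_mul, coe_ww, coe_ww_inv, m2_mul_apply]
  simp

theorem dd_eq [Finite F] :
    dd ⊤ (up F).range (cj (ww F) (up F).range) = (diagS F).range := by
  ext g
  rw [mem_inf, mem_inf, ← cj_normalizer, mem_cj, mem_N, mem_N, ww_conj, neg_eq_zero]
  constructor
  · rintro ⟨⟨-, h1⟩, h2⟩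
    obtain ⟨a, b, rfl⟩ := exists_eq_uts h1
    obtain rfl : b = 0 := h2
    exact ⟨a, rfl⟩
  · rintro ⟨a, rfl⟩
    exact ⟨⟨trivial, rfl⟩, rfl⟩

theorem zz_eq : zz (up F).range = (up F).range := by
  refine inf_eq_left.2 ?_
  rintro _ ⟨a, rfl⟩ _ ⟨b, rfl⟩
  rw [← map_mul, ← map_mul, mul_comm]

theorem card_up : Nat.card (up F).range = Nat.card F :=
  (Nat.card_congr (MonoidHom.ofInjective up_inj).toEquiv).symm

theorem bruhat [Finite F] (g : SL2 F) : g ∈ N[(up F).range] ∨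
    ∃ t ∈ (up F).range, ∃ b ∈ N[(up F).range], g = t * ww F * b := by
  by_cases h : (g : M2 F) 1 0 = 0
  · exact Or.inl (mem_N.2 h)
  refine Or.inr ⟨uts 1 ((g : M2 F) 0 0 / (g : M2 F) 1 0), mem_up.2 ⟨_, rfl⟩,
    (ww F)⁻¹ * (uts 1 ((g : M2 F) 0 0 / (g : M2 F) 1 0))⁻¹ * g, mem_N.2 ?_, by group⟩
  rw [uts_one_inv']
  simp only [sl_coe_mul, coe_uts, coe_ww_inv, m2_mul_apply]
  simp
  field_simp
  ring

theorem bp [Fintype F] (h2 : (2 : F) = 0) :
    BP ⊤ (up F).range (cj (ww F) (up F).range) (Fintype.card F) 1 := by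
  have sq : ∀ x ∈ (up F).range, x * x = 1 := by
    intro x hx
    obtain ⟨b, rfl⟩ := mem_up.1 hx
    rw [uts_mul, ← uts_one, uts_inj]
    refine ⟨by simp, ?_⟩
    simp only [inv_one, Units.val_one]
    linear_combination b * h2
  have : CharP F 2 := CharTwo.of_one_ne_zero_of_two_eq_zero one_ne_zero h2
  refine ⟨by rw [card_up, pow_one, Nat.card_eq_fintype_card], fun x hx => ?_,
    by rw [zz_eq, card_up, Nat.card_eq_fintype_card], fun x hx => by rw [sq x hx]; exact one_mem _,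
    ?_, fun _ => ?_, fun h => by omega, fun _ _ _ t ht _ => by rwa [zz_eq], ?_,
    fun h => by omega, fun h => by omega⟩
  · rw [zz_eq]
    exact ⟨fun _ => hx, fun _ => sq x hx⟩
  · rw [dd_eq]
    exact isCyclic_of_surjective _ (diagS F).rangeRestrict_surjective
  · rw [dd_eq, ← Nat.card_congr (MonoidHom.ofInjective diagS_injective).toEquiv, Nat.card_units,
      Nat.card_eq_fintype_card]
    exact Nat.sub_add_cancel Fintype.card_pos
  · rw [zz_eq, dd_eq]
    intro z hz z' hz' h1 h1'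
    obtain ⟨b, rfl⟩ := mem_up.1 hz
    obtain ⟨c, rfl⟩ := mem_up.1 hz'
    have hb : b ≠ 0 := fun h => h1 (by rw [h, uts_one])
    have hc : c ≠ 0 := fun h => h1' (by rw [h, uts_one])
    obtain ⟨a, ha⟩ := surjective_frobenius F 2 (c / b)
    rw [frobenius_def] at ha
    have ha0 : a ≠ 0 := fun h => div_ne_zero hc hb (by rw [← ha, h]; simp)
    refine ⟨_, ⟨Units.mk0 a ha0, rfl⟩, ?_⟩
    rw [diagS_apply, conj_up, Units.val_mk0, ha, div_mul_cancel₀ _ hb]

theorem modL2 : ModL2Stmt.{u} := by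
  rintro G _ _ N F _ _ m hF hm ⟨e⟩
  have hq : 4 ≤ Fintype.card F := hF ▸ Nat.pow_le_pow_right two_pos hm
  have h2 : (2 : F) = 0 := by
    have := FiniteField.cast_card_eq_zero F
    rw [hF, Nat.cast_pow] at this
    exact_mod_cast pow_eq_zero_iff (by omega) |>.1 this
  have e' := pmEquiv h2
  have hs := H87.psl2_simple (F := F) (by omega)
  refine of_model (e.trans e'.symm) (T := (up F).range) (w := ww F) e'.isSimpleGroup
    (fun h => H87.psl2_not_comm (F := F) (by omega) ⟨⟨fun a b => ?_⟩⟩) ⟨m, hm, rfl⟩ (Or.inl rfl)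
    (fun _ h => ?_) ?_ (fun h => ?_) (fun x hx h => ?_) bruhat
    fun f hf => (hF ▸ bp h2).map f hf
  · exact e'.symm.injective (by rw [map_mul, map_mul, h.1.1])
  · rw [card_SL2, Nat.card_eq_fintype_card, hF, h]
    norm_num
  · refine isSylowIn_of_not_dvd_relIndex le_top
      (IsPGroup.of_card (n := m) (by rw [card_up, Nat.card_eq_fintype_card, hF])) ?_
    have h := (up F).range.card_mul_index
    rw [card_up, card_SL2, Nat.mul_right_inj Nat.card_pos.ne', Nat.card_eq_fintype_card, hF] at h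
    rw [relIndex_top_right, h]
    obtain ⟨k, rfl⟩ : ∃ k, m = k + 1 := ⟨m - 1, by omega⟩
    have : 0 < (2 ^ k) ^ 2 := by positivity
    rw [pow_succ 2 k, mul_pow]
    omega
  · have := mem_N.1 h
    simp [coe_ww] at this
  · obtain ⟨b, rfl⟩ := mem_up.1 hx
    have := mem_N.1 (le_normalizer h)
    rw [ww_conj', neg_eq_zero] at this
    obtain rfl : b = 0 := this
    exact uts_one

end Cfsg.Agent.H44.Hb
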