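import Cfsg.Agent.H44.Coset
import Cfsg.Agent.H44.HeP

set_option autoImplicit false
set_option maxRecDepth 1000000
set_option linter.all false
set_option Elab.async false

namespace Cfsg.Agent.H44.HeQ.q
open Cfsg.Agent.H44

noncomputable def rT0 : Tr :=
 (.leaf (nat_lit 0x381008070b0402c000))
noncomputable def gT0 : Tr :=
 (.leaf (nat_lit 0xab00a900a001981891888b887a00700268196329589a54aa4faa36aa4c885b0150134c3347334722442244112e332e223700340028042d1127041e001847100615441d0010050e470c670f4603a2019202810770066005500440033002200110))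
/-- The relators. -/
def R : List (List ℕ) := [[1, 1],
  [2, 2],
  [3, 3],
  [4, 4],
  [5, 5],
  [6, 6],
  [7, 7],
  [1, 2, 1, 2, 1, 2, 1, 2],
  [1, 3, 1, 3],
  [1, 4, 1, 4],
  [1, 5, 1, 5],
  [1, 6, 1, 6],
  [1, 7, 1, 7],
  [2, 3, 2, 3, 2, 3],
  [2, 4, 2, 4],
  [2, 5, 2, 5],
  [2, 6, 2, 6],
  [2, 7, 2, 7],
  [3, 4, 3, 4, 3, 4, 3, 4, 3, 4, 3, 4, 3, 4, 3, 4, 3, 4, 3, 4],
  [3, 5, 3, 5],
  [3, 6, 3, 6],
  [3, 7, 3, 7],
  [4, 5, 4, 5, 4, 5],
  [4, 6, 4, 6, 4, 6],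
  [4, 7, 4, 7, 4, 7],
  [5, 6, 5, 6],
  [5, 7, 5, 7],
  [6, 7, 6, 7, 6, 7, 6, 7],
  [5, 7, 6, 7, 6],
  [5, 3, 2, 1, 3, 2, 1, 3, 2, 1],
  [1, 4, 3, 4, 3, 4, 3, 4, 3, 4, 3],
  [3, 4, 6, 7, 3, 4, 6, 7, 3, 4, 6, 7, 3, 4, 6, 7],
  [4, 6, 7]]
/-- The subgroup generators. -/
def S : List (List ℕ) := []
def Wr : List (List ℕ) := []
def Wn : List (List ℕ) := [[7, 4, 6],
  [4, 6, 7],
  [6, 4, 7],
  [7, 6, 7, 6, 5],
  [5, 5],
  [5, 7, 6, 7, 6],
  [7, 4, 7, 4, 7, 4],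
  [4, 4],
  [6, 6],
  [7, 7],
  [5, 1, 5, 1],
  [5, 4, 5, 4, 5, 4],
  [6, 2, 6, 2],
  [6, 3, 6, 3],
  [4, 1, 4, 1],
  [4, 2, 4, 2],
  [7, 2, 7, 2],
  [7, 3, 7, 3],
  [4, 1, 3, 4, 3, 4, 3, 4, 3, 4, 3],
  [3, 3],
  [1, 3, 4, 3, 4, 3, 4, 3, 4, 3, 4],
  [5, 1, 2, 3, 1, 2, 3, 1, 2, 3],
  [1, 1],
  [2, 2],
  [3, 2, 3, 2, 3, 2],
  [1, 4, 3, 4, 3, 4, 3, 4, 3, 4, 3],
  [2, 1, 2, 1, 2, 1, 2, 1]]
def cr : List (ℕ × ℕ × ℕ) := []
def cn : List (ℕ × ℕ × ℕ) := [(1, 32, 2), (1, 32, 0), (2, 32, 1), (1, 28, 1), (0, 0, 0), (1, 28, 0), (1, 24, 1), (0, 0, 0), (0, 0, 0), (0, 0, 0), (1, 10, 1), (1, 22, 1), (1, 16, 1), (1, 20, 1), (1, 9, 1), (1, 14, 1), (1, 17, 1), (1, 21, 1), (2, 30, 9), (0, 0, 0), (2, 30, 10), (2, 29, 9), (0, 0, 0), (0, 0, 0), (1, 13, 1), (1, 30, 0), (1, 7, 1)]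
noncomputable def rT : Tr := rT0
noncomputable def gT : Tr := gT0
noncomputable def rC (i : ℕ) : ℕ := rT.get (nat_lit 0) i
noncomputable def gC (i : ℕ) : ℕ := gT.get (nat_lit 0) i
noncomputable def row (p : ℕ) : ℕ := rec2 rC (nat_lit 6) (nat_lit 63) (nat_lit 72) (nat_lit 0xffffffffffffffffff) p
noncomputable def gf (p : ℕ) : ℕ := rec2 gC (nat_lit 8) (nat_lit 255) (nat_lit 16) (nat_lit 65535) p
noncomputable def gw (c : ℕ) : List ℕ := nth [] Wr c
noncomputable def wn (c : ℕ) : ℕ := pack (nat_lit 3) (nth [] Wn c) (nat_lit 0)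
noncomputable def C : Cert :=
  { n := (nat_lit 1), na := (nat_lit 10), M := (nat_lit 48), nc := (nat_lit 7), W := (nat_lit 4), EB := (nat_lit 9),
    LB := (nat_lit 3), nreg := (nat_lit 0), ivT := (nat_lit 0xfac688), base := (nat_lit 0),
    row := row, gf := gf, gw := gw, wn := wn }
theorem masks : Masks C (nat_lit 15) (nat_lit 511) (nat_lit 7) (nat_lit 11) (nat_lit 2047) :=
  ⟨by decide +kernel, by decide +kernel, by decide +kernel, by decide +kernel, by decide +kernel⟩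
noncomputable def rchk : ℕ → ℕ → ℕ → Bool :=
  rowChk row gf gw (nat_lit 1) (nat_lit 48) (nat_lit 7) (nat_lit 4) (nat_lit 15) (nat_lit 9) (nat_lit 511) (nat_lit 3) (nat_lit 7) (nat_lit 11) (nat_lit 2047) (nat_lit 0) (nat_lit 0xfac688) (nat_lit 6) (nat_lit 63) (nat_lit 7) (nat_lit 127)
noncomputable def fchk : ℕ → ℕ → ℕ → Bool :=
  auxRun row gf wn (nat_lit 1) (nat_lit 10) (nat_lit 48) (nat_lit 7) (nat_lit 4) (nat_lit 15) (nat_lit 9) (nat_lit 511) (nat_lit 3) (nat_lit 7) (nat_lit 11) (nat_lit 0xfac688) (nat_lit 0) (nat_lit 7) (nat_lit 127)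
theorem rows_of {lo hi : ℕ} {t : JL} (h : t.run rchk (nat_lit 49) hi lo = true) : C.RowsOK lo hi :=
  rowsOK_of_run masks h
theorem facts_of {lo hi : ℕ} {t : JL} (h : t.run fchk (nat_lit 20) hi lo = true) : C.FactsOK lo hi :=
  factsOK_of_run masks h
theorem words_ok : wordsChk 1 7 4 3 0 16434824 0 R S Wr Wn cr cn = true := by
  decide +kernel
noncomputable def j0 : JL :=
(.cons (nat_lit 1) (nat_lit 0x1c305080c101) (nat_lit 0x1748e5afa6e)
.nil)
theorem t0 : C.RowsOK (nat_lit 0) (nat_lit 1) :=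
  rows_of (t := j0) (by decide +kernel)
noncomputable def j1 : JL :=
(.cons (nat_lit 10) (nat_lit 0) (nat_lit 0)
(.cons (nat_lit 16) (nat_lit 0x2aa0027d0025700231001ef001c20019c001760014900107000d3000ad000720004c0002600000) (nat_lit 0xb0a3000c0384851400601ac57001005311a0040103420e4a34200300607082000c02d49300200a4e44008024f281c0060107498e367498030039f2648e002003211e00400a3c91c3e4c01401098e002003264800800888e002001)
(.cons (nat_lit 16) (nat_lit 0x328002fb0029d0027700212001ec001bf00192001650013f000da000b4000870005a0002d00000) (nat_lit 0x2b890020183158380180bd4122240a31504886001402d44c80100a5032f8d5032f8d50326002c0566cb00200232fcd001809196e6800c038abb2c00602114580100a0b063220b063220b10f002c04e0b900200216186001809090c2800c044483140060201c18800300f)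
(.cons (nat_lit 6) (nat_lit 0x1430011d000e9000990003b00000) (nat_lit 0x186400100a610e00402f7eee00e00802f78a870220b5e2a0100376e4db936e4db936e480500d159006396005019)
.nil))))
theorem t1 : C.FactsOK (nat_lit 0) (nat_lit 48) :=
  facts_of (t := j1) (by decide +kernel)
theorem checked : Checked C R S :=
  ⟨⟨Wr, Wn, cr, cn, fun _ => rfl, fun _ => rfl, words_ok⟩, t0,
    t1⟩

/-- In any group whose elements `g 1, …, g 7` satisfy the relators `R`, a subgroup containing the words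
of `S` has index at most 1 in the subgroup generated by these elements. -/
theorem idxLe {G : Type*} [Group G] {g : ℕ → G} (hg : Sat g R) {H : Subgroup G}
    (hS : ∀ s ∈ S, ev g s ∈ H) : IdxLe H (gen g 7) 1 :=
  checked.idxLe hg hS

end Cfsg.Agent.H44.HeQ.q

namespace Cfsg.Agent.H44.HeQ
open Cfsg.Agent.H44

/-- A word of order seven. -/
def XQ : List (List ℕ) := [[4, 6, 7]]

theorem idx_q {G : Type*} [Group G] {g : ℕ → G} (hg : Sat g (He.Rm ++ XQ)) :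
    IdxLe (wgen g []) (wgen g [[1], [2], [3], [4], [5], [6], [7]]) 1 :=
  Cfsg.Agent.H44.HeQ.q.checked.step hg [0, 1, 2, 3, 4, 5, 6, 7] (by decide +kernel) (by decide +kernel) (by decide +kernel)

theorem card_q {G : Type*} [Group G] {g : ℕ → G} (hg : Sat g (He.Rm ++ XQ)) :
    Finite (wgen g [[1], [2], [3], [4], [5], [6], [7]]) ∧ Nat.card (wgen g [[1], [2], [3], [4], [5], [6], [7]]) ≤ 1 :=
  (idx_q hg).wcard (n := 1) (m := 1) (by decide) (wcard_nil g)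


end Cfsg.Agent.H44.HeQ

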