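import Cfsg.Agent.H44.Coset
import Cfsg.Agent.H44.J1sP

set_option autoImplicit false
set_option maxRecDepth 1000000
set_option linter.all false
set_option Elab.async false

namespace Cfsg.Agent.H44.J1sQ.q
open Cfsg.Agent.H44

noncomputable def rT0 : Tr :=
 (.leaf (nat_lit 0x240480901502a0000))
noncomputable def gT0 : Tr :=
 (.leaf (nat_lit 0xa2000a1000980019a040950419001a93041826818c0008b00094041880428d0007d0427804b800037c0037804c780ca780e27008775880700c46d1c1681c86800e603905a1ca5220e6005658598581055029548394502094821d481d2400c64004d38013542584c150486194041143385451d6432563d0ce3815f385973535d333523038f313532875e2849c280e0284db203631d8dd243e018821147a312823094e30c41f0a3de0a39d11459114180b257113d7113960a2140a2920b14f0914909108090c7038d2058900484f0580e037ce0578d0474d0370d016cd0268b0464903608055c7045870254704506034c6014860444503404053c3043830234304302032c2012820524104201031c1021810514004100030c00208001040))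
/-- The relators. -/
def R : List (List ℕ) := [[1, 1],
  [2, 2],
  [3, 3],
  [4, 4],
  [5, 5],
  [1, 2, 1, 2, 1, 2],
  [1, 3, 1, 3],
  [1, 4, 1, 4],
  [1, 5, 1, 5],
  [2, 3, 2, 3, 2, 3, 2, 3, 2, 3],
  [2, 4, 2, 4],
  [2, 5, 2, 5],
  [3, 4, 3, 4, 3, 4],
  [3, 5, 3, 5],
  [4, 5, 4, 5, 4, 5, 4, 5, 4, 5],
  [1, 2, 3, 1, 2, 3, 1, 2, 3, 1, 2, 3, 1, 2, 3],
  [2, 3, 4, 2, 3, 4, 2, 3, 4, 2, 3, 4, 2, 3, 4],
  [1, 3, 4, 5, 4, 5, 1, 3, 4, 5, 4, 5, 1, 3, 4, 5, 4, 5],
  [4, 3, 2, 1, 2, 3, 2, 5]]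
/-- The subgroup generators. -/
def S : List (List ℕ) := []
def Wr : List (List ℕ) := []
def Wn : List (List ℕ) := [[1, 3, 1, 3],
  [1, 4, 1, 4],
  [1, 5, 1, 5],
  [3, 5, 3, 5],
  [2, 1, 2, 1, 2, 1],
  [2, 4, 2, 4],
  [2, 5, 2, 5],
  [4, 3, 4, 3, 4, 3],
  [2, 5, 4, 3, 2, 1, 2, 3],
  [4, 5, 2, 3, 2, 1, 2, 3],
  [4, 4],
  [5, 2, 5, 2],
  [5, 4, 5, 4, 5, 4, 5, 4, 5, 4],
  [1, 1],
  [2, 2],
  [3, 3],
  [5, 5],
  [3, 2, 1, 3, 2, 1, 3, 2, 1, 3, 2, 1, 3, 2, 1],
  [4, 3, 1, 5, 4, 5, 4, 3, 1, 5, 4, 5, 4, 3, 1, 5, 4, 5]]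
def cr : List (ℕ × ℕ × ℕ) := []
def cn : List (ℕ × ℕ × ℕ) := [(1, 6, 0), (1, 7, 0), (1, 8, 0), (1, 13, 0), (1, 5, 1), (1, 10, 0), (1, 11, 0), (1, 12, 1), (1, 18, 6), (2, 18, 7), (0, 0, 0), (1, 11, 1), (1, 14, 1), (0, 0, 0), (0, 0, 0), (0, 0, 0), (0, 0, 0), (2, 15, 0), (2, 17, 3)]
noncomputable def rT : Tr := rT0
noncomputable def gT : Tr := gT0
noncomputable def rC (i : ℕ) : ℕ := rT.get (nat_lit 0) i
noncomputable def gC (i : ℕ) : ℕ := gT.get (nat_lit 0) i
noncomputable def row (p : ℕ) : ℕ := rec2 rC (nat_lit 6) (nat_lit 63) (nat_lit 66) (nat_lit 0x3ffffffffffffffff) p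
noncomputable def gf (p : ℕ) : ℕ := rec2 gC (nat_lit 8) (nat_lit 255) (nat_lit 20) (nat_lit 0xfffff) p
noncomputable def gw (c : ℕ) : List ℕ := nth [] Wr c
noncomputable def wn (c : ℕ) : ℕ := pack (nat_lit 3) (nth [] Wn c) (nat_lit 0)
noncomputable def C : Cert :=
  { n := (nat_lit 1), na := (nat_lit 35), M := (nat_lit 114), nc := (nat_lit 5), W := (nat_lit 6), EB := (nat_lit 11),
    LB := (nat_lit 3), nreg := (nat_lit 0), ivT := (nat_lit 181896), base := (nat_lit 0),
    row := row, gf := gf, gw := gw, wn := wn }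
theorem masks : Masks C (nat_lit 63) (nat_lit 2047) (nat_lit 7) (nat_lit 15) (nat_lit 32767) :=
  ⟨by decide +kernel, by decide +kernel, by decide +kernel, by decide +kernel, by decide +kernel⟩
noncomputable def rchk : ℕ → ℕ → ℕ → Bool :=
  rowChk row gf gw (nat_lit 1) (nat_lit 114) (nat_lit 5) (nat_lit 6) (nat_lit 63) (nat_lit 11) (nat_lit 2047) (nat_lit 3) (nat_lit 7) (nat_lit 15) (nat_lit 32767) (nat_lit 0) (nat_lit 181896) (nat_lit 7) (nat_lit 127) (nat_lit 7) (nat_lit 127)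
noncomputable def fchk : ℕ → ℕ → ℕ → Bool :=
  auxRun row gf wn (nat_lit 1) (nat_lit 35) (nat_lit 114) (nat_lit 5) (nat_lit 6) (nat_lit 63) (nat_lit 11) (nat_lit 2047) (nat_lit 3) (nat_lit 7) (nat_lit 15) (nat_lit 181896) (nat_lit 0) (nat_lit 8) (nat_lit 255)
theorem rows_of {lo hi : ℕ} {t : JL} (h : t.run rchk (nat_lit 35) hi lo = true) : C.RowsOK lo hi :=
  rowsOK_of_run masks h
theorem facts_of {lo hi : ℕ} {t : JL} (h : t.run fchk (nat_lit 20) hi lo = true) : C.FactsOK lo hi :=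
  factsOK_of_run masks h
theorem words_ok : wordsChk 1 5 6 3 0 181896 0 R S Wr Wn cr cn = true := by
  decide +kernel
noncomputable def j0 : JL :=
(.cons (nat_lit 1) (nat_lit 0x5080c101) (nat_lit 0x65d3a38f0)
.nil)
theorem t0 : C.RowsOK (nat_lit 0) (nat_lit 1) :=
  rows_of (t := j0) (by decide +kernel)
noncomputable def j1 : JL :=
(.cons (nat_lit 35) (nat_lit 0) (nat_lit 0)
(.cons (nat_lit 16) (nat_lit 0x2f0002c0002800025000220001f0001c000190001600013000100000c000090000600003000000) (nat_lit 0x495417070a204400700949272a003001411f090c240050083f1d220030073d1d20003006355026003002334e24003001311116003004314c220030032f4c200030022b0f14003006270f05081800500521090e00300415050e00300313050c00300211050a003001)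
(.cons (nat_lit 16) (nat_lit 0x310002e0002b000288002600023000208001d8001a80017800148000e0000b0000880005000000) (nat_lit 0x7f21002011417f520030105a805700300e7b3f002011793b0020106f782000300b753900200e6b743e00300b3b734900301069741d00300f39736800300e6c3f3e726c3f3e726c3f00a00d62446900300c6d4500200b45636b6a004006495417070a1e4000700a)
(.cons (nat_lit 16) (nat_lit 0x310002e0002b0002780024800218001e8001b80012800100000d8000a800078000500002800000) (nat_lit 0x4fa44e00300e2d9f5400300f2b9e2000300b159b83a20040113d9c1400300b829c120030102a9a0a0030107d9a0600300e7e1d0906102a7e1d0906102a7e1d0900f012933500200b912500200b60925d00300e25876600300b87410020108531002011855c002010)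
(.cons (nat_lit 16) (nat_lit 0x2f0002c8002900025000220001e8001b8001800015800120000e8000b800090000680003000000) (nat_lit 0xc3b2c00700400fbb0b00200b1bbfb71300400b17bfb74ebc00500ebdb58a003011b7afb60800400fb5b34800301124b4b60a004010ad8e00201134acae12004010b396aa0b00400b23a990003010a72d00200fa55600200fab98a41300400b33a38b003010)
(.cons (nat_lit 15) (nat_lit 0x2e8002c000218001f0001c800198001680014000118000f0000c000088000580003000000) (nat_lit 0xe3e100200fe30500200ee0d4e005020304030406dcd4e0d4e0050203012013ddd900200fd1ce002011d9d10700300fcb19d2003010cb3800200fc9c800200bc909002010c51bd200300b18c4ca0600400ec9c1bd003011bfb900201119bf11003010)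
.nil))))))
theorem t1 : C.FactsOK (nat_lit 0) (nat_lit 114) :=
  facts_of (t := j1) (by decide +kernel)
theorem checked : Checked C R S :=
  ⟨⟨Wr, Wn, cr, cn, fun _ => rfl, fun _ => rfl, words_ok⟩, t0,
    t1⟩

/-- In any group whose elements `g 1, …, g 5` satisfy the relators `R`, a subgroup containing the words
of `S` has index at most 1 in the subgroup generated by these elements. -/
theorem idxLe {G : Type*} [Group G] {g : ℕ → G} (hg : Sat g R) {H : Subgroup G}
    (hS : ∀ s ∈ S, ev g s ∈ H) : IdxLe H (gen g 5) 1 :=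
  checked.idxLe hg hS

end Cfsg.Agent.H44.J1sQ.q

namespace Cfsg.Agent.H44.J1sQ
open Cfsg.Agent.H44

/-- A word of order 7. -/
def XQ : List (List ℕ) := [[4, 3, 2, 1, 2, 3, 2, 5]]

theorem idx_q {G : Type*} [Group G] {g : ℕ → G} (hg : Sat g (J1s.Rm ++ XQ)) :
    IdxLe (wgen g []) (wgen g [[1], [2], [3], [4], [5]]) 1 :=
  Cfsg.Agent.H44.J1sQ.q.checked.step hg [0, 1, 2, 3, 4, 5] (by decide +kernel) (by decide +kernel) (by decide +kernel)

theorem card_q {G : Type*} [Group G] {g : ℕ → G} (hg : Sat g (J1s.Rm ++ XQ)) :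
    Finite (wgen g [[1], [2], [3], [4], [5]]) ∧ Nat.card (wgen g [[1], [2], [3], [4], [5]]) ≤ 1 :=
  (idx_q hg).wcard (n := 1) (m := 1) (by decide) (wcard_nil g)


end Cfsg.Agent.H44.J1sQ

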