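import Mathlib
import Cfsg.Agent.H43.Chain
import Cfsg.Agent.H44.J1sC
import Cfsg.Agent.H44.J1sQ
import Cfsg.Agent.H44.Perm3

set_option autoImplicit false
set_option maxRecDepth 1000000
set_option linter.all false
set_option Elab.async false

namespace Cfsg.Agent.H44.J1sM

open Cfsg.Agent.H44 Cfsg.Agent.H43 

theorem m_hn : NOk 266 := by decide

theorem m_hk : 266 ≤ 2 ^ 9 := by decide

noncomputable def m_g1 : Net := (Net.cons (nat_lit 1) (nat_lit 0x1545551440554445105001010111451515440510144115140115001100000041100) (Net.cons (nat_lit 2) (nat_lit 0x10221301002303100012031111231000233132200032211221103311000200000) (Net.cons (nat_lit 4) (nat_lit 0x2000f0a0f0d0c0a0103090e05010c000d020c040807000401090c000604000200) (Net.cons (nat_lit 8) (nat_lit 0xfa004a0011000700ab008f00fd00a90032000500da00ad0048006900000080) (Net.cons (nat_lit 16) (nat_lit 0x12fe00001c7d000020340000217c00004304000008440000eb1000000000) (Net.cons (nat_lit 32) (nat_lit 0x196029fc000000000480822e000000001026ebd00000000000000000) (Net.cons (nat_lit 64) (nat_lit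 0x48004021124eafc00000000000000000000000000000000) (Net.cons (nat_lit 128) (nat_lit 0x48004021124ead000000000000000fc) (Net.cons (nat_lit 256) (nat_lit 252) (Net.cons (nat_lit 128) (nat_lit 252) (Net.cons (nat_lit 64) (nat_lit 0x1de42dfe17a5eafe00000000000000001026eb5000000000) (Net.cons (nat_lit 32) (nat_lit 0xf9fefffd00000000eafb550300000000d37ffbff00000000eb000000) (Net.cons (nat_lit 16) (nat_lit 0x6dfd0000339100003df10000a30000008764000027870000efc900000080) (Net.cons (nat_lit 8) (nat_lit 0x300f40027004900430006005d006000750010001900d2002100ef005f001400a0) (Net.cons (nat_lit 4) (nat_lit 0x1000c08050706090d070209010a04080600070c000702050e0b09060406070700) (Net.cons (nat_lit 2) (nat_lit 0x221301103120310232223132011203022130022101011123013220200010310000) (Net.cons (nat_lit 1) (nat_lit 0x10004115001110450454544444100040055145411400515550540144000041100) Net.nil)))))))))))))))))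

theorem m_g1_ok : Net.ok 266 m_g1 = true := by decide +kernel

noncomputable def m_g2 : Net := (Net.cons (nat_lit 1) (nat_lit 0x101144115440045401011541414145101400504110504010145050445400540000) (Net.cons (nat_lit 2) (nat_lit 0x310012201310211231330230021302220103301311123012131202112132223020) (Net.cons (nat_lit 4) (nat_lit 0xb000b0002010a0506070c050400050a04070e07040d020100090a000400000400) (Net.cons (nat_lit 8) (nat_lit 0xfc00810031009d002e007200e400130041005100f1000a00b20008008c0000) (Net.cons (nat_lit 16) (nat_lit 0x110d000089120000e302000010be00003259000058970000008c00000000) (Net.cons (nat_lit 32) (nat_lit 0xa56180c0000000006241305000000006853908c0000000000000000) (Net.cons (nat_lit 64) (nat_lit 0x42403006a53988d00000000000000000000000000000000) (Net.cons (nat_lit 128) (nat_lit 0x42403006a53988d000000000000000c) (Net.cons (nat_lit 256) (nat_lit 12) (Net.cons (nat_lit 128) (nat_lit 12) (Net.cons (nat_lit 64) (nat_lit 0xe761b00ea779b8d00000000000000006853908c00000000) (Net.cons (nat_lit 32) (nat_lit 0x7b57dc4c0000000099ac757200000000fbfbffff00000000008c0000)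 (Net.cons (nat_lit 16) (nat_lit 0xb33d0000822d00006c8b0000568a00007995000027d900009fbc00008c00) (Net.cons (nat_lit 8) (nat_lit 0x300fd002a0094009c001e00fe0029000a002d0093003400dc00c800f200bf0040) (Net.cons (nat_lit 4) (nat_lit 0x7020b02000908040c0e0d040b0c0c020505060e0d0505010803040a0e08000608) (Net.cons (nat_lit 2) (nat_lit 0x320031003331222211302212331202302132311311320002131202112132223020) (Net.cons (nat_lit 1) (nat_lit 0x55544115444005401010450155045010015551114101445145114445400540000) Net.nil)))))))))))))))))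

theorem m_g2_ok : Net.ok 266 m_g2 = true := by decide +kernel

noncomputable def m_g3 : Net := (Net.cons (nat_lit 1) (nat_lit 0x1511141544144105001441004511015551140510144455010014001101415041000) (Net.cons (nat_lit 2) (nat_lit 0x332003310310213210011102020121102331031211000231312020212002003000) (Net.cons (nat_lit 4) (nat_lit 0x1020003080b0d0107030c04010008000408040d01060804030600020801050200) (Net.cons (nat_lit 8) (nat_lit 0x200be00cb00c4001000ae0049004c00170024004100fd00d00020000000180004) (Net.cons (nat_lit 16) (nat_lit 0x32de0000f014000082c5000054920000000b0000a1020000a49000000000) (Net.cons (nat_lit 32) (nat_lit 0x421b97fe0000000080014000000000005103f49c0000000000000000) (Net.cons (nat_lit 64) (nat_lit 0x80840000500bc4de00000000000000000000000000000000) (Net.cons (nat_lit 128) (nat_lit 0x80840000500bc49c00000000000000de) (Net.cons (nat_lit 256) (nat_lit 222) (Net.cons (nat_lit 128) (nat_lit 222) (Net.cons (nat_lit 64) (nat_lit 0xc09f97fe736bc4de00000000000000005103f49000000000) (Net.cons (nat_lit 32) (nat_lit 0xdc9dffff000000007ff02a63000000007f5bffd700000000a4900000)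 (Net.cons (nat_lit 16) (nat_lit 0x55fe00003bed0000f88f00008f6a00005122000020af0000acfc00001804) (Net.cons (nat_lit 8) (nat_lit 0x300fa0011001500d2001c00e900bc00b200a700d0006f005100a10002005b00a4) (Net.cons (nat_lit 4) (nat_lit 0x7060f0c00040a0a04060b0702030e010709050c01070904030700020801000700) (Net.cons (nat_lit 2) (nat_lit 0x332003211300213211000002020130113331030210000231312020212012112110) (Net.cons (nat_lit 1) (nat_lit 0x1511141144145505001441104511015551140510144455010014001101415041004) Net.nil)))))))))))))))))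

theorem m_g3_ok : Net.ok 266 m_g3 = true := by decide +kernel

noncomputable def m_g4 : Net := (Net.cons (nat_lit 1) (nat_lit 0x151514105544000511114015145041444510144145101044444440100444551044) (Net.cons (nat_lit 2) (nat_lit 0x110202223012202231002330220030103100100231230121312311203001012000) (Net.cons (nat_lit 4) (nat_lit 0x20206080b00000c05010600010f0d0b0e0a0c090a070e02080403000300000800) (Net.cons (nat_lit 8) (nat_lit 0x21005f00e500820085000800b300c000fa0001005800e600000038005c0000) (Net.cons (nat_lit 16) (nat_lit 0x5274000046d30000ae260000a0800000002200009290000020dc00000000) (Net.cons (nat_lit 32) (nat_lit 0x122a03c0000000008a04293000000005a20a0d40000000000000000) (Net.cons (nat_lit 64) (nat_lit 0x8042035920a0bc00000000000000000000000000000000) (Net.cons (nat_lit 128) (nat_lit 0x8042035920a094000000000000003c) (Net.cons (nat_lit 256) (nat_lit 60) (Net.cons (nat_lit 128) (nat_lit 60) (Net.cons (nat_lit 64) (nat_lit 0x41a2e2af5de8a2bd00000000000000005a20a0d400000000) (Net.cons (nat_lit 32) (nat_lit 0x53b681fc00000000ba1d5f29000000005b7fb9fd0000000020dc0000)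 (Net.cons (nat_lit 16) (nat_lit 0xce9f00004e7b00009fcd0000c33900005590000024a30000a7df00005c00) (Net.cons (nat_lit 8) (nat_lit 0x30031002e00e4009300b6003900a200d300eb0010004b00d70030004000ff0080) (Net.cons (nat_lit 4) (nat_lit 0x1030e090602060f04030406030f0f090c080e0b08050c000806030a0f0c000a00) (Net.cons (nat_lit 2) (nat_lit 0x223111023302202231202330222030103100100231030121330311123331212012) (Net.cons (nat_lit 1) (nat_lit 0x1414151514504100111514015145041444510144145101044444440100444551044) Net.nil)))))))))))))))))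

theorem m_g4_ok : Net.ok 266 m_g4 = true := by decide +kernel

noncomputable def m_g5 : Net := (Net.cons (nat_lit 1) (nat_lit 0x11004441051010410011105541440040005045454440000451414111545410440) (Net.cons (nat_lit 2) (nat_lit 0x13001010211020121213111303220020311331312313200320232100233221210) (Net.cons (nat_lit 4) (nat_lit 0xb0f0d0b03040b020b0f000f0e0c01070e010b0706080005070c010c08020200) (Net.cons (nat_lit 8) (nat_lit 0xb300fc0000004500c000d70091005400a90053002000ec0033001a000e0000) (Net.cons (nat_lit 16) (nat_lit 0x93ba000042b90000b24a0000d0fa00000e0400002915000020d600000000) (Net.cons (nat_lit 32) (nat_lit 0x4c8378f800000000022a452400000000c801e1dc0000000000000000) (Net.cons (nat_lit 64) (nat_lit 0x22a04009c0149fc00000000000000000000000000000000) (Net.cons (nat_lit 128) (nat_lit 0x22a04009c0149dc00000000000000b8) (Net.cons (nat_lit 256) (nat_lit 184) (Net.cons (nat_lit 128) (nat_lit 184) (Net.cons (nat_lit 64) (nat_lit 0xdeab7cf8be074dfe0000000000000000c801e1dc00000000) (Net.cons (nat_lit 32) (nat_lit 0xdd79eabc0000000063d6b20300000000eddffbff0000000020c60000)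 (Net.cons (nat_lit 16) (nat_lit 0x2fbb0000b39c0000422d000037740000f1350000061400003bff00008e00) (Net.cons (nat_lit 8) (nat_lit 0x300b3003e000d0008006a009e004700de001e008d002b00d700120013001f0020) (Net.cons (nat_lit 4) (nat_lit 0x40b0f070b0706060c0b0a0507070001000d030701060a08070704010c0802030c) (Net.cons (nat_lit 2) (nat_lit 0x10011113201121001312002221301130223120102211021020012102233221210) (Net.cons (nat_lit 1) (nat_lit 0x14004454050114411401004510451041044015154040010151414511545410441) Net.nil)))))))))))))))))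

theorem m_g5_ok : Net.ok 266 m_g5 = true := by decide +kernel

noncomputable def E : List Net := [m_g1, m_g2, m_g3, m_g4, m_g5]

theorem E_ok : okE 266 E = true := (okE_cons.2 ⟨m_g1_ok, (okE_cons.2 ⟨m_g2_ok, (okE_cons.2 ⟨m_g3_ok, (okE_cons.2 ⟨m_g4_ok, (okE_cons.2 ⟨m_g5_ok, (okE_nil 266)⟩)⟩)⟩)⟩)⟩)

noncomputable def m_g6 : Net := (Net.cons (nat_lit 1) (nat_lit 0x1410015554041045114550441101511555410551401504101015105151550410540) (Net.cons (nat_lit 2) (nat_lit 0x31322212312303000332233112211213202322131323233201001300000120310) (Net.cons (nat_lit 4) (nat_lit 0x1040f0305020f0109000f090704030c0103040d01010a09050004080d0f010101) (Net.cons (nat_lit 8) (nat_lit 0x5f00340060006d0051006c006e0064008d0059006600d7004900e400ac0020) (Net.cons (nat_lit 16) (nat_lit 0x27f60000371700004e3200001b610000a009000013cc0000461400000000) (Net.cons (nat_lit 32) (nat_lit 0xe0a44b1400000000b20370fd00000000200141e4000000000000000c) (Net.cons (nat_lit 64) (nat_lit 0xd1d100f024a2105400000000000000000000000000000018) (Net.cons (nat_lit 128) (nat_lit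 0xf155406a64a3b40c26aa04914900007c) (Net.cons (nat_lit 256) (nat_lit 124) (Net.cons (nat_lit 128) (nat_lit 104) (Net.cons (nat_lit 64) (nat_lit 0x565405a33e0bf640000000000000000058f40c1d1860314) (Net.cons (nat_lit 32) (nat_lit 0x8e3090f400000000e047fd5d00000000750ea8d8000000004c32128c) (Net.cons (nat_lit 16) (nat_lit 0x20c40000e067000051300000b9c40000b6d40000f929000009f500006641) (Net.cons (nat_lit 8) (nat_lit 0x3006500bf001300d1001c00a50062000900e50013008500020069007000d40048) (Net.cons (nat_lit 4) (nat_lit 0x705070e010402080a07070b050a070d0e0f0c09070e0800060e060c0a050c0503) (Net.cons (nat_lit 2) (nat_lit 0x131201201110312322330121231013033222101030312021232123222020303312) (Net.cons (nat_lit 1) (nat_lit 0x451045454415555101544154511001105051110445455140455444550055550440) Net.nil)))))))))))))))))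

theorem m_g6_ok : Net.ok 266 m_g6 = true := by decide +kernel

noncomputable def m_g7 : Net := (Net.cons (nat_lit 1) (nat_lit 0x50404045404554155411051041414050541001454000145440140011414154044) (Net.cons (nat_lit 2) (nat_lit 0x112220202010112210211011002303212013121210201302320321002100020100) (Net.cons (nat_lit 4) (nat_lit 0x10b000b000808030004080702080c060200030408020008040f0a030100020000) (Net.cons (nat_lit 8) (nat_lit 0x10061005800e600270062004e0019000c006900f80057000000f0009700430040) (Net.cons (nat_lit 16) (nat_lit 0x761000087a6000082b10000b84e000018600000685b0000d04100000002) (Net.cons (nat_lit 32) (nat_lit 0x84028b750000000048402840000000001844213b0000000000000001) (Net.cons (nat_lit 64) (nat_lit 0xca830c0213530a7d00000000000000000000000000000000) (Net.cons (nat_lit 128) (nat_lit 0xce818e0313d34a400042a0000000027f) (Net.cons (nat_lit 256) (nat_lit 639) (Net.cons (nat_lit 128) (nat_lit 639) (Net.cons (nat_lit 64) (nat_lit 0x5e8d004e53df8bfd00000000000000000036797c18080001) (Net.cons (nat_lit 32) (nat_lit 0x8b728f750000000048f0e84800000000b8c1093f00000000d0011003)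 (Net.cons (nat_lit 16) (nat_lit 0x63630000a3a6000027b100002a4e00002d6d00005e5f0000c0c5000013c2) (Net.cons (nat_lit 8) (nat_lit 0x100e1005800e600b70062004600ad002c00e000f8005700c000f0009700670044) (Net.cons (nat_lit 4) (nat_lit 0x10b0003090b080b000e090f01010406020009040d000008050f05030100020800) (Net.cons (nat_lit 2) (nat_lit 0x112320202010110210131231020323212112001211021302323313022100020112) (Net.cons (nat_lit 1) (nat_lit 0x450404045404554155411051105404150544505554000145445144111515154044) Net.nil)))))))))))))))))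

theorem m_g7_ok : Net.ok 266 m_g7 = true := by decide +kernel

noncomputable def m_V8 : List Net := [m_g6, m_g7]

theorem m_V8_ok : okE 266 m_V8 = true := (okE_cons.2 ⟨m_g6_ok, (okE_cons.2 ⟨m_g7_ok, (okE_nil 266)⟩)⟩)

noncomputable def m_g10 : Net := (Net.cons (nat_lit 1) (nat_lit 0x101545054514415104040154401040015011451015401105040115054154041400) (Net.cons (nat_lit 2) (nat_lit 0x322030331332231201323312300002110032013332303222232000101313301120) (Net.cons (nat_lit 4) (nat_lit 0xb0101070c040309040c0c050b0f06020c020b08030a060403040301030b010002) (Net.cons (nat_lit 8) (nat_lit 0xfc002a00bc00a900480054008700a700a000c100f900a000bd00dd004a0020) (Net.cons (nat_lit 16) (nat_lit 0x45e500000c0f0000e940000032c700002562000084450000090400000004) (Net.cons (nat_lit 32) (nat_lit 0x8f151ee000000006038dc4200000000882656a20000000000000000) (Net.cons (nat_lit 64) (nat_lit 0x3440011127920e6d00000000000000000000000000000000) (Net.cons (nat_lit 128) (nat_lit 0x901400f76fba7e71a56ed5028000006c) (Net.cons (nat_lit 256) (nat_lit 108) (Net.cons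 (nat_lit 128) (nat_lit 108) (Net.cons (nat_lit 64) (nat_lit 0xc4c1889303de527e000000000000000071e0aa83b8000120) (Net.cons (nat_lit 32) (nat_lit 0x7f36c5ee0000000089386c8e000000002916d65200000000aa200864) (Net.cons (nat_lit 16) (nat_lit 0x45f50000c7f00000afb10000b2f60000699e0000c8f800008134000048ae) (Net.cons (nat_lit 8) (nat_lit 0x300ff00eb00a7002600d0005000120072002700140071007c007d005c004b0034) (Net.cons (nat_lit 4) (nat_lit 0xb090d020a00020c00090d010e0a0307090e0b09070e020006040e01060b010002) (Net.cons (nat_lit 2) (nat_lit 0x322031321322021000333212300002110022033333313232332001303313301120) (Net.cons (nat_lit 1) (nat_lit 0x1511545014554414104040154401040015011451011401145040115054154041400) Net.nil)))))))))))))))))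

theorem m_g10_ok : Net.ok 266 m_g10 = true := by decide +kernel

noncomputable def m_g11 : Net := (Net.cons (nat_lit 1) (nat_lit 0x1150144145510000414015050504004451144151411151141445100100404400) (Net.cons (nat_lit 2) (nat_lit 0x300112213021230333022023120131133000003202201311100302232010132300) (Net.cons (nat_lit 4) (nat_lit 0xa04030f00080f0d02080b0400080f06010b0206060e010905000c050a090a0900) (Net.cons (nat_lit 8) (nat_lit 0x100e500f0005c00c30061002c00e5003a00a2007200a700e900da00f000ce0008) (Net.cons (nat_lit 16) (nat_lit 0xebb1000023030000010d0000b58200000235000000080000905100000000) (Net.cons (nat_lit 32) (nat_lit 0xb2d3a1e500000000ea41703d000000002c1150150000000000000028) (Net.cons (nat_lit 64) (nat_lit 0xc280e891384291fd00000000000000000000000000000000) (Net.cons (nat_lit 128) (nat_lit 0x72c869ed7ec2b33b80058110000000ed) (Net.cons (nat_lit 256) (nat_lit 237) (Net.cons (nat_lit 128) (nat_lit 237) (Net.cons (nat_lit 64) (nat_lit 0x3e020cd45173efff0000000000000000ae05d41180100028) (Net.cons (nat_lit 32) (nat_lit 0xd7bb41fd00000000ed2b02bc0000000072d571a70000000000db30a8)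 (Net.cons (nat_lit 16) (nat_lit 0xee10000f6e50000fb58000046be000003570000466600001c1d00003718) (Net.cons (nat_lit 8) (nat_lit 0x100e500bb003300b4007900b1000400780039009a009700fd00e300ee00b700fc) (Net.cons (nat_lit 4) (nat_lit 0x2030301070607050407090a0a09000a0d0d0506070e070c0d09000d0f090c060c) (Net.cons (nat_lit 2) (nat_lit 0x220010133322202333012122032310321013000110210133102333311102310030) (Net.cons (nat_lit 1) (nat_lit 0x4104415154504011000515154154505050501440101540501015554504554004) Net.nil)))))))))))))))))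

theorem m_g11_ok : Net.ok 266 m_g11 = true := by decide +kernel

noncomputable def m_V12 : List Net := [m_g10, m_g11]

theorem m_V12_ok : okE 266 m_V12 = true := (okE_cons.2 ⟨m_g10_ok, (okE_cons.2 ⟨m_g11_ok, (okE_nil 266)⟩)⟩)

noncomputable def m_g14 : Net := (Net.cons (nat_lit 1) (nat_lit 0x104405005554455154040000040044045451101105401405100411440140015100) (Net.cons (nat_lit 2) (nat_lit 0x2230003223320030311131023010201211012112212012000233002101323220) (Net.cons (nat_lit 4) (nat_lit 0x500000905090308020c030b090003000a0a0b02000e02040c0806010000040400) (Net.cons (nat_lit 8) (nat_lit 0x7c007900d3004c0051004a0010002600a10027004800070012001100070000) (Net.cons (nat_lit 16) (nat_lit 0x9e690000502d00008421000046930000a0260000a4140000210b00000000) (Net.cons (nat_lit 32) (nat_lit 0x16a2037e000000000000afc400000000050062810000000000000000) (Net.cons (nat_lit 64) (nat_lit 0x805000006c4fbff00000000000000000000000000000000) (Net.cons (nat_lit 128) (nat_lit 0x805000206c4ffff000000000000037a) (Net.cons (nat_lit 256) (nat_lit 890)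 (Net.cons (nat_lit 128) (nat_lit 890) (Net.cons (nat_lit 64) (nat_lit 0x12860b6c42ecdfff0000000000000000972066dd00000000) (Net.cons (nat_lit 32) (nat_lit 0x8b090f7e000000000aa0e69500000000010087d400000000205b0000) (Net.cons (nat_lit 16) (nat_lit 0xeb4b0000db7500004aa200009293000022d60000efb10000055e00008700) (Net.cons (nat_lit 8) (nat_lit 0x1007c0063008700a30097002000cb00a9001500e30008002a00050016005b0048) (Net.cons (nat_lit 4) (nat_lit 0xb0b0f0806020f0c05040f0208050c0a00060f02050a0c09080c060706070208) (Net.cons (nat_lit 2) (nat_lit 0x301321102200031332133202310101100133320102111202133022231220210320) (Net.cons (nat_lit 1) (nat_lit 0x555000051104045451514110405555104001140401400515154455445510141500) Net.nil)))))))))))))))))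

theorem m_g14_ok : Net.ok 266 m_g14 = true := by decide +kernel

noncomputable def m_V15 : List Net := [m_g14, m_g1]

theorem m_V15_ok : okE 266 m_V15 = true := (okE_cons.2 ⟨m_g14_ok, (okE_cons.2 ⟨m_g1_ok, (okE_nil 266)⟩)⟩)

noncomputable def m_V17 : List Net := [m_g1, m_g1]

theorem m_V17_ok : okE 266 m_V17 = true := (okE_cons.2 ⟨m_g1_ok, (okE_cons.2 ⟨m_g1_ok, (okE_nil 266)⟩)⟩)

noncomputable def lb_E : List Net := [m_g1, m_g2, m_g3, m_g4, m_g5, m_g6, m_g7, m_g10, m_g11, m_g14, m_g1, m_g1, m_g1]

theorem lb_E_ok : okE 266 lb_E = true := (okE_cons.2 ⟨m_g1_ok, (okE_cons.2 ⟨m_g2_ok, (okE_cons.2 ⟨m_g3_ok, (okE_cons.2 ⟨m_g4_ok, (okE_cons.2 ⟨m_g5_ok, (okE_cons.2 ⟨m_g6_ok, (okE_cons.2 ⟨m_g7_ok, (okE_cons.2 ⟨m_g10_ok, (okE_cons.2 ⟨m_g11_ok, (okE_cons.2 ⟨m_g14_ok, (okE_cons.2 ⟨m_g1_ok, (okE_cons.2 ⟨m_g1_ok, (okE_cons.2 ⟨m_g1_ok, (okE_nil 266)⟩)⟩)⟩)⟩)⟩)⟩)⟩)⟩)⟩)⟩)⟩)⟩)⟩)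

noncomputable def code : List ℕ := [0, 0, 2, 4, 6, 8]

theorem sat_gp0 : Sat (gp 266 E code) [[1, 1], [2, 2], [3, 3], [4, 4], [5, 5], [1, 2, 1, 2, 1, 2], [1, 3, 1, 3], [1, 4, 1, 4], [1, 5, 1, 5], [2, 3, 2, 3, 2, 3, 2, 3, 2, 3], [2, 4, 2, 4], [2, 5, 2, 5], [3, 4, 3, 4, 3, 4], [3, 5, 3, 5], [4, 5, 4, 5, 4, 5, 4, 5, 4, 5], [1, 2, 3, 1, 2, 3, 1, 2, 3, 1, 2, 3, 1, 2, 3], [2, 3, 4, 2, 3, 4, 2, 3, 4, 2, 3, 4, 2, 3, 4], [1, 3, 4, 5, 4, 5, 1, 3, 4, 5, 4, 5, 1, 3, 4, 5, 4, 5]] :=
  sat_of_satB (k := 9) (L := (lab 266 9)) m_hn (det_lab m_hk _) E_ok le_rfl (by decide +kernel)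

theorem sat_gp : Sat (gp 266 E code) J1s.Rm :=
  Sat.mono sat_gp0 (by decide +kernel)

theorem sat_us0 : Sat (gp 266 E code) [[4, 3, 2, 1, 2, 3, 2, 5, 4, 3, 2, 1, 2, 3, 2, 5, 4, 3, 2, 1, 2, 3, 2, 5, 4, 3, 2, 1, 2, 3, 2, 5, 4, 3, 2, 1, 2, 3, 2, 5, 4, 3, 2, 1, 2, 3, 2, 5, 4, 3, 2, 1, 2, 3, 2, 5]] :=
  sat_of_satB (k := 9) (L := (lab 266 9)) m_hn (det_lab m_hk _) E_ok le_rfl (by decide +kernel)

theorem sat_us : Sat (gp 266 E code) (J1sQ.XQ.map fun u => (List.replicate 7 u).flatten) :=
  Sat.mono sat_us0 (by decide +kernel)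

theorem m_le9 : grp 266 m_V8 ≤ grp 266 E :=
  grp_le_of_memB m_hn m_hk E_ok m_V8_ok (ws := [nat_lit 0x10803050407, nat_lit 0x701070202080302]) (by decide +kernel)

theorem m_le13 : grp 266 m_V12 ≤ grp 266 m_V8 :=
  grp_le_of_memB m_hn m_hk m_V8_ok m_V12_ok (ws := [nat_lit 66306, nat_lit 0x3010103]) (by decide +kernel)

theorem m_le16 : grp 266 m_V15 ≤ grp 266 m_V12 :=
  grp_le_of_memB m_hn m_hk m_V12_ok m_V15_ok (ws := [nat_lit 0x2030301030302, nat_lit 0x40203010401010302]) (by decide +kernel)

theorem m_le18 : grp 266 m_V17 ≤ grp 266 m_V15 :=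
  grp_le_of_memB m_hn m_hk m_V15_ok m_V17_ok (ws := [nat_lit 66305, nat_lit 0x404020402]) (by decide +kernel)

theorem lb_le : grp 266 lb_E ≤ grp 266 E :=
  (grp_cons_le ((le_refl (grp 266 E)) (toPerm_mem_grp (E := E) (by simp [E]))) (grp_cons_le ((le_refl (grp 266 E)) (toPerm_mem_grp (E := E) (by simp [E]))) (grp_cons_le ((le_refl (grp 266 E)) (toPerm_mem_grp (E := E) (by simp [E]))) (grp_cons_le ((le_refl (grp 266 E)) (toPerm_mem_grp (E := E) (by simp [E]))) (grp_cons_le ((le_refl (grp 266 E)) (toPerm_mem_grp (E := E) (by simp [E]))) (grp_cons_le ((m_le9.trans (le_refl (grp 266 E))) (toPerm_mem_grp (E := m_V8) (by simp [m_V8]))) (grp_cons_le ((m_le9.trans (le_refl (grp 266 E))) (toPerm_mem_grp (E := m_V8) (by simp [m_V8]))) (grp_cons_le ((m_le13.trans (m_le9.trans (le_refl (grp 266 E)))) (toPerm_mem_grp (E := m_V12) (by simp [m_V12]))) (grp_cons_le ((m_le13.trans (m_le9.trans (le_refl (grp 266 E)))) (toPerm_mem_grp (E := m_V12) (by simp [m_V12]))) (grp_cons_le ((m_le16.trans (m_le13.trans (m_le9.trans (le_refl (grp 266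 E))))) (toPerm_mem_grp (E := m_V15) (by simp [m_V15]))) (grp_cons_le ((m_le16.trans (m_le13.trans (m_le9.trans (le_refl (grp 266 E))))) (toPerm_mem_grp (E := m_V15) (by simp [m_V15]))) (grp_cons_le ((m_le18.trans (m_le16.trans (m_le13.trans (m_le9.trans (le_refl (grp 266 E)))))) (toPerm_mem_grp (E := m_V17) (by simp [m_V17]))) (grp_cons_le ((m_le18.trans (m_le16.trans (m_le13.trans (m_le9.trans (le_refl (grp 266 E)))))) (toPerm_mem_grp (E := m_V17) (by simp [m_V17]))) (grp_nil_le _))))))))))))))

noncomputable def lb_ch : Ch := (Ch.cons (nat_lit 0) [nat_lit 1, nat_lit 3, nat_lit 5, nat_lit 7, nat_lit 9] (Ch.cons (nat_lit 1) [nat_lit 11, nat_lit 13] (Ch.cons (nat_lit 2) [nat_lit 15, nat_lit 17] (Ch.cons (nat_lit 3) [nat_lit 19, nat_lit 21] (Ch.cons (nat_lit 5) [nat_lit 23, nat_lit 25] Ch.nil)))))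

theorem lb_chk : Ch.chk 266 9 (lab 266 9) lb_E lb_ch 175560 = true :=
  by decide +kernel

theorem lb_ge : 175560 ≤ Nat.card (grp 266 E) :=
  (Ch.le_card_grp m_hn lb_E_ok lb_chk).trans (Subgroup.card_le_of_le lb_le)

/-- The permutation group. -/
noncomputable abbrev K : Subgroup (Equiv.Perm (Fin 266)) := gen (gp 266 E code) 5

/-- The generators. -/
noncomputable abbrev k : ℕ → K := subT K (gp 266 E code)

theorem model : Model k 5 266 E code K.subtype := model_self m_hn E_ok

theorem top : gen k 5 = ⊤ := model.top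

theorem sat : Sat k J1s.Rm := sat_subT le_rfl (by decide +kernel) sat_gp

theorem card : Nat.card K = 175560 :=
  (injective_of_card_le (finite_card_of_top top (by decide) (J1sC.card_all sat))
    (model.range (by decide +kernel) ▸ lb_ge)).2.1

theorem act : CosetAct K.subtype (wgen k [[1], [2], [3], [4]]) ⟨0, by decide⟩ :=
  model.cosetAct (by decide) ((J1sC.idx_all sat).of_wgen (by decide)) _ (by decide +kernel)
    (by decide +kernel)

theorem coatom : IsCoatom (wgen k [[1], [2], [3], [4]]) :=
  model.isCoatom (by decide) act (by decide) (ts := [[5], [5, 4, 5], [5, 4, 5, 3, 2, 3, 4, 5], [5, 4, 5, 3, 2, 3, 4, 5, 3, 1, 2, 3, 4, 5]]) (by decide) (by decide +kernel)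
    (by decide +kernel)

theorem simple : IsSimpleGroup K :=
  isSimple_of_coatom coatom (act.core K.subtype_injective) (p := 7) (k := 1) (by norm_num)
    (by rw [act.index]; simp) (by rw [card]; norm_num)
    fun N _ hN => top_of_quot top sat N
      (mem_of_sat_pow (model.sat K.subtype_injective (by decide +kernel) sat_us) hN)
      (by decide) fun _ h => J1sQ.card_q h

theorem exists_hom {G : Type*} [Group G] {g : ℕ → G} (hg : Sat g J1s.Rm) :
    ∃ f : K →* G, ∀ x, 1 ≤ x ∧ x ≤ 5 → f (k x) = g x :=
  exists_hom_of_pres top sat card.ge (by decide) (fun _ h => J1sC.card_all h) hg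

/-- The relators present a simple group of order 175560. -/
theorem exists_equiv {G : Type*} [Group G] {g : ℕ → G} (hg : Sat g J1s.Rm) (hne : g 1 ≠ 1) :
    Nonempty (K ≃* gen g 5) :=
  have := simple
  let ⟨_, hf⟩ := exists_hom hg
  equiv_gen_of_simple top hf (x := 1) (by decide) hne

theorem simple_card {G : Type*} [Group G] {g : ℕ → G} (hg : Sat g J1s.Rm) (hne : g 1 ≠ 1) :
    IsSimpleGroup (gen g 5) ∧ Nat.card (gen g 5) = 175560 :=
  have := simple
  let ⟨e⟩ := exists_equiv hg hne
  ⟨e.symm.isSimpleGroup, (Nat.card_congr e.toEquiv).symm.trans card⟩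


end Cfsg.Agent.H44.J1sM
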