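import Cfsg.Agent.H40.L3K0

/-! Project L33, piece T1: the model of order 64 in case I. -/

set_option autoImplicit false
set_option synthInstance.maxSize 2000

namespace Cfsg.Agent.H44.L33

open Subgroup Cfsg.Agent.H83 Cfsg.Agent.H40.L3

universe u

/-- `2 × SD₁₆`, the element `y ^ i a ^ j t ^ k`. -/
structure P where
  i : Fin 8
  j : Bool
  k : Bool
  deriving DecidableEq, Fintype

namespace P

instance : Mul P := ⟨fun m n => ⟨m.i + (bif m.j then 3 else 1) * n.i, m.j ^^ n.j, m.k ^^ n.k⟩⟩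
instance : One P := ⟨⟨0, false, false⟩⟩
instance : Inv P := ⟨fun m => ⟨(bif m.j then 5 else 7) * m.i, m.j, m.k⟩⟩

theorem assoc (x y z : P) : x * y * z = x * (y * z) := by
  obtain ⟨a, b, c⟩ := x
  obtain ⟨a', b', c'⟩ := y
  obtain ⟨a'', b'', c''⟩ := z
  have : ∀ (b b' : Bool) (a a' a'' : Fin 8),
      a + (bif b then 3 else 1) * a' + (bif (b ^^ b') then 3 else 1) * a'' =
      a + (bif b then 3 else 1) * (a' + (bif b' then 3 else 1) * a'') := by decide +kernel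
  change P.mk _ _ _ = P.mk _ _ _
  exact congr (congr (congrArg P.mk (this ..)) (Bool.xor_assoc ..)) (Bool.xor_assoc ..)

instance : Group P := Group.ofLeftAxioms assoc (by decide +kernel) (by decide +kernel)

def Y : P := ⟨1, false, false⟩
def A : P := ⟨0, true, false⟩
def T : P := ⟨0, false, true⟩
def W : P := ⟨2, false, false⟩
def Z : P := ⟨4, false, false⟩
def Q : P := ⟨1, true, false⟩

variable {G : Type u} [Group G] {y a t : G}

theorem exists_hom (y8 : y ^ 8 = 1) (a2 : a * a = 1) (ay : a * y * a = y ^ 3) (t2 : t * t = 1)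
    (ty : t * y = y * t) (ta : t * a = a * t) : ∃ φ : P →* G, φ Y = y ∧ φ A = a ∧ φ T = t ∧
      ∀ m, φ m = y ^ m.i.val * (bif m.j then a else 1) * (bif m.k then t else 1) := by
  have h1 : ∀ n : ℕ, a * y ^ n = y ^ (3 * n) * a := fun n => by
    rw [pow_mul, ← ay, show a * y * a = a * y * a⁻¹ by rw [inv_eq_of_mul_eq_one_right a2], conj_pow]
    group
  have h2 : ∀ n : ℕ, y ^ (n % 8) = y ^ n := fun n => (pow_eq_pow_mod n y8).symm
  have h3 : ∀ n : ℕ, t * y ^ n = y ^ n * t := fun n => (Commute.pow_right ty n).eq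
  have h4 : ∀ i i' : Fin 8, y ^ (i + i').val = y ^ i.val * y ^ i'.val := fun i i' => by
    rw [Fin.val_add, h2, pow_add]
  have h5 : ∀ i : Fin 8, y ^ (3 * i).val = y ^ (3 * i.val) := fun i => by
    rw [Fin.val_mul, h2]; rfl
  refine ⟨MonoidHom.mk' (fun m => y ^ m.i.val * (bif m.j then a else 1) * (bif m.k then t else 1))
    ?_, show y ^ 1 * 1 * 1 = y by simp, show y ^ 0 * a * 1 = a by simp,
    show y ^ 0 * 1 * t = t by simp, fun _ => rfl⟩
  rintro ⟨i, j, k⟩ ⟨i', j', k'⟩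
  change y ^ (i + (bif j then 3 else 1) * i').val * (bif (j ^^ j') then a else 1) *
    (bif (k ^^ k') then t else 1) = _
  cases j <;> cases j' <;> cases k <;> cases k' <;>
    simp only [Bool.cond_true, Bool.cond_false, Bool.xor_true, Bool.xor_false, Bool.not_true,
      Bool.not_false, h4, h5, mul_one, mul_assoc, h1, h3, tl (h1 _), tl (h3 _), ta, tl ta, a2, tl a2,
      t2, one_mul]

theorem ker : ∀ m : P, m = 1 ∨ m = T ∨ m = T * Z ∨ m ^ 4 = Z ∨ m = Z ∨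
    ∃ g, g * m * g⁻¹ * m⁻¹ = Z := by
  decide +kernel

theorem cls : ∀ m : P, m * m = 1 → m.k = true → m = T ∨ m = T * Z ∨ ∃ g, g * (T * A) * g⁻¹ = m := by
  decide +kernel

theorem pow4 : ∀ m : P, m ^ 4 ≠ 1 → m ^ 4 = Z ∧ (m ^ 2).k = false := by decide +kernel

theorem adj : ∀ m : P, m ^ 4 ≠ 1 → ∀ n : P, n * n = 1 → n * m * n = m ^ 3 → n.k = false →
    (m * n).k = false → ∃ d, d * m ^ 2 * d⁻¹ = W ∧ d * (m * n) * d⁻¹ = Q ∧
      (d * n * d⁻¹ = A ∨ d * n * d⁻¹ = A * Z) := by decide +kernel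

theorem cen : ∀ m : P, m * W = W * m → m * Q = Q * m → m = 1 ∨ m = Z ∨ m = T ∨ m = T * Z := by
  decide +kernel

end P

variable {G : Type u} [Group G] {t : G}

/-- The element `β`. -/
theorem exists_beta (h : H1 G t) (hg : h.g = 1) : ∃ β : G, β * β = h.y ^ 4 ∧
    β * t * β⁻¹ = t * h.y ^ 4 ∧ β * h.y ^ 2 * β⁻¹ = h.y ^ 2 ∧
    β * (h.y * h.a) * β⁻¹ = h.y * h.a ∧ (β * h.a * β⁻¹ = h.a ∨ β * h.a * β⁻¹ = h.a * h.y ^ 4) := by
  have y8 : h.y ^ 8 = 1 := h.y8 ▸ pow_orderOf_eq_one _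
  have y4 : h.y ^ 4 ≠ 1 := pow_ne_one_of_lt_orderOf (by norm_num) (by rw [h.y8]; norm_num)
  have ty : t * h.y = h.y * t := by have := h.ry; rwa [h.rt] at this
  have ta : t * h.a = h.a * t := by have := h.ra; rwa [h.rt] at this
  obtain ⟨φ, eY, eA, eT, hφ⟩ := P.exists_hom y8 h.a2 h.ay h.t2 ty ta
  have eW : φ .W = h.y ^ 2 := by rw [← eY, ← map_pow]; rfl
  have eZ : φ .Z = h.y ^ 4 := by rw [← eY, ← map_pow]; rfl
  have eQ : φ .Q = h.y * h.a := by rw [← eY, ← eA, ← map_mul]; rfl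
  have inj : Function.Injective φ := (injective_iff_map_eq_one φ).2 fun m hm => by
    rcases P.ker m with e | rfl | rfl | e | rfl | ⟨g, e⟩
    · exact e
    · exact absurd (eT ▸ hm) h.t1
    · rw [map_mul, eT, eZ] at hm
      exact absurd (by rw [mul_left_cancel (hm.trans h.t2.symm)]) h.nz
    · exact absurd (by rw [← eZ, ← e, map_pow, hm, one_pow]) y4
    · exact absurd (eZ ▸ hm) y4
    · exact absurd (by rw [← eZ, ← e]; simp [hm]) y4
  have hy : h.y ∈ h.S ⊓ h.L := h.SL ▸ subset_closure (by simp)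
  have ha : h.a ∈ h.S ⊓ h.L := h.SL ▸ subset_closure (by simp)
  have ht : t ∈ h.S := (h.SK ▸ h.tr : t ∈ h.S ⊓ h.K).1
  have rS : ∀ x ∈ h.S, ∃ m, φ m = x := fun x hx => by
    have : zpowers h.r ⊔ closure {h.y, h.a} ≤ φ.range := sup_le (zpowers_le.2 ⟨_, eT.trans h.rt.symm⟩)
      ((closure_le _).2 (by rintro _ (rfl | rfl); exacts [⟨_, eY⟩, ⟨_, eA⟩]))
    exact this ((h.cov x hx).elim id (by simp [hg]))
  have mS : ∀ m, φ m ∈ h.S := fun m => by
    rw [hφ]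
    refine mul_mem (mul_mem (pow_mem hy.1 _) ?_) ?_
    · cases m.j; exacts [one_mem _, ha.1]
    · cases m.k; exacts [one_mem _, ht]
  have mL : ∀ m, φ m ∈ h.L ↔ m.k = false := fun m => by
    have key : ∀ m : P, m.k = false → φ m ∈ h.S ⊓ h.L := fun m hm => by
      rw [hφ, hm, Bool.cond_false, mul_one]
      refine mul_mem (pow_mem hy _) ?_
      cases m.j; exacts [one_mem _, ha]
    refine ⟨fun k => ?_, fun k => (key m k).2⟩
    by_contra k'
    have h1 : φ (m * .T) ∈ h.L := (key (m * .T) (by clear k; revert m; decide +kernel)).2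
    rw [map_mul, eT, h.L.mul_mem_cancel_left k] at h1
    have : t ∈ zpowers h.r ⊓ closure {h.y, h.a} := ⟨h.tr, h.SL ▸ ⟨ht, h1⟩⟩
    rw [h.dis] at this
    exact h.t1 this
  have nS : ∀ x ∈ h.S, h.α * x * h.α⁻¹ ∈ h.S := fun x hx => (mem_normalizer_iff.1 h.αS x).1 hx
  obtain ⟨m, hm⟩ := rS _ (nS _ hy.1)
  obtain ⟨n, hn⟩ := rS _ (nS _ ha.1)
  have m4 : m ^ 4 ≠ 1 := fun e => y4 (by
    have := congrArg φ e
    rwa [map_pow, hm, conj_pow, map_one, conj_eq_one_iff] at this)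
  obtain ⟨mz, mk⟩ := P.pow4 m m4
  have αz : h.α * h.y ^ 4 * h.α⁻¹ = h.y ^ 4 := by rw [← conj_pow, ← hm, ← map_pow, mz, eZ]
  have n2 : n * n = 1 := inj (by rw [map_mul, hn, conj_mul, h.a2, map_one]; group)
  have c1 : IsConj t (t * h.y ^ 4) := isConj_iff.2 ⟨_, h.αt⟩
  have c2 : IsConj (t * h.y ^ 4) (t * h.a) :=
    isConj_iff.2 ⟨h.ρ, by rw [← conj_mul, h.ρ1, h.ρt, mul_inv_cancel_right]⟩
  have nk : n.k = false := by
    by_contra k
    refine h.nz (((isConj_iff.2 ⟨_, h.ρ1⟩).trans (isConj_iff.2 ⟨_, hn.symm⟩)).trans ?_)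
    rcases P.cls n n2 (by simpa using k) with rfl | rfl | ⟨g, rfl⟩
    · rw [eT]
    · rw [map_mul, eT, eZ]; exact c1.symm
    · refine ((c1.trans c2).trans (isConj_iff.2 ⟨φ g, ?_⟩)).symm
      rw [map_mul, map_mul, map_mul, map_inv, eT, eA]
  have κz : h.κ * h.y ^ 4 * h.κ⁻¹ = h.y ^ 4 := by
    rw [show h.y ^ 4 = (h.y ^ 2) ^ 2 by group, ← conj_pow]
    rcases h.κ1 with e | e <;> rw [e, ← eQ, ← eW] <;> try rw [← eZ, ← map_mul]
    all_goals rw [← map_pow, ← map_pow]; rfl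
  have zz : h.y ^ 4 * h.y ^ 4 = 1 := by rw [← pow_add, y8]
  have κ2 : h.α * h.κ * h.α⁻¹ * t = t * (h.α * h.κ * h.α⁻¹) := by
    have e : t = h.α * (t * h.y ^ 4) * h.α⁻¹ := by rw [← conj_mul, h.αt, αz, mul_assoc, zz, mul_one]
    have e' : h.κ * (t * h.y ^ 4) * h.κ⁻¹ = t * h.y ^ 4 := by
      rw [← conj_mul, κz, h.κt, mul_inv_cancel_right]
    rw [← mul_inv_eq_iff_eq_mul]
    calc _ = h.α * h.κ * h.α⁻¹ * (h.α * (t * h.y ^ 4) * h.α⁻¹) * (h.α * h.κ * h.α⁻¹)⁻¹ := by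
          rw [← e]
      _ = h.α * (h.κ * (t * h.y ^ 4) * h.κ⁻¹) * h.α⁻¹ := by group
      _ = t := by rw [e', ← e]
  have qk : (m * n).k = false := by
    have h1 := h.Ln _ κ2 _ ((mL _).2 mk)
    rw [map_pow, hm, conj_pow, show h.α * h.κ * h.α⁻¹ * (h.α * h.y ^ 2 * h.α⁻¹) *
      (h.α * h.κ * h.α⁻¹)⁻¹ = h.α * (h.κ * h.y ^ 2 * h.κ⁻¹) * h.α⁻¹ by group] at h1
    rw [← mL, map_mul, hm, hn, conj_mul]
    rcases h.κ1 with e | e <;> rw [e] at h1
    · exact h1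
    · rwa [← conj_mul, αz, h.L.mul_mem_cancel_right (pow_mem hy.2 4)] at h1
  obtain ⟨d, d1, d2, d3⟩ := P.adj m m4 n n2 (inj (by
    rw [map_mul, map_mul, map_pow, hm, hn, conj_mul, conj_mul, conj_pow, h.ay])) nk qk
  have cj : ∀ x, φ d * h.α * x * (φ d * h.α)⁻¹ = φ d * (h.α * x * h.α⁻¹) * (φ d)⁻¹ := fun x => by group
  have b1 : φ d * h.α * t * (φ d * h.α)⁻¹ = t * h.y ^ 4 := by
    have : φ (.T * .Z) = t * h.y ^ 4 := by rw [map_mul, eT, eZ]
    rw [cj, h.αt, ← this, ← map_inv, ← map_mul, ← map_mul]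
    exact congrArg φ ((by decide +kernel : ∀ d : P, d * (.T * .Z) * d⁻¹ = .T * .Z) d)
  have b2 : φ d * h.α * h.y ^ 2 * (φ d * h.α)⁻¹ = h.y ^ 2 := by
    rw [cj, ← conj_pow, ← hm, ← map_pow, ← map_inv, ← map_mul, ← map_mul, d1, eW]
  have b3 : φ d * h.α * (h.y * h.a) * (φ d * h.α)⁻¹ = h.y * h.a := by
    rw [cj, ← conj_mul (b := h.α), ← hm, ← hn, ← map_inv, ← map_mul, ← map_mul, ← map_mul, d2, eQ]
  have b4 : φ d * h.α * h.a * (φ d * h.α)⁻¹ = h.a ∨
      φ d * h.α * h.a * (φ d * h.α)⁻¹ = h.a * h.y ^ 4 := by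
    rw [cj, ← hn, ← map_inv, ← map_mul, ← map_mul]
    exact d3.imp (fun e => by rw [e, eA]) fun e => by rw [e, map_mul, eA, eZ]
  obtain ⟨s, hs⟩ := rS (φ d * h.α * (φ d * h.α)) (by
    rw [show φ d * h.α * (φ d * h.α) = φ d * (h.α * φ d * h.α⁻¹) * (h.α * h.α) by group]
    exact mul_mem (mul_mem (mS d) (nS _ (mS d))) h.α2)
  generalize φ d * h.α = β at b1 b2 b3 b4 hs
  have sq : ∀ x, β * x * β⁻¹ = x → φ s * x = x * φ s := fun x e => by
    rw [mul_inv_eq_iff_eq_mul] at e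
    rw [hs, mul_assoc, e, ← mul_assoc, e, mul_assoc]
  have bz : β * h.y ^ 4 * β⁻¹ = h.y ^ 4 := by
    rw [show h.y ^ 4 = (h.y ^ 2) ^ 2 by group, ← conj_pow, b2]
  have bs : β * φ s * β⁻¹ = φ s := by rw [hs]; group
  rcases P.cen s (inj (by rw [map_mul, map_mul, eW, sq _ b2]))
    (inj (by rw [map_mul, map_mul, eQ, sq _ b3])) with rfl | rfl | rfl | rfl
  · have c : ∀ x, t * x = x * t → β * t * x * (β * t)⁻¹ = β * x * β⁻¹ := fun x e => by
      rw [mul_assoc β, e]; group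
    refine ⟨β * t, ?_, by rw [c _ rfl, b1], by rw [c _ (Commute.pow_right ty 2).eq, b2],
      by rw [c _ (Commute.mul_right ty ta).eq, b3], by rwa [c _ ta]⟩
    rw [show β * t * (β * t) = β * t * β⁻¹ * (β * β) * t by group, b1, ← hs, map_one, mul_one,
      mul_assoc, ← (Commute.pow_right ty 4).eq, ← mul_assoc, h.t2, one_mul]
  · exact ⟨β, hs ▸ eZ, b1, b2, b3, b4⟩
  · rw [eT, b1] at bs
    exact absurd (mul_eq_left.1 bs) y4
  · rw [map_mul, eT, eZ, ← conj_mul, b1, bz, mul_eq_left] at bs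
    exact absurd bs y4

theorem sd_word (e : Bool) : ∀ m ∈ N.sD e, ∃ i : Fin 8,
    m = (N.Q * .A e) ^ i.val ∨ m = (N.Q * .A e) ^ i.val * .A e := by cases e <;> decide +kernel

theorem sd_q8 (e : Bool) : ∀ m ∈ N.sD e, m * m ≠ 1 → ∀ n ∈ N.sD e, m * m = n * n → m * n ≠ n * m →
    m * m = .Z ∧ ∀ x ∈ N.sS, x * m = m * x → x * n = n * x →
      x = 1 ∨ x = .T ∨ x = .Z ∨ x = .T * .Z := by cases e <;> decide +kernel

variable [Finite G]

/-- The Frattini argument for `κ`. -/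
theorem kappa {e : Bool} (ι : N →* G) (inj : Function.Injective ι)
    (syl : IsSylowIn 2 (N.sS.map ι) (centralizer ({ι .T} : Set G)))
    (fus : ∀ h : G, h * ι .T = ι .T * h → ∀ m n : N, m ∈ N.sD e → h * ι m * h⁻¹ = ι n → n ∈ N.sD e)
    (κ : G) (κt : κ * ι .T = ι .T * κ) (κw : ez1 ι (κ * ι .W * κ⁻¹) .Q)
    (κq : ez1 ι (κ * ι .Q * κ⁻¹) (.W * .Q)) : ∃ κ : G, κ * ι .T = ι .T * κ ∧ κ * ι .Z = ι .Z * κ ∧
      ez1 ι (κ * ι .B * κ⁻¹) .B ∧ ez1 ι (κ * ι .W * κ⁻¹) .Q ∧ ez1 ι (κ * ι .Q * κ⁻¹) (.W * .Q) := by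
  have z2 : ι .Z * ι .Z = 1 := by rw [← map_mul, ← map_one ι]; rfl
  have ww : ι .W * ι .W = ι .Z := by rw [← map_mul]; rfl
  have two : ∀ H : Subgroup N, IsPGroup 2 (H.map ι) := fun H =>
    ((IsPGroup.of_card (n := 6) N.card_all).to_subgroup H).map ι
  have κz : κ * ι .Z * κ⁻¹ = ι .Z := by
    rw [← ww, ← conj_mul]
    rcases κw with k | k <;> rw [k, ← map_mul, ← map_mul] <;> rfl
  set Y := NZ (ι .T) (ι .Z) z2 ⊓ centralizer {ι .W, ι .Q} with hY
  have mY : ∀ g, g ∈ Y ↔ g ∈ NZ (ι .T) (ι .Z) z2 ∧ ι .W * g = g * ι .W ∧ ι .Q * g = g * ι .Q :=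
    fun g => by simp [hY, mem_centralizer_iff]
  have RY : N.sR.map ι ≤ Y := by
    rintro _ ⟨m, hm, rfl⟩
    rw [SetLike.mem_coe] at hm
    simp only [mY, mem_NZ, ← map_inv, ← map_mul, inj.eq_iff]
    revert m; decide +kernel
  have hR : IsSylowIn 2 (N.sR.map ι) Y := by
    refine ⟨RY, two _, fun P hP p2 le => le_antisymm ?_ le⟩
    have key : ∀ x ∈ P, x * ι .T = ι .T * x → x ∈ N.sR.map ι := fun x hx xt => by
      obtain ⟨-, xw, xq⟩ := (mY x).1 (hP hx)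
      have cx : N.sQ.map ι ≤ centralizer (zpowers x : Set G) := by
        rintro _ ⟨m, hm, rfl⟩ _ ⟨k, rfl⟩
        rw [SetLike.mem_coe] at hm
        refine (Commute.zpow_left ?_ k).eq
        obtain ⟨i, rfl | rfl⟩ : ∃ i : Fin 4, m = N.W ^ i.val ∨ m = N.W ^ i.val * .Q := by
          revert m; decide +kernel
        · rw [map_pow]; exact Commute.pow_right xw.symm _
        · rw [map_mul, map_pow]; exact (Commute.pow_right xw.symm _).mul_right xq.symm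
      obtain ⟨g, hg, le'⟩ := syl.exists_conj_le (P := N.sQ.map ι ⊔ zpowers x) (sup_le (by
        rintro _ ⟨m, hm, rfl⟩
        rw [SetLike.mem_coe] at hm
        simp only [mem_centralizer_singleton_iff, ← map_mul, inj.eq_iff]
        revert m; decide +kernel) (zpowers_le.2 (mem_centralizer_singleton_iff.2 xt)))
        (isPGroup_sup (two _) (p2.to_le (zpowers_le.2 hx)) (le_norm_of_le_cent cx))
      rw [mem_centralizer_singleton_iff] at hg
      obtain ⟨m, -, em⟩ := le' (conj_mem_cj (mem_sup_left (mem_map_of_mem ι (x := .W) (by decide))))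
      obtain ⟨n, -, en⟩ := le' (conj_mem_cj (mem_sup_left (mem_map_of_mem ι (x := .Q) (by decide))))
      obtain ⟨v, hv, ev⟩ := le' (conj_mem_cj (mem_sup_right (mem_zpowers x)))
      have cj : ∀ a b : G, g * a * g⁻¹ = g * b * g⁻¹ ↔ a = b := fun a b => by simp
      obtain ⟨k1, k2⟩ := sd_q8 e m (fus g hg _ _ (by cases e <;> decide) em.symm)
        (by rw [Ne, ← inj.eq_iff, map_mul, em, conj_mul, map_one, conj_eq_one_iff, ← map_mul,
              ← map_one ι, inj.eq_iff]; decide)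
        n (fus g hg _ _ (by cases e <;> decide) en.symm)
        (by rw [← inj.eq_iff, map_mul, map_mul, em, en, conj_mul, conj_mul, cj, ← map_mul, ← map_mul]; rfl)
        (by rw [Ne, ← inj.eq_iff, map_mul, map_mul, em, en, conj_mul, conj_mul, cj, ← map_mul,
              ← map_mul, inj.eq_iff]; decide)
      have gz : ι .Z = g * ι .Z * g⁻¹ := by
        conv_rhs => rw [← ww, ← conj_mul, ← em, ← map_mul, k1]
      have gt : ι .T = g * ι .T * g⁻¹ := by rw [hg, mul_inv_cancel_right]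
      rcases k2 v hv (inj (by rw [map_mul, map_mul, ev, em, conj_mul, conj_mul, xw]))
        (inj (by rw [map_mul, map_mul, ev, en, conj_mul, conj_mul, xq])) with rfl | rfl | rfl | rfl
      · rw [map_one, eq_comm, conj_eq_one_iff] at ev
        exact ev ▸ one_mem _
      · exact mem_map.2 ⟨.T, by decide, (cj _ _).1 (gt.symm.trans ev)⟩
      · exact mem_map.2 ⟨.Z, by decide, (cj _ _).1 (gz.symm.trans ev)⟩
      · refine mem_map.2 ⟨.T * .Z, by decide, (cj _ _).1 (Eq.trans ?_ ev)⟩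
        rw [map_mul, ← conj_mul, ← gt, ← gz]
    intro x hx
    have bR : ι .B ∈ N.sR.map ι := (mem_map_of_mem ι (x := .B) (by decide))
    obtain ⟨⟨xz, k | k⟩, -⟩ := (mY x).1 (hP hx)
    · exact key x hx (mul_inv_eq_iff_eq_mul.1 k)
    · rw [← (N.sR.map ι).mul_mem_cancel_left bR]
      refine key _ (P.mul_mem (le bR) hx) (mul_inv_eq_iff_eq_mul.1 ?_)
      rw [show ι .B * x * ι .T * (ι .B * x)⁻¹ = ι .B * (x * ι .T * x⁻¹) * (ι .B)⁻¹ by group, k,
        ← map_inv, ← map_mul, ← map_mul, ← map_mul]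
      rfl
  have κN : κ ∈ NZ (ι .T) (ι .Z) z2 :=
    ⟨mul_inv_eq_iff_eq_mul.1 κz, Or.inl (mul_inv_eq_iff_eq_mul.2 κt)⟩
  have κY : κ ∈ normalizer (Y : Set G) := by
    refine inv_mem_iff.1 (mem_normalizer_fintype fun g hg => ?_)
    obtain ⟨k1, k2, k3⟩ := (mY g).1 hg
    have c : ∀ v, κ * v * κ⁻¹ * g = g * (κ * v * κ⁻¹) →
        v * (κ⁻¹ * g * κ⁻¹⁻¹) = κ⁻¹ * g * κ⁻¹⁻¹ * v := fun v k =>
      (by group : _ = κ⁻¹ * (κ * v * κ⁻¹ * g) * κ).trans (by rw [k]; group)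
    have cq : Commute (ι .Q) g := k3
    have cw : Commute (ι .W) g := k2
    have cz : Commute (ι .Z) g := k1.1.symm
    refine (mY _).2 ⟨mul_mem (mul_mem (inv_mem κN) k1) (inv_mem (inv_mem κN)), c _ ?_, c _ ?_⟩
    · rcases κw with k | k <;> rw [k]
      exacts [k3, map_mul ι _ _ ▸ (cq.mul_left cz).eq]
    · rcases κq with k | k <;> simp only [k, map_mul]
      exacts [(cw.mul_left cq).eq, ((cw.mul_left cq).mul_left cz).eq]
  obtain ⟨κ₁, n1, c, hc, rfl⟩ := hR.frattini' κY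
  obtain ⟨k1, k2, k3⟩ := (mY c).1 hc
  have N1 : κ₁ ∈ NZ (ι .T) (ι .Z) z2 := (mul_mem_cancel_right k1).1 κN
  have cj : ∀ v, v * c = c * v → κ₁ * c * v * (κ₁ * c)⁻¹ = κ₁ * v * κ₁⁻¹ := fun v k => by
    rw [mul_assoc κ₁, ← k]; group
  rw [cj _ k2] at κw
  rw [cj _ k3] at κq
  have fin : ∀ κ : G, κ ∈ normalizer (N.sR.map ι : Set G) → κ * ι .Z = ι .Z * κ →
      ez1 ι (κ * ι .B * κ⁻¹) .B := fun κ k1 k2 => by
    obtain ⟨m, hm, em⟩ := mem_map.1 <| (mem_normalizer_iff.1 k1 (ι .B)).1 (mem_map_of_mem ι (x := .B) (by decide))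
    have : m * m = .Z := inj (by
      rw [map_mul, em, conj_mul, ← map_mul, show N.B * .B = .Z from rfl, k2, mul_inv_cancel_right])
    rw [← em]
    exact (show m = .B ∨ m = .B * .Z by clear em; revert m; decide +kernel).imp (congrArg ι) (congrArg ι)
  rcases N1 with ⟨kz, k | k⟩
  · exact ⟨κ₁, mul_inv_eq_iff_eq_mul.1 k, kz, fin _ n1 kz, κw, κq⟩
  have bz : κ₁ * ι .B * ι .Z = ι .Z * (κ₁ * ι .B) := by
    rw [mul_assoc, ← map_mul, show N.B * .Z = .Z * .B from rfl, map_mul, ← mul_assoc, kz, mul_assoc]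
  have cb : ∀ m, κ₁ * ι .B * ι m * (κ₁ * ι .B)⁻¹ = κ₁ * ι (.B * m * N.B⁻¹) * κ₁⁻¹ := fun m => by
    rw [map_mul, map_mul, map_inv]; group
  refine ⟨κ₁ * ι .B, mul_inv_eq_iff_eq_mul.1 ?_, bz,
    fin _ (mul_mem n1 (le_normalizer (mem_map_of_mem ι (x := .B) (by decide)))) bz, by rw [cb]; exact κw,
    by rw [cb]; exact κq⟩
  rw [cb, show N.B * .T * N.B⁻¹ = .T * .Z from rfl, map_mul, ← conj_mul, k, kz,
    mul_inv_cancel_right, mul_assoc, z2, mul_one]

theorem t1 : T1S.{u} := by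
  intro G _ _ t h hg
  obtain ⟨β, b2, bt, bw, bq, ba⟩ := exists_beta h hg
  have y8 : h.y ^ 8 = 1 := h.y8 ▸ pow_orderOf_eq_one _
  have y4 : h.y ^ 4 ≠ 1 := pow_ne_one_of_lt_orderOf (by norm_num) (by rw [h.y8]; norm_num)
  have ty : t * h.y = h.y * t := by have := h.ry; rwa [h.rt] at this
  have ta : t * h.a = h.a * t := by have := h.ra; rwa [h.rt] at this
  obtain ⟨φ, eY, eA, eT, -⟩ := P.exists_hom y8 h.a2 h.ay h.t2 ty ta
  have eW : h.y ^ 2 = φ .W := by rw [← eY, ← map_pow]; rfl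
  have eZ : h.y ^ 4 = φ .Z := by rw [← eY, ← map_pow]; rfl
  have eQ : h.y * h.a = φ .Q := by rw [← eY, ← eA, ← map_mul]; rfl
  obtain ⟨e, c, hc, cb⟩ : ∃ (e : Bool) (c : P), c = (bif e then .A * .T else .A) ∧
      φ c * β = β * φ c := by
    rcases ba with k | k
    · exact ⟨false, .A, rfl, by rw [eA, mul_inv_eq_iff_eq_mul.1 k]⟩
    · refine ⟨true, .A * .T, rfl, (mul_inv_eq_iff_eq_mul.1 ?_).symm⟩
      rw [map_mul, eA, eT, ← conj_mul, k, bt, eZ, ← eA, ← eT, ← map_mul, ← map_mul, ← map_mul,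
        ← map_mul]
      rfl
  rw [eZ] at b2 bt y4
  rw [eW, mul_inv_eq_iff_eq_mul] at bw
  rw [eQ, mul_inv_eq_iff_eq_mul] at bq
  have bz : β * φ .Z = φ .Z * β := by rw [← b2, mul_assoc]
  have R : Rel1 (φ .T) β (φ .W) (φ .Q) (φ c) (φ .Z) := by
    refine ⟨?_, b2, ?_, ?_, ?_, ?_, by
      rw [eT, mul_inv_eq_iff_eq_mul.1 bt, mul_assoc, ← bz, mul_assoc], ?_, ?_, ?_, bw.symm, bq.symm,
      cb, ?_, ?_, ?_, ?_, ?_⟩ <;>
    simp only [← map_mul] <;> first | rw [← map_one φ] | skip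
    all_goals subst hc; cases e <;> rfl
  obtain ⟨ι, iT, iB, iW, iQ, iC, iZ⟩ := N.exists_hom R
  have inj := N.inj_of ι (iZ ▸ y4)
  have iA : ι (.A e) = h.a := by
    rw [← eA]
    cases e
    · exact iC.trans (congrArg φ hc)
    · rw [show N.A true = .C * .T from rfl, map_mul, iC, iT, ← map_mul, hc]; rfl
  have iY : ι (.Q * .A e) = h.y := by rw [map_mul, iQ, iA, ← eQ, mul_assoc, h.a2, mul_one]
  rw [eT] at iT
  have DL : closure {h.y, h.a} ≤ (N.sD e).map ι := (closure_le _).2 (by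
    rintro _ (rfl | rfl)
    exacts [mem_map.2 ⟨_, by cases e <;> decide, iY⟩, mem_map.2 ⟨_, by cases e <;> decide, iA⟩])
  have eS : N.sS.map ι = h.S := h.syl.max _ (by
      rintro _ ⟨m, hm, rfl⟩
      rw [SetLike.mem_coe] at hm
      rw [mem_centralizer_singleton_iff, ← iT, ← map_mul, ← map_mul]
      exact congrArg ι (by revert m; decide +kernel))
    (((IsPGroup.of_card (n := 6) N.card_all).to_subgroup _).map ι) fun x hx =>
      sup_le (zpowers_le.2 (mem_map.2 ⟨.T, by decide, iT.trans h.rt.symm⟩))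
        (DL.trans (map_mono fun m => by revert m; cases e <;> decide +kernel)) ((h.cov x hx).elim id (by simp [hg]))
  have syl : IsSylowIn 2 (N.sS.map ι) (centralizer ({ι .T} : Set G)) := by rw [eS, iT]; exact h.syl
  have fus : ∀ g : G, g * ι .T = ι .T * g → ∀ m n : N, m ∈ N.sD e → g * ι m * g⁻¹ = ι n →
      n ∈ N.sD e := fun g gt m n hm k => by
    have hy : h.y ∈ h.S ⊓ h.L := h.SL ▸ subset_closure (by simp)
    have ha : h.a ∈ h.S ⊓ h.L := h.SL ▸ subset_closure (by simp)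
    have mL : ι m ∈ h.L := by
      obtain ⟨i, rfl | rfl⟩ := sd_word e m hm
      · rw [map_pow, iY]; exact pow_mem hy.2 _
      · rw [map_mul, map_pow, iY, iA]; exact mul_mem (pow_mem hy.2 _) ha.2
    have nT : n * .T = .T * n := inj (by
      have : m * .T = .T * m := by clear k mL; revert m; cases e <;> decide +kernel
      rw [map_mul, map_mul, ← k]
      exact (((show Commute g _ from gt).mul_left (show Commute (ι m) (ι .T) by
        rw [Commute, SemiconjBy, ← map_mul, this, map_mul])).mul_left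
          (show Commute g _ from gt).inv_left).eq)
    have nS : ι n ∈ h.S := eS ▸ mem_map_of_mem ι (by clear k; revert n; decide +kernel)
    obtain ⟨n', k1, k2⟩ := DL (h.SL ▸ ⟨nS, k ▸ h.Ln g (iT ▸ gt) _ mL⟩ : ι n ∈ closure {h.y, h.a})
    exact inj k2 ▸ k1
  rw [← eZ] at iZ
  rw [← eW] at iW
  rw [← eQ] at iQ
  obtain ⟨κ, k1, k2, k3, k4, k5⟩ := kappa ι inj syl fus h.κ (iT ▸ h.κt)
    (by simpa only [ez1, map_mul, iW, iQ, iZ] using h.κ1)
    (by simpa only [ez1, map_mul, iW, iQ, iZ] using h.κ2)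
  exact ⟨e, ⟨⟨ι, inj, syl, fus, by rw [iZ, iT]; exact h.nz, h.ρ, iT ▸ h.ρt,
    by rw [iZ, iA, h.ρ1], by rw [map_mul, iZ, iA, h.ρ2], κ, k1, k2, k3, k4, k5⟩⟩⟩

end Cfsg.Agent.H44.L33
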