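import Cfsg.Agent.H44.Coset
import Cfsg.Agent.H44.M11sP

set_option autoImplicit false
set_option maxRecDepth 1000000
set_option linter.all false
set_option Elab.async false

namespace Cfsg.Agent.H44.M11sQ.q
open Cfsg.Agent.H44

noncomputable def rT0 : Tr :=
 (.leaf (nat_lit 0x8a8a80))
noncomputable def gT0 : Tr :=
 (.leaf (nat_lit 0x746c6441552d2906))
/-- The relators. -/
def R : List (List ℕ) := [[1, 1],
  [2, 3],
  [4, 5],
  [2, 2, 2, 2],
  [1, 2, 1, 2, 1, 2, 1, 2, 1, 2, 1, 2, 1, 2, 1, 2, 1, 2, 1, 2, 1, 2],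
  [1, 2, 2, 1, 2, 2, 1, 2, 2, 1, 2, 2, 1, 2, 2, 1, 2, 2],
  [1, 2, 1, 2, 1, 3, 1, 2, 1, 2, 2, 1, 3, 1, 2, 1, 3, 1, 3],
  [4, 4, 4, 4],
  [2, 4, 2, 5, 2, 4, 2, 5],
  [2, 5, 2, 5, 2, 5, 2, 5],
  [2, 4, 3, 4, 2, 4, 4, 2, 4, 3, 4, 2, 4, 4],
  [2, 4, 4, 2, 4, 4, 2, 4, 4, 2, 4, 4, 2, 4, 4],
  [2, 2, 4, 4, 2, 2, 4, 4, 2, 2, 4, 4, 2, 2, 4, 4, 2, 2, 4, 4],
  [5, 1, 3, 1, 2, 1, 2, 1],
  [1, 2]]
/-- The subgroup generators. -/
def S : List (List ℕ) := []
def Wr : List (List ℕ) := [[2, 3],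
  [4, 5]]
def Wn : List (List ℕ) := [[2, 1],
  [3, 1],
  [5, 1, 3, 1, 2, 1, 2, 1],
  [1, 2, 1, 2, 1, 3, 1, 2, 1, 2, 2, 1, 3, 1, 2, 1, 3, 1, 3],
  [1, 1],
  [3, 2],
  [5, 4]]
def cr : List (ℕ × ℕ × ℕ) := [(0, 0, 0), (0, 0, 0)]
def cn : List (ℕ × ℕ × ℕ) := [(1, 14, 1), (2, 14, 0), (1, 13, 0), (1, 6, 0), (0, 0, 0), (0, 0, 0), (0, 0, 0)]
noncomputable def rT : Tr := rT0
noncomputable def gT : Tr := gT0
noncomputable def rC (i : ℕ) : ℕ := rT.get (nat_lit 0) i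
noncomputable def gC (i : ℕ) : ℕ := gT.get (nat_lit 0) i
noncomputable def row (p : ℕ) : ℕ := rec2 rC (nat_lit 7) (nat_lit 127) (nat_lit 24) (nat_lit 0xffffff) p
noncomputable def gf (p : ℕ) : ℕ := rec2 gC (nat_lit 9) (nat_lit 511) (nat_lit 8) (nat_lit 255) p
noncomputable def gw (c : ℕ) : List ℕ := nth [] Wr c
noncomputable def wn (c : ℕ) : ℕ := pack (nat_lit 3) (nth [] Wn c) (nat_lit 0)
noncomputable def C : Cert :=
  { n := (nat_lit 1), na := (nat_lit 1), M := (nat_lit 8), nc := (nat_lit 5), W := (nat_lit 1), EB := (nat_lit 4),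
    LB := (nat_lit 3), nreg := (nat_lit 2), ivT := (nat_lit 152776), base := (nat_lit 0),
    row := row, gf := gf, gw := gw, wn := wn }
theorem masks : Masks C (nat_lit 1) (nat_lit 15) (nat_lit 7) (nat_lit 5) (nat_lit 31) :=
  ⟨by decide +kernel, by decide +kernel, by decide +kernel, by decide +kernel, by decide +kernel⟩
noncomputable def rchk : ℕ → ℕ → ℕ → Bool :=
  rowChk row gf gw (nat_lit 1) (nat_lit 8) (nat_lit 5) (nat_lit 1) (nat_lit 1) (nat_lit 4) (nat_lit 15) (nat_lit 3) (nat_lit 7) (nat_lit 5) (nat_lit 31) (nat_lit 2) (nat_lit 152776) (nat_lit 3) (nat_lit 7) (nat_lit 7) (nat_lit 127)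
noncomputable def fchk : ℕ → ℕ → ℕ → Bool :=
  auxRun row gf wn (nat_lit 1) (nat_lit 1) (nat_lit 8) (nat_lit 5) (nat_lit 1) (nat_lit 1) (nat_lit 4) (nat_lit 15) (nat_lit 3) (nat_lit 7) (nat_lit 5) (nat_lit 152776) (nat_lit 0) (nat_lit 5) (nat_lit 31)
theorem rows_of {lo hi : ℕ} {t : JL} (h : t.run rchk (nat_lit 35) hi lo = true) : C.RowsOK lo hi :=
  rowsOK_of_run masks h
theorem facts_of {lo hi : ℕ} {t : JL} (h : t.run fchk (nat_lit 20) hi lo = true) : C.FactsOK lo hi :=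
  factsOK_of_run masks h
theorem words_ok : wordsChk 1 5 1 3 2 152776 0 R S Wr Wn cr cn = true := by
  decide +kernel
noncomputable def j0 : JL :=
(.cons (nat_lit 1) (nat_lit 0x50410083) (nat_lit 501)
.nil)
theorem t0 : C.RowsOK (nat_lit 0) (nat_lit 1) :=
  rows_of (t := j0) (by decide +kernel)
noncomputable def j1 : JL :=
(.cons (nat_lit 1) (nat_lit 0) (nat_lit 0)
(.cons (nat_lit 7) (nat_lit 0x1300010e000ec000750003a0001d00000) (nat_lit 0x1ac0020076a8008019a5002005419065190651ca72a4a729ca0260085394e549401c00ca0020045001001)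
.nil))
theorem t1 : C.FactsOK (nat_lit 0) (nat_lit 8) :=
  facts_of (t := j1) (by decide +kernel)
theorem checked : Checked C R S :=
  ⟨⟨Wr, Wn, cr, cn, fun _ => rfl, fun _ => rfl, words_ok⟩, t0,
    t1⟩

/-- In any group whose elements `g 1, …, g 5` satisfy the relators `R`, a subgroup containing the words
of `S` has index at most 1 in the subgroup generated by these elements. -/
theorem idxLe {G : Type*} [Group G] {g : ℕ → G} (hg : Sat g R) {H : Subgroup G}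
    (hS : ∀ s ∈ S, ev g s ∈ H) : IdxLe H (gen g 5) 1 :=
  checked.idxLe hg hS

end Cfsg.Agent.H44.M11sQ.q

namespace Cfsg.Agent.H44.M11sQ
open Cfsg.Agent.H44

/-- A word of order 11. -/
def XQ : List (List ℕ) := [[1, 2]]

theorem idx_q {G : Type*} [Group G] {g : ℕ → G} (hg : Sat g (M11s.Rm ++ XQ)) :
    IdxLe (wgen g []) (wgen g [[1], [2], [3], [4], [5]]) 1 :=
  Cfsg.Agent.H44.M11sQ.q.checked.step hg [0, 1, 2, 3, 4, 5] (by decide +kernel) (by decide +kernel) (by decide +kernel)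

theorem card_q {G : Type*} [Group G] {g : ℕ → G} (hg : Sat g (M11s.Rm ++ XQ)) :
    Finite (wgen g [[1], [2], [3], [4], [5]]) ∧ Nat.card (wgen g [[1], [2], [3], [4], [5]]) ≤ 1 :=
  (idx_q hg).wcard (n := 1) (m := 1) (by decide) (wcard_nil g)


end Cfsg.Agent.H44.M11sQ

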