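import Mathlib
import Cfsg.Agent.H43.Chain
import Cfsg.Agent.H44.M11sC
import Cfsg.Agent.H44.M11sQ
import Cfsg.Agent.H44.Perm3

set_option autoImplicit false
set_option maxRecDepth 1000000
set_option linter.all false
set_option Elab.async false

namespace Cfsg.Agent.H44.M11sM

open Cfsg.Agent.H44 Cfsg.Agent.H43 

theorem m_hn : NOk 11 := by decide

theorem m_hk : 11 ≤ 2 ^ 4 := by decide

noncomputable def m_g1 : Net := (Net.cons (nat_lit 1) (nat_lit 320) (Net.cons (nat_lit 4) (nat_lit 8) (Net.cons (nat_lit 2) (nat_lit 256) (Net.cons (nat_lit 1) (nat_lit 337) Net.nil))))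

theorem m_g1_ok : Net.ok 11 m_g1 = true := by decide +kernel

noncomputable def m_g2 : Net := (Net.cons (nat_lit 1) (nat_lit 20) (Net.cons (nat_lit 2) (nat_lit 16) (Net.cons (nat_lit 4) (nat_lit 2) (Net.cons (nat_lit 8) (nat_lit 2) (Net.cons (nat_lit 4) (nat_lit 6) (Net.cons (nat_lit 2) (nat_lit 50) (Net.cons (nat_lit 1) (nat_lit 272) Net.nil)))))))

theorem m_g2_ok : Net.ok 11 m_g2 = true := by decide +kernel

noncomputable def m_g3 : Net := (Net.cons (nat_lit 1) (nat_lit 272) (Net.cons (nat_lit 2) (nat_lit 288) (Net.cons (nat_lit 4) (nat_lit 9) (Net.cons (nat_lit 8) (nat_lit 1) (Net.cons (nat_lit 4) (nat_lit 1) (Net.cons (nat_lit 2) (nat_lit 18) (Net.cons (nat_lit 1) (nat_lit 272) Net.nil)))))))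

theorem m_g3_ok : Net.ok 11 m_g3 = true := by decide +kernel

noncomputable def E : List Net := [m_g1, m_g2, m_g3]

theorem E_ok : okE 11 E = true := (okE_cons.2 ⟨m_g1_ok, (okE_cons.2 ⟨m_g2_ok, (okE_cons.2 ⟨m_g3_ok, (okE_nil 11)⟩)⟩)⟩)

noncomputable def m_g4 : Net := (Net.cons (nat_lit 1) (nat_lit 324) (Net.cons (nat_lit 2) (nat_lit 304) (Net.cons (nat_lit 4) (nat_lit 1) (Net.cons (nat_lit 8) (nat_lit 1) (Net.cons (nat_lit 4) (nat_lit 7) (Net.cons (nat_lit 2) (nat_lit 18) (Net.cons (nat_lit 1) (nat_lit 4) Net.nil)))))))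

theorem m_g4_ok : Net.ok 11 m_g4 = true := by decide +kernel

noncomputable def m_V5 : List Net := [m_g3, m_g4]

theorem m_V5_ok : okE 11 m_V5 = true := (okE_cons.2 ⟨m_g3_ok, (okE_cons.2 ⟨m_g4_ok, (okE_nil 11)⟩)⟩)

noncomputable def m_g7 : Net := (Net.cons (nat_lit 1) (nat_lit 20) (Net.cons (nat_lit 4) (nat_lit 2) (Net.cons (nat_lit 8) (nat_lit 6) (Net.cons (nat_lit 4) (nat_lit 2) (Net.cons (nat_lit 2) (nat_lit 272) Net.nil)))))

theorem m_g7_ok : Net.ok 11 m_g7 = true := by decide +kernel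

noncomputable def m_g8 : Net := (Net.cons (nat_lit 1) (nat_lit 64) (Net.cons (nat_lit 2) (nat_lit 50) (Net.cons (nat_lit 4) (nat_lit 2) (Net.cons (nat_lit 8) (nat_lit 6) (Net.cons (nat_lit 4) (nat_lit 4) (Net.cons (nat_lit 2) (nat_lit 2) (Net.cons (nat_lit 1) (nat_lit 64) Net.nil)))))))

theorem m_g8_ok : Net.ok 11 m_g8 = true := by decide +kernel

noncomputable def m_V9 : List Net := [m_g7, m_g8]

theorem m_V9_ok : okE 11 m_V9 = true := (okE_cons.2 ⟨m_g7_ok, (okE_cons.2 ⟨m_g8_ok, (okE_nil 11)⟩)⟩)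

noncomputable def m_g11 : Net := (Net.cons (nat_lit 1) (nat_lit 260) (Net.cons (nat_lit 2) (nat_lit 272) (Net.cons (nat_lit 4) (nat_lit 3) (Net.cons (nat_lit 8) (nat_lit 7) (Net.cons (nat_lit 4) (nat_lit 3) (Net.cons (nat_lit 1) (nat_lit 84) Net.nil))))))

theorem m_g11_ok : Net.ok 11 m_g11 = true := by decide +kernel

noncomputable def m_g12 : Net := (Net.cons (nat_lit 1) (nat_lit 80) (Net.cons (nat_lit 2) (nat_lit 32) (Net.cons (nat_lit 4) (nat_lit 12) (Net.cons (nat_lit 8) (nat_lit 4) (Net.cons (nat_lit 4) (nat_lit 4) (Net.cons (nat_lit 2) (nat_lit 256) (Net.cons (nat_lit 1) (nat_lit 320) Net.nil)))))))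

theorem m_g12_ok : Net.ok 11 m_g12 = true := by decide +kernel

noncomputable def m_V13 : List Net := [m_g11, m_g12]

theorem m_V13_ok : okE 11 m_V13 = true := (okE_cons.2 ⟨m_g11_ok, (okE_cons.2 ⟨m_g12_ok, (okE_nil 11)⟩)⟩)

noncomputable def lb_E : List Net := [m_g1, m_g2, m_g3, m_g3, m_g4, m_g7, m_g8, m_g11, m_g12]

theorem lb_E_ok : okE 11 lb_E = true := (okE_cons.2 ⟨m_g1_ok, (okE_cons.2 ⟨m_g2_ok, (okE_cons.2 ⟨m_g3_ok, (okE_cons.2 ⟨m_g3_ok, (okE_cons.2 ⟨m_g4_ok, (okE_cons.2 ⟨m_g7_ok, (okE_cons.2 ⟨m_g8_ok, (okE_cons.2 ⟨m_g11_ok, (okE_cons.2 ⟨m_g12_ok, (okE_nil 11)⟩)⟩)⟩)⟩)⟩)⟩)⟩)⟩)⟩)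

noncomputable def code : List ℕ := [0, 0, 2, 3, 4, 5]

theorem sat_gp0 : Sat (gp 11 E code) [[1, 1], [2, 3], [4, 5], [2, 2, 2, 2], [1, 2, 1, 2, 1, 2, 1, 2, 1, 2, 1, 2, 1, 2, 1, 2, 1, 2, 1, 2, 1, 2], [1, 2, 2, 1, 2, 2, 1, 2, 2, 1, 2, 2, 1, 2, 2, 1, 2, 2], [1, 2, 1, 2, 1, 3, 1, 2, 1, 2, 2, 1, 3, 1, 2, 1, 3, 1, 3], [4, 4, 4, 4], [2, 4, 2, 5, 2, 4, 2, 5], [2, 5, 2, 5, 2, 5, 2, 5], [2, 4, 3, 4, 2, 4, 4, 2, 4, 3, 4, 2, 4, 4], [2, 4, 4, 2, 4, 4, 2, 4, 4, 2, 4, 4, 2, 4, 4], [2, 2, 4, 4, 2, 2, 4, 4, 2, 2, 4, 4, 2, 2, 4, 4, 2, 2, 4, 4], [5, 1, 3, 1, 2, 1, 2, 1]] :=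
  sat_of_satB (k := 4) (L := (lab 11 4)) m_hn (det_lab m_hk _) E_ok le_rfl (by decide +kernel)

theorem sat_gp : Sat (gp 11 E code) M11s.Rm :=
  Sat.mono sat_gp0 (by decide +kernel)

theorem sat_us0 : Sat (gp 11 E code) [[1, 2, 1, 2, 1, 2, 1, 2, 1, 2, 1, 2, 1, 2, 1, 2, 1, 2, 1, 2, 1, 2]] :=
  sat_of_satB (k := 4) (L := (lab 11 4)) m_hn (det_lab m_hk _) E_ok le_rfl (by decide +kernel)

theorem sat_us : Sat (gp 11 E code) (M11sQ.XQ.map fun u => (List.replicate 11 u).flatten) :=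
  Sat.mono sat_us0 (by decide +kernel)

theorem m_le6 : grp 11 m_V5 ≤ grp 11 E :=
  grp_le_of_memB m_hn m_hk E_ok m_V5_ok (ws := [nat_lit 0x60203020303020402, nat_lit 1283]) (by decide +kernel)

theorem m_le10 : grp 11 m_V9 ≤ grp 11 m_V5 :=
  grp_le_of_memB m_hn m_hk m_V5_ok m_V9_ok (ws := [nat_lit 0x203030302, nat_lit 0x20203030204]) (by decide +kernel)

theorem m_le14 : grp 11 m_V13 ≤ grp 11 m_V9 :=
  grp_le_of_memB m_hn m_hk m_V9_ok m_V13_ok (ws := [nat_lit 0x20404040204020202, nat_lit 769]) (by decide +kernel)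

theorem lb_le : grp 11 lb_E ≤ grp 11 E :=
  (grp_cons_le ((le_refl (grp 11 E)) (toPerm_mem_grp (E := E) (by simp [E]))) (grp_cons_le ((le_refl (grp 11 E)) (toPerm_mem_grp (E := E) (by simp [E]))) (grp_cons_le ((le_refl (grp 11 E)) (toPerm_mem_grp (E := E) (by simp [E]))) (grp_cons_le ((m_le6.trans (le_refl (grp 11 E))) (toPerm_mem_grp (E := m_V5) (by simp [m_V5]))) (grp_cons_le ((m_le6.trans (le_refl (grp 11 E))) (toPerm_mem_grp (E := m_V5) (by simp [m_V5]))) (grp_cons_le ((m_le10.trans (m_le6.trans (le_refl (grp 11 E)))) (toPerm_mem_grp (E := m_V9) (by simp [m_V9]))) (grp_cons_le ((m_le10.trans (m_le6.trans (le_refl (grp 11 E)))) (toPerm_mem_grp (E := m_V9) (by simp [m_V9]))) (grp_cons_le ((m_le14.trans (m_le10.trans (m_le6.trans (le_refl (grp 11 E))))) (toPerm_mem_grp (E := m_V13) (by simp [m_V13]))) (grp_cons_le ((m_le14.trans (m_le10.trans (m_le6.trans (le_refl (grp 11 E))))) (toPerm_mem_grp (E := m_V13)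 (by simp [m_V13]))) (grp_nil_le _))))))))))

noncomputable def lb_ch : Ch := (Ch.cons (nat_lit 0) [nat_lit 1, nat_lit 3, nat_lit 5] (Ch.cons (nat_lit 1) [nat_lit 7, nat_lit 9] (Ch.cons (nat_lit 2) [nat_lit 11, nat_lit 13] (Ch.cons (nat_lit 3) [nat_lit 15, nat_lit 17] Ch.nil))))

theorem lb_chk : Ch.chk 11 4 (lab 11 4) lb_E lb_ch 7920 = true :=
  by decide +kernel

theorem lb_ge : 7920 ≤ Nat.card (grp 11 E) :=
  (Ch.le_card_grp m_hn lb_E_ok lb_chk).trans (Subgroup.card_le_of_le lb_le)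

/-- The permutation group. -/
noncomputable abbrev K : Subgroup (Equiv.Perm (Fin 11)) := gen (gp 11 E code) 5

/-- The generators. -/
noncomputable abbrev k : ℕ → K := subT K (gp 11 E code)

theorem model : Model k 5 11 E code K.subtype := model_self m_hn E_ok

theorem top : gen k 5 = ⊤ := model.top

theorem sat : Sat k M11s.Rm := sat_subT le_rfl (by decide +kernel) sat_gp

theorem card : Nat.card K = 7920 :=
  (injective_of_card_le (finite_card_of_top top (by decide) (M11sC.card_all sat))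
    (model.range (by decide +kernel) ▸ lb_ge)).2.1

theorem act : CosetAct K.subtype (wgen k [[2], [3], [4], [5]]) ⟨0, by decide⟩ :=
  model.cosetAct (by decide) ((M11sC.idx_all sat).of_wgen (by decide)) _ (by decide +kernel)
    (by decide +kernel)

theorem coatom : IsCoatom (wgen k [[2], [3], [4], [5]]) :=
  model.isCoatom (by decide) act (by decide) (ts := [[1]]) (by decide) (by decide +kernel)
    (by decide +kernel)

theorem simple : IsSimpleGroup K :=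
  isSimple_of_coatom coatom (act.core K.subtype_injective) (p := 11) (k := 1) (by norm_num)
    (by rw [act.index]; simp) (by rw [card]; norm_num)
    fun N _ hN => top_of_quot top sat N
      (mem_of_sat_pow (model.sat K.subtype_injective (by decide +kernel) sat_us) hN)
      (by decide) fun _ h => M11sQ.card_q h

theorem exists_hom {G : Type*} [Group G] {g : ℕ → G} (hg : Sat g M11s.Rm) :
    ∃ f : K →* G, ∀ x, 1 ≤ x ∧ x ≤ 5 → f (k x) = g x :=
  exists_hom_of_pres top sat card.ge (by decide) (fun _ h => M11sC.card_all h) hg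

/-- The relators present a simple group of order 7920. -/
theorem exists_equiv {G : Type*} [Group G] {g : ℕ → G} (hg : Sat g M11s.Rm) (hne : g 1 ≠ 1) :
    Nonempty (K ≃* gen g 5) :=
  have := simple
  let ⟨_, hf⟩ := exists_hom hg
  equiv_gen_of_simple top hf (x := 1) (by decide) hne

theorem simple_card {G : Type*} [Group G] {g : ℕ → G} (hg : Sat g M11s.Rm) (hne : g 1 ≠ 1) :
    IsSimpleGroup (gen g 5) ∧ Nat.card (gen g 5) = 7920 :=
  have := simple
  let ⟨e⟩ := exists_equiv hg hne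
  ⟨e.symm.isSimpleGroup, (Nat.card_congr e.toEquiv).symm.trans card⟩


end Cfsg.Agent.H44.M11sM
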