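import Cfsg.Agent.H46.SOn

/-! Project S95: the subgroup `4³` of the O'Nan group and the outer automorphism inverting it. -/

set_option autoImplicit false

namespace Cfsg.Agent.H44.OnBV

open Subgroup Cfsg.Agent.H59 Cfsg.Agent.H59.On Cfsg.Agent.H46.S95 Cfsg.Agent.H46.S95.On

/-- generators of `B` -/
def gB : List (List ℕ) := [[3, 7, 3, 8], [4, 7, 4, 8], [3, 7, 4]]
/-- generators of `V` -/
def gV : List (List ℕ) := [[1], [6], [4, 7, 3, 4, 7, 3]]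

/-- the elements of `B`: a short word and a word in the generators -/
def EB : List (List ℕ × List ℕ) :=
  [([], []), ([1], [0, 0]), ([6], [1, 1]), ([1, 6], [0, 0, 1, 1]), ([3, 4, 7], [1, 2]),
   ([3, 4, 8], [0, 0, 1, 1, 1, 2]), ([3, 7, 4], [2]), ([3, 8, 4], [0, 0, 1, 1, 2]),
   ([4, 3, 7], [0, 0, 0, 1, 1, 2, 2, 2]), ([4, 3, 8], [0, 2, 2, 2]),
   ([4, 7, 3], [0, 0, 1, 1, 2, 2, 2]), ([4, 8, 3], [2, 2, 2]), ([7, 3, 4], [0, 0, 0, 2]),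
   ([7, 4, 3], [0, 0, 1, 2, 2, 2]), ([8, 3, 4], [0, 1, 1, 2]), ([8, 4, 3], [1, 1, 1, 2, 2, 2]),
   ([3, 4, 3, 4], [0, 1, 1, 1, 2, 2]), ([3, 4, 7, 6], [1, 1, 1, 2]), ([3, 4, 8, 6], [0, 0, 1, 2]),
   ([3, 7, 3, 7], [0, 0, 0, 1, 1]), ([3, 7, 6, 4], [1, 1, 2]), ([3, 8, 3, 7], [0]),
   ([3, 8, 6, 4], [0, 0, 2]), ([4, 3, 4, 3], [0, 0, 0, 1, 2, 2]),
   ([4, 3, 7, 6], [0, 0, 0, 2, 2, 2]), ([4, 3, 8, 6], [0, 1, 1, 2, 2, 2]),
   ([4, 7, 4, 7], [0, 0, 1, 1, 1]), ([4, 7, 6, 3], [0, 0, 2, 2, 2]), ([4, 8, 4, 7], [1]),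
   ([4, 8, 6, 3], [1, 1, 2, 2, 2]), ([7, 3, 7, 3], [0, 1, 1]), ([7, 4, 7, 4], [0, 0, 1]),
   ([7, 6, 3, 4], [0, 0, 0, 1, 1, 2]), ([7, 6, 4, 3], [0, 0, 1, 1, 1, 2, 2, 2]),
   ([8, 3, 7, 3], [0, 0, 0]), ([8, 4, 7, 4], [1, 1, 1]), ([8, 6, 3, 4], [0, 2]),
   ([8, 6, 4, 3], [1, 2, 2, 2]), ([1, 4, 3, 4, 3], [0, 1, 2, 2]),
   ([3, 4, 3, 7, 3], [0, 0, 0, 1, 2]), ([3, 4, 3, 8, 3], [0, 1, 1, 1, 2]),
   ([3, 7, 3, 4, 3], [0, 0, 0, 1, 2, 2, 2]), ([3, 8, 3, 4, 3], [0, 1, 1, 1, 2, 2, 2]),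
   ([6, 4, 3, 4, 3], [0, 0, 0, 1, 1, 1, 2, 2]), ([3, 4, 3, 7, 6, 3], [0, 0, 0, 1, 1, 1, 2]),
   ([3, 4, 3, 8, 6, 3], [0, 1, 2]), ([3, 4, 7, 3, 7, 4], [1, 2, 2]),
   ([3, 4, 8, 3, 7, 4], [0, 0, 1, 1, 1, 2, 2]), ([3, 7, 6, 3, 4, 3], [0, 0, 0, 1, 1, 1, 2, 2, 2]),
   ([3, 8, 6, 3, 4, 3], [0, 1, 2, 2, 2]), ([4, 3, 7, 4, 7, 3], [0, 2, 2]),
   ([4, 3, 8, 4, 7, 3], [0, 0, 0, 1, 1, 2, 2]), ([4, 7, 3, 4, 7, 3], [2, 2]),
   ([4, 7, 3, 7, 4, 3], [1, 1, 1, 2, 2]), ([4, 7, 4, 3, 7, 3], [0, 1, 1, 1]),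
   ([4, 8, 3, 4, 7, 3], [0, 0, 1, 1, 2, 2]), ([4, 8, 3, 7, 4, 3], [0, 0, 1, 2, 2]),
   ([4, 8, 4, 3, 7, 3], [0, 0, 0, 1]), ([7, 3, 4, 7, 4, 3], [0, 1]),
   ([7, 4, 3, 7, 4, 3], [1, 1, 2, 2]), ([7, 4, 7, 3, 4, 3], [0, 1, 1, 2, 2]),
   ([8, 3, 4, 7, 4, 3], [0, 0, 0, 1, 1, 1]), ([8, 4, 3, 7, 4, 3], [0, 0, 2, 2]),
   ([8, 4, 7, 3, 4, 3], [0, 0, 0, 2, 2])]

/-- the 64 elements of `B` -/
def WB : List (List ℕ) := EB.map Prod.fst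
/-- the 8 elements of `V` -/
def WV : List (List ℕ) := [[], [1], [6], [1, 6], [4, 7, 3, 4, 7, 3], [4, 8, 3, 4, 7, 3],
  [7, 4, 3, 7, 4, 3], [8, 4, 3, 7, 4, 3]]

/-- the outer automorphism inverting `B` on the letters -/
def Wι : List (List ℕ) :=
  [[], [1], [8, 3, 2, 3, 7], [8, 3, 7], [3, 4, 3], [5], [6], [4, 8, 4], [4, 7, 4]]

/-- a word in the generators -/
theorem mem_of (S : List (List ℕ)) (w l : List ℕ) (h : eqB w (l.flatMap (nth [] S)) = true) :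
    ev ν w ∈ wgen ν S := by
  rw [ko.eq _ _ h, ev_flatMap]
  exact ev_mem fun x _ => (nth_mem [] S x).elim (fun e => by rw [e]; exact one_mem _) (mem_wgen ν _)

theorem com_wgen {S S' : List (List ℕ)} (h : comK eqB S' S = true) :
    wgen ν S ≤ centralizer (wgen ν S' : Set Γ) := wgen_le.2 fun s hs => by
  rw [wgen, centralizer_closure]
  rintro _ ⟨x, hx, rfl⟩
  exact (ko.com h s hs x hx).symm

theorem WB_mem : ∀ w ∈ WB, ev ν w ∈ B := fun _ hw => by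
  obtain ⟨e, he, rfl⟩ := List.mem_map.1 hw
  exact mem_of gB _ e.2 (allL_iff.1
    (by decide +kernel : allL (fun e => eqB e.1 (e.2.flatMap (nth [] gB))) EB = true) e he)

theorem cw_V : CW ν gV WB := fun ξ h => by
  obtain ⟨w, hw, rfl⟩ := cw_f.1 ξ fun x hx => h x (List.mem_append_left [_] hx)
  rcases bO_iff.1 (allL_iff.1 (by decide +kernel : allL (fun w => bO (bN (eqB (w ++ [4, 7, 3, 4, 7, 3])
    ([4, 7, 3, 4, 7, 3] ++ w))) (anyL (eqB w) WB)) Wf = true) w hw) with e | e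
  · exact absurd (by rw [ev_append, ev_append]; exact h _ (by decide)) (ko.ne _ _ e)
  · obtain ⟨u, hu, e⟩ := anyL_iff.1 e
    exact ⟨u, hu, ko.eq _ _ e⟩

theorem cV : centralizer (V : Set Γ) = B := le_antisymm (fun ξ h => by
    obtain ⟨w, hw, rfl⟩ := cw_V ξ fun x hx => (h _ (mem_wgen ν x hx)).symm
    exact WB_mem w hw)
  (com_wgen (S := gB) (S' := gV) (by decide +kernel))

theorem mem_B {b : Γ} : b ∈ B ↔ ∃ w ∈ WB, b = ev ν w :=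
  ⟨fun h => cw_V b fun x hx => (cV.ge h _ (mem_wgen ν x hx)).symm,
    fun ⟨w, hw, e⟩ => e ▸ WB_mem w hw⟩

theorem V_le : V ≤ B := (com_wgen (S := gV) (S' := gV) (by decide +kernel)).trans cV.le

theorem B_comm {a b : Γ} (ha : a ∈ B) (hb : b ∈ B) : a * b = b * a :=
  com_wgen (S := gB) (S' := gB) (by decide +kernel) hb a ha

theorem cB : centralizer (B : Set Γ) = B :=
  le_antisymm ((centralizer_le V_le).trans cV.le) fun _ hb _ ha => B_comm ha hb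

theorem exists_iota : ∃ ι : MulAut Γ, ∀ l, ι (ev ν l) = ev ν (l.flatMap (nth [] Wι)) :=
  On.exists_aut Wι ⟨rfl, rfl⟩ (by decide +kernel) (by decide +kernel)

/-- the outer automorphism inverting `B` -/
noncomputable def ι : MulAut Γ := exists_iota.choose

theorem ι_ev (l : List ℕ) : ι (ev ν l) = ev ν (l.flatMap (nth [] Wι)) := exists_iota.choose_spec l

theorem ι_eq (l r : List ℕ) (h : eqB (l.flatMap (nth [] Wι)) r = true) : ι (ev ν l) = ev ν r :=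
  (ι_ev l).trans (ko.eq _ _ h)

theorem ι_ν (x : ℕ) : ι (ν x) = ev ν (nth [] Wι x) := by
  rw [← ev_single ν x, ι_ev, List.flatMap_singleton]

theorem ι_B {b : Γ} (h : b ∈ B) : ι b = b⁻¹ := by
  obtain ⟨w, hw, rfl⟩ := mem_B.1 h
  exact (ι_eq _ _ (allL_iff.1 (by decide +kernel :
    allL (fun w => eqB (w.flatMap (nth [] Wι)) (invW iv w)) WB = true) w hw)).trans (ev_inv w)

theorem ι_V {v : Γ} (h : v ∈ V) : ι v = v :=
  (wgen_le (K := ι.toMonoidHom.eqLocus (MonoidHom.id Γ))).2 (fun s hs => ι_eq _ _ (allL_iff.1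
    (by decide +kernel : allL (fun w => eqB (w.flatMap (nth [] Wι)) w) gV = true) s hs)) h

theorem ι_sq : ι * ι = 1 := rigid _ fun i hi => by
  rw [MulAut.mul_apply, ι_ν, ← ev_single ν i]
  exact ι_eq _ _ (allL_iff.1 (by decide +kernel : allL
    (fun i => eqB ((nth [] Wι i).flatMap (nth [] Wι)) [i]) [1, 2, 3, 4, 5, 6] = true) i hi)

theorem V_sq {v : Γ} (h : v ∈ V) : v * v = 1 :=
  mul_eq_one_iff_eq_inv.2 ((ι_V h).symm.trans (ι_B (V_le h)))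

theorem WV_mem : ∀ w ∈ WV, ev ν w ∈ V := fun w hw => by
  obtain ⟨l, -, e⟩ := anyL_iff.1 (allL_iff.1 (by decide +kernel : allL (fun w => anyL
    (fun l => eqB w (l.flatMap (nth [] gV))) [0, 1, 2].sublists) WV = true) w hw)
  exact mem_of gV w l e

theorem of_sq {b : Γ} (h : b ∈ B) (e : b * b = 1) : ∃ w ∈ WV, b = ev ν w := by
  obtain ⟨w, hw, rfl⟩ := mem_B.1 h
  rcases bO_iff.1 (allL_iff.1 (by decide +kernel :
    allL (fun w => bO (bN (eqB (w ++ w) [])) (anyL (eqB w) WV)) WB = true) w hw) with k | k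
  · exact absurd (by rw [ev_append, e, ev_nil]) (ko.ne _ _ k)
  · obtain ⟨u, hu, k⟩ := anyL_iff.1 k
    exact ⟨u, hu, ko.eq _ _ k⟩

theorem mem_V {v : Γ} : v ∈ V ↔ ∃ w ∈ WV, v = ev ν w :=
  ⟨fun h => of_sq (V_le h) (V_sq h), fun ⟨w, hw, e⟩ => e ▸ WV_mem w hw⟩

theorem mem_V' {v : Γ} : v ∈ V ↔ v ∈ B ∧ v * v = 1 :=
  ⟨fun h => ⟨V_le h, V_sq h⟩, fun h => mem_V.2 (of_sq h.1 h.2)⟩

theorem sq_mem {b : Γ} (h : b ∈ B) : b * b ∈ V := by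
  obtain ⟨w, hw, rfl⟩ := mem_B.1 h
  obtain ⟨u, hu, k⟩ := anyL_iff.1 (allL_iff.1 (by decide +kernel :
    allL (fun w => anyL (eqB (w ++ w)) WV) WB = true) w hw)
  rw [← ev_append, ko.eq _ _ k]
  exact WV_mem u hu

theorem ζ_mem : ζ ∈ B := mem_wgen ν _ (List.mem_cons_self ..)

theorem ζ_sq : ζ * ζ = ν 1 := by
  rw [ζ, ← ev_append, ← ev_single ν 1]; exact ko.eq _ _ (by decide +kernel)

theorem ζ_ne : ζ⁻¹ ≠ ζ := fun e => a_ne (by rw [← ζ_sq]; exact mul_eq_one_iff_eq_inv.2 e.symm)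

/-- an automorphism which acts on `V` like `ι` or like the identity -/
theorem mem_of_V {g : Γ} (h : ∀ v ∈ V, g * v * g⁻¹ = v) : g ∈ B :=
  cV.le fun v hv => (mul_inv_eq_iff_eq_mul.1 (h v hv)).symm

theorem conj_B {g b : Γ} (hg : g ∈ B) (hb : b ∈ B) : g * b * g⁻¹ = b := by
  rw [B_comm hg hb, mul_inv_cancel_right]

theorem ι_out : ¬ H46.S95.Inn ι := fun ⟨g, e⟩ => ζ_ne (by
  rw [← ι_B ζ_mem, e]
  exact conj_B (mem_of_V fun v hv => by rw [← MulAut.conj_apply, ← e, ι_V hv]) ζ_mem)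

theorem aut_cases (α : MulAut Γ) : ∃ g, α = MulAut.conj g ∨ α = MulAut.conj g * ι := by
  by_cases h : α ∈ Cfsg.Inn Γ
  · exact let ⟨g, e⟩ := h; ⟨g, .inl e.symm⟩
  obtain ⟨g, e⟩ : α * ι⁻¹ ∈ Cfsg.Inn Γ := by
    rw [← QuotientGroup.eq_one_iff, QuotientGroup.mk_mul, QuotientGroup.mk_inv, mul_inv_eq_one]
    exact ((Nat.card_eq_two_iff' (1 : Cfsg.Out Γ)).1 card_out).unique
      (mt (QuotientGroup.eq_one_iff _).1 h)
      (mt (QuotientGroup.eq_one_iff _).1 fun ⟨g, e⟩ => ι_out ⟨g, e.symm⟩)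
  exact ⟨g, .inr (by rw [e, inv_mul_cancel_right])⟩

/-- automorphisms fixing `V` pointwise -/
theorem fix_V {α : MulAut Γ} (h : ∀ v ∈ V, α v = v) :
    ∃ g ∈ B, α = MulAut.conj g ∨ α = MulAut.conj g * ι := by
  obtain ⟨g, rfl | rfl⟩ := aut_cases α
  · exact ⟨g, mem_of_V h, .inl rfl⟩
  · exact ⟨g, mem_of_V fun v hv => by simpa [ι_V hv] using h v hv, .inr rfl⟩

theorem conj_ζ {c : Γ} (h : c * ν 1 = ν 1 * c) : c * ζ * c⁻¹ = ζ ∨ c * ζ * c⁻¹ = ζ⁻¹ := by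
  have h1 : c ∈ K0 := cent_eq.le (mem_centralizer_singleton_iff.2 h)
  clear h
  have k : ∀ c : Γ, c * ζ⁻¹ * c⁻¹ = (c * ζ * c⁻¹)⁻¹ := fun c => by group
  induction h1 using closure_induction with
  | mem x hx =>
    obtain ⟨s, hs, rfl⟩ := hx
    rw [mul_inv_eq_iff_eq_mul, mul_inv_eq_iff_eq_mul, ζ, ← ev_inv]
    simp only [← ev_append, ← ko.iff, ← bO_iff]
    exact allL_iff.1 (by decide +kernel : allL (fun s => bO
      (eqB (s ++ [3, 7, 3, 8]) ([3, 7, 3, 8] ++ s))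
      (eqB (s ++ [3, 7, 3, 8]) (invW iv [3, 7, 3, 8] ++ s))) [[1], [3], [4], [5], [6], [7], [8]] = true)
      s hs
  | one => simp
  | mul x y _ _ hx hy =>
    rw [show x * y * ζ * (x * y)⁻¹ = x * (y * ζ * y⁻¹) * x⁻¹ by group]
    rcases hy with e | e <;> rw [e]
    · exact hx
    · rw [k, inv_inj, inv_eq_iff_eq_inv]; exact hx.symm
  | inv x _ hx =>
    refine hx.imp (fun e => ?_) fun e => ?_
    · conv_lhs => rw [← e]
      group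
    · rw [← inv_eq_iff_eq_inv, ← k, ← e]; group

theorem x_inv : ν 3 * ζ * (ν 3)⁻¹ = ζ⁻¹ := by
  rw [mul_inv_eq_iff_eq_mul, ζ, ← ev_inv, ← ev_single ν 3, ← ev_append, ← ev_append]
  exact ko.eq _ _ (by decide +kernel)

theorem bv : BVS := by
  refine ⟨⟨a_sq, a_ne, ζ_sq, fun a h1 h2 => (isConj_iff.2 (cls h1 h2)).symm, ζ_mem,
    fun _ ha _ hb => B_comm ha hb, fun _ => sq_mem, fun _ => mem_V', fun α h => ?_⟩,
    ⟨by simpa only [ev_cons, ev_nil, mul_one] using sat [3, 3] (by decide), x_inv, fun c h => ?_⟩,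
    fun α h => ?_⟩
  · obtain ⟨g, hg, rfl | rfl⟩ := fix_V fun v hv => h v (V_le hv)
    · exact ⟨g, hg, rfl⟩
    · exact absurd ((conj_B hg (inv_mem ζ_mem)).symm.trans (ι_B ζ_mem ▸ h ζ ζ_mem)) ζ_ne
  · refine (conj_ζ h).imp mul_inv_eq_iff_eq_mul.1 fun e => mul_inv_eq_iff_eq_mul.1 ?_
    calc _ = c * (ν 3 * ζ * (ν 3)⁻¹) * c⁻¹ := by group
      _ = (c * ζ * c⁻¹)⁻¹ := by rw [x_inv]; group
      _ = ζ := by rw [e, inv_inv]
  · obtain ⟨g, hg, rfl | rfl⟩ := fix_V h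
    · exact .inl fun b hb => conj_B hg hb
    · exact .inr fun b hb => (congrArg (MulAut.conj g) (ι_B hb)).trans (conj_B hg (inv_mem hb))

end Cfsg.Agent.H44.OnBV
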