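import Cfsg.Agent.H44.OnBV
import Cfsg.Agent.H85.Basic

/-! Project S95: the outer involutions of the O'Nan group. -/

set_option autoImplicit false

namespace Cfsg.Agent.H44.OnOut

open Subgroup Cfsg.Agent.H59 Cfsg.Agent.H59.On Cfsg.Agent.H46.S95 Cfsg.Agent.H46.S95.On
open Cfsg.Agent.H44.OnBV Cfsg.Agent.H85
open scoped commutatorElement

/-- the elements of `S2` -/
def LT : List (List ℕ) := Wf ++ Wf.map (τ ++ ·)

/-- elements conjugating the outer involutions to `ι` -/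
def SS : List (List ℕ) :=
  [[], [7], [3], [4], [3, 7], [7, 3], [7, 4], [4, 7], [3, 4], [4, 3], [3, 7, 3], [4, 7, 4], [3, 4,
   3], [4, 3, 4], [7, 3, 7], [7, 4, 7], [3, 4, 7], [4, 3, 7], [3, 7, 4], [7, 3, 7, 3], [4, 8, 4,
   7], [3, 4, 3, 4], [3, 4, 7, 4], [4, 7, 4, 3], [4, 3, 7, 3], [3, 4, 3, 7], [3, 7, 4, 7], [7, 4,
   7, 3], [3, 4, 7, 4, 3], [4, 8, 4, 7, 3], [4, 7, 3, 7, 3], [3, 4, 3, 7, 3], [5, 4, 3, 4, 5, 3,
   4, 3, 8, 5, 4, 7, 5], [5, 4, 3, 4, 5, 3, 7, 4, 5, 8, 3, 4, 5], [5, 8, 4, 5, 3, 7, 4, 5, 3, 4,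
   3, 4, 5], [5, 4, 3, 7, 5, 4, 8, 5, 6, 4, 3, 4, 5], [5, 4, 7, 5, 3, 4, 8, 5, 3, 4, 3, 4, 5], [5,
   4, 3, 4, 5, 7, 3, 4, 5, 8, 3, 4, 5], [5, 4, 3, 4, 5, 3, 4, 8, 5, 3, 4, 7, 5], [5, 4, 3, 7, 5,
   4, 8, 5, 3, 4, 3, 4, 5], [5, 6, 4, 5, 3, 7, 4, 7, 5, 6, 3, 4, 5], [5, 8, 4, 5, 7, 3, 4, 5, 3,
   4, 3, 4, 5], [5, 4, 7, 5, 3, 4, 8, 5, 6, 4, 3, 4, 5], [5, 8, 4, 5, 3, 7, 4, 5, 6, 4, 3, 4, 5],
   [5, 4, 3, 4, 5, 4, 7, 3, 4, 5, 8, 3, 4, 5], [5, 4, 3, 7, 5, 4, 8, 5, 6, 4, 3, 4, 5, 7], [8, 5,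
   4, 3, 4, 5, 3, 4, 3, 8, 5, 4, 7, 5], [5, 4, 7, 5, 3, 4, 8, 5, 3, 4, 3, 4, 5, 4], [5, 4, 3, 4,
   5, 3, 7, 4, 5, 8, 3, 4, 5, 8], [8, 5, 4, 3, 7, 5, 4, 8, 5, 6, 4, 3, 4, 5], [5, 4, 7, 5, 3, 4,
   8, 5, 6, 4, 3, 4, 5, 7], [5, 4, 3, 4, 5, 4, 3, 7, 4, 5, 8, 3, 4, 5], [5, 4, 3, 4, 5, 7, 3, 4,
   5, 8, 3, 4, 5, 3], [5, 4, 3, 7, 5, 4, 8, 5, 3, 4, 3, 4, 5, 7], [5, 8, 4, 5, 7, 3, 4, 5, 3, 4,
   3, 4, 5, 4], [5, 6, 4, 3, 4, 5, 4, 8, 3, 4, 5, 8, 4, 5], [5, 8, 4, 5, 3, 7, 4, 5, 3, 4, 3, 4,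
   5, 7], [5, 4, 3, 7, 5, 4, 8, 5, 3, 4, 3, 4, 5, 4], [8, 5, 4, 3, 7, 5, 4, 8, 5, 3, 4, 3, 4, 5],
   [8, 5, 4, 3, 4, 5, 3, 7, 4, 5, 8, 3, 4, 5], [5, 4, 3, 4, 5, 3, 7, 4, 5, 8, 3, 4, 5, 3], [5, 6,
   4, 3, 4, 5, 4, 3, 8, 4, 5, 8, 4, 5], [5, 4, 3, 4, 5, 3, 7, 4, 5, 8, 3, 4, 5, 3, 4], [5, 4, 3,
   4, 5, 7, 3, 4, 5, 8, 3, 4, 5, 3, 4]]

/-- an element fixed by `ι` which moves `V` -/
def HH : List ℕ := [2, 3, 4, 3, 2, 8, 2, 3, 4, 3, 7, 2, 3, 5, 4, 3, 4, 5, 8, 5, 4, 3, 4, 7, 5]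

theorem S2_cov {s : Γ} (hs : s ∈ S2) : ∃ w ∈ LT, s = ev ν w := by
  rcases hs with ⟨h3, h4 | h4⟩
  · obtain ⟨w, hw, e⟩ := cw_f.1 s (by simp [ev_single, h3, h4])
    exact ⟨w, List.mem_append_left _ hw, e⟩
  · obtain ⟨w, hw, e⟩ := cw_f.1 ((ev ν τ)⁻¹ * s) (by
      simp only [List.forall_mem_cons, ev_single, mul_assoc, h3, h4, inv_mul_eq_iff_eq_mul]
      simp [← mul_assoc, τ_eq.1, τ_eq.2])
    exact ⟨_, List.mem_append_right _ (List.mem_map_of_mem hw), by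
      rw [ev_append, ← e, mul_inv_cancel_left]⟩

theorem mem_S2 (w : List ℕ) (h : bA (eqB (w ++ [1]) (1 :: w))
    (bO (eqB (w ++ [6]) (6 :: w)) (eqB (w ++ [6]) (1 :: 6 :: w))) = true) : ev ν w ∈ S2 := by
  simp only [bA_iff, bO_iff, ko.iff, ev_append, ev_cons, ev_nil, mul_one, ← mul_assoc] at h
  exact h

theorem k1 {t : Γ} (ht : t ∈ S2) (e : t * ι t = 1) : ∃ s ∈ S2, s * t = ι s := by
  obtain ⟨w, hw, rfl⟩ := S2_cov ht
  rcases bO_iff.1 (allL_iff.1 (by decide +kernel : allL (fun w => bO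
    (bN (eqB (w ++ w.flatMap (nth [] Wι)) [])) (anyL (fun s => eqB (s ++ w) (s.flatMap (nth [] Wι))) SS))
    LT = true) w hw) with k | k
  · exact absurd (by rw [ev_append, ← ι_ev, e, ev_nil]) (ko.ne _ _ k)
  · obtain ⟨s, hs, k⟩ := anyL_iff.1 k
    refine ⟨_, mem_S2 s (allL_iff.1 (by decide +kernel : allL (fun w => bA (eqB (w ++ [1]) (1 :: w))
      (bO (eqB (w ++ [6]) (6 :: w)) (eqB (w ++ [6]) (1 :: 6 :: w)))) SS = true) s hs), ?_⟩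
    rw [ι_ev, ← ev_append, ko.eq _ _ k]

theorem k2 {t : Γ} (ht : t ∈ S2) (e : ι t = t) : t ∈ V := by
  obtain ⟨w, hw, rfl⟩ := S2_cov ht
  rcases bO_iff.1 (allL_iff.1 (by decide +kernel : allL (fun w => bO
    (bN (eqB (w.flatMap (nth [] Wι)) w)) (anyL (eqB w) WV)) LT = true) w hw) with k | k
  · exact absurd (by rw [← ι_ev, e]) (ko.ne _ _ k)
  · obtain ⟨s, hs, k⟩ := anyL_iff.1 k
    exact ko.eq _ _ k ▸ WV_mem s hs

theorem len_le {K : Subgroup Γ} {W : List (List ℕ)} (h : W.Pairwise fun a b => bN (eqB a b) = true)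
    (hm : ∀ w ∈ W, ev ν w ∈ K) : W.length ≤ Nat.card K := by
  rw [← List.length_map (ev ν)]
  exact length_le_card (List.pairwise_map.2 (h.imp (ko.ne _ _))) (by simpa using hm)

theorem card_V : Nat.card V = 8 := le_antisymm
  (ncard_le_len (O := (V : Set Γ)) (l := WV.map (ev ν)) fun _ h =>
    let ⟨w, hw, e⟩ := mem_V.1 h; List.mem_map.2 ⟨w, hw, e.symm⟩)
  (len_le (W := WV) (by decide +kernel) WV_mem)

theorem card_B : Nat.card B = 64 := le_antisymm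
  (ncard_le_len (O := (B : Set Γ)) (l := WB.map (ev ν)) fun _ h =>
    let ⟨w, hw, e⟩ := mem_B.1 h; List.mem_map.2 ⟨w, hw, e.symm⟩)
  (len_le (W := WB) (by decide +kernel) WB_mem)

theorem z_mem : ν 1 ∈ V := ev_single ν 1 ▸ WV_mem _ (by decide)
theorem y_mem : ν 6 ∈ V := ev_single ν 6 ▸ WV_mem _ (by decide)

theorem B_le : B ≤ S2 := fun _ h =>
  ⟨B_comm h (V_le z_mem), .inl (B_comm h (V_le y_mem))⟩

theorem conj_inj : Function.Injective (MulAut.conj : Γ →* MulAut Γ) := by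
  rcases (MonoidHom.normal_ker (MulAut.conj : Γ →* MulAut Γ)).eq_bot_or_eq_top with h | h
  · exact (MonoidHom.ker_eq_bot_iff _).1 h
  · exact absurd (x_inv.symm.trans (congrArg (· ζ) (h.ge (mem_top (ν 3)) : MulAut.conj _ = 1))) ζ_ne

theorem p_S2 : IsPGroup 2 S2 := .of_card card_S2

theorem syl_S2 : IsSyl 2 S2 ⊤ := ⟨le_top, p_S2, fun Q hQ h _ => by
  obtain ⟨k, hk⟩ := IsPGroup.iff_card.1 hQ
  refine (eq_of_le_of_card_ge h (Nat.le_of_dvd Nat.card_pos ?_)).symm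
  have := card_subgroup_dvd_card Q
  rw [ONM.card, show 460815505920 = 2 ^ 9 * 900030285 by norm_num, hk] at this
  rw [hk, card_S2]
  exact (Nat.Coprime.pow_left k (by norm_num)).dvd_of_dvd_mul_right this⟩

theorem ι_z : ι (ν 1) = ν 1 := ι_V z_mem
theorem ι_y : ι (ν 6) = ν 6 := ι_V y_mem

theorem ι_S2 {t : Γ} (h : t ∈ S2) : ι t ∈ S2 :=
  ⟨by simpa [ι_z] using congrArg ι h.1, h.2.imp (fun e => by simpa [ι_y] using congrArg ι e)
    fun e => by simpa [ι_y, ι_z] using congrArg ι e⟩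

theorem aut_conj (α : MulAut Γ) (x : Γ) : α * MulAut.conj x * α⁻¹ = MulAut.conj (α x) :=
  MulEquiv.ext fun y => by simp

theorem p_zp {α : MulAut Γ} (h : α * α = 1) : IsPGroup 2 (zpowers α) :=
  IsPGroup.of_card_dvd_pow (n := 1) (by
    rw [Nat.card_zpowers, pow_one]; exact orderOf_dvd_of_pow_eq_one (by rw [sq, h]))

/-- a `2`-group of automorphisms is conjugate into `S2 ⟨ι⟩` -/
theorem norm {R : Subgroup (MulAut Γ)} (hR : IsPGroup 2 R) : ∃ g : Γ, ∀ β ∈ R, ∃ t ∈ S2,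
    MulAut.conj g * β * (MulAut.conj g)⁻¹ = MulAut.conj t ∨
      MulAut.conj g * β * (MulAut.conj g)⁻¹ = MulAut.conj t * ι := by
  obtain ⟨P, hP, h⟩ := exists_isSyl_ge (((p_S2.map MulAut.conj).to_sup_of_normal_left' (p_zp ι_sq))
    (zpowers_le_of_mem (mem_normalizer_fintype (by
      rintro _ ⟨t, ht, rfl⟩
      exact ⟨_, ι_S2 ht, (aut_conj ..).symm⟩)))) le_top
  have hι : ι ∈ P := h (mem_sup_right (mem_zpowers ι))
  have h1 : ∀ t, MulAut.conj t ∈ P → t ∈ S2 := fun t ht =>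
    (syl_S2.eq_of_le (hP.isPGroup.comap_of_injective _ conj_inj)
      (map_le_iff_le_comap.1 (le_sup_left.trans h)) le_top).le ht
  obtain ⟨γ, -, h2⟩ := hP.exists_le_cj hR le_top
  obtain ⟨g, hg⟩ := aut_cases γ
  refine ⟨g⁻¹, fun β hβ => ?_⟩
  have h3 : MulAut.conj g⁻¹ * β * (MulAut.conj g⁻¹)⁻¹ ∈ P := by
    have := mem_cj.1 (h2 hβ)
    rw [map_inv, inv_inv]
    rcases hg with rfl | rfl
    · exact this
    · simpa [mul_assoc] using mul_mem (mul_mem hι this) (inv_mem hι)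
  obtain ⟨t, e | e⟩ := aut_cases (MulAut.conj g⁻¹ * β * (MulAut.conj g⁻¹)⁻¹)
  · exact ⟨t, h1 t (e ▸ h3), .inl e⟩
  · exact ⟨t, h1 t ((mul_mem_cancel_right hι).1 (e ▸ h3)), .inr e⟩

/-- every outer involution is conjugate to `ι` -/
theorem key {α : MulAut Γ} (h1 : α * α = 1) (h2 : ¬ H46.S95.Inn α) {P : Subgroup Γ}
    (hP : IsPGroup 2 P) (h3 : ∀ x ∈ P, α x = x) :
    ∃ g, (∀ x, α (g⁻¹ * x * g) = g⁻¹ * ι x * g) ∧ ∀ x ∈ P, g * x * g⁻¹ ∈ V := by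
  obtain ⟨g, hg⟩ := norm (((hP.map MulAut.conj).to_sup_of_normal_left' (p_zp h1))
    (zpowers_le_of_mem (mem_normalizer_fintype (by
      rintro _ ⟨t, ht, rfl⟩
      exact ⟨_, ht, by rw [aut_conj, h3 t ht]⟩))))
  obtain ⟨t, ht, e | e⟩ := hg α (mem_sup_right (mem_zpowers α))
  · exact absurd (Inn.of_mul_left (.conj g) (Inn.of_mul_right (Inn.conj g).inv ⟨t, e⟩)) h2
  obtain ⟨s, hs, k⟩ := k1 ht (conj_inj (by
    rw [map_mul, ← aut_conj, inv_eq_of_mul_eq_one_right ι_sq, ← mul_assoc, ← mul_assoc,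
      mul_assoc _ _ ι, ← e, conj_mul, h1]
    simp))
  have h4 : ∀ x, α ((s * g)⁻¹ * x * (s * g)) = (s * g)⁻¹ * ι x * (s * g) := fun x => by
    have := congrArg (· (s⁻¹ * x * s)) e
    simp only [MulAut.mul_apply, MulAut.conj_apply, MulAut.conj_inv_apply, map_mul ι, map_inv,
      ← k] at this
    calc _ = g⁻¹ * (g * α (g⁻¹ * (s⁻¹ * x * s) * g) * g⁻¹) * g := by group
      _ = _ := by rw [this]; group
  refine ⟨s * g, h4, fun x hx => k2 ?_ ?_⟩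
  · obtain ⟨u, hu, e | e⟩ := hg _ (mem_sup_left (mem_map_of_mem _ hx))
    · rw [← map_inv, ← map_mul, ← map_mul] at e
      rw [← conj_inj e] at hu
      simpa [mul_assoc] using mul_mem (mul_mem hs hu) (inv_mem hs)
    · exact absurd (Inn.of_mul_left (.conj u) (e ▸ (Inn.conj x).cj _)) ι_out
  · have := h4 (s * g * x * (s * g)⁻¹)
    rw [show (s * g)⁻¹ * (s * g * x * (s * g)⁻¹) * (s * g) = x by group, h3 x hx] at this
    generalize ι (s * g * x * (s * g)⁻¹) = u at this ⊢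
    rw [this]; group

theorem fix8 {α : MulAut Γ} (h1 : α * α = 1) (h2 : ¬ H46.S95.Inn α) {P : Subgroup Γ}
    (hP : IsPGroup 2 P) (h3 : ∀ x ∈ P, α x = x) : Nat.card P ≤ 8 := by
  obtain ⟨g, -, h⟩ := key h1 h2 hP h3
  rw [← card_V, ← card_cj g⁻¹ V]
  exact card_le_of_le fun x hx => mem_cj.2 (by simpa using h x hx)

theorem exP {α : MulAut Γ} (h1 : α * α = 1) (h2 : ¬ H46.S95.Inn α) : ∃ P : Subgroup Γ,
    (∀ x ∈ P, α x = x) ∧ IsPGroup 2 P ∧ Nat.card P = 8 ∧ ∀ x ∈ P, x * x = 1 := by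
  obtain ⟨g, h, -⟩ := key h1 h2 IsPGroup.of_bot (by simp)
  have k : ∀ x ∈ cj g⁻¹ V, g * x * g⁻¹ ∈ V := fun x hx => by simpa using mem_cj.1 hx
  refine ⟨cj g⁻¹ V, fun x hx => ?_, .of_card (n := 3) (by rw [card_cj, card_V]; rfl),
    by rw [card_cj, card_V], fun x hx => by simpa [conj_mul] using V_sq (k x hx)⟩
  have := h (g * x * g⁻¹)
  rw [ι_V (k x hx)] at this
  simpa [mul_assoc] using this

theorem rel_card {G : Type*} [Group G] (H K : Subgroup G) :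
    H.relIndex K * Nat.card ↥(H ⊓ K) = Nat.card K := by
  rw [relIndex, ← inf_subgroupOf_right, ← Nat.card_congr (subgroupOfEquivOfLe inf_le_right).toEquiv,
    index_mul_card]

theorem no64 {F : Subgroup Γ} (h : ∀ x ∈ F, x * x = 1) : Nat.card F < 64 := by
  by_contra! hc
  obtain ⟨g, -, h1⟩ := syl_S2.exists_cj_le (Q := F) (fun x => ⟨1, Subtype.ext (by
    simpa [sq] using h x x.2)⟩) le_top
  have h2 : ∀ x ∈ cj g F, x * x = 1 := fun x hx =>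
    (by group : _ = g * (g⁻¹ * x * g * (g⁻¹ * x * g)) * g⁻¹).trans (by simp [h _ (mem_cj.1 hx)])
  rw [← card_cj g] at hc
  generalize cj g F = E at h1 h2 hc
  have a1 := rel_card B E
  have a2 := rel_card B S2
  rw [inf_eq_left.2 B_le, card_B, card_S2] at a2
  have a3 := relIndex_le_of_le_right h1 (show B.relIndex S2 ≠ 0 by omega)
  have a4 : B ⊓ E = V := eq_of_le_of_card_ge (fun x hx => mem_V'.2 ⟨hx.1, h2 x hx.2⟩)
    (by rw [card_V]; nlinarith)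
  have a5 : E ≤ V := fun x hx => mem_V'.2 ⟨cV.le fun v hv => by
    have hv' := (a4.ge hv).2
    rw [← inv_eq_of_mul_eq_one_right (h2 _ (mul_mem hv' hx)), mul_inv_rev,
      inv_eq_of_mul_eq_one_right (h2 _ hx), inv_eq_of_mul_eq_one_right (h2 _ hv')], h2 x hx⟩
  have := card_le_of_le a5
  rw [card_V] at this
  omega

theorem outF : OutF Γ := fun α h1 h2 => by
  obtain ⟨g, h, -⟩ := key h1 h2 IsPGroup.of_bot (by simp)
  refine ⟨zpowers (g⁻¹ * ν 1 * g), fun e he => ?_, .inr ⟨by simpa [mul_assoc, inv_mul_eq_one] using a_ne,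
    α.toMonoidHom.eqLocus (MonoidHom.id Γ), fun _ hx => hx, zpowers_le_of_mem ?_⟩⟩
  · have he' : e ∈ cj g⁻¹ V := zpowers_le_of_mem (mem_cj.2 (by simpa [mul_assoc] using z_mem)) he
    obtain ⟨v, hv, rfl⟩ : ∃ v ∈ V, e = g⁻¹ * v * g :=
      ⟨g * e * g⁻¹, by simpa using mem_cj.1 he', by group⟩
    refine ⟨(by group : _ = g⁻¹ * (v * v) * g).trans (by simp [V_sq hv]), by rw [h, ι_V hv], ?_⟩
    obtain ⟨w, hw, rfl⟩ := mem_V.1 hv
    obtain ⟨b, hb, k⟩ := anyL_iff.1 (allL_iff.1 (by decide +kernel :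
      allL (fun w => anyL (fun b => eqB w (b ++ b)) WB) WV = true) w hw)
    exact ⟨g⁻¹ * ev ν b * g, by rw [h, ι_B (WB_mem b hb), ko.eq _ _ k, ev_append]; group⟩
  · have k : ∀ w, eqB (w.flatMap (nth [] Wι)) w = true →
        g⁻¹ * ev ν w * g ∈ α.toMonoidHom.eqLocus (MonoidHom.id Γ) := fun w hw =>
      (h _).trans (by rw [ι_eq _ _ hw]; rfl)
    have e := ko.eq (HH ++ [4, 7, 3, 4, 7, 3]) ([1] ++ [4, 7, 3, 4, 7, 3] ++ HH) (by decide +kernel)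
    rw [ev_append, ev_append, ev_append, ev_single, ← mul_inv_eq_iff_eq_mul,
      ← mul_inv_eq_iff_eq_mul] at e
    convert commutator_mem_commutator (k HH (by decide +kernel))
      (k [4, 7, 3, 4, 7, 3] (by decide +kernel)) using 1
    rw [← e, commutatorElement_def]; group

theorem ooF : OoF Γ := fun α β a1 a2 b1 b2 => by
  obtain ⟨P, p1, p2, p3, p4⟩ := exP a1 a2
  obtain ⟨R, r1, r2, r3, r4⟩ := exP b1 b2
  refine ⟨P, R, p1, r1, p2, r2, fun f hf => ?_⟩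
  have c1 : Nat.card f.range = 64 := by
    rw [← Nat.card_congr (MonoidHom.ofInjective hf).toEquiv, Nat.card_prod, p3, r3]
  have s1 : ∀ γ ∈ f.range, γ * γ = 1 := by
    rintro _ ⟨x, rfl⟩
    rw [← map_mul, show x * x = 1 from Prod.ext (Subtype.ext (p4 _ x.1.2)) (Subtype.ext (r4 _ x.2.2)),
      map_one]
  have s2 : ∀ x ∈ f.range.comap MulAut.conj, x * x = 1 := fun x hx =>
    conj_inj (by rw [map_mul, s1 _ hx, map_one])
  have c2 : Nat.card ↥(Cfsg.Inn Γ ⊓ f.range) = Nat.card (f.range.comap MulAut.conj) := by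
    rw [← map_comap_eq, card_map_of_injective conj_inj]
  have c3 := rel_card (Cfsg.Inn Γ) f.range
  by_cases h : f.range ≤ Cfsg.Inn Γ
  · have := no64 s2
    rw [inf_eq_right.2 h] at c2
    omega
  obtain ⟨γ, h1, h2⟩ := SetLike.not_le_iff_exists.1 h
  have c4 := fix8 (s1 γ h1) (fun ⟨g, e⟩ => h2 ⟨g, e.symm⟩) (P := f.range.comap MulAut.conj)
    (fun x => ⟨1, Subtype.ext (by simpa [sq] using s2 x x.2)⟩) fun x hx => conj_inj (by
      rw [← aut_conj, inv_eq_of_mul_eq_one_right (s1 γ h1), mul_assoc,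
        ← inv_eq_of_mul_eq_one_right (s1 _ (mul_mem hx h1)), mul_inv_rev, mul_inv_cancel_left,
        inv_eq_of_mul_eq_one_right (s1 _ hx)])
  have c5 : (Cfsg.Inn Γ).relIndex f.range ≤ 2 :=
    Nat.le_of_dvd two_pos (card_out ▸ relIndex_dvd_index_of_normal _ _)
  nlinarith

theorem out : OutS :=
  ⟨outF, fun _ h1 h2 => let ⟨P, a, b, c, _⟩ := exP h1 h2; ⟨P, a, b, c.ge⟩,
    ⟨ι, ι_sq, ι_out, fun _ a b => (fix8 ι_sq ι_out b a).trans (by norm_num)⟩, ooF⟩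

end Cfsg.Agent.H44.OnOut
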