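import Cfsg.Agent.H44.OnBV
import Cfsg.Agent.H67.OnC
import Cfsg.Agent.H52.Quasisimple

/-! Project S95: the component of the centraliser of an involution of the O'Nan group. -/

set_option autoImplicit false

namespace Cfsg.Agent.H44.OnRD

open Subgroup Cfsg.Agent.H59 Cfsg.Agent.H59.On Cfsg.Agent.H46.S95 Cfsg.Agent.H46.S95.On
open Cfsg.Agent.H44.OnBV
open scoped commutatorElement

theorem mem_L (w : List ℕ) (h : eqB (w ++ [3, 7, 3, 8]) ([3, 7, 3, 8] ++ w) = true) :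
    ev ν w ∈ Cz ζ := mem_Cz.2 (comW _ _ h)

theorem L_le : Cz ζ ≤ Cz (ν 1) := fun _ h =>
  mem_Cz.2 (ζ_sq ▸ Commute.mul_right (mem_Cz.1 h) (mem_Cz.1 h))

theorem B_le : B ≤ Cz ζ := fun _ h => mem_Cz.2 (B_comm h ζ_mem)

theorem x_not : ν 3 ∉ Cz ζ := fun h =>
  ζ_ne (x_inv.symm.trans (mul_inv_eq_iff_eq_mul.2 (mem_Cz.1 h)))

theorem der : ⁅Cz (ν 1), Cz (ν 1)⁆ ≤ Cz ζ := commutator_le.2 fun c hc d hd => by
  have k : ∀ x ∈ Cz (ν 1), x * x ∈ Cz ζ := fun x hx => mem_Cz.2 (sq_z hx)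
  rw [show ⁅c, d⁆ = c * c * (c⁻¹ * d * (c⁻¹ * d)) * (d⁻¹ * d⁻¹) by rw [commutatorElement_def]; group]
  exact mul_mem (mul_mem (k _ hc) (k _ (mul_mem (inv_mem hc) hd))) (k _ (inv_mem hd))

theorem qs : Cfsg.IsQuasisimple (Cz ζ) := by
  let _ := Fintype.ofFinite (GaloisField 2 2)
  obtain ⟨K, -, i2, -, -, -, hp, ⟨e⟩⟩ := H67.OnC.model (MulEquiv.refl _) (F := GaloisField 2 2)
    (by rw [← Nat.card_eq_fintype_card, GaloisField.card 2 2 two_ne_zero]; rfl)
  have := S0249.result (F := GaloisField 2 2) 3 le_rfl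
  have h : Cfsg.IsQuasisimple (K.map (centralizer {ν 1}).subtype) :=
    (H52.isQuasisimple_map_iff_of_injective (subtype_injective _)).2 ⟨⟨hp⟩, e.isSimpleGroup⟩
  have h1 : K.map (centralizer {ν 1}).subtype ≤ Cz ζ := (H52.IsQuasisimple.commutator_self h).ge.trans
    ((commutator_mono (map_subtype_le K) (map_subtype_le K)).trans der)
  refine le_antisymm h1 (fun l hl => ?_) ▸ h
  have hx : ν 3 ∈ centralizer {ν 1} := K0_le (ev_single ν 3 ▸ mem_K0 (by decide +kernel))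
  by_contra k
  exact x_not ((mul_mem_cancel_left hl).1 (h1 (mem_map_of_mem _
    ((K.mul_mem_iff_of_index_two i2 (a := ⟨l, L_le hl⟩) (b := ⟨_, hx⟩)).2 (iff_of_false
      (fun e => k (mem_map_of_mem _ e)) fun e => x_not (h1 (mem_map_of_mem _ e)))))))

/-- the centraliser of the component -/
theorem cL {c : Γ} (h : ∀ l ∈ Cz ζ, l * c = c * l) : c ∈ zpowers ζ := by
  obtain ⟨w, hw, rfl⟩ := mem_B.1 (cB.le fun b hb => h b (B_le hb))
  rcases bO_iff.1 (allL_iff.1 (by decide +kernel : allL (fun w => bO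
    (bN (comK eqB [w] [[4], [5]])) (anyL (fun i => eqB w ((List.replicate i 0).flatMap
      (nth [] [[3, 7, 3, 8]]))) [0, 1, 2, 3])) WB = true) w hw) with k | k
  · refine absurd (bN_iff.1 k) (Bool.not_eq_false _ ▸ ?_)
    simp only [comK, allL_iff, List.forall_mem_cons, ko.iff, ev_append]
    simp [h _ (mem_L [4] (by decide +kernel)), h _ (mem_L [5] (by decide +kernel))]
  · obtain ⟨i, -, k⟩ := anyL_iff.1 k
    exact wgen_le.2 (fun s hs => List.mem_singleton.1 hs ▸ mem_zpowers ζ) (mem_of _ _ _ k)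

theorem normal {M : Subgroup Γ} (h : M ≤ Cz ζ) (hn : Cz ζ ≤ normalizer (M : Set Γ)) :
    M = Cz ζ ∨ M ≤ zpowers ζ :=
  (H52.IsQuasisimple.eq_or_commutator_eq_bot qs h hn).imp_right fun e m hm =>
    cL fun l hl => (H52.commutator_eq_bot_iff_forall.1 e m hm l hl).symm

theorem y_mem : ν 6 ∈ Cz ζ := ev_single ν 6 ▸ mem_L [6] (by decide +kernel)

theorem y_sq : ν 6 * ν 6 = 1 := by
  simpa only [ev_cons, ev_nil, mul_one] using sat [6, 6] (by decide)

theorem y_not : ν 6 ∉ zpowers ζ := fun ⟨i, e⟩ => ko.ne [5, 6] [6, 5] (by decide +kernel) (by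
  have := (Commute.zpow_right (mem_Cz.1 (mem_L [5] (by decide +kernel))) i).eq
  simpa [ev_cons, ev_nil, show ζ ^ i = _ from e] using this)

theorem order_ζ : orderOf ζ = 4 :=
  orderOf_eq_prime_pow (p := 2) (n := 1) (by rw [pow_one, sq, ζ_sq]; exact a_ne)
    (by rw [show 2 ^ (1 + 1) = 2 * 2 from rfl, pow_mul, sq ζ, ζ_sq, sq, a_sq])

/-- an automorphism fixing `z` fixes or inverts `ζ` -/
theorem aut_ζ {α : MulAut Γ} (h : α (ν 1) = ν 1) : α ζ = ζ ∨ α ζ = ζ⁻¹ := by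
  obtain ⟨g, rfl | rfl⟩ := aut_cases α
  · exact conj_ζ (mul_inv_eq_iff_eq_mul.1 h)
  · rw [MulAut.mul_apply, ι_ν, show nth [] Wι 1 = [1] from rfl, ev_single] at h
    rw [MulAut.mul_apply, ι_B ζ_mem, map_inv, inv_inj, inv_eq_iff_eq_inv]
    exact (conj_ζ (mul_inv_eq_iff_eq_mul.1 h)).symm

theorem cen {α : MulAut Γ} (h : ∀ x ∈ Cz ζ, α x = x) : ∃ c ∈ zpowers ζ, α = MulAut.conj c := by
  obtain ⟨c, -, rfl⟩ := bv.1.cB α fun b hb => h b (B_le hb)
  exact ⟨c, cL fun l hl => (mul_inv_eq_iff_eq_mul.1 (h l hl)).symm, rfl⟩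

theorem gen_inv : Cz ζ ≤ Subgroup.closure {x | x ∈ Cz ζ ∧ x * x = 1} := by
  refine ((normal ((closure_le _).2 fun _ h => h.1) fun l hl => mem_normalizer_fintype fun m hm =>
    ?_).resolve_right fun h => y_not (h (Subgroup.subset_closure (And.intro y_mem y_sq)))).ge
  refine (closure_le ((Subgroup.closure {x | x ∈ Cz ζ ∧ x * x = 1}).comap
    (MulAut.conj l).toMonoidHom)).2 (fun x hx => Subgroup.subset_closure
      (And.intro (mul_mem (mul_mem hl hx.1) (inv_mem hl)) ?_)) hm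
  change l * x * l⁻¹ * (l * x * l⁻¹) = 1
  rw [conj_mul, hx.2]; group

theorem sup_top : Cz (ν 1) ⊔ Cz (ν 6) = ⊤ := eq_top_iff.2 (top.ge.trans (gen_le.2 fun x a b => by
  by_cases e : x = 2
  · exact e ▸ mem_sup_right (mem_Cz.2 (by
      simpa only [ev_single] using (comW [2] [6] (by decide +kernel)).eq))
  · exact mem_sup_left (K0_le (ev_single ν x ▸ mem_wgen ν _ (by interval_cases x <;> simp_all)))))

theorem rd : RDS :=
  ⟨⟨a_sq, fun _ h1 h2 => .inl (isConj_iff.2 (cls h1 h2)).symm,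
    ⟨H52.IsQuasisimple.commutator_self qs, gen_inv, ζ_sq ▸ mul_mem (mem_zpowers _) (mem_zpowers _),
      zpowers_le_of_mem fun _ h => mem_Cz.1 h, fun α h x hx => mem_Cz.2 (by
        have e : Commute (α x) (α ζ) := Commute.map (mem_Cz.1 hx) α
        rcases aut_ζ h with k | k <;> rw [k] at e
        exacts [e, Commute.inv_right_iff.1 e]),
      fun _ _ => cen, fun _ h hn => (normal h hn).symm.imp_right fun e =>
        ⟨ν 6, e.ge y_mem, y_sq, f_ne, .inl sup_top⟩⟩,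
    by rw [Nat.card_zpowers, order_ζ],
    ⟨ζ, mem_zpowers _, ν 3, by simpa only [ev_single] using (comW [3] [1] (by decide +kernel)).eq, by
      rw [x_inv, ← mul_inv_rev, ζ_sq, inv_eq_of_mul_eq_one_right a_sq]⟩, .inl rfl⟩, der⟩

end Cfsg.Agent.H44.OnRD
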