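import Cfsg.Agent.H95.ParBase

/-! Project PAR, piece TRIO: an element of order three permuting the octads of a trio. -/

set_option autoImplicit false

namespace Cfsg.Agent.H44.ParTrio

open Cfsg Cfsg.Agent.H48 Cfsg.Agent.H48.Rec Cfsg.Agent.H49 Cfsg.Agent.H95.Par

theorem diag {c d : Finset GolayPt} {hc : IsWord c} {hd : IsWord d} {g : Co0} (h : Disjoint c d)
    (e : g * signEl c hc * g⁻¹ = signEl d hd) {i : GolayPt} (hi : i ∈ c) : (g • e8 i).1 i = 0 := by
  have h1 : signEl d hd • g • e8 i = -(g • e8 i) := by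
    rw [← e, mul_smul, inv_smul_smul, mul_smul, signEl_e8, if_pos hi, co_neg]
  have h2 := congrArg (fun v : Lam => v.1 i) h1
  simp only [signEl_apply, if_neg (Finset.disjoint_left.1 h hi), AddSubgroup.coe_neg,
    Pi.neg_apply] at h2
  omega

theorem trio (h3 : T3Stmt) : TrioStmt := by
  intro c d e hc hd he g c8 d8 e8' cd ce de g3 e1 e2
  have gg : ∀ v : Lam, g • g • g • v = v := fun v => by
    rw [← mul_smul, ← mul_smul, ← pow_three', g3, one_smul]
  have e3 : g * signEl e he * g⁻¹ = signEl c hc := by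
    rw [← e2, ← e1]
    calc _ = g ^ 3 * signEl c hc * (g ^ 3)⁻¹ := by rw [pow_three']; group
      _ = _ := by rw [g3]; group
  have cov : ∀ i, i ∈ c ∨ i ∈ d ∨ i ∈ e := fun i => by
    have : c ∪ (d ∪ e) = Finset.univ := Finset.eq_univ_of_card _ (by
      rw [Finset.card_union_of_disjoint (Finset.disjoint_union_right.2 ⟨cd, ce⟩),
        Finset.card_union_of_disjoint de, c8, d8, e8', card_golayPt])
    simpa using this.ge (Finset.mem_univ i)
  have dg : ∀ i, (g • e8 i).1 i = 0 := fun i => by
    rcases cov i with h | h | h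
    exacts [diag cd e1 h, diag de e2 h, diag ce.symm e3 h]
  have og : orderOf g = 3 := orderOf_eq_prime g3 fun k => by
    simpa [k, e8_apply] using dg none
  obtain ⟨v, hv, bv, av⟩ : ∃ v : Lam, sqNorm v.1 = 32 ∧ signEl d hd • v = v ∧ signEl c hc • v = -v := by
    refine ⟨twoInd c hc, by rw [sqNorm_twoInd, c8]; rfl, Subtype.ext (funext fun i => ?_),
      Subtype.ext (funext fun i => ?_)⟩
    · rw [signEl_apply]
      split_ifs with h
      · simp [twoInd, Finset.disjoint_right.1 cd h]
      · rfl
    · rw [signEl_apply]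
      split_ifs with h
      · rfl
      · simp [twoInd, h]
  have d1 : dotInt v.1 (g • v).1 = 0 := by
    have := co_dot (signEl d hd) v (g • v)
    rw [bv, ← e1, mul_smul, inv_smul_smul, mul_smul, av, co_neg, AddSubgroup.coe_neg,
      dotInt_neg_right] at this
    omega
  have d2 : dotInt v.1 (g • g • v).1 = 0 := by rw [← co_dot g, gg, dotInt_comm, d1]
  have hn : sqNorm (v + g • v + g • g • v).1 = 96 := by
    simp only [AddSubgroup.coe_add, sqNorm_add, dotInt_add_left, co_dot, co_sqNorm, hv, d1, d2]
    rfl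
  have gn : g • (v + g • v + g • g • v) = v + g • v + g • g • v := by
    rw [co_add, co_add, gg]; abel
  generalize v + g • v + g • g • v = n at hn gn
  obtain ⟨u, hu, u64⟩ := short_all n
  have fu : Fix g u := hu.symm.trans (gn ▸ hu.smul g)
  have m := hu.norm_mod
  have p := sqNorm_nonneg u.1
  refine ((h3 g u og ?_ fu).resolve_left fun k => ?_).1
  swap
  · simp [tr8, dg] at k
  by_contra k
  rcases (by omega : sqNorm u.1 = 0 ∨ sqNorm u.1 = 32) with k | k
  · obtain rfl : u = 0 := Subtype.ext (eq_zero_of_sqNorm k)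
    obtain ⟨w, rfl⟩ := cong_zero_iff.1 hu.symm
    have := sixteen_dvd_sqNorm w.2
    rw [AddSubgroup.coe_add, sqNorm_add, ← sqNorm_eq_dot] at hn
    omega
  rcases fu.cases with h | h | h
  · have t : ∀ {a b : Co0}, g * a * g⁻¹ = b → dotInt u.1 (a • u).1 = dotInt u.1 (b • u).1 :=
      fun {a b} k => by rw [← co_dot g, ← k, mul_smul, mul_smul, inv_smul_eq_iff.2 h.symm, h]
    have s : u.1 = (signEl c hc • u).1 + (signEl d hd • u).1 + (signEl e he • u).1 := funext fun i => by
      simp only [Pi.add_apply, signEl_apply]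
      rcases cov i with h | h | h
      · simp [h, Finset.disjoint_left.1 cd h, Finset.disjoint_left.1 ce h]
      · simp [h, Finset.disjoint_right.1 cd h, Finset.disjoint_left.1 de h]
      · simp [h, Finset.disjoint_right.1 ce h, Finset.disjoint_right.1 de h]
    have := congrArg (dotInt u.1) s
    rw [dotInt_add_right, dotInt_add_right, ← t e2, ← t e1, ← sqNorm_eq_dot] at this
    omega
  · have := gg u
    rw [h, co_neg, h, neg_neg, h, neg_eq_iff_add_eq_zero] at this
    have := congrArg (fun x : Lam => sqNorm x.1) this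
    simp only [AddSubgroup.coe_add, sqNorm_add, ← sqNorm_eq_dot, k] at this
    simp [sqNorm] at this
  · rw [co_sqNorm] at h
    omega

end Cfsg.Agent.H44.ParTrio
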