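import Mathlib
import Cfsg.Agent.H1.TitsOut
import Cfsg.Agent.H46.Ru
import Cfsg.Agent.H44.RfM
import Cfsg.Agent.H44.ERfU

/-!
# The presentation `Rf` presents `²F₄(2)`; generators of the Rudvalis group
-/

set_option autoImplicit false
set_option maxRecDepth 100000
set_option linter.style.longLine false

namespace Cfsg.Agent.H44.RfI

open Cfsg.Agent.H46 Cfsg.Agent.H44

section coded

variable {O : Ops} {Γ : Type*} [Group Γ] (C : Coded O Γ) {c : ℕ → ℕ} {m : ℕ}

theorem R_ev (hc : ∀ j < m, ∃ y, C.R (c j) y) {l : List ℕ} {a : ℕ}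
    (h : O.wordChk c m l a = true) : C.R a (ev (fun x => C.el (c x)) l) := by
  obtain ⟨h1, h2⟩ := andB_iff.mp h
  rw [← H42.beq_iff.mp h2]
  exact C.R_word l fun j hj => C.R_el (hc j (ltB_iff.mp (H42.allL_iff.mp h1 j hj)))

theorem sat_of_chk (hc : ∀ j < m, ∃ y, C.R (c j) y) {R : List (List ℕ)}
    (h : allL (fun r => O.wordChk c m r O.one) R = true) : Sat (fun x => C.el (c x)) R :=
  fun r hr => C.R_fun (R_ev C hc (allL_iff.1 h r hr)) C.R_one

theorem mem_gen_of_chk (hc : ∀ j < m, ∃ y, C.R (c j) y) {l : List ℕ} {a nc : ℕ}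
    (h : O.wordChk c m l a = true) (hl : lettersIn nc l = true) {y : Γ} (hy : C.R a y) :
    y ∈ gen (fun x => C.el (c x)) nc := by
  rw [C.R_fun hy (R_ev C hc h)]
  exact ev_mem fun x hx => let h := lettersIn_iff.1 hl x hx; mem_gen _ h.1 h.2

theorem tab_of_chk {K : Subgroup Γ} {d : ℕ → ℕ} {n : ℕ} (hd : C.Tab K d n) {W : List (List ℕ)}
    (h : allN (fun j => O.wordChk d n (nth [] W j) (c j)) m = true) : C.Tab K c m :=
  fun j hj => hd.of_wordChk C (allN_iff.1 h j hj)

end coded

section F4

open H91.TC H1.TitsOut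

/-- Codes of the generators in `²F₄(2)`. -/
noncomputable def cF : ℕ → ℕ := getL [nat_lit 0x8000000000000400000000000020000000000001000000000000080000000000004000000000000200000000000010000000000000800000000000040000000000002000000000000100000000000008000000000000400000000000020000000000001000000000000080000000000004000000000000200000000000010000000000000800000000000040000000000002000000000000100000000000008000000000000400000000000020000000000001000000000000080000000000004000000000000200000000000010000000000000800000000000040000000000002000000000000100000000000008000000000000400000000000020000000000001000000000000080000000000004000000000000200000000000010000000000000800000000000040000000000002000000000000100000000000008000000000000400000000000020000000000001,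
  nat_lit 0x9b29571ebbdb59f2d5636a2a1a973751aa3b5e91066380c068823e78f67c06679774b69c5a42e9c078f06f06630107438082c0811032300c6380100dc38142988110fe08106708301b230105d8011186001020800110630005f0010198381c20082bd6b97fcfc9dde0a0056005021dc8afadce9cfc1108101c38880115818144588311c8281c11801d3a8559dbdbc8ebd6a24b24c69774ad27e7fc9578285035022599bf4d6eafd4dcf9f90e6f4613b104c381c6508301b2281c0f083117e000047001774b3b56c275fb6ab5636822533fe13fe04070301c010003908111e408183288110b438082d080015010104f80100f628146a000017610144700101e6001c6708310b4100028000dd4b959cff9c95c0a58dc8bb695c0b7ddcafdc9015000084d083795f3df6ea55ca4154420282035c0a10968225fb65d1cdde496df1f32efbb997711a408187788210b4201057803,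
  nat_lit 0xa1f4df9ee3dbb0412045b37f5fafecdb62ddbcf108e180c468813fb34434a885fd465d928497a239a942ca15d500014001c1b08310da38182f00300f430002508310d838082c883113a10042a800000600142800301ae08045780110f028082d003aff8da3ed3abc000005603860ca1e0dec06d4f800e0181c43080108c18144188100f4181c5e00360ed9f9dcb5e83dbd46cf9f70caf190222a8a4c3ba74031a2a530001eeded69387a27a631d693e002c181846881015a080c6b880002818106b8825d7c9baa61ff1020e02debd5037a27f414dcafe00e030003d08001ec2800368830000281c46000117830084f80201ec30000d88310f628180688001ae10105e00310d6301c780010001c2e038374cef9c09ebbb65af192f5ed6930010c281c3588360edc5ddbb30caf186dff7e60a43a6ae6ba2cfcb09842968a01fae427f72a3b6610d638182f8021080180844083,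
  nat_lit 0x5fe1c000000009fe1c00000000e660c00000000017830000000078f8078000008e661bf6f5e60e0001beef5e6061078300000000119830000000001c608004000101a608004000111be281c3800300de181c380030178080c1800001a6300c0600161e13780000083c06f76f1e60fdc6636ef1e607002c081c780021154081c780021004300c180005dcb921366601933264136660163e76d0a9550be7c7da858b30bb847f72fdf7059e4736cfdf70d10ee180c3e00210ba18105188300de201049883a4e3ebc93d87ee7c6632965e79795f77acc763311b838005e0011074281c5e0031192380439881108e30083988101e618046c8800164280832881113a38005f00011ea00086f0823e2ca5dc732feb372ed33732f84a2306234713a019e181809801c6e3f38dbdbc3f8cfa1beb73d57590ef52702e94240760f1e6088fc2d58993307105e30005e0020104380c18001,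
  nat_lit 0x5d77aca74ceddc76588a04820f7b732d875cbda017c000c790830001378fa6842000048cf89af65c0a5ac48b014113820006800301e620085b081002608085500011c208040a001000010185d882009a10087b082015a101070881017c10147b881f8d03b003070b2426c1a75cbd6b2fb7f075cbda015018104408210a638081b081104a3814680015d76c1ed1883b9bf4f3e03860b5d77e4ed4cffb93fef767959c02622c142c5501f3f2ad861e9d4009a301c06000015a181c78001102e0818018025d76c3ff3e60b9bf4f7f11e83b2622088e0a9f9100e381837000118e200843082104e3810708810120180470883009020084388100881014650810064080815001111410046588280d1875a30064402942a56bcbd2024c0e4dbcd9110e20180480308830613a084ad5b464accfcf4d3d6a5429402dc612240559639bdd7e8e2c607e10f81018658831114200418881]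

theorem tabF : CG.Tab GG cF 5 :=
  tab_of_chk CG tabG (W := [[], [1, 2, 2, 2, 0, 3, 2, 1, 0, 2, 3, 1, 3, 2, 2, 1, 0, 2, 3, 3], [0, 2, 0, 3, 1, 3, 1, 2, 2, 3, 1, 3, 2, 2, 0, 2, 1, 3, 0, 2, 2, 0], [0, 2, 0, 1, 3, 3, 2, 0, 2, 2, 1, 0, 2, 0, 2], [0, 3, 2, 2, 0, 1, 3, 2, 0, 1, 3, 0, 2, 1, 3, 3, 0, 1, 3, 1]]) (by decide +kernel)

/-- The generators in `²F₄(2)`. -/
noncomputable def gF (x : ℕ) : Γ := CG.el (cF x)

theorem satF : Sat gF Rf.Rm := sat_of_chk CG (tabF.exists CG) (by decide +kernel)

theorem genF : gen gF 4 = GG := by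
  refine le_antisymm (gen_le.2 fun x _ h => ?_) (GG_le.trans ((Subgroup.closure_le _).2 ?_))
  · exact (tabF x (by omega)).mem (CG.R_el (tabF.exists CG x (by omega)))
  · rintro y ⟨j, hj, hy⟩
    have h : allN (fun j => O.wordChk cF 5 (nth [] [[1, 3, 1, 4, 1, 3, 4, 2, 3, 1, 4, 3, 4, 1, 1, 3, 2], [2, 3, 4, 1, 3, 1, 4, 1, 3, 4, 1, 1, 3, 2, 4, 3, 1], [1, 3, 1, 1, 1, 3, 2, 3, 4, 3, 2, 3, 4, 3, 4, 3, 2, 2, 3, 2], [4, 1, 3, 1, 3, 2, 4, 1, 3, 2, 3, 2, 3, 4, 3, 2, 4]] j) (gG j)) 4 = true := by decide +kernel
    refine mem_gen_of_chk CG (tabF.exists CG) (allN_iff.1 h j hj) ?_ hy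
    exact lettersIn_nth (by decide) j

theorem card_F : Nat.card GG = 35942400 := by
  have h := (commutator GG).index_mul_card
  rw [H34.Tits.tits.1, H34.Tits.tits.2.2.2] at h
  omega

/-- The permutation group is `²F₄(2)`. -/
theorem isoF : Nonempty (RfM.K ≃* Cfsg.Lie.twistedF4 (ZMod 2) 1) := by
  obtain ⟨f, hf⟩ := RfM.exists_hom satF
  have h1 : f.range = GG := (range_eq_gen RfM.top hf).trans genF
  have h2 : Function.Bijective f.rangeRestrict :=
    (Nat.bijective_iff_surjective_and_card _).2 ⟨f.rangeRestrict_surjective, by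
      rw [h1, card_F, RfM.card]⟩
  exact ⟨(MulEquiv.ofBijective _ h2).trans (MulEquiv.subgroupCongr h1)⟩

end F4

section Ru

open H46.Ru

/-- Codes of the generators in the Rudvalis group. -/
noncomputable def cR : ℕ → ℕ := getL [nat_lit 0x8000000400000020000001000000080000004000000200000010000000800000040000002000000100000008000000400000020000001000000080000004000000200000010000000800000040000002000000100000008000000400000020000001,
  nat_lit 0x47a173aeab920c9e330aee5b985a00051a13def51d014195ba4421a81d6d830ffc82cceb9e645786eedbc63c7a93acfde64831731d5732f2b7a7172787095d0000100c9b5b1aa2a4a01ca2920507b6d7937f5215a10d84b09d8ca900000020000001,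
  nat_lit 0x8fed5e89062a0739ad4f0e47463054d4f960003d1d4e722fee30a4c7466ffa21e1aa3e3736c6087a4781dcc6a7e69599bc00026307064524461c1b45b8e088a62e8ad0000200f71a5056ecbe14e627b9c1fc5aecb866c92389395100000020000001,
  nat_lit 0x55ecd048c89501196b0d79062a073655cf2d821ecbe3ffde4fca843f0005a87ea6a5ea82aa43cb1cb6a45f4c0b6eabf957092b00f75e06968dfe1f0a9510e00000200786037b2bba91bd1449a652c547bf2bd0a45249ff4399b52900000020000001,
  nat_lit 0x5f70b18f1f55c0d60b417457a8af14a6a9f109770eaa544f65755492d9d8c8d4f59802eab676a030757627bc14fd980d7d5844b23771d6a47ff226cc82598dc82fa382c9bdb58704c4498b63c4c63c7a99e739a76e626c244079aa6b880c60000001,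
  nat_lit 0x55ecd0405d14e312dcdc9bbb3722cd8204edf78c1e6bf757a25972143e0cb58ea6a5ea9e330ae4dd9459407382e78c40e191cf202d85eb175f7179b3694fe26e8a75bdc0475b27b059ea526c1f4f0c996c6b7657663b6dd038e43a00000010000002]

theorem tabR : CG.Tab G0 cR 6 :=
  tab_of_chk CG tabA (W := [[], [9, 12, 8], [10, 12, 10, 12, 12, 10, 11], [12, 9, 9, 12, 9, 10], [9, 5, 5, 11, 7, 6, 11, 10, 11], [1, 11, 11, 11, 11, 11, 10, 9]]) (by decide +kernel)

/-- The generators in the Rudvalis group. -/
noncomputable def gR (x : ℕ) : GG := CG.el (cR x)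

theorem satR : Sat gR ERfU.R := sat_of_chk CG (tabR.exists CG) (by decide +kernel)

theorem genR : gen gR 5 = ⊤ := by
  rw [eq_top_iff, ← G0_eq]
  refine (Subgroup.closure_le _).2 ?_
  rintro y ⟨j, hj, hy⟩
  have h : allN (fun j => O.wordChk cR 6 (nth [] [[4, 3, 1, 3, 1, 4, 1, 3, 4, 5, 4, 3, 4, 3, 4, 3, 2, 2, 2, 3, 1, 4, 1, 3, 4, 3], [5, 2, 2, 3, 2, 2, 2, 3, 2, 3, 1, 1], [3, 4, 5, 2, 4, 3, 4, 1, 3, 1, 3, 4, 5, 1, 4, 3, 2, 2, 3, 4, 3, 4, 1, 3, 1, 1, 3, 1, 1, 1, 3, 1]] j) (nmA j)) 3 = true := by decide +kernel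
  refine mem_gen_of_chk CG (tabR.exists CG) (allN_iff.1 h j hj) ?_ hy
  exact lettersIn_nth (by decide) j

/-- A group of the right order with elements satisfying the relators, and a large enough
subgroup generated by them, is the Rudvalis group. -/
theorem isoRu {G : Type*} [Group G] {g : ℕ → G} (hg : Sat g ERfU.R)
    (hG : Nat.card G = 145926144000) (h4 : 5 ≤ Nat.card (gen g 5)) : Cfsg.Spor.IsoRu G := by
  have : Finite G := Nat.finite_of_card_ne_zero (by rw [hG]; norm_num)
  have : Finite GG := Nat.finite_of_card_ne_zero (by rw [card_GG]; norm_num)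
  have := isSimple_GG
  have hs := sat_prod hg satR
  set D : Subgroup (G × GG) := gen (fun x => (g x, gR x)) 5 with hD
  have hb : Nat.card D ≤ 16240 * 35942400 :=
    ((ERfU.checked.idxLe hs (H := wgen (fun x => (g x, gR x)) [[1], [2], [3], [4]])
      (mem_wgen _)).card_le (wgen_le.2 fun s hs => ev_mem fun x hx => by
        have := lettersIn_iff.1 (List.all_eq_true.1
          (by decide : [[1], [2], [3], [4]].all (lettersIn 5) = true) s hs) x hx
        exact mem_gen _ this.1 this.2)
      (RfC.card_H (hs.mono (by decide +kernel)))).2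
  let p1 := (MonoidHom.fst G GG).comp D.subtype
  let p2 := (MonoidHom.snd G GG).comp D.subtype
  have r1 : p1.range = gen g 5 := by
    rw [MonoidHom.range_comp, Subgroup.range_subtype, hD, map_gen]; rfl
  have r2 : p2.range = ⊤ := by
    rw [MonoidHom.range_comp, Subgroup.range_subtype, hD, map_gen]; exact genR
  have s2 := MonoidHom.range_eq_top.1 r2
  have hk : Function.Injective (p2.comp p1.ker.subtype) :=
    (injective_iff_map_eq_one _).2 fun x hx => Subtype.ext (Subtype.ext (Prod.ext x.2 hx))
  have hc : Nat.card (p1.ker.map p2) = Nat.card p1.ker := by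
    rw [← Subgroup.range_subtype p1.ker, ← MonoidHom.range_comp, Subgroup.range_subtype]
    exact (Nat.card_congr (MonoidHom.ofInjective hk).toEquiv).symm
  have h1 := p1.ker.index_mul_card
  rw [Subgroup.index_ker, r1] at h1
  rcases (p1.normal_ker.map p2 s2).eq_bot_or_eq_top with h | h
  · rw [h, Subgroup.card_bot] at hc
    have i1 : Function.Injective p1 :=
      (MonoidHom.ker_eq_bot_iff _).1 (Subgroup.card_eq_one.1 hc.symm)
    have h2 := Nat.card_le_card_of_injective _ i1
    have h3 := Nat.card_le_card_of_surjective _ s2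
    rw [hG] at h2
    rw [card_GG] at h3
    have b1 := (Nat.bijective_iff_injective_and_card _).2 ⟨i1, by omega⟩
    have b2 := (Nat.bijective_iff_surjective_and_card _).2 ⟨s2, by rw [card_GG]; omega⟩
    exact ⟨(MulEquiv.ofBijective _ b1).symm.trans ((MulEquiv.ofBijective _ b2).trans equivGG.symm)⟩
  · rw [h, Subgroup.card_top, card_GG] at hc
    rw [← hc] at h1
    omega

end Ru

end Cfsg.Agent.H44.RfI
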