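import Cfsg.Agent.H44.Coset
import Cfsg.Agent.H44.S44sP

set_option autoImplicit false
set_option maxRecDepth 1000000
set_option linter.all false
set_option Elab.async false

namespace Cfsg.Agent.H44.S44sC.ab
open Cfsg.Agent.H44

noncomputable def rT0 : Tr :=
 (.leaf (nat_lit 0xa077791991595846125c33560890551805024c0052440))
noncomputable def gT0 : Tr :=
 (.leaf (nat_lit 0))
/-- The relators. -/
def R : List (List ℕ) := [[1, 1],
  [2, 2],
  [1, 2, 1, 2, 1, 2, 1, 2, 1, 2]]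
/-- The subgroup generators. -/
def S : List (List ℕ) := []
def Wr : List (List ℕ) := [[1, 1],
  [2, 2],
  [2, 1, 2, 1, 2, 1, 2, 1, 2, 1]]
def Wn : List (List ℕ) := []
def cr : List (ℕ × ℕ × ℕ) := [(0, 0, 0), (0, 0, 0), (1, 2, 1)]
def cn : List (ℕ × ℕ × ℕ) := []
noncomputable def rT : Tr := rT0
noncomputable def gT : Tr := gT0
noncomputable def rC (i : ℕ) : ℕ := rT.get (nat_lit 0) i
noncomputable def gC (i : ℕ) : ℕ := gT.get (nat_lit 0) i
noncomputable def row (p : ℕ) : ℕ := rec2 rC (nat_lit 8) (nat_lit 255) (nat_lit 18) (nat_lit 262143) p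
noncomputable def gf (p : ℕ) : ℕ := rec2 gC (nat_lit 8) (nat_lit 255) (nat_lit 12) (nat_lit 4095) p
noncomputable def gw (c : ℕ) : List ℕ := nth [] Wr c
noncomputable def wn (c : ℕ) : ℕ := pack (nat_lit 2) (nth [] Wn c) (nat_lit 0)
noncomputable def C : Cert :=
  { n := (nat_lit 10), na := (nat_lit 0), M := (nat_lit 0), nc := (nat_lit 2), W := (nat_lit 4), EB := (nat_lit 6),
    LB := (nat_lit 2), nreg := (nat_lit 3), ivT := (nat_lit 36), base := (nat_lit 0),
    row := row, gf := gf, gw := gw, wn := wn }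
theorem masks : Masks C (nat_lit 15) (nat_lit 63) (nat_lit 3) (nat_lit 10) (nat_lit 1023) :=
  ⟨by decide +kernel, by decide +kernel, by decide +kernel, by decide +kernel, by decide +kernel⟩
noncomputable def rchk : ℕ → ℕ → ℕ → Bool :=
  rowChk row gf gw (nat_lit 10) (nat_lit 0) (nat_lit 2) (nat_lit 4) (nat_lit 15) (nat_lit 6) (nat_lit 63) (nat_lit 2) (nat_lit 3) (nat_lit 10) (nat_lit 1023) (nat_lit 3) (nat_lit 36) (nat_lit 1) (nat_lit 1) (nat_lit 6) (nat_lit 63)
noncomputable def fchk : ℕ → ℕ → ℕ → Bool :=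
  auxRun row gf wn (nat_lit 10) (nat_lit 0) (nat_lit 0) (nat_lit 2) (nat_lit 4) (nat_lit 15) (nat_lit 6) (nat_lit 63) (nat_lit 2) (nat_lit 3) (nat_lit 10) (nat_lit 36) (nat_lit 0) (nat_lit 2) (nat_lit 3)
theorem rows_of {lo hi : ℕ} {t : JL} (h : t.run rchk (nat_lit 12) hi lo = true) : C.RowsOK lo hi :=
  rowsOK_of_run masks h
theorem facts_of {lo hi : ℕ} {t : JL} (h : t.run fchk (nat_lit 20) hi lo = true) : C.FactsOK lo hi :=
  factsOK_of_run masks h
theorem words_ok : wordsChk 10 2 4 2 3 36 0 R S Wr Wn cr cn = true := by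
  decide +kernel
noncomputable def j0 : JL :=
(.cons (nat_lit 10) (nat_lit 0xc0080001001080080001001080081) (nat_lit 0)
.nil)
theorem t0 : C.RowsOK (nat_lit 0) (nat_lit 10) :=
  rows_of (t := j0) (by decide +kernel)
theorem checked : Checked C R S :=
  ⟨⟨Wr, Wn, cr, cn, fun _ => rfl, fun _ => rfl, words_ok⟩, t0,
    fun _ _ h => absurd h (Nat.not_lt_zero _)⟩

/-- In any group whose elements `g 1, …, g 2` satisfy the relators `R`, a subgroup containing the words
of `S` has index at most 10 in the subgroup generated by these elements. -/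
theorem idxLe {G : Type*} [Group G] {g : ℕ → G} (hg : Sat g R) {H : Subgroup G}
    (hS : ∀ s ∈ S, ev g s ∈ H) : IdxLe H (gen g 2) 10 :=
  checked.idxLe hg hS

end Cfsg.Agent.H44.S44sC.ab

namespace Cfsg.Agent.H44.S44sC.abc
open Cfsg.Agent.H44

noncomputable def rT0 : Tr :=
 (.leaf (nat_lit 0x15efdd3362754ad268441b01ccba0a6132b0959ba32f142212c0ca9a8650111640498a00498832281000))
noncomputable def gT0 : Tr :=
 (.leaf (nat_lit 0x28009001800400))
/-- The relators. -/
def R : List (List ℕ) := [[1, 1],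
  [2, 2],
  [3, 3],
  [1, 2, 1, 2, 1, 2, 1, 2, 1, 2],
  [1, 3, 1, 3],
  [2, 3, 2, 3, 2, 3]]
/-- The subgroup generators. -/
def S : List (List ℕ) := [[1],
  [2]]
def Wr : List (List ℕ) := [[3, 3],
  [1, 3, 1, 3],
  [2, 2],
  [1, 1],
  [3, 2, 3, 2, 3, 2],
  [3, 1, 3, 1],
  [2, 1, 2, 1, 2, 1, 2, 1, 2, 1],
  [2, 3, 2, 3, 2, 3],
  [1, 2, 1, 2, 1, 2, 1, 2, 1, 2]]
def Wn : List (List ℕ) := [[1, 4],
  [2, 6]]
def cr : List (ℕ × ℕ × ℕ) := [(0, 0, 0), (1, 4, 0), (0, 0, 0), (0, 0, 0), (1, 5, 1), (1, 4, 1), (1, 3, 1), (1, 5, 0), (1, 3, 0)]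
def cn : List (ℕ × ℕ × ℕ) := [(1, 6, 0), (1, 7, 0)]
noncomputable def rT : Tr := rT0
noncomputable def gT : Tr := gT0
noncomputable def rC (i : ℕ) : ℕ := rT.get (nat_lit 0) i
noncomputable def gC (i : ℕ) : ℕ := gT.get (nat_lit 0) i
noncomputable def row (p : ℕ) : ℕ := rec2 rC (nat_lit 7) (nat_lit 127) (nat_lit 28) (nat_lit 0xfffffff) p
noncomputable def gf (p : ℕ) : ℕ := rec2 gC (nat_lit 8) (nat_lit 255) (nat_lit 14) (nat_lit 16383) p
noncomputable def gw (c : ℕ) : List ℕ := nth [] Wr c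
noncomputable def wn (c : ℕ) : ℕ := pack (nat_lit 3) (nth [] Wn c) (nat_lit 0)
noncomputable def C : Cert :=
  { n := (nat_lit 12), na := (nat_lit 0), M := (nat_lit 4), nc := (nat_lit 3), W := (nat_lit 4), EB := (nat_lit 7),
    LB := (nat_lit 3), nreg := (nat_lit 9), ivT := (nat_lit 0xde5688), base := (nat_lit 80),
    row := row, gf := gf, gw := gw, wn := wn }
theorem masks : Masks C (nat_lit 15) (nat_lit 127) (nat_lit 7) (nat_lit 11) (nat_lit 2047) :=
  ⟨by decide +kernel, by decide +kernel, by decide +kernel, by decide +kernel, by decide +kernel⟩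
noncomputable def rchk : ℕ → ℕ → ℕ → Bool :=
  rowChk row gf gw (nat_lit 12) (nat_lit 4) (nat_lit 3) (nat_lit 4) (nat_lit 15) (nat_lit 7) (nat_lit 127) (nat_lit 3) (nat_lit 7) (nat_lit 11) (nat_lit 2047) (nat_lit 9) (nat_lit 0xde5688) (nat_lit 2) (nat_lit 3) (nat_lit 6) (nat_lit 63)
noncomputable def fchk : ℕ → ℕ → ℕ → Bool :=
  auxRun row gf wn (nat_lit 12) (nat_lit 0) (nat_lit 4) (nat_lit 3) (nat_lit 4) (nat_lit 15) (nat_lit 7) (nat_lit 127) (nat_lit 3) (nat_lit 7) (nat_lit 11) (nat_lit 0xde5688) (nat_lit 80) (nat_lit 4) (nat_lit 15)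
theorem rows_of {lo hi : ℕ} {t : JL} (h : t.run rchk (nat_lit 18) hi lo = true) : C.RowsOK lo hi :=
  rowsOK_of_run masks h
theorem facts_of {lo hi : ℕ} {t : JL} (h : t.run fchk (nat_lit 20) hi lo = true) : C.FactsOK lo hi :=
  factsOK_of_run masks h
theorem words_ok : wordsChk 12 3 4 3 9 14571144 80 R S Wr Wn cr cn = true := by
  decide +kernel
noncomputable def j0 : JL :=
(.cons (nat_lit 12) (nat_lit 0x80810091830050040030802040470010041830050040030812ca) (nat_lit 14)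
.nil)
theorem t0 : C.RowsOK (nat_lit 0) (nat_lit 12) :=
  rows_of (t := j0) (by decide +kernel)
noncomputable def j1 : JL :=
(.cons (nat_lit 4) (nat_lit 0x4c000300001800000) (nat_lit 0x50010023001001000000000000)
.nil)
theorem t1 : C.FactsOK (nat_lit 0) (nat_lit 4) :=
  facts_of (t := j1) (by decide +kernel)
theorem checked : Checked C R S :=
  ⟨⟨Wr, Wn, cr, cn, fun _ => rfl, fun _ => rfl, words_ok⟩, t0,
    t1⟩

/-- In any group whose elements `g 1, …, g 3` satisfy the relators `R`, a subgroup containing the words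
of `S` has index at most 12 in the subgroup generated by these elements. -/
theorem idxLe {G : Type*} [Group G] {g : ℕ → G} (hg : Sat g R) {H : Subgroup G}
    (hS : ∀ s ∈ S, ev g s ∈ H) : IdxLe H (gen g 3) 12 :=
  checked.idxLe hg hS

end Cfsg.Agent.H44.S44sC.abc

namespace Cfsg.Agent.H44.S44sC.abcd
open Cfsg.Agent.H44

noncomputable def rT0 : Tr :=
 (.leaf (nat_lit 0x776eec1bc3b6e4ee81abfa26cd4c1a3b916aee5a23f8068ee1dc3436ee0c83d933646dd818bb32f4c4c1807a1f22c5820790f00c1ba3026660bdfb1775e60b83bb7215eb901607615a3d5620756e01d0162c10541cc558f25481c99732e054a841432b1e24a5420716580a03828204cdb4779274c81bd750260dc98812aa76d25b52a06d0481b052a43044ba55196b4481ac1086a14484c3482064a3a101aa10d0b901020103ec8d73b233e819c0f21f1cc78d72066542078f0a1e0ca074321d20c6071312df3869803101b0c26c8cdadd0c0068d0adc0be0654e1923ba6642f0183024614d0170ba5c94c9db0b8058b095a22c0542d95212a0502d297286958ac0130b24c86b8120b0954918110ae9512a11442603c2b1101e60382a88f4243902a00e422844719d001a940a98d301814c6908d1881482880c39c3080505011633c5204f398138050a101082c66909108134c5008098208039c939252c3a04b00c12843863092014c38c80a67182414600a144c2847008118211442881140183120640c010440443080084320404c000421823040204110020040000))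
noncomputable def gT0 : Tr :=
 (.leaf (nat_lit 0x2600012000088000240000e00005000))
/-- The relators. -/
def R : List (List ℕ) := [[1, 1],
  [2, 2],
  [3, 3],
  [4, 4],
  [1, 2, 1, 2, 1, 2, 1, 2, 1, 2],
  [1, 3, 1, 3],
  [1, 4, 1, 4],
  [2, 3, 2, 3, 2, 3],
  [2, 4, 2, 4],
  [3, 4, 3, 4, 3, 4],
  [1, 2, 3, 4, 1, 2, 3, 4, 1, 2, 3, 4, 1, 2, 3, 4, 1, 2, 3, 4, 1, 2, 3, 4, 1, 2, 3, 4, 1, 2, 3, 4, 1, 2, 3, 4, 1, 2, 3, 4, 1, 2, 3, 4, 1, 2, 3, 4, 1, 2, 3, 4, 1, 2, 3, 4, 1, 2, 3, 4]]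
/-- The subgroup generators. -/
def S : List (List ℕ) := [[1],
  [2],
  [3]]
def Wr : List (List ℕ) := [[4, 4],
  [1, 4, 1, 4],
  [2, 4, 2, 4],
  [3, 3],
  [1, 3, 1, 3],
  [2, 2],
  [4, 3, 4, 3, 4, 3],
  [1, 1],
  [3, 2, 3, 2, 3, 2],
  [4, 2, 4, 2],
  [3, 1, 3, 1],
  [4, 1, 4, 1],
  [2, 1, 2, 1, 2, 1, 2, 1, 2, 1],
  [2, 3, 2, 3, 2, 3],
  [3, 4, 3, 4, 3, 4],
  [1, 2, 1, 2, 1, 2, 1, 2, 1, 2],
  [3, 2, 1, 4, 3, 2, 1, 4, 3, 2, 1, 4, 3, 2, 1, 4, 3, 2, 1, 4, 3, 2, 1, 4, 3, 2, 1, 4, 3, 2, 1, 4, 3, 2, 1, 4, 3, 2, 1, 4, 3, 2, 1, 4, 3, 2, 1, 4, 3, 2, 1, 4, 3, 2, 1, 4, 3, 2, 1, 4]]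
def Wn : List (List ℕ) := [[1, 5],
  [2, 7],
  [3, 9]]
def cr : List (ℕ × ℕ × ℕ) := [(0, 0, 0), (1, 6, 0), (1, 8, 0), (0, 0, 0), (1, 5, 0), (0, 0, 0), (1, 9, 1), (0, 0, 0), (1, 7, 1), (1, 8, 1), (1, 5, 1), (1, 6, 1), (1, 4, 1), (1, 7, 0), (1, 9, 0), (1, 4, 0), (2, 10, 1)]
def cn : List (ℕ × ℕ × ℕ) := [(1, 11, 0), (1, 12, 0), (1, 13, 0)]
noncomputable def rT : Tr := rT0
noncomputable def gT : Tr := gT0
noncomputable def rC (i : ℕ) : ℕ := rT.get (nat_lit 0) i
noncomputable def gC (i : ℕ) : ℕ := gT.get (nat_lit 0) i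
noncomputable def row (p : ℕ) : ℕ := rec2 rC (nat_lit 6) (nat_lit 63) (nat_lit 55) (nat_lit 0x7fffffffffffff) p
noncomputable def gf (p : ℕ) : ℕ := rec2 gC (nat_lit 8) (nat_lit 255) (nat_lit 21) (nat_lit 0x1fffff) p
noncomputable def gw (c : ℕ) : List ℕ := nth [] Wr c
noncomputable def wn (c : ℕ) : ℕ := pack (nat_lit 4) (nth [] Wn c) (nat_lit 0)
noncomputable def C : Cert :=
  { n := (nat_lit 60), na := (nat_lit 0), M := (nat_lit 6), nc := (nat_lit 4), W := (nat_lit 6), EB := (nat_lit 11),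
    LB := (nat_lit 4), nreg := (nat_lit 17), ivT := (nat_lit 0x9a785643210), base := (nat_lit 672),
    row := row, gf := gf, gw := gw, wn := wn }
theorem masks : Masks C (nat_lit 63) (nat_lit 2047) (nat_lit 15) (nat_lit 16) (nat_lit 65535) :=
  ⟨by decide +kernel, by decide +kernel, by decide +kernel, by decide +kernel, by decide +kernel⟩
noncomputable def rchk : ℕ → ℕ → ℕ → Bool :=
  rowChk row gf gw (nat_lit 60) (nat_lit 6) (nat_lit 4) (nat_lit 6) (nat_lit 63) (nat_lit 11) (nat_lit 2047) (nat_lit 4) (nat_lit 15) (nat_lit 16) (nat_lit 65535) (nat_lit 17) (nat_lit 0x9a785643210) (nat_lit 3) (nat_lit 7) (nat_lit 7) (nat_lit 127)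
noncomputable def fchk : ℕ → ℕ → ℕ → Bool :=
  auxRun row gf wn (nat_lit 60) (nat_lit 0) (nat_lit 6) (nat_lit 4) (nat_lit 6) (nat_lit 63) (nat_lit 11) (nat_lit 2047) (nat_lit 4) (nat_lit 15) (nat_lit 16) (nat_lit 0x9a785643210) (nat_lit 672) (nat_lit 5) (nat_lit 31)
theorem rows_of {lo hi : ℕ} {t : JL} (h : t.run rchk (nat_lit 28) hi lo = true) : C.RowsOK lo hi :=
  rowsOK_of_run masks h
theorem facts_of {lo hi : ℕ} {t : JL} (h : t.run fchk (nat_lit 20) hi lo = true) : C.FactsOK lo hi :=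
  factsOK_of_run masks h
theorem words_ok : wordsChk 60 4 6 4 17 10615102124560 672 R S Wr Wn cr cn = true := by
  decide +kernel
noncomputable def j0 : JL :=
(.cons (nat_lit 16) (nat_lit 0x1030202100100010188022c300003c3020224008003c1880200305020070818106801410008182c30014240080e0030500101820250992) (nat_lit 355)
(.cons (nat_lit 16) (nat_lit 0x2003050210008182c3001410010022c3001424008181030002240080e003051410008020030500101820e00305001018202007050e00708) (nat_lit 0)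
(.cons (nat_lit 16) (nat_lit 0x10188022c680003c302022400800103020224008003c18802003050010188020030502007081810680003c302020070802106801410008) (nat_lit 0)
(.cons (nat_lit 12) (nat_lit 0x14240100e0070500441820e007050e003050e00708001030202100100e0030800101820010188022c300) (nat_lit 0)
.nil))))
theorem t0 : C.RowsOK (nat_lit 0) (nat_lit 60) :=
  rows_of (t := j0) (by decide +kernel)
noncomputable def j1 : JL :=
(.cons (nat_lit 6) (nat_lit 0x820006500048000300001800000) (nat_lit 0x2000400cc0020044001001000000000000000000)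
.nil)
theorem t1 : C.FactsOK (nat_lit 0) (nat_lit 6) :=
  facts_of (t := j1) (by decide +kernel)
theorem checked : Checked C R S :=
  ⟨⟨Wr, Wn, cr, cn, fun _ => rfl, fun _ => rfl, words_ok⟩, t0,
    t1⟩

/-- In any group whose elements `g 1, …, g 4` satisfy the relators `R`, a subgroup containing the words
of `S` has index at most 60 in the subgroup generated by these elements. -/
theorem idxLe {G : Type*} [Group G] {g : ℕ → G} (hg : Sat g R) {H : Subgroup G}
    (hS : ∀ s ∈ S, ev g s ∈ H) : IdxLe H (gen g 4) 60 :=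
  checked.idxLe hg hS

end Cfsg.Agent.H44.S44sC.abcd

namespace Cfsg.Agent.H44.S44sC.all
open Cfsg.Agent.H44

noncomputable def rT0 : Tr :=
 (.node (.node (.leaf (nat_lit 0x21990c02a002f4198bc805cd3e117853d07c2e58a734f486202e0a70b8927883572300b429a2d261d85300588341a58b0d8747490a5ace80582c161c90b029402b0a48ac80548321158520c5a2a5823a0c586e02a0a38a88050736114851986c28541aa4f106a0270a289c8a8014401324ed48026329f909828602549f89480489381128508c4e2458a0a4dca7a0240a0890844c53f0a0008ce4c232011088c67c13f397889427cc2e01104f4e5c223010189c44213c39c081565853909d807c2741f200f087c670139210879427062400f04dc8401e300e087466cb21594871426c62800e24a16501c300d1cb4436135399069466053309a006506019200c086466413320d861426472a00c04c483418300b8cbd84613031185d425e0170970860c4417400a885865ac29295855425a41a00aa080a5415300a0cacc3212c10b05142560140952c7842a1440090ca4c3a91650e8494252012094084d438124008084464e71b292841424e5200081c68a481030078c94e3e12610883d424a00f092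0c884200f4091848962e00f28b83c801a321208a87463e0d5090803424020e18f035023e11e207a85001a0d1487003102631c207031023a11c28900312240c20050c6ca2c61118c829423600a08d082c6300a408c8460a2811700502854260093870c54a2609408b045441400908a0248e1211300404484120833058018c163102038190222110186801821e062406043800a10d186014ca0a708086102000a0512838010a0e5072858110a0c10b0018428408033304181421200308400c8808107001101060c023201940c20c105001008460440208200042060120000c0460210218080142022001000800400000))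
 (.leaf (nat_lit 0xb413dfe0fe07b0c19eca6f507e03c86088f4793c3c01d62fa38123b1d532f81814be01d4300752039b9ec4e817f8bd9cd68fcf7a03929ccafc7238b901c42fcf791391c532fa06c83c65e08da6c4bbbc5df0ee9770359ac6cda06a83b29b8afa6a4b3605f40d217c1351a4c0ce2681bdbdd20e86750bdb5cc0ceb7a83999ce4f20650bd09986f26547b285e5ee2e710329946ac80637373dc16e06347312dbe4ded6f0311886cc20607b82dd94dc604bbb0179eda65f2bc1792eea17802ee1b04bc5d3b35c1aeed605d0bb974a8bc17602e21806ea5c3a2ec1a42ea86902e17040b43746b439a1ed05a50ba01682e625b7b39691ecc05842d8dc88b258483885c9cca0580b8960ace00576309965cc85749ab85c00ace63531958dedea628b101542de552bb7014dac86547b094d28a616e02925a92c052342a0140ca276d62a1412ad416d02791406d84f3ab4bd742d816b02793c649ef5c0b501382d24e272d812d2cc36722612d02d016762d012dcb44b272c8128c987642b31291cb01660248594494493a31859009044a6ab920e290c520b1811d2ac4725aaa555e9a16202311852be0433221d85abe434ab00584084443729908e484d560b001050a44123220100ebee515a21010c8615f01f95794863f39ae393c2bc03e0ae8f8a47ae4e320857007a3d1526a9160aad4d01e0f05a9803b3aca910ab63b46a5856c07415a11d8e8da9415901c955c6b03936a498e82b0d4901c8e464aca420ab80e189038279ba905a8e15601b8dc548c84669e00d82aa3624a2ad3528ae4501a8d44ea20343aa2d318a23443a805500665535a80cce6a4b480a980c9a84322818ad1ce9c1520188c448681510183501268303)))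
 (.node (.leaf (nat_lit 0xcc3c61f908083dc2a0caf072868c34618104821dc2aa14103285e43a04f708080ec3ae10502804c43420e30618703f9fc6aff18284101f830c7e2d4081f030a27d1c21f135001845402a000f87c1))
 (.leaf (nat_lit 0))))
noncomputable def gT0 : Tr :=
 (.leaf (nat_lit 0x3d4c505ca6e8ee041886823c4a92222428000013000009000004400001800000a000004000001800000b126e058831))
/-- The relators. -/
def R : List (List ℕ) := [[1, 1],
  [2, 2],
  [3, 3],
  [4, 4],
  [5, 5],
  [1, 2, 1, 2, 1, 2, 1, 2, 1, 2],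
  [1, 3, 1, 3],
  [1, 4, 1, 4],
  [1, 5, 1, 5],
  [2, 3, 2, 3, 2, 3],
  [2, 4, 2, 4],
  [2, 5, 2, 5, 2, 5],
  [3, 4, 3, 4, 3, 4],
  [3, 5, 3, 5],
  [4, 5, 4, 5],
  [1, 2, 3, 4, 1, 2, 3, 4, 1, 2, 3, 4, 1, 2, 3, 4, 1, 2, 3, 4, 1, 2, 3, 4, 1, 2, 3, 4, 1, 2, 3, 4, 1, 2, 3, 4, 1, 2, 3, 4, 1, 2, 3, 4, 1, 2, 3, 4, 1, 2, 3, 4, 1, 2, 3, 4, 1, 2, 3, 4],
  [1, 2, 1, 2, 5, 1, 2, 1, 2, 5, 1, 2, 1, 2, 5],
  [1, 2, 3, 5, 2, 1, 2, 3, 5, 2, 1, 2, 3, 5, 2, 1, 2, 3, 5, 2]]
/-- The subgroup generators. -/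
def S : List (List ℕ) := [[1],
  [2],
  [3],
  [4]]
def Wr : List (List ℕ) := [[5, 5],
  [1, 5, 1, 5],
  [2, 2],
  [3, 5, 3, 5],
  [4, 5, 4, 5],
  [1, 1],
  [3, 3],
  [4, 2, 4, 2],
  [5, 2, 5, 2, 5, 2],
  [4, 1, 4, 1],
  [5, 1, 5, 1],
  [2, 3, 2, 3, 2, 3],
  [4, 4],
  [5, 3, 5, 3],
  [1, 3, 1, 3],
  [2, 4, 2, 4],
  [3, 4, 3, 4, 3, 4],
  [5, 4, 5, 4],
  [2, 1, 2, 1, 2, 1, 2, 1, 2, 1],
  [5, 1, 2, 1, 2, 5, 1, 2, 1, 2, 5, 1, 2, 1, 2],
  [1, 4, 1, 4],
  [3, 2, 3, 2, 3, 2],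
  [2, 5, 2, 5, 2, 5],
  [1, 2, 3, 5, 2, 1, 2, 3, 5, 2, 1, 2, 3, 5, 2, 1, 2, 3, 5, 2],
  [3, 1, 3, 1],
  [1, 2, 1, 2, 1, 2, 1, 2, 1, 2],
  [4, 3, 4, 3, 4, 3],
  [1, 2, 5, 1, 2, 1, 2, 5, 1, 2, 1, 2, 5, 1, 2],
  [3, 5, 2, 1, 2, 3, 5, 2, 1, 2, 3, 5, 2, 1, 2, 3, 5, 2, 1, 2]]
def Wn : List (List ℕ) := [[1, 6],
  [2, 8],
  [3, 10],
  [4, 12],
  [4, 5, 4, 5],
  [1, 2, 1, 2, 5, 1, 2, 1, 2, 5, 1, 2, 1, 2, 5],
  [4, 4],
  [5, 5]]
def cr : List (ℕ × ℕ × ℕ) := [(0, 0, 0), (1, 8, 0), (0, 0, 0), (1, 13, 0), (1, 14, 0), (0, 0, 0), (0, 0, 0), (1, 10, 1), (1, 11, 1), (1, 7, 1), (1, 8, 1), (1, 9, 0), (0, 0, 0), (1, 13, 1), (1, 6, 0), (1, 10, 0), (1, 12, 0), (1, 14, 1), (1, 5, 1), (1, 16, 4), (1, 7, 0), (1, 9, 1), (1, 11, 0), (1, 17, 0), (1, 6, 1), (1, 5, 0), (1, 12, 1), (1, 16, 2), (1, 17, 2)]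
def cn : List (ℕ × ℕ × ℕ) := [(1, 18, 0), (1, 19, 0), (1, 20, 0), (1, 21, 0), (1, 14, 0), (1, 16, 0), (0, 0, 0), (0, 0, 0)]
noncomputable def rT : Tr := rT0
noncomputable def gT : Tr := gT0
noncomputable def rC (i : ℕ) : ℕ := rT.get (nat_lit 2) i
noncomputable def gC (i : ℕ) : ℕ := gT.get (nat_lit 0) i
noncomputable def row (p : ℕ) : ℕ := rec2 rC (nat_lit 6) (nat_lit 63) (nat_lit 78) (nat_lit 0x3fffffffffffffffffff) p
noncomputable def gf (p : ℕ) : ℕ := rec2 gC (nat_lit 7) (nat_lit 127) (nat_lit 25) (nat_lit 0x1ffffff) p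
noncomputable def gw (c : ℕ) : List ℕ := nth [] Wr c
noncomputable def wn (c : ℕ) : ℕ := pack (nat_lit 4) (nth [] Wn c) (nat_lit 0)
noncomputable def C : Cert :=
  { n := (nat_lit 136), na := (nat_lit 2), M := (nat_lit 15), nc := (nat_lit 5), W := (nat_lit 8), EB := (nat_lit 13),
    LB := (nat_lit 4), nreg := (nat_lit 29), ivT := (nat_lit 0xcdab8967543210), base := (nat_lit 5440),
    row := row, gf := gf, gw := gw, wn := wn }
theorem masks : Masks C (nat_lit 255) (nat_lit 8191) (nat_lit 15) (nat_lit 20) (nat_lit 0xfffff) :=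
  ⟨by decide +kernel, by decide +kernel, by decide +kernel, by decide +kernel, by decide +kernel⟩
noncomputable def rchk : ℕ → ℕ → ℕ → Bool :=
  rowChk row gf gw (nat_lit 136) (nat_lit 15) (nat_lit 5) (nat_lit 8) (nat_lit 255) (nat_lit 13) (nat_lit 8191) (nat_lit 4) (nat_lit 15) (nat_lit 20) (nat_lit 0xfffff) (nat_lit 29) (nat_lit 0xcdab8967543210) (nat_lit 4) (nat_lit 15) (nat_lit 7) (nat_lit 127)
noncomputable def fchk : ℕ → ℕ → ℕ → Bool :=
  auxRun row gf wn (nat_lit 136) (nat_lit 2) (nat_lit 15) (nat_lit 5) (nat_lit 8) (nat_lit 255) (nat_lit 13) (nat_lit 8191) (nat_lit 4) (nat_lit 15) (nat_lit 20) (nat_lit 0xcdab8967543210) (nat_lit 5440) (nat_lit 6) (nat_lit 63)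
theorem rows_of {lo hi : ℕ} {t : JL} (h : t.run rchk (nat_lit 35) hi lo = true) : C.RowsOK lo hi :=
  rowsOK_of_run masks h
theorem facts_of {lo hi : ℕ} {t : JL} (h : t.run fchk (nat_lit 20) hi lo = true) : C.FactsOK lo hi :=
  factsOK_of_run masks h
theorem words_ok : wordsChk 136 5 8 4 29 57890976858124816 5440 R S Wr Wn cr cn = true := by
  decide +kernel
noncomputable def j0 : JL :=
(.cons (nat_lit 16) (nat_lit 0x2343830004011061808d2c0030e1a0018f24008832a04687001808d000c314141c98024008900c38680063c0880e0030e1a00606162838300244070018005080c1014280f9e) (nat_lit 39030)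
(.cons (nat_lit 16) (nat_lit 0x342030404007205400d085c101001c81500143970c04680181800d0e0c101001c1950234b00340068406180800e403011a6498024008832a04696006000d0e5c301001c806) (nat_lit 0)
(.cons (nat_lit 16) (nat_lit 0x143830404d80063c005080c3091a1c00600143830404d80063c0050e5c101360060f00342030c0468700180050e0c1011a0018f0034203040400720540050e0c3013600606) (nat_lit 0)
(.cons (nat_lit 16) (nat_lit 0x1220380380028406087082c00309101c0061c3400c0c2c68726004880e003000a101820220b000c00284060848d2c003011a0018602203800c00684060808d0e003091a1c01c) (nat_lit 0)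
(.cons (nat_lit 16) (nat_lit 0x2203800c04519060058a0e4c012001c8061c340031e38680061858a0e4c001101c0183e28c830024416001858d324c001001c18602340030c046870054f0d0e0c00e1a0060f) (nat_lit 222)
(.cons (nat_lit 16) (nat_lit 0x24008832a04680181808a0e0c009101c00624003832a046960068900220c30e1a0018f023400c1e24407006858a320c0010044186023400c1e2468700689000e40a8e1a0018f) (nat_lit 0)
(.cons (nat_lit 16) (nat_lit 0x2828c930048007065408022403011a0060f1220e800c38680181858a0e4c0001a10b8202003902a48011065408d2c0030100448151c3400c1e0441600180800e40a8e1a0018f) (nat_lit 0)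
(.cons (nat_lit 16) (nat_lit 0x220b000c38d80063c900220ca891a5800600142030404d8018189000e40a8100448151628c930048011201870d000c7800a1cb82026c0031e040072018a0d324c0120044815) (nat_lit 0)
(.cons (nat_lit 8) (nat_lit 0x1220e80302c519260071b0030312001c8150228c83002441600189000e4030b1a64980) (nat_lit 0)
.nil)))))))))
theorem t0 : C.RowsOK (nat_lit 0) (nat_lit 136) :=
  rows_of (t := j0) (by decide +kernel)
noncomputable def j1 : JL :=
(.cons (nat_lit 2) (nat_lit 0) (nat_lit 0)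
(.cons (nat_lit 13) (nat_lit 0x1c20019e0017400102000d8000ba0009c0007e0006000048000300001800000) (nat_lit 0x1d14008021b1c00802197030030071c10010040400401010010003c01870c60030053c004010d0010032c0040089001001000000000000000000000000)
.nil))
theorem t1 : C.FactsOK (nat_lit 0) (nat_lit 15) :=
  facts_of (t := j1) (by decide +kernel)
theorem checked : Checked C R S :=
  ⟨⟨Wr, Wn, cr, cn, fun _ => rfl, fun _ => rfl, words_ok⟩, t0,
    t1⟩

/-- In any group whose elements `g 1, …, g 5` satisfy the relators `R`, a subgroup containing the words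
of `S` has index at most 136 in the subgroup generated by these elements. -/
theorem idxLe {G : Type*} [Group G] {g : ℕ → G} (hg : Sat g R) {H : Subgroup G}
    (hS : ∀ s ∈ S, ev g s ∈ H) : IdxLe H (gen g 5) 136 :=
  checked.idxLe hg hS

end Cfsg.Agent.H44.S44sC.all

namespace Cfsg.Agent.H44.S44sC
open Cfsg.Agent.H44

theorem idx_ab {G : Type*} [Group G] {g : ℕ → G} (hg : Sat g S44s.Rm) :
    IdxLe (wgen g []) (wgen g [[1], [2]]) 10 :=
  Cfsg.Agent.H44.S44sC.ab.checked.step hg [0, 1, 2] (by decide +kernel) (by decide +kernel) (by decide +kernel)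

theorem card_ab {G : Type*} [Group G] {g : ℕ → G} (hg : Sat g S44s.Rm) :
    Finite (wgen g [[1], [2]]) ∧ Nat.card (wgen g [[1], [2]]) ≤ 10 :=
  (idx_ab hg).wcard (n := 10) (m := 1) (by decide) (wcard_nil g)

theorem idx_abc {G : Type*} [Group G] {g : ℕ → G} (hg : Sat g S44s.Rm) :
    IdxLe (wgen g [[1], [2]]) (wgen g [[1], [2], [3]]) 12 :=
  Cfsg.Agent.H44.S44sC.abc.checked.step hg [0, 1, 2, 3] (by decide +kernel) (by decide +kernel) (by decide +kernel)

theorem card_abc {G : Type*} [Group G] {g : ℕ → G} (hg : Sat g S44s.Rm) :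
    Finite (wgen g [[1], [2], [3]]) ∧ Nat.card (wgen g [[1], [2], [3]]) ≤ 120 :=
  (idx_abc hg).wcard (n := 12) (m := 10) (by decide) (card_ab hg)

theorem idx_abcd {G : Type*} [Group G] {g : ℕ → G} (hg : Sat g S44s.Rm) :
    IdxLe (wgen g [[1], [2], [3]]) (wgen g [[1], [2], [3], [4]]) 60 :=
  Cfsg.Agent.H44.S44sC.abcd.checked.step hg [0, 1, 2, 3, 4] (by decide +kernel) (by decide +kernel) (by decide +kernel)

theorem card_abcd {G : Type*} [Group G] {g : ℕ → G} (hg : Sat g S44s.Rm) :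
    Finite (wgen g [[1], [2], [3], [4]]) ∧ Nat.card (wgen g [[1], [2], [3], [4]]) ≤ 7200 :=
  (idx_abcd hg).wcard (n := 60) (m := 120) (by decide) (card_abc hg)

theorem idx_all {G : Type*} [Group G] {g : ℕ → G} (hg : Sat g S44s.Rm) :
    IdxLe (wgen g [[1], [2], [3], [4]]) (wgen g [[1], [2], [3], [4], [5]]) 136 :=
  Cfsg.Agent.H44.S44sC.all.checked.step hg [0, 1, 2, 3, 4, 5] (by decide +kernel) (by decide +kernel) (by decide +kernel)

theorem card_all {G : Type*} [Group G] {g : ℕ → G} (hg : Sat g S44s.Rm) :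
    Finite (wgen g [[1], [2], [3], [4], [5]]) ∧ Nat.card (wgen g [[1], [2], [3], [4], [5]]) ≤ 979200 :=
  (idx_all hg).wcard (n := 136) (m := 7200) (by decide) (card_abcd hg)


end Cfsg.Agent.H44.S44sC

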