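import Cfsg.Agent.H44.Coset
import Cfsg.Agent.H44.S44sP

set_option autoImplicit false
set_option maxRecDepth 1000000
set_option linter.all false
set_option Elab.async false

namespace Cfsg.Agent.H44.S44sQ.q
open Cfsg.Agent.H44

noncomputable def rT0 : Tr :=
 (.leaf (nat_lit 0xb02c0b02c0b0000))
noncomputable def gT0 : Tr :=
 (.leaf (nat_lit 0x2b400ac002ac00aa002a400a000668209001a34018b00620228008de00774081a0086518180246219d600f5419d60ed5019520e9441a4e12e43234e1b0322a4a13232228a14b251188274183304e8c0d5502914149b035730c2c42caf0a22c24a909220246704a180e660291416240381015e30470c09a3056081162035081521044040ce10230414a0042000c60021000420))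
/-- The relators. -/
def R : List (List ℕ) := [[1, 1],
  [2, 2],
  [3, 3],
  [4, 4],
  [5, 5],
  [1, 2, 1, 2, 1, 2, 1, 2, 1, 2],
  [1, 3, 1, 3],
  [1, 4, 1, 4],
  [1, 5, 1, 5],
  [2, 3, 2, 3, 2, 3],
  [2, 4, 2, 4],
  [2, 5, 2, 5, 2, 5],
  [3, 4, 3, 4, 3, 4],
  [3, 5, 3, 5],
  [4, 5, 4, 5],
  [1, 2, 3, 4, 1, 2, 3, 4, 1, 2, 3, 4, 1, 2, 3, 4, 1, 2, 3, 4, 1, 2, 3, 4, 1, 2, 3, 4, 1, 2, 3, 4, 1, 2, 3, 4, 1, 2, 3, 4, 1, 2, 3, 4, 1, 2, 3, 4, 1, 2, 3, 4, 1, 2, 3, 4, 1, 2, 3, 4],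
  [1, 2, 1, 2, 5, 1, 2, 1, 2, 5, 1, 2, 1, 2, 5],
  [1, 2, 3, 5, 2, 1, 2, 3, 5, 2, 1, 2, 3, 5, 2, 1, 2, 3, 5, 2],
  [1, 2, 3, 5, 4, 2]]
/-- The subgroup generators. -/
def S : List (List ℕ) := []
def Wr : List (List ℕ) := []
def Wn : List (List ℕ) := [[1, 3, 1, 3],
  [1, 4, 1, 4],
  [1, 5, 1, 5],
  [2, 4, 2, 4],
  [3, 5, 3, 5],
  [4, 5, 4, 5],
  [5, 4, 2, 1, 2, 3],
  [5, 3, 2, 1, 2, 4],
  [3, 2, 1, 2, 4, 5],
  [4, 3, 4, 3, 4, 3],
  [3, 3],
  [5, 5],
  [2, 2],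
  [5, 2, 5, 2, 5, 2],
  [2, 3, 2, 3, 2, 3],
  [2, 1, 2, 3, 5, 4],
  [4, 4],
  [1, 2, 3, 5, 4, 2],
  [1, 1],
  [3, 4, 3, 4, 3, 4],
  [5, 1, 2, 1, 2, 5, 1, 2, 1, 2, 5, 1, 2, 1, 2]]
def cr : List (ℕ × ℕ × ℕ) := []
def cn : List (ℕ × ℕ × ℕ) := [(1, 6, 0), (1, 7, 0), (1, 8, 0), (1, 10, 0), (1, 13, 0), (1, 14, 0), (1, 18, 3), (2, 18, 2), (2, 18, 3), (1, 12, 1), (0, 0, 0), (0, 0, 0), (0, 0, 0), (1, 11, 1), (1, 9, 0), (1, 18, 5), (0, 0, 0), (1, 18, 0), (0, 0, 0), (1, 12, 0), (1, 16, 4)]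
noncomputable def rT : Tr := rT0
noncomputable def gT : Tr := gT0
noncomputable def rC (i : ℕ) : ℕ := rT.get (nat_lit 0) i
noncomputable def gC (i : ℕ) : ℕ := gT.get (nat_lit 0) i
noncomputable def row (p : ℕ) : ℕ := rec2 rC (nat_lit 6) (nat_lit 63) (nat_lit 60) (nat_lit 0xfffffffffffffff) p
noncomputable def gf (p : ℕ) : ℕ := rec2 gC (nat_lit 8) (nat_lit 255) (nat_lit 18) (nat_lit 262143) p
noncomputable def gw (c : ℕ) : List ℕ := nth [] Wr c
noncomputable def wn (c : ℕ) : ℕ := pack (nat_lit 3) (nth [] Wn c) (nat_lit 0)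
noncomputable def C : Cert :=
  { n := (nat_lit 1), na := (nat_lit 20), M := (nat_lit 65), nc := (nat_lit 5), W := (nat_lit 5), EB := (nat_lit 10),
    LB := (nat_lit 3), nreg := (nat_lit 0), ivT := (nat_lit 181896), base := (nat_lit 0),
    row := row, gf := gf, gw := gw, wn := wn }
theorem masks : Masks C (nat_lit 31) (nat_lit 1023) (nat_lit 7) (nat_lit 13) (nat_lit 8191) :=
  ⟨by decide +kernel, by decide +kernel, by decide +kernel, by decide +kernel, by decide +kernel⟩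
noncomputable def rchk : ℕ → ℕ → ℕ → Bool :=
  rowChk row gf gw (nat_lit 1) (nat_lit 65) (nat_lit 5) (nat_lit 5) (nat_lit 31) (nat_lit 10) (nat_lit 1023) (nat_lit 3) (nat_lit 7) (nat_lit 13) (nat_lit 8191) (nat_lit 0) (nat_lit 181896) (nat_lit 7) (nat_lit 127) (nat_lit 7) (nat_lit 127)
noncomputable def fchk : ℕ → ℕ → ℕ → Bool :=
  auxRun row gf wn (nat_lit 1) (nat_lit 20) (nat_lit 65) (nat_lit 5) (nat_lit 5) (nat_lit 31) (nat_lit 10) (nat_lit 1023) (nat_lit 3) (nat_lit 7) (nat_lit 13) (nat_lit 181896) (nat_lit 0) (nat_lit 8) (nat_lit 255)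
theorem rows_of {lo hi : ℕ} {t : JL} (h : t.run rchk (nat_lit 35) hi lo = true) : C.RowsOK lo hi :=
  rowsOK_of_run masks h
theorem facts_of {lo hi : ℕ} {t : JL} (h : t.run fchk (nat_lit 20) hi lo = true) : C.FactsOK lo hi :=
  factsOK_of_run masks h
theorem words_ok : wordsChk 1 5 5 3 0 181896 0 R S Wr Wn cr cn = true := by
  decide +kernel
noncomputable def j0 : JL :=
(.cons (nat_lit 1) (nat_lit 0x5080c101) (nat_lit 0x407ef9ebc)
.nil)
theorem t0 : C.RowsOK (nat_lit 0) (nat_lit 1) :=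
  rows_of (t := j0) (by decide +kernel)
noncomputable def j1 : JL :=
(.cons (nat_lit 20) (nat_lit 0) (nat_lit 0)
(.cons (nat_lit 16) (nat_lit 0x310002e0002b8002880024000200001c0001900016000120000f0000c000090000600003000000) (nat_lit 0x493400200d39454000300c431b00200c41442a00300b422b2a3b422b00600a1b1a342f3d0050092b0f0508180050082b0f140030041b1a39003006290f05081a005007250b0e00300621090e00300519070c00300415050e00300313050c00300211050a003001)
(.cons (nat_lit 16) (nat_lit 0x308002d8002b000280002580022800200001c8001980015000128000e0000b8000700004800000) (nat_lit 0x6913002011306605003013612100200c535e1100300b5d1d00200d365c0900300b59580020111d5b4f5a00400d315a2e003013503725531d2d006012551f0020111f22364f324f006010512300200b234b17070a1e00600f4d2700200d270d08470f1600600e)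
(.cons (nat_lit 13) (nat_lit 0x288002600023800210001e8001580013000100000d8000b0000780004800000) (nat_lit 0x7b7600200c7b6b0020117b7400200b7b7900200d7b0500201379067906767a057a0575790679067600f015770f00200d0f710700300d6f6700200c6f0900200b076d647000400d2d6e0600301360096c126009006014)
.nil))))
theorem t1 : C.FactsOK (nat_lit 0) (nat_lit 65) :=
  facts_of (t := j1) (by decide +kernel)
theorem checked : Checked C R S :=
  ⟨⟨Wr, Wn, cr, cn, fun _ => rfl, fun _ => rfl, words_ok⟩, t0,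
    t1⟩

/-- In any group whose elements `g 1, …, g 5` satisfy the relators `R`, a subgroup containing the words
of `S` has index at most 1 in the subgroup generated by these elements. -/
theorem idxLe {G : Type*} [Group G] {g : ℕ → G} (hg : Sat g R) {H : Subgroup G}
    (hS : ∀ s ∈ S, ev g s ∈ H) : IdxLe H (gen g 5) 1 :=
  checked.idxLe hg hS

end Cfsg.Agent.H44.S44sQ.q

namespace Cfsg.Agent.H44.S44sQ
open Cfsg.Agent.H44

/-- A word of order 17. -/
def XQ : List (List ℕ) := [[1, 2, 3, 5, 4, 2]]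

theorem idx_q {G : Type*} [Group G] {g : ℕ → G} (hg : Sat g (S44s.Rm ++ XQ)) :
    IdxLe (wgen g []) (wgen g [[1], [2], [3], [4], [5]]) 1 :=
  Cfsg.Agent.H44.S44sQ.q.checked.step hg [0, 1, 2, 3, 4, 5] (by decide +kernel) (by decide +kernel) (by decide +kernel)

theorem card_q {G : Type*} [Group G] {g : ℕ → G} (hg : Sat g (S44s.Rm ++ XQ)) :
    Finite (wgen g [[1], [2], [3], [4], [5]]) ∧ Nat.card (wgen g [[1], [2], [3], [4], [5]]) ≤ 1 :=
  (idx_q hg).wcard (n := 1) (m := 1) (by decide) (wcard_nil g)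


end Cfsg.Agent.H44.S44sQ

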