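import Mathlib
import Cfsg.Agent.H43.Chain
import Cfsg.Agent.H44.S44sC
import Cfsg.Agent.H44.S44sQ
import Cfsg.Agent.H44.Perm3

set_option autoImplicit false
set_option maxRecDepth 1000000
set_option linter.all false
set_option Elab.async false

namespace Cfsg.Agent.H44.S44sM

open Cfsg.Agent.H44 Cfsg.Agent.H43 

theorem m_hn : NOk 136 := by decide

theorem m_hk : 136 ≤ 2 ^ 8 := by decide

noncomputable def m_g1 : Net := (Net.cons (nat_lit 1) (nat_lit 0x111104040101151004104000000504100) (Net.cons (nat_lit 2) (nat_lit 0x330220301021020102033010000000) (Net.cons (nat_lit 4) (nat_lit 0x8020a05000f0307020703000c02020a00) (Net.cons (nat_lit 8) (nat_lit 0xe200a00000000000000004000a0000) (Net.cons (nat_lit 16) (nat_lit 0x208200004b830000040800000000) (Net.cons (nat_lit 32) (nat_lit 0x4b83008a0000000000000000) (Net.cons (nat_lit 64) (nat_lit 0x4b83000800000082) (Net.cons (nat_lit 128) (nat_lit 130) (Net.cons (nat_lit 64) (nat_lit 130) (Net.cons (nat_lit 32) (nat_lit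 0x6b83098a0000000004080000) (Net.cons (nat_lit 16) (nat_lit 0xe2a20000dff30000343800000a00) (Net.cons (nat_lit 8) (nat_lit 0xf300a4000200000004000700bb00a0) (Net.cons (nat_lit 4) (nat_lit 0xd060a05000f0307020703000c02020f00) (Net.cons (nat_lit 2) (nat_lit 0x2000330220301021020102033010000010) (Net.cons (nat_lit 1) (nat_lit 0x111104040101151004104000000504104) Net.nil)))))))))))))))

theorem m_g1_ok : Net.ok 136 m_g1 = true := by decide +kernel

noncomputable def m_g2 : Net := (Net.cons (nat_lit 1) (nat_lit 0x4554000000001004414051504010110014) (Net.cons (nat_lit 2) (nat_lit 0x2300001110300030232300130110) (Net.cons (nat_lit 4) (nat_lit 0x90004070b000c00080009000002000100) (Net.cons (nat_lit 8) (nat_lit 0x940082008900a100a100a000c90000) (Net.cons (nat_lit 16) (nat_lit 0x22b9000000040000208100000000) (Net.cons (nat_lit 32) (nat_lit 0x420910000000000000000) (Net.cons (nat_lit 64) (nat_lit 0x4208100000090) (Net.cons (nat_lit 128) (nat_lit 144) (Net.cons (nat_lit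 64) (nat_lit 144) (Net.cons (nat_lit 32) (nat_lit 0x22ad20950000000020810000) (Net.cons (nat_lit 16) (nat_lit 0x26f900009d140000f3f30000c900) (Net.cons (nat_lit 8) (nat_lit 0xbc009200c900e100a900a800db0010) (Net.cons (nat_lit 4) (nat_lit 0xd0404070b000c00080009000002000304) (Net.cons (nat_lit 2) (nat_lit 0x2300001110300030232300130112) (Net.cons (nat_lit 1) (nat_lit 0x4554000010011004414051504010110014) Net.nil)))))))))))))))

theorem m_g2_ok : Net.ok 136 m_g2 = true := by decide +kernel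

noncomputable def m_g3 : Net := (Net.cons (nat_lit 1) (nat_lit 0x4044041050014040044544000000500440) (Net.cons (nat_lit 2) (nat_lit 0x21003122223122102322201221022010) (Net.cons (nat_lit 4) (nat_lit 0x7000105010402050b010801020200) (Net.cons (nat_lit 8) (nat_lit 0x10008200800007000a005900020000) (Net.cons (nat_lit 16) (nat_lit 0x3b00000000200004d1000000000) (Net.cons (nat_lit 32) (nat_lit 0x645100000000000000000) (Net.cons (nat_lit 64) (nat_lit 0x6451000000000) (Net.cons (nat_lit 32) (nat_lit 0x3b64510000000004d100000) (Net.cons (nat_lit 16) (nat_lit 0x13f200009c4f00007f3900000200) (Net.cons (nat_lit 8) (nat_lit 0x19008200a60023009f008c00130020) (Net.cons (nat_lit 4) (nat_lit 0x20207000b07030403040a040d060b0b0c) (Net.cons (nat_lit 2) (nat_lit 0x1021003122223122102322201221022010) (Net.cons (nat_lit 1) (nat_lit 0x4044041050014040044544000000500440) Net.nil)))))))))))))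

theorem m_g3_ok : Net.ok 136 m_g3 = true := by decide +kernel

noncomputable def m_g4 : Net := (Net.cons (nat_lit 1) (nat_lit 0x1101011050041100005504010010444040) (Net.cons (nat_lit 2) (nat_lit 0x1011022230011023220032033212000) (Net.cons (nat_lit 4) (nat_lit 0x106060006000204040100020f05090800) (Net.cons (nat_lit 8) (nat_lit 0x1100160000000400040004001c0000) (Net.cons (nat_lit 16) (nat_lit 0x4498000002000000207c00000000) (Net.cons (nat_lit 32) (nat_lit 0x20000140000000000000000) (Net.cons (nat_lit 64) (nat_lit 0x200001400000010) (Net.cons (nat_lit 128) (nat_lit 16) (Net.cons (nat_lit 64) (nat_lit 16) (Net.cons (nat_lit 32) (nat_lit 0x4688021400000000207c0000) (Net.cons (nat_lit 16) (nat_lit 0x75bc00000b030000347c00005c00) (Net.cons (nat_lit 8) (nat_lit 0x53000700200064008d0087009f0080) (Net.cons (nat_lit 4) (nat_lit 0x3060701070006040c0102020f05090a00) (Net.cons (nat_lit 2) (nat_lit 0x1011022200011023220032033212010) (Net.cons (nat_lit 1) (nat_lit 0x1101011010011104005504010010444040)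 Net.nil)))))))))))))))

theorem m_g4_ok : Net.ok 136 m_g4 = true := by decide +kernel

noncomputable def m_g5 : Net := (Net.cons (nat_lit 1) (nat_lit 0x401500405404141010011104451414100) (Net.cons (nat_lit 2) (nat_lit 0x11301100102220001110303303310000) (Net.cons (nat_lit 4) (nat_lit 0x800010906020200030c0504020a0e0200) (Net.cons (nat_lit 8) (nat_lit 0xe20082008200000002000300c20000) (Net.cons (nat_lit 16) (nat_lit 0x4c2000020200000099a00000000) (Net.cons (nat_lit 32) (nat_lit 0x202000900000000000000000) (Net.cons (nat_lit 64) (nat_lit 0x2020009000000080) (Net.cons (nat_lit 128) (nat_lit 128) (Net.cons (nat_lit 64) (nat_lit 128) (Net.cons (nat_lit 32) (nat_lit 0x24e200b000000000099a0000) (Net.cons (nat_lit 16) (nat_lit 0xe6d20000622d00005bdb0000c600) (Net.cons (nat_lit 8) (nat_lit 0xee008b00920000000a002700b70020) (Net.cons (nat_lit 4) (nat_lit 0xc03010906020200030c0504030f0b0700) (Net.cons (nat_lit 2) (nat_lit 0x11301100102220001110303303310000) (Net.cons (nat_lit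 1) (nat_lit 0x401500405404141010011104451414101) Net.nil)))))))))))))))

theorem m_g5_ok : Net.ok 136 m_g5 = true := by decide +kernel

noncomputable def E : List Net := [m_g1, m_g2, m_g3, m_g4, m_g5]

theorem E_ok : okE 136 E = true := (okE_cons.2 ⟨m_g1_ok, (okE_cons.2 ⟨m_g2_ok, (okE_cons.2 ⟨m_g3_ok, (okE_cons.2 ⟨m_g4_ok, (okE_cons.2 ⟨m_g5_ok, (okE_nil 136)⟩)⟩)⟩)⟩)⟩)

noncomputable def m_g6 : Net := (Net.cons (nat_lit 1) (nat_lit 0x4445401404541101415155040104504400) (Net.cons (nat_lit 2) (nat_lit 0x122111100303211010233131111320200) (Net.cons (nat_lit 4) (nat_lit 0xb0900090a0002000800030804020200) (Net.cons (nat_lit 8) (nat_lit 0xe90030002a00e2002a00d600020000) (Net.cons (nat_lit 16) (nat_lit 0xd3000041410000015f00000000) (Net.cons (nat_lit 32) (nat_lit 0x5ca011570000000000000000) (Net.cons (nat_lit 64) (nat_lit 0x5ce0115700000041) (Net.cons (nat_lit 128) (nat_lit 65) (Net.cons (nat_lit 64) (nat_lit 65) (Net.cons (nat_lit 32) (nat_lit 0xdcbf51f700000000a31e6200)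 (Net.cons (nat_lit 16) (nat_lit 0x2fd3000051630000915700000020) (Net.cons (nat_lit 8) (nat_lit 0xdb0092002a00f2003a00d600db0004) (Net.cons (nat_lit 4) (nat_lit 0xf090b020b080a0400020802060d0b0b08) (Net.cons (nat_lit 2) (nat_lit 0x1032311301313211331333131111323210) (Net.cons (nat_lit 1) (nat_lit 0x5545401404551105415555041004501500) Net.nil)))))))))))))))

theorem m_g6_ok : Net.ok 136 m_g6 = true := by decide +kernel

noncomputable def m_g7 : Net := (Net.cons (nat_lit 1) (nat_lit 0x5511515401411155005114440411100110) (Net.cons (nat_lit 2) (nat_lit 0x310300312201220102123003332020100) (Net.cons (nat_lit 4) (nat_lit 0x1020c050d0206060e08090a0b06000000) (Net.cons (nat_lit 8) (nat_lit 0x2005f00a0000f000d006b00530004) (Net.cons (nat_lit 16) (nat_lit 0x4b17000055010000c4ae00000001) (Net.cons (nat_lit 32) (nat_lit 0x800c1170000000000000001) (Net.cons (nat_lit 64) (nat_lit 0x801d51104020007) (Net.cons (nat_lit 128) (nat_lit 7) (Net.cons (nat_lit 64) (nat_lit 7) (Net.cons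 (nat_lit 32) (nat_lit 0x41f057170000000040aea000) (Net.cons (nat_lit 16) (nat_lit 0x2dff00001d260000944600009345) (Net.cons (nat_lit 8) (nat_lit 0x4b009e00d100f6009300b4000a005c) (Net.cons (nat_lit 4) (nat_lit 0x20b0e07050e00040e010d080e000c000c) (Net.cons (nat_lit 2) (nat_lit 0x1120322322213330233133210103332032) (Net.cons (nat_lit 1) (nat_lit 0x4151515114105451100400540501541504) Net.nil)))))))))))))))

theorem m_g7_ok : Net.ok 136 m_g7 = true := by decide +kernel

noncomputable def m_V8 : List Net := [m_g6, m_g7]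

theorem m_V8_ok : okE 136 m_V8 = true := (okE_cons.2 ⟨m_g6_ok, (okE_cons.2 ⟨m_g7_ok, (okE_nil 136)⟩)⟩)

noncomputable def m_g10 : Net := (Net.cons (nat_lit 1) (nat_lit 0x5054415145014051405150404501151140) (Net.cons (nat_lit 2) (nat_lit 0x330221210011012131033010330101030) (Net.cons (nat_lit 4) (nat_lit 0x60008090700060d0c09020e0203040800) (Net.cons (nat_lit 8) (nat_lit 0x93005300cc00a00090005e000100c0) (Net.cons (nat_lit 16) (nat_lit 0x672100004e140000198b00000000) (Net.cons (nat_lit 32) (nat_lit 0xd8524b670000000000000040) (Net.cons (nat_lit 64) (nat_lit 0xb4fc6bb76c021061) (Net.cons (nat_lit 128) (nat_lit 241) (Net.cons (nat_lit 64) (nat_lit 177) (Net.cons (nat_lit 32) (nat_lit 0xedb66d5000000000bffa1410) (Net.cons (nat_lit 16) (nat_lit 0xce3800006d7f000032aa00000d90) (Net.cons (nat_lit 8) (nat_lit 0x190051003d008a00f100dd00910000) (Net.cons (nat_lit 4) (nat_lit 0x2080a0b04010a02080b0207060008050c) (Net.cons (nat_lit 2) (nat_lit 0x301212211001212021003123030213020)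 (Net.cons (nat_lit 1) (nat_lit 0x1041550140100110141450414104145414) Net.nil)))))))))))))))

theorem m_g10_ok : Net.ok 136 m_g10 = true := by decide +kernel

noncomputable def m_g11 : Net := (Net.cons (nat_lit 1) (nat_lit 0x1105440500004555054115501004540540) (Net.cons (nat_lit 2) (nat_lit 0x2022111012002111302102031022100000) (Net.cons (nat_lit 4) (nat_lit 0x50109060f0a090e09030a080d00080700) (Net.cons (nat_lit 8) (nat_lit 0x4d009e00e8003200ca00b8000c0001) (Net.cons (nat_lit 16) (nat_lit 0xc853000064d30000b81600000001) (Net.cons (nat_lit 32) (nat_lit 0x5202282d0000000000000000) (Net.cons (nat_lit 64) (nat_lit 0xd718a52b809a984d) (Net.cons (nat_lit 128) (nat_lit 221) (Net.cons (nat_lit 64) (nat_lit 77) (Net.cons (nat_lit 32) (nat_lit 0x141baa7b00000000283d8000) (Net.cons (nat_lit 16) (nat_lit 0xdc970000e51d00009c3600000601) (Net.cons (nat_lit 8) (nat_lit 0x6f00fa0006009a0034009a00ed0061) (Net.cons (nat_lit 4) (nat_lit 0x30509020b040d000d0d06080d00080700) (Net.cons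 (nat_lit 2) (nat_lit 0x2023111013020131102102231022100000) (Net.cons (nat_lit 1) (nat_lit 0x1105440500004555054115501004540544) Net.nil)))))))))))))))

theorem m_g11_ok : Net.ok 136 m_g11 = true := by decide +kernel

noncomputable def m_V12 : List Net := [m_g4, m_g10, m_g11]

theorem m_V12_ok : okE 136 m_V12 = true := (okE_cons.2 ⟨m_g4_ok, (okE_cons.2 ⟨m_g10_ok, (okE_cons.2 ⟨m_g11_ok, (okE_nil 136)⟩)⟩)⟩)

noncomputable def m_g14 : Net := (Net.cons (nat_lit 1) (nat_lit 0x5450145510501444001404055454004000) (Net.cons (nat_lit 2) (nat_lit 0x2201120122013230030012000010100000) (Net.cons (nat_lit 4) (nat_lit 0x209030409000c0601020d050802000000) (Net.cons (nat_lit 8) (nat_lit 0x140054004300140088002800a0000c) (Net.cons (nat_lit 16) (nat_lit 0xc8680000301c0000240800000022) (Net.cons (nat_lit 32) (nat_lit 0x8500500c0000000000000000) (Net.cons (nat_lit 64) (nat_lit 0xd59f9c97596200) (Net.cons (nat_lit 128) (nat_lit 254) (Net.cons (nat_lit 32) (nat_lit 0x85e1540100000000f4459000)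 (Net.cons (nat_lit 16) (nat_lit 0x486e00002c180000b40e00009022) (Net.cons (nat_lit 8) (nat_lit 0x1100d00047007000ac00ec00a5000c) (Net.cons (nat_lit 4) (nat_lit 0x2090b0409000406010a0d05080a000000) (Net.cons (nat_lit 2) (nat_lit 0x2201120122013230030012000010100000) (Net.cons (nat_lit 1) (nat_lit 0x5450145510501444001404055454004000) Net.nil))))))))))))))

theorem m_g14_ok : Net.ok 136 m_g14 = true := by decide +kernel

noncomputable def m_V15 : List Net := [m_g4, m_g14]

theorem m_V15_ok : okE 136 m_V15 = true := (okE_cons.2 ⟨m_g4_ok, (okE_cons.2 ⟨m_g14_ok, (okE_nil 136)⟩)⟩)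

noncomputable def m_g17 : Net := (Net.cons (nat_lit 1) (nat_lit 0x4551114000150150000140145004000000) (Net.cons (nat_lit 2) (nat_lit 0x2320221320200333100001222000000000) (Net.cons (nat_lit 4) (nat_lit 0x90a03060307010f0e0000030500000000) (Net.cons (nat_lit 8) (nat_lit 0x32006a0095002900c0007000400000) (Net.cons (nat_lit 16) (nat_lit 0x45380000650e0000501a00000020) (Net.cons (nat_lit 32) (nat_lit 0xedc802ff0000000000000000) (Net.cons (nat_lit 64) (nat_lit 0xe0f10acf1d090832) (Net.cons (nat_lit 128) (nat_lit 178) (Net.cons (nat_lit 64) (nat_lit 50) (Net.cons (nat_lit 32) (nat_lit 0xafc70fff0000000010414020) (Net.cons (nat_lit 16) (nat_lit 0xfd38000067cd000052d900000820) (Net.cons (nat_lit 8) (nat_lit 0x70006200b7003300c2002200480000) (Net.cons (nat_lit 4) (nat_lit 0xd0a0b060f0704030e0100060500000000) (Net.cons (nat_lit 2) (nat_lit 0x2321221311311233100001333110000000) (Net.cons (nat_lit 1) (nat_lit 0x5551114054150141000140155004000000) Net.nil)))))))))))))))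

theorem m_g17_ok : Net.ok 136 m_g17 = true := by decide +kernel

noncomputable def m_V18 : List Net := [m_g17, m_g17]

theorem m_V18_ok : okE 136 m_V18 = true := (okE_cons.2 ⟨m_g17_ok, (okE_cons.2 ⟨m_g17_ok, (okE_nil 136)⟩)⟩)

noncomputable def lb_E : List Net := [m_g1, m_g2, m_g3, m_g4, m_g5, m_g6, m_g7, m_g4, m_g10, m_g11, m_g4, m_g14, m_g17, m_g17]

theorem lb_E_ok : okE 136 lb_E = true := (okE_cons.2 ⟨m_g1_ok, (okE_cons.2 ⟨m_g2_ok, (okE_cons.2 ⟨m_g3_ok, (okE_cons.2 ⟨m_g4_ok, (okE_cons.2 ⟨m_g5_ok, (okE_cons.2 ⟨m_g6_ok, (okE_cons.2 ⟨m_g7_ok, (okE_cons.2 ⟨m_g4_ok, (okE_cons.2 ⟨m_g10_ok, (okE_cons.2 ⟨m_g11_ok, (okE_cons.2 ⟨m_g4_ok, (okE_cons.2 ⟨m_g14_ok, (okE_cons.2 ⟨m_g17_ok, (okE_cons.2 ⟨m_g17_ok, (okE_nil 136)⟩)⟩)⟩)⟩)⟩)⟩)⟩)⟩)⟩)⟩)⟩)⟩)⟩)⟩)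

noncomputable def code : List ℕ := [0, 0, 2, 4, 6, 8]

theorem sat_gp0 : Sat (gp 136 E code) [[1, 1], [2, 2], [3, 3], [4, 4], [5, 5], [1, 2, 1, 2, 1, 2, 1, 2, 1, 2], [1, 3, 1, 3], [1, 4, 1, 4], [1, 5, 1, 5], [2, 3, 2, 3, 2, 3], [2, 4, 2, 4], [2, 5, 2, 5, 2, 5], [3, 4, 3, 4, 3, 4], [3, 5, 3, 5], [4, 5, 4, 5], [1, 2, 3, 4, 1, 2, 3, 4, 1, 2, 3, 4, 1, 2, 3, 4, 1, 2, 3, 4, 1, 2, 3, 4, 1, 2, 3, 4, 1, 2, 3, 4, 1, 2, 3, 4, 1, 2, 3, 4, 1, 2, 3, 4, 1, 2, 3, 4, 1, 2, 3, 4, 1, 2, 3, 4, 1, 2, 3, 4], [1, 2, 1, 2, 5, 1, 2, 1, 2, 5, 1, 2, 1, 2, 5], [1, 2, 3, 5, 2, 1, 2, 3, 5, 2, 1, 2, 3, 5, 2, 1, 2, 3, 5, 2]] :=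
  sat_of_satB (k := 8) (L := (lab 136 8)) m_hn (det_lab m_hk _) E_ok le_rfl (by decide +kernel)

theorem sat_gp : Sat (gp 136 E code) S44s.Rm :=
  Sat.mono sat_gp0 (by decide +kernel)

theorem sat_us0 : Sat (gp 136 E code) [[1, 2, 3, 5, 4, 2, 1, 2, 3, 5, 4, 2, 1, 2, 3, 5, 4, 2, 1, 2, 3, 5, 4, 2, 1, 2, 3, 5, 4, 2, 1, 2, 3, 5, 4, 2, 1, 2, 3, 5, 4, 2, 1, 2, 3, 5, 4, 2, 1, 2, 3, 5, 4, 2, 1, 2, 3, 5, 4, 2, 1, 2, 3, 5, 4, 2, 1, 2, 3, 5, 4, 2, 1, 2, 3, 5, 4, 2, 1, 2, 3, 5, 4, 2, 1, 2, 3, 5, 4, 2, 1, 2, 3, 5, 4, 2, 1, 2, 3, 5, 4, 2]] :=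
  sat_of_satB (k := 8) (L := (lab 136 8)) m_hn (det_lab m_hk _) E_ok le_rfl (by decide +kernel)

theorem sat_us : Sat (gp 136 E code) (S44sQ.XQ.map fun u => (List.replicate 17 u).flatten) :=
  Sat.mono sat_us0 (by decide +kernel)

theorem m_le9 : grp 136 m_V8 ≤ grp 136 E :=
  grp_le_of_memB m_hn m_hk E_ok m_V8_ok (ws := [nat_lit 0x8060908020a, nat_lit 0x8020502040904040a]) (by decide +kernel)

theorem m_le13 : grp 136 m_V12 ≤ grp 136 m_V8 :=
  grp_le_of_memB m_hn m_hk m_V8_ok m_V12_ok (ws := [nat_lit 0x10301040404010301030203, nat_lit 0x4010301030302030204, nat_lit 0x401040103020302040204]) (by decide +kernel)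

theorem m_le16 : grp 136 m_V15 ≤ grp 136 m_V12 :=
  grp_le_of_memB m_hn m_hk m_V12_ok m_V15_ok (ws := [nat_lit 0x6060404010503, nat_lit 0x5040502040505040406]) (by decide +kernel)

theorem m_le19 : grp 136 m_V18 ≤ grp 136 m_V15 :=
  grp_le_of_memB m_hn m_hk m_V15_ok m_V18_ok (ws := [nat_lit 262660, nat_lit 262404]) (by decide +kernel)

theorem lb_le : grp 136 lb_E ≤ grp 136 E :=
  (grp_cons_le ((le_refl (grp 136 E)) (toPerm_mem_grp (E := E) (by simp [E]))) (grp_cons_le ((le_refl (grp 136 E)) (toPerm_mem_grp (E := E) (by simp [E]))) (grp_cons_le ((le_refl (grp 136 E)) (toPerm_mem_grp (E := E) (by simp [E]))) (grp_cons_le ((le_refl (grp 136 E)) (toPerm_mem_grp (E := E) (by simp [E]))) (grp_cons_le ((le_refl (grp 136 E)) (toPerm_mem_grp (E := E) (by simp [E]))) (grp_cons_le ((m_le9.trans (le_refl (grp 136 E))) (toPerm_mem_grp (E := m_V8) (by simp [m_V8]))) (grp_cons_le ((m_le9.trans (le_refl (grp 136 E))) (toPerm_mem_grp (E := m_V8) (by simp [m_V8]))) (grp_cons_le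 ((m_le13.trans (m_le9.trans (le_refl (grp 136 E)))) (toPerm_mem_grp (E := m_V12) (by simp [m_V12]))) (grp_cons_le ((m_le13.trans (m_le9.trans (le_refl (grp 136 E)))) (toPerm_mem_grp (E := m_V12) (by simp [m_V12]))) (grp_cons_le ((m_le13.trans (m_le9.trans (le_refl (grp 136 E)))) (toPerm_mem_grp (E := m_V12) (by simp [m_V12]))) (grp_cons_le ((m_le16.trans (m_le13.trans (m_le9.trans (le_refl (grp 136 E))))) (toPerm_mem_grp (E := m_V15) (by simp [m_V15]))) (grp_cons_le ((m_le16.trans (m_le13.trans (m_le9.trans (le_refl (grp 136 E))))) (toPerm_mem_grp (E := m_V15) (by simp [m_V15]))) (grp_cons_le ((m_le19.trans (m_le16.trans (m_le13.trans (m_le9.trans (le_refl (grp 136 E)))))) (toPerm_mem_grp (E := m_V18) (by simp [m_V18]))) (grp_cons_le ((m_le19.trans (m_le16.trans (m_le13.trans (m_le9.trans (le_refl (grp 136 E)))))) (toPerm_mem_grp (E := m_V18) (by simp [m_V18]))) (grp_nil_le _)))))))))))))))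

noncomputable def lb_ch : Ch := (Ch.cons (nat_lit 0) [nat_lit 1, nat_lit 3, nat_lit 5, nat_lit 7, nat_lit 9] (Ch.cons (nat_lit 1) [nat_lit 11, nat_lit 13] (Ch.cons (nat_lit 2) [nat_lit 15, nat_lit 17, nat_lit 19] (Ch.cons (nat_lit 4) [nat_lit 21, nat_lit 23] (Ch.cons (nat_lit 7) [nat_lit 25, nat_lit 27] Ch.nil)))))

theorem lb_chk : Ch.chk 136 8 (lab 136 8) lb_E lb_ch 979200 = true :=
  by decide +kernel

theorem lb_ge : 979200 ≤ Nat.card (grp 136 E) :=
  (Ch.le_card_grp m_hn lb_E_ok lb_chk).trans (Subgroup.card_le_of_le lb_le)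

/-- The permutation group. -/
noncomputable abbrev K : Subgroup (Equiv.Perm (Fin 136)) := gen (gp 136 E code) 5

/-- The generators. -/
noncomputable abbrev k : ℕ → K := subT K (gp 136 E code)

theorem model : Model k 5 136 E code K.subtype := model_self m_hn E_ok

theorem top : gen k 5 = ⊤ := model.top

theorem sat : Sat k S44s.Rm := sat_subT le_rfl (by decide +kernel) sat_gp

theorem card : Nat.card K = 979200 :=
  (injective_of_card_le (finite_card_of_top top (by decide) (S44sC.card_all sat))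
    (model.range (by decide +kernel) ▸ lb_ge)).2.1

theorem act : CosetAct K.subtype (wgen k [[1], [2], [3], [4]]) ⟨0, by decide⟩ :=
  model.cosetAct (by decide) ((S44sC.idx_all sat).of_wgen (by decide)) _ (by decide +kernel)
    (by decide +kernel)

theorem coatom : IsCoatom (wgen k [[1], [2], [3], [4]]) :=
  model.isCoatom (by decide) act (by decide) (ts := [[5], [5, 2, 3, 1, 2, 5]]) (by decide) (by decide +kernel)
    (by decide +kernel)

theorem simple : IsSimpleGroup K :=
  isSimple_of_coatom coatom (act.core K.subtype_injective) (p := 17) (k := 1) (by norm_num)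
    (by rw [act.index]; simp) (by rw [card]; norm_num)
    fun N _ hN => top_of_quot top sat N
      (mem_of_sat_pow (model.sat K.subtype_injective (by decide +kernel) sat_us) hN)
      (by decide) fun _ h => S44sQ.card_q h

theorem exists_hom {G : Type*} [Group G] {g : ℕ → G} (hg : Sat g S44s.Rm) :
    ∃ f : K →* G, ∀ x, 1 ≤ x ∧ x ≤ 5 → f (k x) = g x :=
  exists_hom_of_pres top sat card.ge (by decide) (fun _ h => S44sC.card_all h) hg

/-- The relators present a simple group of order 979200. -/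
theorem exists_equiv {G : Type*} [Group G] {g : ℕ → G} (hg : Sat g S44s.Rm) (hne : g 1 ≠ 1) :
    Nonempty (K ≃* gen g 5) :=
  have := simple
  let ⟨_, hf⟩ := exists_hom hg
  equiv_gen_of_simple top hf (x := 1) (by decide) hne

theorem simple_card {G : Type*} [Group G] {g : ℕ → G} (hg : Sat g S44s.Rm) (hne : g 1 ≠ 1) :
    IsSimpleGroup (gen g 5) ∧ Nat.card (gen g 5) = 979200 :=
  have := simple
  let ⟨e⟩ := exists_equiv hg hne
  ⟨e.symm.isSimpleGroup, (Nat.card_congr e.toEquiv).symm.trans card⟩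


end Cfsg.Agent.H44.S44sM
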