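import Mathlib
import Cfsg.Agent.H44.SzC
import Cfsg.Agent.H44.ESzU
import Cfsg.Agent.H44.SuzM
import Cfsg.Agent.S5746
import Cfsg.Agent.S2066

/-!
# The sporadic Suzuki group from a rank 3 extension of `G₂(4)`
-/

set_option autoImplicit false
set_option maxRecDepth 200000
set_option Elab.async false

namespace Cfsg.Agent.H44.SzR

open Cfsg.Agent.H43 Cfsg.Agent.H44 Cfsg.Agent.H44.G24sM Cfsg.Agent.H44.SzC Equiv MulAction

theorem out_two {Γ : Type*} [Group Γ] (e : Γ ≃* Cfsg.Spor.J2) {α β : MulAut Γ}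
    (hα : ∀ y, α ≠ MulAut.conj y) (hβ : ∀ y, β ≠ MulAut.conj y) :
    ∃ y, β = MulAut.conj y * α := by
  have key : ∀ γ : MulAut Γ, MulAut.congr e γ ∈ Cfsg.Inn Cfsg.Spor.J2 →
      ∃ y, γ = MulAut.conj y := by
    rintro γ ⟨z, hz⟩
    refine ⟨e.symm z, MulEquiv.ext fun x => e.injective ?_⟩
    have := DFunLike.congr_fun hz (e x)
    simp at this
    simp [this]
  have h2 : (Cfsg.Inn Cfsg.Spor.J2).index = 2 := S2066.result
  have h3 : MulAut.congr e β * (MulAut.congr e α)⁻¹ ∈ Cfsg.Inn Cfsg.Spor.J2 := by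
    rw [Subgroup.mul_mem_iff_of_index_two h2, Subgroup.inv_mem_iff]
    exact iff_of_false (fun h => (key _ h).elim hβ) fun h => (key _ h).elim hα
  rw [← map_inv, ← map_mul] at h3
  obtain ⟨y, hy⟩ := key _ h3
  exact ⟨y, by rw [← hy]; simp⟩

theorem ev_reverse {G : Type*} [Group G] {g : ℕ → G} {l : List ℕ} (h : ∀ x ∈ l, g x * g x = 1) :
    ev g l.reverse = (ev g l)⁻¹ := by
  have := ev_invW (g := g) (iv := id) (l := l) fun x hx => eq_inv_of_mul_eq_one_left (h x hx)
  rwa [invW, List.map_id] at this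

/-- The point stabiliser. -/
noncomputable abbrev K0 : Subgroup K := wgen k [[1], [2], [3], [4], [5]]

theorem mem_K0 {x : K} : x ∈ K0 ↔ (x : Perm (Fin 416)) ⟨0, by decide⟩ = ⟨0, by decide⟩ := act.stab x

theorem card_K0 : Nat.card K0 = 604800 := by
  have h := K0.index_mul_card
  rw [act.index, G24sM.card, Nat.card_eq_fintype_card, Fintype.card_fin] at h
  omega

theorem coe_ev {l : List ℕ} (hl : lettersIn 6 l = true) :
    ((ev k l : K) : Perm (Fin 416)) = ev (gp 416 E code) l := model.map_ev hl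

theorem ev_eq {l l' : List ℕ} (hl : lettersIn 6 l = true) (hl' : lettersIn 6 l' = true)
    (h : Nat.beq (evL (FK 416 9) E code l (lab 416 9)) (evL (FK 416 9) E code l' (lab 416 9)) =
      true) : ev k l = ev k l' := by
  apply Subtype.ext
  rw [coe_ev hl, coe_ev hl']
  have hF := rep_FK m_hn.1 9
  exact (det_lab m_hk ⊤).eq trivial trivial (mov_evL hF E_ok code l _) (mov_evL hF E_ok code l' _) h

theorem sat_k {R : List (List ℕ)} (hR : R.all (lettersIn 6) = true)
    (h : satB 416 9 (lab 416 9) E code R = true) : Sat k R :=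
  model.sat K.subtype_injective hR (sat_of_satB m_hn (det_lab m_hk _) E_ok le_rfl h)

theorem gen5 : gen k 5 = K0 := gen_eq_wgen k 5

theorem ev_mem5 {l : List ℕ} (hl : lettersIn 5 l = true) : ev k l ∈ K0 :=
  gen5 ▸ ev_mem fun x hx => let h := lettersIn_iff.1 hl x hx; mem_gen k h.1 h.2

/-- Images of the generators under the outer automorphism. -/
def A : List (List ℕ) := [[], [3, 1], [2], [3], [1, 2, 1, 2, 3, 4, 3, 2, 1, 2, 1], [5]]

/-- An involution exchanging two adjacent points. -/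
def sw : List ℕ := [6, 2, 3, 4, 3, 2, 6]

/-- The same as an element. -/
noncomputable def s : K := ev k sw

/-- The two generators of `U₃(3)`. -/
noncomputable def lam (j : Bool) : K := ev k (cond j l1 l0)

theorem s_sq : s * s = 1 := by
  rw [s, ← ev_append]
  exact sat_k (R := [sw ++ sw]) (by decide) (by decide +kernel) _ (List.mem_singleton_self _)

theorem s_inv : s⁻¹ = s := inv_eq_of_mul_eq_one_left s_sq

theorem s_zero : (s : Perm (Fin 416)) ⟨0, by decide⟩ = ⟨38, by decide⟩ := by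
  rw [s, coe_ev (by decide)]
  exact apply_of_ptL E_ok _ _ (by decide +kernel)

theorem s_not : s ∉ K0 := fun h => absurd (s_zero.symm.trans (mem_K0.1 h)) (by decide)

theorem lam5 (j : Bool) : lettersIn 5 (cond j l1 l0) = true := by cases j <;> decide

theorem lam_mem (j : Bool) : lam j ∈ K0 := ev_mem5 (lam5 j)

theorem s_lam (j : Bool) : s * lam j * s = ev k (Gl.fl A (cond j l1 l0)) := by
  rw [s, lam, ← ev_append, ← ev_append]
  cases j <;> exact ev_eq (by decide +kernel) (by decide +kernel) (by decide +kernel)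

theorem s_lam_mem (j : Bool) : s * lam j * s ∈ K0 := by
  rw [s_lam]
  cases j <;> exact ev_mem5 (by decide +kernel)

theorem ord_lam : orderOf (lam false) = 7 := by
  rw [← Subgroup.orderOf_coe, lam, coe_ev (by decide)]
  exact ord_l0

theorem cent_lam {x : K} (h : ∀ j, x * lam j = lam j * x) : x = 1 := by
  refine Subtype.ext (cent_L x.2 ?_ ?_)
  · rw [← coe_ev (by decide)]; exact congrArg Subtype.val (h false)
  · rw [← coe_ev (by decide)]; exact congrArg Subtype.val (h true)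

theorem fix_lam {x : K} (h : ∀ j, x⁻¹ * lam j * x ∈ K0) : x ∈ K0 ∨ s * x ∈ K0 := by
  have h1 : ∀ j, (lam j : Perm (Fin 416)) ((x : Perm (Fin 416)) ⟨0, by decide⟩) =
      (x : Perm (Fin 416)) ⟨0, by decide⟩ := fun j => by
    have := mem_K0.1 (h j)
    simp only [Subgroup.coe_mul, Subgroup.coe_inv, Perm.mul_apply] at this
    exact Perm.inv_eq_iff_eq.1 this
  have h2 := h1 false
  have h3 := h1 true
  rw [lam, coe_ev (by decide)] at h2 h3
  refine (fix_L h2 h3).imp mem_K0.2 fun h4 => mem_K0.2 ?_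
  rw [← s_inv, Subgroup.coe_mul, Subgroup.coe_inv, Perm.mul_apply, h4, ← s_zero]
  simp

theorem exists_alpha : ∃ α : MulAut K0, ∀ (l : List ℕ) (hl : lettersIn 5 l = true),
    (α ⟨ev k l, ev_mem5 hl⟩ : K) = ev k (Gl.fl A l) := by
  have htop : gen (subT K0 k) 5 = ⊤ := gen_subT gen5
  have hs : Sat (subT K0 k) S5746.R5 :=
    sat_subT gen5.le (by decide +kernel) (sat.mono fun r hr => List.mem_of_mem_filter hr)
  have hs' : Sat (wt (subT K0 k) A) S5746.R5 :=
    Gl.sat_wt (sat_subT gen5.le (by decide +kernel) (sat_k (by decide +kernel) (by decide +kernel)))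
  obtain ⟨f, hf⟩ := exists_hom_of_pres htop hs card_K0.ge (by decide)
    (fun _ h => S5746.card5 h) hs'
  have hA : ∀ l : List ℕ, lettersIn 5 (Gl.fl A l) = true := fun l => by
    rw [lettersIn_iff]
    intro x hx
    obtain ⟨y, -, hy⟩ := List.mem_flatMap.1 hx
    exact lettersIn_iff.1 (lettersIn_nth (W := A) (by decide) y) x hy
  have h1 : ∀ l : List ℕ, lettersIn 5 l = true →
      f (ev (subT K0 k) l) = ev (subT K0 k) (Gl.fl A l) := fun l hl => by
    rw [map_ev, ← Gl.ev_wt]
    exact ev_congr fun x hx => hf x (lettersIn_iff.1 hl x hx)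
  have h2 : f.comp f = MonoidHom.id _ := by
    refine MonoidHom.eq_of_eqOn_dense (s := {y | ∃ x, 1 ≤ x ∧ x ≤ 5 ∧ subT K0 k x = y}) htop ?_
    rintro _ ⟨x, h3, h4, rfl⟩
    have h5 : lettersIn 5 [x] = true := by simp [lettersIn, h3, h4]
    rw [← ev_single (subT K0 k) x, MonoidHom.comp_apply, h1 _ h5, h1 _ (hA _), MonoidHom.id_apply]
    apply Subtype.ext
    rw [ev_subT gen5.le (hA _), ev_subT gen5.le h5]
    interval_cases x <;> exact ev_eq (by decide +kernel) (by decide +kernel) (by decide +kernel)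
  refine ⟨f.toMulEquiv f h2 h2, fun l hl => ?_⟩
  have : (⟨ev k l, ev_mem5 hl⟩ : K0) = ev (subT K0 k) l := Subtype.ext (ev_subT gen5.le hl).symm
  rw [this, MonoidHom.toMulEquiv_apply, h1 l hl, ev_subT gen5.le (hA _)]

/-- The outer automorphism of the point stabiliser. -/
noncomputable def α : MulAut K0 := exists_alpha.choose

theorem α_ev (l : List ℕ) (hl : lettersIn 5 l = true) :
    (α ⟨ev k l, ev_mem5 hl⟩ : K) = ev k (Gl.fl A l) := exists_alpha.choose_spec l hl

theorem α_lam (j : Bool) : (α ⟨lam j, lam_mem j⟩ : K) = s * lam j * s :=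
  (α_ev _ (lam5 j)).trans (s_lam j).symm

theorem α_slam (j : Bool) : (α ⟨s * lam j * s, s_lam_mem j⟩ : K) = lam j := by
  have h : lettersIn 5 (Gl.fl A (cond j l1 l0)) = true := by cases j <;> decide +kernel
  rw [show (⟨s * lam j * s, s_lam_mem j⟩ : K0) = ⟨_, ev_mem5 h⟩ from Subtype.ext (s_lam j), α_ev _ h,
    lam]
  cases j <;> exact ev_eq (by decide +kernel) (by decide +kernel) (by decide +kernel)

theorem α_outer (y : K0) : α ≠ MulAut.conj y := fun h => by
  have h1 : s * y = 1 := cent_lam fun j => by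
    have h2 := α_lam j
    rw [h, MulAut.conj_apply, Subgroup.coe_mul, Subgroup.coe_mul, Subgroup.coe_inv,
      mul_inv_eq_iff_eq_mul] at h2
    rw [mul_assoc, h2, ← mul_assoc, ← mul_assoc, ← mul_assoc, s_sq, one_mul, mul_assoc]
  exact s_not (by rw [eq_inv_of_mul_eq_one_left h1]; exact inv_mem y.2)

theorem iso_J2 : Nonempty (K0 ≃* Cfsg.Spor.J2) :=
  S5746.isoJ2 (sat.mono fun r hr => List.mem_of_mem_filter hr)
    (ev_single k 1 ▸ Gl.ne_one model (l := [1]) (by decide) (a := 38) (b := 60) (by decide)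
      (by decide) (by decide) (by decide +kernel))

section main

variable {G Ω : Type*} [Group G] [MulAction G Ω]

/-- The data of a rank 3 extension. -/
structure Hyp (ι : K →* G) (a b : Ω) : Prop where
  inj : Function.Injective ι
  stab : ∀ y : G, y • a = a ↔ y ∈ ι.range
  stab2 : ∀ x : K, ι x • b = b ↔ x ∈ K0
  cov : ∀ p : Ω, p = a ∨ (∃ x, ι x • b = p) ∨ ∀ x, ι x • p = p → orderOf x ≠ 7

variable {ι : K →* G} {a b : Ω}

theorem Hyp.fa (h : Hyp ι a b) (x : K) : ι x • a = a := (h.stab _).2 ⟨x, rfl⟩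

theorem Hyp.cb (h : Hyp ι a b) : ι s • b ≠ b := fun e => s_not ((h.stab2 _).1 e)

theorem Hyp.ab (h : Hyp ι a b) : a ≠ b := fun e => h.cb (by rw [← e, h.fa])

theorem Hyp.sc (_ : Hyp ι a b) : ι s • ι s • b = b := by rw [← mul_smul, ← map_mul, s_sq]; simp

theorem Hyp.fix (h : Hyp ι a b) {p : Ω} (hp : ∀ j, ι (lam j) • p = p) :
    p = a ∨ p = b ∨ p = ι s • b := by
  rcases h.cov p with h1 | ⟨x, rfl⟩ | h1
  · exact Or.inl h1
  · refine Or.inr ((fix_lam fun j => (h.stab2 _).1 ?_).imp (h.stab2 _).2 fun h2 => ?_)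
    · rw [map_mul, map_mul, map_inv, mul_smul, mul_smul, hp, inv_smul_smul]
    · have := (h.stab2 _).2 h2
      rw [map_mul, mul_smul, ← s_inv, map_inv, inv_smul_eq_iff] at this
      exact this
  · exact absurd ord_lam (h1 _ (hp false))

theorem Hyp.cent (h : Hyp ι a b) {y : G} (hy : y • a = a)
    (hc : ∀ j, y * ι (lam j) = ι (lam j) * y) : y = 1 := by
  obtain ⟨x, rfl⟩ := (h.stab y).1 hy
  rw [cent_lam (x := x) fun j => h.inj (by rw [map_mul, map_mul, hc]), map_one]

theorem Hyp.cyc (h : Hyp ι a b) {t : G} (ha : t • a = b) (hb : t • b = a)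
    (hc : ∀ j, ι (lam j) • t • ι s • b = t • ι s • b) : (t * ι s) ^ 3 • a = a := by
  have h1 : t • ι s • b = ι s • b := by
    rcases h.fix hc with e | e | e
    · exact absurd (smul_left_cancel t (e.trans hb.symm)) h.cb
    · have := smul_left_cancel t (e.trans ha.symm)
      rw [← h.fa s] at this
      exact absurd (smul_left_cancel _ this).symm h.ab
    · exact e
  rw [pow_succ, pow_two, mul_smul, mul_smul, mul_smul, mul_smul, mul_smul, h.fa, ha, h1, h.sc, hb]

theorem Hyp.exists_aut (h : Hyp ι a b) {t : G} (ha : t • a = b) (hb : t • b = a) :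
    ∃ β : MulAut K0, ∀ y : K0, ι (β y) = t * ι y * t⁻¹ := by
  have hm : ∀ y : G, y ∈ K0.map ι ↔ y • a = a ∧ y • b = b := fun y => by
    constructor
    · rintro ⟨x, hx, rfl⟩
      exact ⟨h.fa x, (h.stab2 x).2 hx⟩
    · rintro ⟨h1, h2⟩
      obtain ⟨x, rfl⟩ := (h.stab y).1 h1
      exact ⟨x, (h.stab2 x).1 h2, rfl⟩
  have ha' : t⁻¹ • b = a := inv_smul_eq_iff.2 ha.symm
  have hb' : t⁻¹ • a = b := inv_smul_eq_iff.2 hb.symm
  have hn : t ∈ Subgroup.normalizer (K0.map ι : Set G) := by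
    refine Subgroup.mem_normalizer_iff.2 fun y => ?_
    rw [hm, hm, mul_smul, mul_smul, mul_smul, mul_smul, ha', hb', ← eq_inv_smul_iff (g := t),
      ← eq_inv_smul_iff (g := t), ha', hb', and_comm]
  let e := K0.equivMapOfInjective ι h.inj
  refine ⟨(e.trans ((K0.map ι).normalizerMonoidHom ⟨t, hn⟩)).trans e.symm, fun y => ?_⟩
  have h1 : ∀ z : K0.map ι, ι (e.symm z) = z := fun z => by
    rw [← K0.coe_equivMapOfInjective_apply ι h.inj, MulEquiv.apply_symm_apply]
  rw [MulEquiv.trans_apply, h1]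
  rfl

theorem Hyp.not_cent (h : Hyp ι a b) {t : G} (ha : t • a = b) (hb : t • b = a) :
    ¬ ∀ y ∈ K0, t * ι y = ι y * t := fun hc => by
  have h1 := h.cyc ha hb fun j => by
    rw [← mul_smul, ← hc _ (lam_mem j), mul_smul, ← mul_smul (ι _), ← map_mul,
      show lam j * s = s * (s * lam j * s) by rw [← mul_assoc, ← mul_assoc, s_sq, one_mul],
      map_mul, mul_smul, (h.stab2 _).2 (s_lam_mem j)]
  have hs : ι s * ι s = 1 := by rw [← map_mul, s_sq, map_one]
  have h2 : ι s * (t * ι s) ^ 3 = 1 := by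
    refine h.cent (by rw [mul_smul, h1, h.fa]) fun j => ?_
    have e1 := hc _ (lam_mem j)
    have e2 := hc _ (s_lam_mem j)
    rw [map_mul, map_mul] at e2
    generalize ι s = σ at *
    generalize ι (lam j) = l at *
    have s1 : SemiconjBy σ l (σ * l * σ) := by
      rw [SemiconjBy, mul_assoc _ σ σ, hs, mul_one]
    have s2 : SemiconjBy σ (σ * l * σ) l := by
      rw [SemiconjBy, ← mul_assoc, ← mul_assoc, hs, one_mul]
    have u1 := SemiconjBy.mul_left e2 s1
    have u2 := SemiconjBy.mul_left e1 s2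
    rw [pow_succ, pow_two]
    exact s2.mul_left ((u1.mul_left u2).mul_left u1)
  have h3 : (t * ι s) • a = b := by rw [mul_smul, h.fa, ha]
  have h4 : (t * ι s) ^ 3 • b = b := by
    rw [← h3, ← mul_smul, ← pow_succ, pow_succ', mul_smul, h1]
  refine h.cb ?_
  rw [← h4, ← mul_smul, h2, h4, one_smul]

theorem Hyp.exists_t (h : Hyp ι a b) {u : G} (hu : u • b = a) :
    ∃ t : G, t • a = b ∧ t • b = a ∧ ∀ y : K0, t * ι y * t⁻¹ = ι (α y) := by
  have h0 : ∃ t : G, t • a = b ∧ t • b = a := by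
    rcases h.cov (u • a) with e | ⟨x, e⟩ | e
    · exact absurd (smul_left_cancel u (e.trans hu.symm)) h.ab
    · exact ⟨(ι x)⁻¹ * u, by rw [mul_smul, ← e, inv_smul_smul],
        by rw [mul_smul, hu, ← map_inv, h.fa]⟩
    · obtain ⟨x, hx⟩ := (h.stab (u * ι (lam false) * u⁻¹)).1 (by
        rw [← hu, mul_smul, inv_smul_smul, mul_smul, (h.stab2 _).2 (lam_mem _)])
      refine absurd ?_ (e x (by rw [hx, mul_smul, inv_smul_smul, mul_smul, h.fa]))
      rw [← orderOf_injective ι h.inj, hx, ← MulAut.conj_apply, MulEquiv.orderOf_eq,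
        orderOf_injective ι h.inj, ord_lam]
  obtain ⟨t, ha, hb⟩ := h0
  obtain ⟨β, hβ⟩ := h.exists_aut ha hb
  have h1 : ∀ y : K0, ((ι y)⁻¹ * t) • a = b ∧ ((ι y)⁻¹ * t) • b = a := fun y =>
    ⟨by rw [mul_smul, ha, inv_smul_eq_iff, (h.stab2 _).2 y.2],
      by rw [mul_smul, hb, ← map_inv, h.fa]⟩
  obtain ⟨y, hy⟩ := out_two iso_J2.some α_outer (β := β) fun y e =>
    h.not_cent (h1 y).1 (h1 y).2 fun x hx => by
      have := hβ ⟨x, hx⟩
      rw [e, MulAut.conj_apply, Subgroup.coe_mul, Subgroup.coe_mul, Subgroup.coe_inv, map_mul,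
        map_mul, map_inv, eq_mul_inv_iff_mul_eq] at this
      rw [mul_assoc, ← this]
      simp [mul_assoc]
  refine ⟨_, (h1 y).1, (h1 y).2, fun x => ?_⟩
  have := hβ x
  rw [hy, MulAut.mul_apply, MulAut.conj_apply, Subgroup.coe_mul, Subgroup.coe_mul, Subgroup.coe_inv,
    map_mul, map_mul, map_inv] at this
  rw [mul_inv_rev, inv_inv, mul_assoc, mul_assoc, ← mul_assoc (ι x), ← mul_assoc t,
    ← mul_assoc t, ← this]
  simp [mul_assoc]

/-- The generators. -/
noncomputable def gg (ι : K →* G) (t : G) (x : ℕ) : G := if x = 7 then t else ι (k x)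

theorem gg_ev (ι : K →* G) (t : G) {l : List ℕ} (hl : lettersIn 6 l = true) :
    ev (gg ι t) l = ι (ev k l) := by
  rw [map_ev]
  exact ev_congr fun x hx => if_neg (by have := lettersIn_iff.1 hl x hx; omega)

theorem gg_cons (ι : K →* G) (t : G) (l : List ℕ) : ev (gg ι t) (7 :: l) = t * ev (gg ι t) l :=
  ev_cons _ _ _

theorem Hyp.sat_U (h : Hyp ι a b) {t : G} (ha : t • a = b) (hb : t • b = a)
    (ht : ∀ y : K0, t * ι y * t⁻¹ = ι (α y)) : Sat (gg ι t) ESzU.R := by
  have hs : ι s * ι s = 1 := by rw [← map_mul, s_sq, map_one]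
  have e1 : ∀ j, SemiconjBy t (ι (lam j)) (ι (s * lam j * s)) := fun j => by
    have := ht ⟨_, lam_mem j⟩
    rwa [α_lam, mul_inv_eq_iff_eq_mul] at this
  have e2 : ∀ j, SemiconjBy t (ι (s * lam j * s)) (ι (lam j)) := fun j => by
    have := ht ⟨_, s_lam_mem j⟩
    rwa [α_slam, mul_inv_eq_iff_eq_mul] at this
  have h2 : t * t = 1 :=
    h.cent (by rw [mul_smul, ha, hb]) fun j => (e2 j).mul_left (e1 j)
  have e3 : ∀ j, SemiconjBy (t * ι s) (ι (lam j)) (ι (lam j)) := fun j =>
    (e2 j).mul_left (by rw [SemiconjBy, map_mul, map_mul, mul_assoc _ (ι s) (ι s), hs, mul_one])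
  have h3 : (t * ι s) ^ 3 = 1 := by
    refine h.cent (h.cyc ha hb fun j => ?_) fun j => Commute.pow_left (e3 j) 3
    rw [← mul_smul t, ← mul_smul, ← (e3 j).eq, mul_smul, (h.stab2 _).2 (lam_mem j)]
  have h4 : Sat (gg ι t) G24s.Rm := fun r hr => by
    rw [gg_ev ι t (List.all_eq_true.1 (by decide +kernel : G24s.Rm.all (lettersIn 6) = true) r hr),
      sat r hr, map_one]
  have h5 : Sat (gg ι t) ((List.range' 1 5).map fun x => 7 :: ([x] ++ 7 :: (nth [] A x).reverse)) := by
    intro r hr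
    obtain ⟨x, hx, rfl⟩ := List.mem_map.1 hr
    obtain ⟨h6, h7⟩ := List.mem_range'_1.1 hx
    have h8 : lettersIn 5 [x] = true := by simp [lettersIn]; omega
    have h9 := ht ⟨_, ev_mem5 h8⟩
    rw [α_ev _ h8, inv_eq_of_mul_eq_one_left h2] at h9
    have h10 : lettersIn 6 (nth [] A x).reverse = true ∧
        ev k (Gl.fl A [x] ++ (nth [] A x).reverse) = ev k [] := by
      interval_cases x <;>
        exact ⟨by decide +kernel, ev_eq (by decide +kernel) (by decide +kernel) (by decide +kernel)⟩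
    rw [gg_cons, ev_append, gg_cons, gg_ev ι t (l := [x]) (by simp [lettersIn]; omega),
      gg_ev ι t h10.1, ← mul_assoc, ← mul_assoc, h9, ← map_mul, ← ev_append, h10.2, ev_nil, map_one]
  have h6 : ev (gg ι t) [7, 7] = 1 := by rw [gg_cons, gg_cons, ev_nil, mul_one, h2]
  have h7 : ev (gg ι t) (List.replicate 3 (7 :: sw)).flatten = 1 := by
    rw [ev_replicate, gg_cons, gg_ev ι t (by decide)]
    exact h3
  exact (h4.append (Sat.cons h6 (Sat.cons h7 h5))).mono (by decide +kernel)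

/-- Words leading to the base points. -/
def bw : List (List ℕ) := [[6], [6, 2, 1, 3, 2, 4, 3, 2, 1, 5, 4, 3, 6], [6, 2, 3], [6, 2, 1, 2, 1], [6, 2, 3, 4, 3, 2, 5, 4, 6], [6, 2, 3, 4, 3, 2, 5, 6], [6, 2, 3, 4, 3, 2, 6], []]

theorem Hyp.baseW (h : Hyp ι a b) {t : G} (hb : t • b = a) :
    BaseW (gg ι t) (stabilizer G a) ([] :: bw.map (7 :: ·)) := fun y hy => by
  have h0 := hy [] (List.mem_cons_self ..)
  rw [ev_nil, one_mul, inv_one, mul_one] at h0
  obtain ⟨x, rfl⟩ := (h.stab y).1 h0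
  have key : ∀ w ∈ bw, ∀ p : Fin 416, ev (gp 416 E code) w p = ⟨0, by decide⟩ →
      (x : Perm (Fin 416)) p = p := fun w hw p hp => by
    have hl := List.all_eq_true.1 (by decide : bw.all (lettersIn 6) = true) w hw
    have h1 := mem_stabilizer_iff.1 (hy _ (List.mem_cons_of_mem _ (List.mem_map_of_mem hw)))
    rw [gg_cons, gg_ev ι t hl, ← hb, mul_inv_rev, mul_smul, mul_smul (ι _)⁻¹, inv_smul_smul,
      mul_assoc, mul_smul, smul_left_cancel_iff, ← mul_smul, ← map_inv, ← map_mul, ← map_mul,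
      h.stab2, mem_K0, Subgroup.coe_mul, Subgroup.coe_mul, Subgroup.coe_inv, coe_ev hl,
      ← hp] at h1
    simpa using h1
  rw [show x = 1 from Subtype.ext (base _ x.2 fun i hi => ?_), map_one]
  obtain ⟨i, hi'⟩ := i
  simp only [List.mem_cons, List.not_mem_nil, or_false] at hi
  rcases hi with rfl | rfl | rfl | rfl | rfl | rfl | rfl | rfl
  · exact key [6] (by decide) _ (apply_of_ptL E_ok _ _ (by decide +kernel))
  · exact key [6, 2, 1, 3, 2, 4, 3, 2, 1, 5, 4, 3, 6] (by decide) _ (apply_of_ptL E_ok _ _ (by decide +kernel))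
  · exact key [6, 2, 3] (by decide) _ (apply_of_ptL E_ok _ _ (by decide +kernel))
  · exact key [6, 2, 1, 2, 1] (by decide) _ (apply_of_ptL E_ok _ _ (by decide +kernel))
  · exact key [6, 2, 3, 4, 3, 2, 5, 4, 6] (by decide) _ (apply_of_ptL E_ok _ _ (by decide +kernel))
  · exact key [6, 2, 3, 4, 3, 2, 5, 6] (by decide) _ (apply_of_ptL E_ok _ _ (by decide +kernel))
  · exact key [6, 2, 3, 4, 3, 2, 6] (by decide) _ (apply_of_ptL E_ok _ _ (by decide +kernel))
  · exact key [] (by decide) _ (apply_of_ptL E_ok _ _ (by decide +kernel))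

/-- The generators of the Suzuki group as words. -/
def W : List (List ℕ) :=
  [[], [1], [2], [3], [4], [5], [6], [2, 3, 1, 2, 1, 2, 7, 6, 7, 2, 1, 2, 1, 3, 2, 1]]

/-- The relator that fails in the triple cover. -/
def w : List ℕ := [2, 6, 7, 2, 6, 7, 2, 6, 7, 2, 6, 7, 2, 6, 7]

/-- What holds in the triple cover. -/
def R' : List (List ℕ) :=
  Suz.Rm.erase w ++ (List.range' 1 6).map fun x => w ++ ([x] ++ (w.reverse ++ [x]))

theorem Hyp.sat_suz (h : Hyp ι a b) {t : G} (ha : t • a = b) (hb : t • b = a)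
    (ht : ∀ y : K0, t * ι y * t⁻¹ = ι (α y)) : Sat (wt (gg ι t) W) Suz.Rm := by
  obtain ⟨c, hc⟩ : ∃ c, Tab (gg ι t) (stabilizer G a) 7 5346 ESzU.row 23 0x7fffff 16383 c :=
    ESzU.checked.tab (h.sat_U ha hb ht) (fun l hl => by
      rw [gg_ev ι t (List.all_eq_true.1 (by decide : ESzU.S.all (lettersIn 6) = true) l hl)]
      exact h.fa _) rfl rfl rfl rfl (by decide +kernel) (by decide +kernel)
  have h1 : Sat (wt (gg ι t) W) R' :=
    hc.sat (h.baseW hb) (by decide) (by decide) (by decide +kernel)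
  have h2 : ∀ x, 1 ≤ x → x ≤ 7 → wt (gg ι t) W x * wt (gg ι t) W x = 1 := fun x h3 h4 => by
    have := h1 [x, x] (by interval_cases x <;> decide +kernel)
    rwa [ev_cons, ev_single] at this
  have h3 : gen k 6 ≤ (Subgroup.centralizer {ev (wt (gg ι t) W) w}).comap ι := by
    refine gen_le.2 fun x h3 h4 => Subgroup.mem_centralizer_singleton_iff.2 ?_
    have e : wt (gg ι t) W x = ι (k x) := by
      have : nth [] W x = [x] := by interval_cases x <;> rfl
      rw [wt, this, gg_ev ι t (by simp [lettersIn]; omega), ev_single]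
    have := h1 _ (List.mem_append_right _ (List.mem_map_of_mem
      (List.mem_range'_1.2 ⟨h3, by omega⟩)))
    rw [ev_append, ev_append, ev_append, ev_single, ev_reverse fun y hy =>
      let h := lettersIn_iff.1 (by decide : lettersIn 7 w = true) y hy; h2 y h.1 h.2, ← mul_assoc,
      ← mul_assoc, ← eq_inv_iff_mul_eq_one, inv_eq_of_mul_eq_one_left (h2 x h3 (by omega)),
      mul_inv_eq_iff_eq_mul, e] at this
    exact this.symm
  have h4 : ∀ x : K, ι x * ev (wt (gg ι t) W) w = ev (wt (gg ι t) W) w * ι x := fun x =>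
    Subgroup.mem_centralizer_singleton_iff.1 (h3 (top ▸ Subgroup.mem_top x))
  have h5 : ∀ x : K, ι x • ev (wt (gg ι t) W) w • a = ev (wt (gg ι t) W) w • a := fun x => by
    rw [← mul_smul, h4, mul_smul, h.fa]
  have h6 : ev (wt (gg ι t) W) w = 1 := by
    refine h.cent ?_ fun j => (h4 _).symm
    have h7 := h5 s
    rcases h.fix fun j => h5 (lam j) with e | e | e
    · exact e
    · rw [e] at h7; exact absurd h7 h.cb
    · rw [e, h.sc] at h7; exact absurd h7.symm h.cb
  exact (Sat.cons h6 h1).mono (by decide +kernel)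

theorem Hyp.iso (h : Hyp ι a b) {u : G} (hu : u • b = a) (hG : Nat.card G = 448345497600) :
    Cfsg.Spor.IsoSuz G := by
  obtain ⟨t, ha, hb, ht⟩ := h.exists_t hu
  obtain ⟨φ, hφ⟩ := Suz.exists_hom (h.sat_suz ha hb ht)
  have := SuzM.simple
  have : Finite G := Nat.finite_of_card_ne_zero (by rw [hG]; norm_num)
  have hi : Function.Injective φ := injective_of_simple (y := Suz.gm 1) (by
    rw [hφ 1 (by decide), wt, show nth [] W 1 = [1] from rfl, gg_ev ι t (by decide),
      Ne, map_eq_one_iff _ h.inj]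
    exact Gl.ne_one model (l := [1]) (by decide) (a := 38) (b := 60) (by decide)
      (by decide) (by decide) (by decide +kernel))
  exact ⟨(MulEquiv.ofBijective φ ((Nat.bijective_iff_injective_and_card φ).2
    ⟨hi, SuzM.card.trans hG.symm⟩)).symm⟩

end main

end Cfsg.Agent.H44.SzR
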