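import Cfsg.Agent.H44.TpA
import Cfsg.Agent.H28.TLin
import Cfsg.Agent.H28.TMonC
import Cfsg.Agent.H30.L45T3

/-! Groups generated by an irreducible class of transvections: the linear and the monomial case. -/

set_option autoImplicit false
set_option linter.unusedSectionVars false
set_option linter.unusedSimpArgs false
set_option linter.style.haveILetI false

namespace Cfsg.Agent.H44.Tp

open Matrix Cfsg.Geo H26 H25 H25.L45 H28.TMon H28.TLin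
open scoped MatrixGroups commutatorElement

universe u

variable {F : Type u} [Field F] {n : ℕ} {P : Subgroup (GL (Fin n) F)}

theorem row_irr' (h : CT P) (S : Submodule F (Fin n → F))
    (hS : ∀ g ∈ P, ∀ φ ∈ S, φ ᵥ* (g : Matrix (Fin n) (Fin n) F) ∈ S) : S = ⊥ ∨ S = ⊤ := by
  let W : Submodule F (Fin n → F) :=
    { carrier := {x | ∀ φ ∈ S, φ ⬝ᵥ x = 0}
      zero_mem' := fun _ _ => dotProduct_zero _
      add_mem' := fun hx hy φ hφ => by rw [dotProduct_add, hx φ hφ, hy φ hφ, add_zero]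
      smul_mem' := fun c x hx φ hφ => by rw [dotProduct_smul, hx φ hφ, smul_zero] }
  rcases h.irr W (fun g hg x hx φ hφ => by
    rw [dotProduct_mulVec]; exact hx _ (hS g hg φ hφ)) with e | e
  · refine Or.inr (eq_top_iff.2 fun v _ => by_contra fun hv => ?_)
    obtain ⟨w, h1, h2⟩ := exists_dot_eq_one_of_notMem S hv
    have : w ∈ W := fun φ hφ => by rw [dotProduct_comm]; exact h2 φ hφ
    rw [e, Submodule.mem_bot] at this
    simp [this] at h1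
  · exact Or.inl (eq_bot_iff.2 fun φ hφ => dotProduct_eq_zero _ fun x =>
      (e ▸ Submodule.mem_top : x ∈ W) φ hφ)

theorem tlin' (h : CT P) (hf : ∀ v φ, Tv P v φ → ∀ a : F, Tv P (a • v) φ) (v v' φ : Fin n → F)
    (hφ : φ ≠ 0) (hv : Tv P v φ) (hv' : Tv P v' φ) (hli : LinearIndependent F ![v, v']) :
    P = specialLinear (Fin n) F := by
  have v0 : v ≠ 0 := hli.ne_zero 0
  have hT : Inv P (TT P) := inv_tt ⟨v, φ, v0, hφ, hv⟩
  obtain ⟨w, ψ, ⟨-, -, hw⟩, h3, h4⟩ := h.opp hT v0 hφ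
  obtain ⟨z₀, n0, h5, h6⟩ : ∃ z₀, z₀ ≠ 0 ∧ Tv P z₀ φ ∧ ψ ⬝ᵥ z₀ = 0 :=
    ⟨(-(ψ ⬝ᵥ v')) • v + (ψ ⬝ᵥ v) • v', fun e => h4 (LinearIndependent.pair_iff.1 hli _ _ e).2,
      (hf _ _ hv _).add_left (hf _ _ hv' _), by
        simp only [dotProduct_add, dotProduct_smul, smul_eq_mul]; ring⟩
  have mw : w ∈ Z hf φ ⊔ F ∙ w := Submodule.mem_sup_right (Submodule.mem_span_singleton_self w)
  have c1 : ∀ x ξ z, Tv P x ξ → Tv P z φ → ξ ⬝ᵥ z ≠ 0 → x ∈ Z hf φ ⊔ F ∙ w := by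
    intro x ξ z h7 hz e
    by_cases h8 : φ ⬝ᵥ x = 0
    · exact Submodule.mem_sup_left (of_smul hf e (hz.comm_left h7 h8))
    by_cases h9 : ξ ⬝ᵥ z₀ = 0
    · obtain ⟨y, η, ⟨-, -, hy⟩, k1, k2⟩ := h.opp hT n0 hφ
      have k3 := good hf hv hw h3 h4 h5 h6 hy k1 k2
      obtain ⟨a, ha, b, hb, rfl⟩ := Submodule.mem_sup.1 (good hf hz h7 h8 e h5 h9 hy k1 k2)
      obtain ⟨c, rfl⟩ := Submodule.mem_span_singleton.1 hb
      have c0 : c ≠ 0 := by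
        rintro rfl
        exact k1 (by simpa using (show Tv P a φ from ha).1)
      exact (Submodule.smul_mem_iff _ c0).1
        ((Submodule.add_mem_iff_right _ (Submodule.mem_sup_left ha)).1 k3)
    · exact good hf hv hw h3 h4 h5 h6 h7 h8 h9
  rcases h.eq_of_inv hT (Z hf φ ⊔ F ∙ w) (fun x ξ ⟨_, _, h7⟩ y hy e => by
    by_cases h8 : ∃ z, Tv P z φ ∧ ξ ⬝ᵥ z ≠ 0
    · obtain ⟨z, hz, e⟩ := h8
      exact c1 x ξ z h7 hz e
    push Not at h8
    obtain ⟨a, ha, b, hb, rfl⟩ := Submodule.mem_sup.1 hy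
    obtain ⟨c, rfl⟩ := Submodule.mem_span_singleton.1 hb
    have e1 : ξ ⬝ᵥ w ≠ 0 := fun e1 => e (by simp [h8 a ha, e1])
    exact (Submodule.smul_mem_iff _ e1).1 ((Submodule.add_mem_iff_right _ mw).1
      (c1 _ _ v (hw.conj_tv h7) hv (by simpa [h8 v hv] using h4)))) with e | e
  · rw [e, Submodule.mem_bot] at mw
    simp [mw] at h3
  · refine le_antisymm h.sl (specialLinear_le_of_elations (row_irr' h) hφ fun x hx => ?_)
    obtain ⟨a, ha, b, hb, rfl⟩ := Submodule.mem_sup.1 (e ▸ Submodule.mem_top : x ∈ Z hf φ ⊔ F ∙ w)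
    obtain ⟨c, rfl⟩ := Submodule.mem_span_singleton.1 hb
    have c0 : c = 0 := by simpa [(show Tv P a φ from ha).1, h3] using hx
    rw [c0, zero_smul, add_zero]
    exact ha

variable [Fintype F]

theorem m3' (T3 : T3Stmt.{u}) (h : CT P) (t : (2 : F) = 0) (hS : L45.Small P)
    {u θ v φ w ψ : Fin n → F} (h1 : Tv P u θ) (h2 : Tv P v φ) (h3 : Tv P w ψ)
    (ht : tri u θ v φ w ψ ≠ 0) (c0 : (θ ⬝ᵥ v) * (φ ⬝ᵥ u) ≠ 0) (c1 : (θ ⬝ᵥ v) * (φ ⬝ᵥ u) ≠ 1) :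
    ∃ p q r : Pt F n, Du p q ∧ Du q r ∧ Du p r ∧ ∃ α α' β β' γ γ' : F, α * α' = 1 ∧ β * β' = 1 ∧
      γ * γ' = 1 ∧ u = p.1 + q.1 ∧ θ = p.2 + q.2 ∧ v = α • p.1 + β • q.1 ∧
      φ = α' • p.2 + β' • q.2 ∧ w = γ • p.1 + r.1 ∧ ψ = γ' • p.2 + r.2 := by
  obtain ⟨E, Φ, hΦ, irr, k⟩ := exists_blk_of_tri h1 h2 h3 ht
  have tt : ∀ i, TT (P.comap (blk E Φ hΦ)) (Pi.single i 1) (![θ, φ, ψ] i ᵥ* E) := fun i => by
    rw [tt_blk, (k i).1, (k i).2]
    fin_cases i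
    · exact ⟨by rintro rfl; simp [tri] at ht, by rintro rfl; simp [tri] at ht, h1⟩
    · exact ⟨by rintro rfl; simp [tri] at ht, by rintro rfl; simp [tri] at ht, h2⟩
    · exact ⟨by rintro rfl; simp [tri] at ht, by rintro rfl; simp [tri] at ht, h3⟩
  have dt : ∀ i j, (![θ, φ, ψ] i ᵥ* E) ⬝ᵥ Pi.single j 1 = ![θ, φ, ψ] i ⬝ᵥ ![u, v, w] j :=
    fun i j => by rw [← dotProduct_mulVec, (k j).1]
  rcases T3 F _ (fun g hg => (blk_mem_SL hΦ).1 (h.sl hg)) irr _ _ _ _ (tt 0).2.2 (tt 1).2.2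
    (by rw [dt, dt]; exact c0) with ⟨F₀, hF⟩ | ⟨-, -, ⟨C, hC⟩ | h9⟩
  · have := hF.pair _ _ _ _ (tt 0).2.2 (tt 1).2.2
    rw [dt, dt] at this
    exact absurd (hS.blk hΦ _ _ (tt 0) _ ((hF.root _ _ (tt 0) _).2 this)) (not_or.2 ⟨c0, c1⟩)
  swap
  · obtain ⟨ω, w1, w3, -⟩ := h9.omega
    exact absurd (Units.ext (h.nine t ω (by rw [← Units.val_pow_eq_pow_val, w3, Units.val_one]))) w1
  have hΦ' : (C⁻¹ : GL (Fin 3) F).1 * Φ * (E * C.1) = 1 := by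
    rw [Matrix.mul_assoc, ← Matrix.mul_assoc Φ, hΦ, Matrix.one_mul, C.inv_mul]
  let a : Fin 3 → Fin 3 → F := fun i => (C⁻¹ : GL (Fin 3) F).1 *ᵥ Pi.single i 1
  let a' : Fin 3 → Fin 3 → F := fun i => (![θ, φ, ψ] i ᵥ* E) ᵥ* C.1
  have ea : ∀ i, ![u, v, w] i = (E * C.1) *ᵥ a i := fun i => by
    rw [← mulVec_mulVec, mulVec_inv_mulVec, (k i).1]
  have ea' : ∀ i, ![θ, φ, ψ] i = a' i ᵥ* ((C⁻¹ : GL (Fin 3) F).1 * Φ) := fun i => by
    rw [vecMul_vecMul, ← Matrix.mul_assoc, C.mul_inv, Matrix.one_mul, (k i).2]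
  have da : ∀ i j, ![θ, φ, ψ] i ⬝ᵥ ![u, v, w] j = a' i ⬝ᵥ a j := fun i j => by
    rw [ea, ea', dot_blk hΦ']
  have sw : ∀ i, ∃ k, a i k = 0 ∧ a' i k = 0 ∧ ∀ l, l ≠ k → a i l * a' i l = 1 := fun i => by
    refine swap3 t (fun e => ?_) (fun e => ?_) ?_ ?_
    · exact (tt i).1 (by rw [← mulVec_inv_mulVec C (Pi.single i 1)]; exact
        (congrArg _ e).trans (mulVec_zero _))
    · refine (tt i).2.1 ?_
      rw [← vecMul_one (_ ᵥ* E), ← C.mul_inv, ← vecMul_vecMul]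
      exact (congrArg (· ᵥ* _) e).trans (zero_vecMul _)
    · rw [← da, ← dt]; exact (tt i).2.2.1
    · have := hC _ (tt i).2.2.mem
      rwa [tvGL_coe, L45.cj, conj_tv _ _ (C⁻¹).mul_inv, inv_inv] at this
  obtain ⟨k0, x0, y0, z0⟩ := sw 0
  obtain ⟨k1, x1, y1, z1⟩ := sw 1
  obtain ⟨k2, x2, y2, z2⟩ := sw 2
  obtain rfl : k0 = k1 := by
    by_contra n
    obtain ⟨m, m0, m1, hm⟩ := third k0 k1 n
    refine c1 ?_
    have e1 : θ ⬝ᵥ v = a' 0 ⬝ᵥ a 1 := da 0 1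
    have e2 : φ ⬝ᵥ u = a' 1 ⬝ᵥ a 0 := da 1 0
    rw [e1, e2, dotProduct, dotProduct, Fintype.sum_eq_single m fun l hl => by
      rcases hm l with rfl | rfl | rfl
      exacts [by rw [y0, zero_mul], by rw [x1, mul_zero], absurd rfl hl],
      Fintype.sum_eq_single m fun l hl => by
      rcases hm l with rfl | rfl | rfl
      exacts [by rw [x0, mul_zero], by rw [y1, zero_mul], absurd rfl hl]]
    linear_combination a 1 m * a' 1 m * z0 m m0 + z1 m m1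
  have nn : k2 ≠ k0 := by
    rintro rfl
    have := congrFun (congrFun C.inv_mul k2) k2
    rw [mul_apply, Fin.sum_univ_three, one_apply_eq] at this
    simp only [a, mulVec_single_one, col_apply] at x0 x1 x2
    rw [x0, x1, x2] at this
    simp at this
  obtain ⟨i, i2, i0, hi⟩ := third k2 k0 nn
  let c : Fin 3 → Fin n → F := fun i => (E * C.1) *ᵥ Pi.single i 1
  let g : Fin 3 → Fin n → F := fun i => Pi.single i 1 ᵥ* ((C⁻¹ : GL (Fin 3) F).1 * Φ)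
  have gc : ∀ i j, g i ⬝ᵥ c j = if i = j then 1 else 0 := fun i j => by
    rw [dot_blk hΦ', single_one_dotProduct, Pi.single_apply]
  have e1 : ∀ m j k, i ≠ j → (∀ l, l = i ∨ l = j ∨ l = k) → k ≠ i → k ≠ j → a m k = 0 →
      a' m k = 0 → ![u, v, w] m = a m i • c i + a m j • c j ∧
        ![θ, φ, ψ] m = a' m i • g i + a' m j • g j := fun m j k n1 n2 n3 n4 n5 n6 => by
    rw [ea, ea']
    constructor
    · conv_lhs => rw [dec3 n1 n2 n3 n4 n5, mulVec_add, mulVec_smul, mulVec_smul]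
    · conv_lhs => rw [dec3 n1 n2 n3 n4 n6, add_vecMul, smul_vecMul, smul_vecMul]
  obtain ⟨u1, u2⟩ := e1 0 k2 k0 i2 (fun l => by have := hi l; tauto) i0.symm nn.symm x0 y0
  obtain ⟨v1, v2⟩ := e1 1 k2 k0 i2 (fun l => by have := hi l; tauto) i0.symm nn.symm x1 y1
  obtain ⟨w1, w2⟩ := e1 2 k0 k2 i0 (fun l => by have := hi l; tauto) i2.symm nn x2 y2
  have du : ∀ m m' i j, i ≠ j → a m i * a' m i = 1 → a m' j * a' m' j = 1 →
      Du (a m i • c i, a' m i • g i) (a m' j • c j, a' m' j • g j) := fun m m' i j n e e' =>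
    ⟨by simp [gc, e], by simp [gc, e'], by simp [gc, n], by simp [gc, n.symm]⟩
  have z0i := z0 i i0
  have z02 := z0 k2 nn
  refine ⟨_, _, _, du 0 0 i k2 i2 z0i z02, du 0 2 k2 k0 nn z02 (z2 k0 nn.symm),
    du 0 2 i k0 i0 z0i (z2 k0 nn.symm), a 1 i * a' 0 i, a' 1 i * a 0 i, a 1 k2 * a' 0 k2,
    a' 1 k2 * a 0 k2, a 2 i * a' 0 i, a' 2 i * a 0 i,
    by linear_combination a 1 i * a' 1 i * z0i + z1 i i0,
    by linear_combination a 1 k2 * a' 1 k2 * z02 + z1 k2 nn,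
    by linear_combination a 2 i * a' 2 i * z0i + z2 i i2, u1, u2, v1.trans ?_, v2.trans ?_,
    w1.trans ?_, w2.trans ?_⟩ <;>
  simp only [smul_smul, mul_assoc, z0i, z02, mul_comm (a' 0 _) (a 0 _), mul_one]

theorem lemM' (T3 : T3Stmt.{u}) (h : CT P) (t : (2 : F) = 0)
    (hS : L45.Small P) {d : F} (d0 : d ≠ 0) (d1 : d ≠ 1) (d3 : d * d + d + 1 ≠ 0) (p q : Pt F n)
    (a : Du p q) (s1 : Sw (Tv P) p q 1) (s2 : Sw (Tv P) p q d) (v φ : Fin n → F) (hv : Tv P v φ) :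
    (p.2 ⬝ᵥ v) * (φ ⬝ᵥ p.1) = (q.2 ⬝ᵥ v) * (φ ⬝ᵥ q.1) ∨
    (p.2 ⬝ᵥ v) * (φ ⬝ᵥ p.1) = 1 ∧ q.2 ⬝ᵥ v = 0 ∧ φ ⬝ᵥ q.1 = 0 ∨
    (q.2 ⬝ᵥ v) * (φ ⬝ᵥ q.1) = 1 ∧ p.2 ⬝ᵥ v = 0 ∧ φ ⬝ᵥ p.1 = 0 := by
  refine or_iff_not_imp_left.2 fun e => ?_
  simp only [Sw, inv_one, one_smul] at s1 s2
  have dd := mul_inv_cancel₀ d0
  have i1 : d⁻¹ ≠ 1 := by simpa using d1
  have k1 : (p.2 + q.2) ⬝ᵥ (p.1 + d • q.1) = 1 + d := by simp [a.pp, a.pq, a.qp, a.qq]
  have k2 : (p.2 + d⁻¹ • q.2) ⬝ᵥ (p.1 + q.1) = 1 + d⁻¹ := by simp [a.pp, a.pq, a.qp, a.qq]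
  have n1 : 1 + d ≠ 0 := fun e => d1 (by linear_combination e - t)
  have n2 : 1 + d⁻¹ ≠ 0 := fun e => i1 (by linear_combination e - t)
  obtain ⟨p', q', r, b1, b2, b3, α, α', β, β', γ, γ', hα, hβ, hγ, e1, e2, e3, e4, rfl, rfl⟩ :=
    m3' T3 h t hS s1 s2 hv (fun e' => e (by
      rw [tri, k1, k2] at e'
      simp only [add_dotProduct, dotProduct_add, smul_dotProduct, dotProduct_smul, smul_eq_mul] at e'
      refine mul_left_cancel₀ (mul_ne_zero n1 n2) ?_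
      generalize d⁻¹ = y at *
      grind)) (by rw [k1, k2]; exact mul_ne_zero n1 n2) (by
      rw [k1, k2]
      exact fun e => d3 (by linear_combination d * e - (1 + d) * dd))
  rw [e2, e3] at k1
  rw [e4, e1] at k2
  simp only [add_dotProduct, dotProduct_add, smul_dotProduct, dotProduct_smul, smul_eq_mul, b1.pp,
    b1.pq, b1.qp, b1.qq] at k1 k2
  have k3 : α * β = d := mul_left_cancel₀ n1 (by
    linear_combination (-d * α * β) * k2 + d * β * hα + d * α * hβ + d * k1 - α * β * dd)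
  rcases mul_eq_zero.1 (show (α - 1) * (β - 1) = 0 by linear_combination k3 - k1) with e' | e'
  · obtain rfl : α = 1 := sub_eq_zero.1 e'
    obtain rfl : β = d := by simpa using k3
    obtain rfl : α' = 1 := by simpa using hα
    obtain rfl : β' = β⁻¹ := eq_inv_of_mul_eq_one_right hβ
    rw [one_smul] at e3 e4
    obtain ⟨f1, f2⟩ := solve2 d1 e1 e3
    obtain ⟨f3, f4⟩ := solve2 i1 e2 e4
    exact Or.inl (by simp [f1, f2, f3, f4, b1.pp, b1.pq, b1.qp, b2.pq, b2.qp, b3.pq, b3.qp, hγ])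
  · obtain rfl : β = 1 := sub_eq_zero.1 e'
    obtain rfl : α = d := by simpa using k3
    obtain rfl : β' = 1 := by simpa using hβ
    obtain rfl : α' = α⁻¹ := eq_inv_of_mul_eq_one_right hα
    rw [one_smul, add_comm (_ • p'.1)] at e3
    rw [one_smul, add_comm (_ • p'.2)] at e4
    obtain ⟨f1, f2⟩ := solve2 d1 (e1.trans (add_comm _ _)) e3
    obtain ⟨f3, f4⟩ := solve2 i1 (e2.trans (add_comm _ _)) e4
    exact Or.inr (by simp [f1, f2, f3, f4, b1.pp, b1.pq, b1.qp, b2.pq, b2.qp, b3.pq, b3.qp, hγ])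

theorem tmon' (T3 : T3Stmt.{u}) (h : CT P) (t : (2 : F) = 0) (hS : L45.Small P)
    (u θ v φ w ψ : Fin n → F) (h1 : Tv P u θ) (h2 : Tv P v φ) (h3 : Tv P w ψ)
    (ht : tri u θ v φ w ψ ≠ 0) : (θ ⬝ᵥ v) * (φ ⬝ᵥ u) = 0 ∨ (θ ⬝ᵥ v) * (φ ⬝ᵥ u) = 1 := by
  by_contra hc
  obtain ⟨c0, c1⟩ := not_or.1 hc
  obtain ⟨p, q, r₀, pq, qr, pr, α, α', β, β', γ, γ', hα, hβ, hγ, rfl, rfl, rfl, rfl, rfl, rfl⟩ :=
    m3' T3 h t hS h1 h2 h3 ht c0 c1
  have hT := ts t hS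
  simp only [add_dotProduct, dotProduct_add, smul_dotProduct, dotProduct_smul, smul_eq_mul, pq.pp,
    pq.pq, pq.qp, pq.qq] at c0 c1
  obtain ⟨d, hd⟩ : ∃ d, d = α' * β := ⟨_, rfl⟩
  have d0 : d ≠ 0 := by grind
  have d1 : d ≠ 1 := by grind
  have d3 : d * d + d + 1 ≠ 0 := by grind
  have di : d⁻¹ = α * β' := inv_eq_of_mul_eq_one_right (by grind)
  let r : Pt F n := (γ' • r₀.1, γ • r₀.2)
  have du : ∀ s, Du s r₀ → Du s r := fun s a =>
    ⟨a.pp, by simp [r, a.qq, mul_comm γ', hγ], by simp [r, a.pq], by simp [r, a.qp]⟩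
  have s1 : Sw (Tv P) p q 1 := by simpa [Sw] using h1
  have s2 : Sw (Tv P) p q d := by
    simpa [Sw, di, ← hd, smul_smul, hα, mul_comm α' α] using tv_scal hα h2
  have s3 : Sw (Tv P) p r 1 := by
    simpa [Sw, r, smul_smul, hγ, mul_comm γ' γ] using tv_scal hγ h3
  have f0 : Fr (Tv P) d (insert r {p, q}) := hT.fr_insert d0 (hT.fr_pair d0 pq
    (hT.sw_zpow d0 pq (du q qr) (du p pr) s1 s2 s3)) (Or.inl rfl) (Or.inr rfl) pq.ne
    (by rintro s (rfl | rfl); exacts [du _ pr, du _ qr]) s3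
  obtain ⟨S, hle, hS0, hmax⟩ := Finite.exists_le_maximal (p := Fr (Tv P) d) f0
  have mp : p ∈ S := hle (by simp)
  have mq : q ∈ S := hle (by simp)
  have mr : r ∈ S := hle (by simp)
  have th : ∀ a b : Pt F n, ∃ c ∈ S, a ≠ c ∧ b ≠ c := fun a b => by
    rcases three_ne pq.ne (du p pr).ne (du q qr).ne a b with e | e | e
    exacts [⟨p, mp, e⟩, ⟨q, mq, e⟩, ⟨r, mr, e⟩]
  have hM := lemM' T3 h t hS d0 d1 d3
  have K : ∀ v φ, TT P v φ → ∀ a ∈ S, φ ⬝ᵥ a.1 ≠ 0 → (a.2 ⬝ᵥ v) * (φ ⬝ᵥ a.1) = 1 ∧ ∃ b ∈ S, a ≠ b ∧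
      (b.2 ⬝ᵥ v) * (φ ⬝ᵥ b.1) = 1 ∧ v = (a.2 ⬝ᵥ v) • a.1 + (b.2 ⬝ᵥ v) • b.1 ∧
      ∀ c ∈ S, c ≠ a → c ≠ b → c.2 ⬝ᵥ v = 0 ∧ φ ⬝ᵥ c.1 = 0 := by
    intro v φ ⟨v0, φ0, hv⟩ a ha e
    have cl : ∀ a ∈ S, (a.2 ⬝ᵥ v = 0 ∧ φ ⬝ᵥ a.1 = 0) ∨ (a.2 ⬝ᵥ v) * (φ ⬝ᵥ a.1) = 1 := fun a ha => by
      obtain ⟨b, hb, n1, -⟩ := th a a
      obtain ⟨c, hc, n2, n3⟩ := th a b
      exact hT.cls d0 d1 d3 hM hS0 ha hb hc n1 n2 n3 hv v0 φ0
    have o := (cl a ha).resolve_left fun e' => e e'.2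
    let x : Pt F n := ((φ ⬝ᵥ a.1) • v + a.1, (a.2 ⬝ᵥ v) • φ + a.2)
    have aa : a.2 ⬝ᵥ a.1 = 1 := by
      obtain ⟨b, hb, n1, -⟩ := th a a
      exact (hS0.du a ha b hb n1).pp
    have xx : x.2 ⬝ᵥ x.1 = 1 := by
      simp only [x, add_dotProduct, dotProduct_add, smul_dotProduct, dotProduct_smul, smul_eq_mul,
        aa, hv.1]
      grind
    have ax : Du a x := ⟨aa, xx, by
      simp only [x, dotProduct_add, dotProduct_smul, smul_eq_mul, aa]; grind, by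
      simp only [x, add_dotProduct, smul_dotProduct, smul_eq_mul, aa]; grind⟩
    have cx : ∀ c ∈ S, c ≠ a → c.2 ⬝ᵥ v = 0 ∧ φ ⬝ᵥ c.1 = 0 → Du c x := fun c hc n e =>
      have k := hS0.du c hc a ha n
      ⟨k.pp, xx, by simp [x, e.1, k.pq], by simp [x, e.2, k.qp]⟩
    have sx : Sw (Tv P) a x 1 := by
      have := tv_scal o hv
      simp only [Sw, x, inv_one, one_smul]
      convert this using 1 <;> ext i <;> simp only [Pi.add_apply, Pi.smul_apply, smul_eq_mul] <;>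
        grind
    refine ⟨o, ?_⟩
    by_cases H : ∃ b ∈ S, a ≠ b ∧ (b.2 ⬝ᵥ v) * (φ ⬝ᵥ b.1) = 1
    · obtain ⟨b, hb, ab, o'⟩ := H
      have nul : ∀ c ∈ S, c ≠ a → c ≠ b → c.2 ⬝ᵥ v = 0 ∧ φ ⬝ᵥ c.1 = 0 := fun c hc n1 n2 =>
        (cl c hc).resolve_right fun o'' => one_ne_zero (o.symm.trans (hT.a0 d0 d1 d3 hM hS0 ha hb
          hc ab n1.symm n2.symm hv (o.trans o'.symm) (o.trans o''.symm)))
      refine ⟨b, hb, ab, o', ?_, nul⟩
      obtain ⟨c, hc, n1, n2⟩ := th a b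
      have k1 := cx c hc n1.symm (nul c hc n1.symm n2.symm)
      have k2 := hS0.du a ha b hb ab
      have f1 := hT.fr_insert d0 (hT.fr_pair d0 (hS0.du a ha c hc n1) (hS0.sw a ha c hc n1))
        (Or.inl rfl) (Or.inr rfl) n1 (by rintro s (rfl | rfl); exacts [ax, k1]) sx
      have k3 := lemC t hS d0 d1 d3 (hS0.du c hc b hb n2.symm) k1 (hS0.sw c hc b hb n2.symm)
        (f1.sw c (by simp) x (by simp) k1.ne) (by
          simp only [x, add_dotProduct, dotProduct_add, smul_dotProduct, dotProduct_smul,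
            smul_eq_mul, k2.pq, k2.qp]
          grind)
      simp only [x, dotProduct_add, dotProduct_smul, smul_eq_mul, k2.qp] at k3
      ext i
      have := congrFun k3 i
      simp only [Pi.add_apply, Pi.smul_apply, smul_eq_mul, Pi.zero_apply] at this ⊢
      grind
    · exfalso
      push Not at H
      have dx : ∀ c ∈ S, Du c x := fun c hc => by
        by_cases n : c = a
        · exact n ▸ ax
        · exact cx c hc n ((cl c hc).resolve_right (H c hc (Ne.symm n)))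
      obtain ⟨b, hb, n1, -⟩ := th a a
      exact (dx x (hmax (hT.fr_insert d0 hS0 ha hb n1 dx sx) (Set.subset_insert _ _)
        (Set.mem_insert _ _))).ne rfl
  have hI : L45.Inv P (TT P) := inv_tt ⟨_, _, fun e => zero_ne_one (by
    rw [← dotProduct_zero p.2, ← e]; simp [pq.pp, pq.pq]), fun e => zero_ne_one (by
    rw [← zero_dotProduct p.1, ← e]; simp [pq.pp, pq.qp]), h1⟩
  have ex : ∀ φ : Fin n → F, ∀ x ∈ Submodule.span F (Prod.fst '' S), φ ⬝ᵥ x ≠ 0 →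
      ∃ a ∈ S, φ ⬝ᵥ a.1 ≠ 0 := fun φ x hx e => by
    by_contra H
    push Not at H
    exact e (Submodule.span_le (p := LinearMap.ker (dotProductBilin F F φ)).2
      (by rintro _ ⟨a, ha, rfl⟩; exact H a ha) hx)
  have top : Submodule.span F (Prod.fst '' S) = ⊤ := by
    refine (h.eq_of_inv hI _ fun v φ hv x hx e => ?_).resolve_left fun e => ?_
    · obtain ⟨a, ha, e⟩ := ex φ x hx e
      obtain ⟨-, b, hb, -, -, e', -⟩ := K v φ hv a ha e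
      rw [e']
      exact add_mem (Submodule.smul_mem _ _ (Submodule.subset_span ⟨a, ha, rfl⟩))
        (Submodule.smul_mem _ _ (Submodule.subset_span ⟨b, hb, rfl⟩))
    · have : p.1 = 0 := (Submodule.mem_bot F).1 (e ▸ Submodule.subset_span ⟨p, mp, rfl⟩)
      exact zero_ne_one (by rw [← pq.pp, this, dotProduct_zero])
  have dl : ∀ a ∈ S, a.2 ⬝ᵥ a.1 = 1 := fun a ha => by
    obtain ⟨b, hb, n1, -⟩ := th a a
    exact (hS0.du a ha b hb n1).pp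
  haveI := Fintype.ofFinite S
  have li : LinearIndependent F fun a : S => a.1.1 :=
    LinearIndependent.of_pairwise_dual_eq_zero_one _ (fun a => dotProductBilin F F a.1.2)
      (fun a b n => (hS0.du a a.2 b b.2 fun e => n (Subtype.ext e)).pq) fun a => dl a a.2
  have cd := Module.finrank_eq_card_basis (Module.Basis.mk li (by
    rw [← top, Set.image_eq_range]))
  rw [Module.finrank_fin_fun] at cd
  let e := (Fintype.equivFinOfCardEq cd.symm).symm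
  have ne : ∀ j k, j ≠ k → (e j).1 ≠ (e k).1 := fun j k n e' => n (e.injective (Subtype.ext e'))
  have hΦ : (Matrix.of fun j => (e j).1.2) * (Matrix.of fun k => (e k).1.1)ᵀ = 1 := by
    ext j k
    change (e j).1.2 ⬝ᵥ (e k).1.1 = _
    by_cases n : j = k
    · rw [n, dl _ (e k).2, one_apply_eq]
    · rw [(hS0.du _ (e j).2 _ (e k).2 (ne j k n)).pq, one_apply_ne n]
  let C : GL (Fin n) F := ⟨_, _, mul_eq_one_comm.1 hΦ, hΦ⟩
  have ent : ∀ (A : Matrix (Fin n) (Fin n) F) j k,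
      L45.cj C⁻¹ A j k = (e j).1.2 ⬝ᵥ (A *ᵥ (e k).1.1) := fun A j k => by
    rw [L45.cj, Matrix.mul_assoc]; rfl
  have mon : P ≤ monG C := h.le_of_inv hI fun v φ hv => by
    refine Tv.of_mem hv.2.2.1 ?_
    obtain ⟨x, hx⟩ := exists_dot_eq_one hv.2.1
    obtain ⟨a, ha, e1⟩ := ex φ x (top ▸ Submodule.mem_top) (by
      rw [dotProduct_comm, hx]; exact one_ne_zero)
    obtain ⟨o, b, hb, ab, o', -, nul⟩ := K v φ hv a ha e1
    obtain ⟨i, hi⟩ := e.surjective ⟨a, ha⟩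
    obtain ⟨j, hj⟩ := e.surjective ⟨b, hb⟩
    obtain rfl : (e i).1 = a := congrArg _ hi
    obtain rfl : (e j).1 = b := congrArg _ hj
    refine isMon_of (Equiv.swap i j) fun l k n => ?_
    rw [ent, tvGL_coe, tv_mulVec, dotProduct_add, dotProduct_smul, smul_eq_mul]
    by_cases lk : l = k
    · subst lk
      rw [dl _ (e l).2]
      by_cases li : l = i
      · subst li; linear_combination o + t
      by_cases lj : l = j
      · subst lj; linear_combination o' + t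
      exact absurd (Equiv.swap_apply_of_ne_of_ne li lj).symm n
    rw [(hS0.du _ (e l).2 _ (e k).2 (ne l k lk)).pq, zero_add]
    by_cases ki : k = i
    · subst ki
      rw [(nul _ (e l).2 (ne l k lk) (ne l j (by simpa using n))).1, mul_zero]
    by_cases kj : k = j
    · subst kj
      rw [(nul _ (e l).2 (ne l i (by simpa using n)) (ne l k lk)).1, mul_zero]
    rw [(nul _ (e k).2 (ne k i ki) (ne k j kj)).2, zero_mul]
  obtain ⟨g, hg, eg⟩ := dd t pq d0 s1 s2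
  have gv : ∀ x ξ, ξ ⬝ᵥ (g.1 *ᵥ x) = ξ ⬝ᵥ x + (d + 1) * ((p.2 ⬝ᵥ x) * (ξ ⬝ᵥ p.1)) +
      (d⁻¹ + 1) * ((q.2 ⬝ᵥ x) * (ξ ⬝ᵥ q.1)) := fun x ξ => by
    simp [eg, add_mulVec, smul_mulVec, vecMulVec_mulVec']
  have z : ∀ a ∈ S, ∀ j k, j ≠ k → (a.2 ⬝ᵥ (e k).1.1) * ((e j).1.2 ⬝ᵥ a.1) = 0 := fun a ha j k n => by
    by_cases e1 : a = (e k).1
    · rw [(hS0.du _ (e j).2 a ha (e1 ▸ ne j k n)).pq, mul_zero]
    · rw [(hS0.du a ha _ (e k).2 e1).pq, zero_mul]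
  obtain ⟨c, hc⟩ := (mem_scalars_iff g).1 (h.mem_scalars_of_mon (C := C) (fun g hg => mon hg)
    (Subgroup.mem_sup_left hg) (IsDiag.diagonal_diag fun j k n => by
      beta_reduce
      rw [ent, gv, z p mp j k n, z q mq j k n, (hS0.du _ (e j).2 _ (e k).2 (ne j k n)).pq]
      simp).symm)
  have k1 := gv p.1 p.2
  have k2 := gv r.1 r.2
  rw [hc, smul_mulVec, one_mulVec, dotProduct_smul] at k1 k2
  rw [pq.pp, pq.qp] at k1
  rw [(du p pr).qq, (du p pr).pq, (du q qr).pq] at k2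
  simp only [smul_eq_mul] at k1 k2
  exact d1 (by linear_combination k2 - k1 - t)

end Cfsg.Agent.H44.Tp
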