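import Cfsg.Agent.H44.TwMxF

/-! Elementary abelian subgroups of the Sylow subgroup of order 512. -/

set_option autoImplicit false
set_option maxRecDepth 100000
set_option exponentiation.threshold 10000

namespace Cfsg.Agent.H44.TwMx

open Equiv Subgroup Cfsg.Agent.H89.TG Cfsg.Agent.H89.Rec Cfsg.Agent.H17.Ya Cfsg.Agent.H17.Tw

theorem ea_comm {G : Type*} [Group G] {X : Subgroup G} (h : EA X) {x y : G} (hx : x ∈ X)
    (hy : y ∈ X) : Commute x y := by
  have e := inv_eq_of_mul_eq_one_right (h _ (mul_mem hx hy))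
  rw [mul_inv_rev, inv_eq_of_mul_eq_one_right (h _ hx), inv_eq_of_mul_eq_one_right (h _ hy)] at e
  exact e.symm

theorem card_cov {G : Type*} [Group G] [Finite G] {X A : Subgroup G} {n : ℕ} (s : Fin n → G)
    (hs : ∀ k, s k ∈ X) (h : ∀ t ∈ X, ∃ k, t * s k ∈ A) :
    Nat.card X ≤ n * Nat.card ↥(X ⊓ A) := by
  have := Nat.card_le_card_of_surjective (fun p : Fin n × ↥(X ⊓ A) =>
    (⟨p.2 * (s p.1)⁻¹, mul_mem p.2.2.1 (inv_mem (hs _))⟩ : X)) fun t => by
      obtain ⟨k, hk⟩ := h t t.2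
      exact ⟨(k, ⟨_, mul_mem t.2 (hs k), hk⟩), Subtype.ext (mul_inv_cancel_right _ _)⟩
  simpa using this

theorem two_mul_le {G : Type*} [Group G] [Finite G] {H K : Subgroup G} (h : H < K) :
    2 * Nat.card H ≤ Nat.card K := by
  obtain ⟨c, hc⟩ := card_dvd_of_le h.le
  have h1 : Nat.card H ≠ Nat.card K := fun e => h.ne (eq_of_le_of_card_ge h.le e.ge)
  have h2 : 0 < Nat.card K := Nat.card_pos
  rcases c with _ | _ | c
  · omega
  · omega
  · rw [hc]; nlinarith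

theorem card_up (H : Subgroup T) (p : ℕ → Bool) (h : ∀ t ∈ H, ∃ k < 64, p k = true ∧ t = tv k) :
    Nat.card H ≤ cntF p 64 := by
  rw [cntF_eq, ← Nat.card_eq_finsetCard]
  choose f h1 h2 h3 using h
  exact Nat.card_le_card_of_injective (fun t => ⟨f t t.2, by simp [h1, h2]⟩) fun t t' e =>
    Subtype.ext (by rw [h3 t t.2, h3 t' t'.2, show f t t.2 = f t' t'.2 from congrArg Subtype.val e])

theorem card_lo (H : Subgroup T) (p : ℕ → Bool) (h : ∀ k < 64, p k = true → tv k ∈ H) :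
    cntF p 64 ≤ Nat.card H := by
  rw [cntF_eq, ← Nat.card_eq_finsetCard]
  refine Nat.card_le_card_of_injective (fun k => ⟨tv k, h k ?_ ?_⟩) fun k k' e =>
    Subtype.ext (tv_inj ?_ ?_ (congrArg Subtype.val e))
  exacts [Finset.mem_range.1 (Finset.mem_filter.1 k.2).1, (Finset.mem_filter.1 k.2).2,
    Finset.mem_range.1 (Finset.mem_filter.1 k.2).1, Finset.mem_range.1 (Finset.mem_filter.1 k'.2).1]

theorem AT_comm {a b : T} (ha : a ∈ AT) (hb : b ∈ AT) : Commute a b := by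
  obtain ⟨i, hi, rfl⟩ := mem_AT'.1 ha
  obtain ⟨j, hj, rfl⟩ := mem_AT'.1 hb
  exact tv_comm hi hj

theorem AT_conj {a : T} (ha : a ∈ AT) (u : T) : u * a * u⁻¹ ∈ AT := by
  obtain ⟨i, hi, rfl⟩ := mem_AT'.1 ha
  exact nA u u.2 i hi

theorem norm_of {X : Subgroup T} {g : T} (h : ∀ t ∈ X, g * t * g⁻¹ ∈ X) :
    g ∈ normalizer (X : Set T) := mem_normalizer_fintype h

theorem case1 {X : Subgroup T} (hX : EA X) {u : T} (hu : u ∈ X) (n : u ∉ AT)
    (h : ∀ w ∈ X, w ∉ AT → w * u ∈ AT) :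
    Nat.card X < Nat.card ↥(AT ⊓ normalizer (X : Set T)) := by
  have uu := hX u hu
  have ui : u⁻¹ = u := inv_eq_of_mul_eq_one_right uu
  have c1 : Nat.card X ≤ 2 * Nat.card ↥(X ⊓ AT) := card_cov ![1, u]
    (fun k => by fin_cases k; exacts [one_mem _, hu]) fun t ht => by
      by_cases e : t ∈ AT
      · exact ⟨0, by simpa using e⟩
      · exact ⟨1, h t ht e⟩
  let C := AT ⊓ centralizer {u}
  have c2 : Nat.card C ≤ 16 := by
    obtain ⟨q, hq, e⟩ := decT u u.2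
    have q0 : q ≠ 0 := by
      rintro rfl
      rw [rho0, mul_one] at e
      exact n ⟨_, idx_lt _, e.symm⟩
    refine (card_up C (fx q) fun t ht => ?_).trans (nle_iff.2 (f10 q hq q0))
    obtain ⟨k, hk, rfl⟩ := mem_AT'.1 ht.1
    refine ⟨k, hk, (fx_iff q hq k hk).1 ?_, rfl⟩
    have : Commute (av k) (u : El) := congrArg Subtype.val (mem_centralizer_singleton_iff.1 ht.2)
    rw [← e] at this
    have := ((av_comm hk (idx_lt (u.1 * (rho q)⁻¹).val)).inv_right.mul_right this).symm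
    rwa [inv_mul_cancel_left] at this
  let f : AT →* T := MonoidHom.mk' (fun a => a * (u * a * u⁻¹)) fun a b => by
    have := (AT_comm b.2 (AT_conj a.2 u)).eq
    calc (a : T) * b * (u * (a * b) * u⁻¹) = a * (b * (u * a * u⁻¹)) * (u * b * u⁻¹) := by group
      _ = _ := by rw [this]; group
  have r : f.range ≤ C := by
    rintro _ ⟨a, rfl⟩
    refine ⟨mul_mem a.2 (AT_conj a.2 u), mem_centralizer_singleton_iff.2 ?_⟩
    have := (AT_comm a.2 (AT_conj a.2 u)).eq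
    change a * (u * a * u⁻¹) * u = u * (a * (u * a * u⁻¹))
    calc a * (u * a * u⁻¹) * u = a * u * a := by group
      _ = u * u * a * u⁻¹ * a := by rw [uu, one_mul, ui]
      _ = _ := by rw [this]; group
  have hY : X ⊓ AT ≤ C := fun y hy =>
    ⟨hy.2, mem_centralizer_singleton_iff.2 (ea_comm hX hy.1 hu).eq⟩
  have c3 : ((X ⊓ AT).comap f).index ≤ (X ⊓ AT).relIndex C := by
    rw [index_comap]
    exact relIndex_le_of_le_right r index_ne_zero_of_finite
  have c4 := ((X ⊓ AT).subgroupOf C).card_mul_index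
  rw [Nat.card_congr (subgroupOfEquivOfLe hY).toEquiv] at c4
  have c5 := ((X ⊓ AT).comap f).card_mul_index
  have c6 : 64 ≤ Nat.card AT := card_lo AT (fun _ => true) fun k hk _ => tv_mem hk
  have c7 : Nat.card ↥((X ⊓ AT).comap f) ≤ Nat.card ↥(AT ⊓ normalizer (X : Set T)) := by
    rw [← card_subtype]
    refine card_le_of_le ?_
    rintro _ ⟨a, ha, rfl⟩
    refine ⟨a.2, norm_of fun t ht => ?_⟩
    have ai : (a : T)⁻¹ = a := by
      obtain ⟨i, hi, e⟩ := mem_AT'.1 a.2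
      rw [e]; exact inv_eq_of_mul_eq_one_right (tv_sq hi)
    have k : ∀ y ∈ X, y ∈ AT → (a : T) * y * (a : T)⁻¹ ∈ X := fun y h1 h2 => by
      rwa [(AT_comm a.2 h2).eq, mul_inv_cancel_right]
    by_cases e : t ∈ AT
    · exact k t ht e
    · have : (a : T) * t * (a : T)⁻¹ = a * (t * u) * (a : T)⁻¹ * (a * (u * a * u⁻¹)) * u := by
        calc (a : T) * t * (a : T)⁻¹ = a * t * (u * u) * a := by rw [uu, ai, mul_one]
          _ = _ := by group
      exact this ▸ mul_mem (mul_mem (k _ (mul_mem ht hu) (h t ht e)) ha.1) hu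
  have p : 0 < Nat.card ↥(X ⊓ AT) := Nat.card_pos
  change _ * (X ⊓ AT).relIndex C = _ at c4
  nlinarith

theorem shift {t x : T} {g : El} (hx : x * x = 1) (h1 : (t : El) * g ∈ A0) (h2 : (x : El) * g ∈ A0) :
    t * x ∈ AT := by
  have := mul_mem h1 (inv_mem h2)
  rw [mul_inv_rev, mul_assoc, mul_inv_cancel_left, ← coe_inv, inv_eq_of_mul_eq_one_right hx] at this
  exact this

theorem param {x : T} {g : El} (hg : g * g = 1) (h : (x : El) * g ∈ A0) :
    ∃ i < 64, (x : El) = av i * g := by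
  obtain ⟨i, hi, e⟩ := h
  exact ⟨i, hi, by rw [← e, mul_assoc, hg, mul_one]⟩

theorem cover {X : Subgroup T} (hX : EA X) {x w : T} (hx : x ∈ X) (hw : w ∈ X) {g : El}
    (h1 : (x : El) * x13 ∈ A0) (h2 : (w : El) * g ∈ A0) (h3 : (x * w : T) * (x13 * g) ∈ A0)
    (h : ∀ t ∈ X, (t : El) ∈ A0 ∨ t * x13 ∈ A0 ∨ t * g ∈ A0 ∨ t * (x13 * g) ∈ A0) :
    ∀ t ∈ X, ∃ k, t * ![1, x, w, x * w] k ∈ AT := fun t ht => by
  rcases h t ht with e | e | e | e
  · exact ⟨0, by simpa [mem_AT] using e⟩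
  · exact ⟨1, shift (hX x hx) e h1⟩
  · exact ⟨2, shift (hX w hw) e h2⟩
  · exact ⟨3, shift (hX _ (mul_mem hx hw)) e h3⟩

theorem cE {a b : T} (h : Commute a b) : Commute (a : El) b := congrArg Subtype.val h.eq

theorem cT {a b : T} (h : Commute (a : El) b) : Commute a b := Subtype.ext h.eq

theorem sE {a : T} (h : a * a = 1) : (a : El) * a = 1 := congrArg Subtype.val h

theorem caseC {X : Subgroup T} (hX : EA X) {x w : T} (hx : x ∈ X) (hw : w ∈ X)
    (h1 : (x : El) * x13 ∈ A0) (h2 : (w : El) * x35 ∈ A0) : X ≤ ET := by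
  obtain ⟨i, hi, ex⟩ := param f8.2.1 h1
  obtain ⟨j, hj, ew⟩ := param f8.2.2.1 h2
  obtain ⟨a1, a2, a3⟩ := f4 i hi (ex ▸ sE (hX x hx)) j hj (ew ▸ sE (hX w hw))
    (ex ▸ ew ▸ cE (ea_comm hX hx hw))
  rw [← ex] at a1
  rw [← ew] at a2
  rw [← ex, ← ew] at a3
  intro t ht
  obtain ⟨k, hk⟩ := cover hX hx hw h1 h2 (by rw [coe_mul, ex, ew]; exact (f3 i hi j hj).1)
    (fun t ht => f2c t t.2 (sE (hX t ht)) j hj (ew ▸ cE (ea_comm hX hw ht))) t ht
  have s : ∀ k, ![1, x, w, x * w] k ∈ X ⊓ ET := fun k => by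
    fin_cases k
    exacts [one_mem _, ⟨hx, a1⟩, ⟨hw, a2⟩, ⟨mul_mem hx hw, mul_mem a1 a2⟩]
  obtain ⟨l, hl, e⟩ := mem_AT'.1 hk
  have m : tv l ∈ X := e ▸ mul_mem ht (s k).1
  have : tv l ∈ ET := a3 l hl (cE (ea_comm hX m hx)) (cE (ea_comm hX m hw))
  exact (ET.mul_mem_cancel_right (s k).2).1 (e ▸ this)

theorem caseB {X : Subgroup T} (hX : EA X) {x w : T} (hx : x ∈ X) (hw : w ∈ X)
    (h1 : (x : El) * x13 ∈ A0) (h2 : (w : El) * sw ∈ A0) :
    Nat.card X < Nat.card ↥(AT ⊓ normalizer (X : Set T)) ∨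
    (ET ≤ normalizer (X : Set T) ∧ ¬ X ≤ AT ⊔ ET) ∨ (Nat.card X ≤ 16 ∧ tv 5 ∉ X) := by
  obtain ⟨i, hi, ex⟩ := param f8.2.1 h1
  obtain ⟨j, hj, ew⟩ := param f8.2.2.2 h2
  have sx := ex ▸ sE (hX x hx)
  have sw' := ew ▸ sE (hX w hw)
  have a5 := f5 i hi sx j hj sw'
  rw [← ex, ← ew] at a5
  have cov := cover hX hx hw h1 h2 (by rw [coe_mul, ex, ew]; exact (f3 i hi j hj).2)
    (fun t ht => f2b t t.2 (sE (hX t ht)) j hj (ew ▸ cE (ea_comm hX hw ht)))
  have s : ∀ k, ![1, x, w, x * w] k ∈ X := fun k => by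
    fin_cases k
    exacts [one_mem _, hx, hw, mul_mem hx hw]
  have c1 := card_cov _ s cov
  have nrm : ∀ g : T, (∀ y ∈ X, y ∈ AT → g * y * g⁻¹ ∈ X) → g * x * g⁻¹ ∈ X → g * w * g⁻¹ ∈ X →
      g ∈ normalizer (X : Set T) := fun g b1 b2 b3 => norm_of fun t ht => by
    obtain ⟨k, hk⟩ := cov t ht
    have s' : ∀ k, g * ![1, x, w, x * w] k * g⁻¹ ∈ X := fun k => by
      fin_cases k
      · simp
      · exact b2
      · exact b3
      · simpa [mul_assoc] using mul_mem b2 b3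
    have := mul_mem (b1 _ (mul_mem ht (s k)) hk) (inv_mem (s' k))
    simpa [mul_assoc] using this
  let C := AT ⊓ centralizer {x, w}
  have mC : ∀ k < 64, tv k ∈ C ↔ bt 0x21002100210021 k = true := fun k hk => by
    rw [← a5 k hk]
    constructor
    · exact fun h => ⟨cE (h.2 x (by simp)).symm, cE (h.2 w (by simp)).symm⟩
    · refine fun h => ⟨tv_mem hk, ?_⟩
      rintro _ (rfl | rfl)
      exacts [(cT h.1).symm, (cT h.2).symm]
  have c2 : Nat.card C ≤ 8 := (card_up C (bt 0x21002100210021) fun t ht => by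
    obtain ⟨k, hk, rfl⟩ := mem_AT'.1 ht.1
    exact ⟨k, hk, (mC k hk).1 ht, rfl⟩).trans (by decide +kernel)
  have hY : X ⊓ AT ≤ C := fun y hy => ⟨hy.2, by
    rintro _ (rfl | rfl)
    exacts [ea_comm hX hx hy.1, ea_comm hX hw hy.1]⟩
  by_cases hz : tv 5 ∈ X
  swap
  · have := two_mul_le (lt_of_le_of_ne hY fun e =>
      hz (e.ge ((mC 5 (by decide)).2 (by decide +kernel))).1)
    exact Or.inr (Or.inr ⟨by omega, hz⟩)
  rcases hY.eq_or_lt with e | e
  · have mY : ∀ k < 64, bt 0x21002100210021 k = true → tv k ∈ X := fun k hk h =>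
      (e.ge ((mC k hk).2 h)).1
    refine Or.inr (Or.inl ⟨fun g hg => ?_, fun h => ?_⟩)
    · obtain ⟨b1, b2⟩ := f7 g hg
      obtain ⟨⟨l, hl, b3, b4⟩, b5⟩ := b2 i hi sx
      obtain ⟨m, hm, b6, b7⟩ := b5 j hj sw' (ex ▸ ew ▸ cE (ea_comm hX hx hw))
      rw [← ex] at b4
      rw [← ex, ← ew] at b7
      refine nrm g (fun y y1 y2 => ?_) ?_ ?_
      · obtain ⟨k, hk, rfl⟩ := mem_AT'.1 y2
        obtain ⟨l, hl, b3, b4⟩ := b1 k hk ((mC k hk).1 (hY ⟨y1, y2⟩))
        exact (show g * tv k * g⁻¹ = tv l from Subtype.ext b4) ▸ mY l hl b3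
      · exact (show g * x * g⁻¹ = tv l * x from Subtype.ext b4) ▸ mul_mem (mY l hl b3) hx
      · rcases b7 with b7 | b7
        · exact (show g * w * g⁻¹ = tv m * w from Subtype.ext b7) ▸ mul_mem (mY m hm b6) hw
        · exact (show g * w * g⁻¹ = tv m * x * w from Subtype.ext b7) ▸
            mul_mem (mul_mem (mY m hm b6) hx) hw
    · have : AT ⊔ ET ≤ centralizer {tv 1} := sup_le
        (fun a ha => mem_centralizer_singleton_iff.2 (AT_comm ha (tv_mem (by decide))))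
        fun a ha => mem_centralizer_singleton_iff.2 (cT (f9 a ha))
      exact f8.1 j hj (ew ▸ cE (mem_centralizer_singleton_iff.1 (this (h hw))))
  · have c3 := two_mul_le e
    have c4 := card_lo (AT ⊓ normalizer (X : Set T)) (bt 0xcc33cc33cc33cc33) fun k hk h => by
      have b1 := (f6 k hk h i hi).1
      have b2 := (f6 k hk h j hj).2
      rw [← ex] at b1
      rw [← ew] at b2
      refine ⟨tv_mem hk, nrm _ (fun y y1 y2 => ?_) ?_ ?_⟩
      · rwa [(AT_comm (tv_mem hk) y2).eq, mul_inv_cancel_right]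
      · rcases b1 with b | b
        · exact (show tv k * x * (tv k)⁻¹ = x from Subtype.ext b).symm ▸ hx
        · exact (show tv k * x * (tv k)⁻¹ = x * tv 5 from Subtype.ext b) ▸ mul_mem hx hz
      · rcases b2 with b | b
        · exact (show tv k * w * (tv k)⁻¹ = w from Subtype.ext b).symm ▸ hw
        · exact (show tv k * w * (tv k)⁻¹ = w * tv 5 from Subtype.ext b) ▸ mul_mem hw hz
    have c5 : 32 ≤ cntF (bt 0xcc33cc33cc33cc33) 64 := by decide +kernel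
    exact Or.inl (by omega)

/-- **MX** -/
theorem mx : MXStmt := by
  intro X hX hn
  obtain ⟨u, hu, n⟩ := SetLike.not_le_iff_exists.1 hn
  by_cases h : ∀ w ∈ X, w ∉ AT → w * u ∈ AT
  · exact Or.inl (case1 hX hu n h)
  push Not at h
  obtain ⟨w, hw, n1, n2⟩ := h
  obtain ⟨q, hq, e⟩ := decT u u.2
  have := f1 w w.2 (sE (hX w hw)) n1 q hq _ (idx_lt (u.1 * (rho q)⁻¹).val)
  rw [e] at this
  obtain ⟨a, b⟩ := this (sE (hX u hu)) (cE (ea_comm hX hw hu)) n n2
  have ex : ∀ g : El, (w * g ∈ A0 ∨ u * g ∈ A0 ∨ w * u * g ∈ A0) → ∃ x ∈ X, (x : El) * g ∈ A0 := by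
    rintro g (h | h | h)
    exacts [⟨w, hw, h⟩, ⟨u, hu, h⟩, ⟨w * u, mul_mem hw hu, h⟩]
  obtain ⟨x, hx, h1⟩ := ex _ a
  rcases b with b | b
  · obtain ⟨y, hy, h2⟩ := ex _ b
    exact Or.inr (Or.inl (caseC hX hx hy h1 h2))
  · obtain ⟨y, hy, h2⟩ := ex _ b
    exact (caseB hX hx hy h1 h2).imp_right Or.inr

end Cfsg.Agent.H44.TwMx
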