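import Cfsg.Agent.H17.TwA

/-! Finite facts on the Sylow subgroup of order 512. -/

set_option autoImplicit false
set_option maxRecDepth 100000
set_option exponentiation.threshold 10000

namespace Cfsg.Agent.H44.TwMx

open Equiv Subgroup Cfsg.Agent.H89.TG Cfsg.Agent.H89.Rec Cfsg.Agent.H17.Ya Cfsg.Agent.H17.Tw

theorem nA : ∀ h : El, h ∈ T → ∀ k < 64, h * av k * h⁻¹ ∈ A0 := by wdt

theorem f1 : ∀ u : El, u ∈ T → u * u = 1 → u ∉ A0 → ∀ q < 8, ∀ k < 64,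
    av k * rho q * (av k * rho q) = 1 → Commute u (av k * rho q) → av k * rho q ∉ A0 →
    u * (av k * rho q) ∉ A0 →
    (u * x13 ∈ A0 ∨ av k * rho q * x13 ∈ A0 ∨ u * (av k * rho q) * x13 ∈ A0) ∧
    ((u * x35 ∈ A0 ∨ av k * rho q * x35 ∈ A0 ∨ u * (av k * rho q) * x35 ∈ A0) ∨
    (u * sw ∈ A0 ∨ av k * rho q * sw ∈ A0 ∨ u * (av k * rho q) * sw ∈ A0)) := by wdt

theorem f2c : ∀ t : El, t ∈ T → t * t = 1 → ∀ j < 64, Commute (av j * x35) t →
    t ∈ A0 ∨ t * x13 ∈ A0 ∨ t * x35 ∈ A0 ∨ t * (x13 * x35) ∈ A0 := by wdt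

theorem f2b : ∀ t : El, t ∈ T → t * t = 1 → ∀ j < 64, Commute (av j * sw) t →
    t ∈ A0 ∨ t * x13 ∈ A0 ∨ t * sw ∈ A0 ∨ t * (x13 * sw) ∈ A0 := by wdt

theorem f3 : ∀ i < 64, ∀ j < 64, av i * x13 * (av j * x35) * (x13 * x35) ∈ A0 ∧
    av i * x13 * (av j * sw) * (x13 * sw) ∈ A0 := by kdt

theorem f4 : ∀ i < 64, av i * x13 * (av i * x13) = 1 → ∀ j < 64, av j * x35 * (av j * x35) = 1 →
    Commute (av i * x13) (av j * x35) → av i * x13 ∈ E0 ∧ av j * x35 ∈ E0 ∧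
    ∀ k < 64, Commute (av k) (av i * x13) → Commute (av k) (av j * x35) → av k ∈ E0 := by kdt

theorem f5 : ∀ i < 64, av i * x13 * (av i * x13) = 1 → ∀ j < 64, av j * sw * (av j * sw) = 1 →
    ∀ k < 64, (Commute (av k) (av i * x13) ∧ Commute (av k) (av j * sw) ↔
      bt 0x21002100210021 k = true) := by kdt

theorem f6 : ∀ k < 64, bt 0xcc33cc33cc33cc33 k = true → ∀ i < 64,
    (av k * (av i * x13) * (av k)⁻¹ = av i * x13 ∨
      av k * (av i * x13) * (av k)⁻¹ = av i * x13 * av 5) ∧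
    (av k * (av i * sw) * (av k)⁻¹ = av i * sw ∨
      av k * (av i * sw) * (av k)⁻¹ = av i * sw * av 5) := by kdt

theorem f7 : ∀ e : El, e ∈ E0 → (∀ k < 64, bt 0x21002100210021 k = true →
      ∃ l < 64, bt 0x21002100210021 l = true ∧ e * av k * e⁻¹ = av l) ∧
    ∀ i < 64, av i * x13 * (av i * x13) = 1 →
      (∃ l < 64, bt 0x21002100210021 l = true ∧ e * (av i * x13) * e⁻¹ = av l * (av i * x13)) ∧
      ∀ j < 64, av j * sw * (av j * sw) = 1 → Commute (av i * x13) (av j * sw) →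
        ∃ l < 64, bt 0x21002100210021 l = true ∧ (e * (av j * sw) * e⁻¹ = av l * (av j * sw) ∨
          e * (av j * sw) * e⁻¹ = av l * (av i * x13) * (av j * sw)) := by wdt

theorem f8 : (∀ j < 64, ¬ Commute (av j * sw) (av 1)) ∧ x13 * x13 = 1 ∧ x35 * x35 = 1 ∧
  sw * sw = 1 := by kdt

theorem f9 : ∀ e : El, e ∈ E0 → Commute e (av 1) := by wdt

theorem f10 : ∀ q < 8, q ≠ 0 → Nat.ble (cntF (fx q) 64) 16 = true := by decide +kernel

end Cfsg.Agent.H44.TwMx
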