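import Mathlib
import Cfsg.Agent.H56.ZCKit
import Cfsg.Agent.H67.Conj

/-! All points act alike on a minimal non-central normal 2-subgroup. -/

set_option autoImplicit false

namespace Cfsg.Agent.H44.ZcHol1

open Subgroup Cfsg.Agent.H56.FS Cfsg.Agent.H56.ZC
open scoped commutatorElement

universe u

section Abs

variable {V : Type u} [AddCommGroup V]

/-- The norm map. -/
def Nm (p : ℕ) (f : AddMonoid.End V) : V →+ V :=
  AddMonoidHom.mk' (fun v => ∑ i ∈ Finset.range p, (f ^ i) v) fun a b => by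
    simp [Finset.sum_add_distrib]

theorem Nm_apply (p : ℕ) (f : AddMonoid.End V) (v : V) :
    Nm p f v = ∑ i ∈ Finset.range p, (f ^ i) v := rfl

/-- The projection. -/
def pj (p : ℕ) (f : AddMonoid.End V) : V →+ V := AddMonoidHom.id V + Nm p f

theorem pj_apply (p : ℕ) (f : AddMonoid.End V) (v : V) : pj p f v = v + Nm p f v := rfl

variable {p : ℕ} {f : AddMonoid.End V}

theorem pow_succ_apply (f : AddMonoid.End V) (i : ℕ) (v : V) : (f ^ (i + 1)) v = f ((f ^ i) v) := by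
  rw [pow_succ']; rfl

theorem pow_succ_apply' (f : AddMonoid.End V) (i : ℕ) (v : V) :
    (f ^ (i + 1)) v = (f ^ i) (f v) := by
  rw [pow_succ]; rfl

theorem Nm_f (hf : f ^ p = 1) (v : V) : Nm p f (f v) = Nm p f v := by
  have h1 := Finset.sum_range_succ (fun i => (f ^ i) v) p
  rw [Finset.sum_range_succ', hf, pow_zero] at h1
  simp only [pow_succ_apply'] at h1
  exact add_right_cancel h1

theorem f_Nm (hf : f ^ p = 1) (v : V) : f (Nm p f v) = Nm p f v := by
  conv_rhs => rw [← Nm_f hf v]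
  rw [Nm_apply, Nm_apply, map_sum]
  exact Finset.sum_congr rfl fun i _ => by rw [← pow_succ_apply, pow_succ_apply']

theorem pow_fix {v : V} (h : f v = v) (i : ℕ) : (f ^ i) v = v := by
  induction i with
  | zero => rfl
  | succ i ih => rw [pow_succ_apply, ih, h]

theorem odd_smul (two : ∀ v : V, v + v = 0) (hp : Odd p) (v : V) : p • v = v := by
  obtain ⟨k, rfl⟩ := hp
  rw [add_smul, one_smul, mul_comm, mul_smul, two_smul, two, smul_zero, zero_add]

theorem Nm_fix (two : ∀ v : V, v + v = 0) (hp : Odd p) {v : V} (h : f v = v) : Nm p f v = v := by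
  simp only [Nm_apply, pow_fix h, Finset.sum_const, Finset.card_range, odd_smul two hp]

theorem Nm_pj (two : ∀ v : V, v + v = 0) (hp : Odd p) (hf : f ^ p = 1) (v : V) :
    Nm p f (pj p f v) = 0 := by
  rw [pj_apply, map_add, Nm_fix two hp (f_Nm hf v), two]

theorem pj_f (hf : f ^ p = 1) (v : V) : pj p f (f v) = f (pj p f v) := by
  rw [pj_apply, pj_apply, map_add, Nm_f hf, f_Nm hf]

theorem Nm_pow (hf : f ^ p = 1) (i : ℕ) (v : V) : Nm p f ((f ^ i) v) = Nm p f v := by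
  induction i with
  | zero => rfl
  | succ i ih => rw [pow_succ_apply, Nm_f hf, ih]

theorem pow_eq (two : ∀ v : V, v + v = 0) (hf : f ^ p = 1) (i : ℕ) (v : V) :
    (f ^ i) v = v + (f ^ i) (pj p f v) + pj p f v := by
  rw [pj_apply, map_add, pow_fix (f_Nm hf v)]
  calc (f ^ i) v = (f ^ i) v + (v + v) + (Nm p f v + Nm p f v) := by rw [two, two]; simp
    _ = _ := by abel

theorem Nm_conj {G : Type u} [Group G] (ρ : G →* AddMonoid.End V) (g x : G) (v : V) :
    Nm p (ρ (g * x * g⁻¹)) (ρ g v) = ρ g (Nm p (ρ x) v) := by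
  rw [Nm_apply, Nm_apply, map_sum]
  refine Finset.sum_congr rfl fun i _ => ?_
  rw [← map_pow, ← map_pow, conj_pow]
  change (ρ _ * ρ _) v = (ρ _ * ρ _) v
  rw [← map_mul, ← map_mul, inv_mul_cancel_right]

theorem core (lin : LinStmt.{u}) {G Zt : Type u} [Group G] [Finite V] [AddCommGroup Zt]
    (ρ : G →* AddMonoid.End V) (β : V →+ V →+ Zt) (hp : Odd p) (C : Set G)
    (hC : ∀ x ∈ C, ∀ g, g * x * g⁻¹ ∈ C) (hCp : ∀ x ∈ C, x ^ p = 1) (gen : closure C = ⊤)
    (two : ∀ v : V, v + v = 0) (alt : ∀ v, β v v = 0)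
    (inv : ∀ g v w, β (ρ g v) (ρ g w) = β v w)
    (H1 : ∀ x ∈ C, ∀ v, Nm p (ρ x) v = 0 → β v (ρ x v) = 0 → v = 0)
    (H2 : ∀ x ∈ C, ∀ b ∈ C, ∀ v w, Nm p (ρ b) v = 0 → Nm p (ρ b) w = 0 →
      β (pj p (ρ x) v) (pj p (ρ x) w) = β v w)
    (H3 : ∀ x ∈ C, ∀ b ∈ C, ∀ v, Nm p (ρ b) v = 0 →
      pj p (ρ x) (ρ b v) = ρ x (pj p (ρ x) v))
    (irr : ∀ T : AddSubgroup V, (∀ g, ∀ v ∈ T, ρ g v ∈ T) → T = ⊥ ∨ T = ⊤) :
    ∀ x ∈ C, ∀ a ∈ C, ∀ v, ρ x v = ρ a v := by
  have hq : ∀ x ∈ C, ρ x ^ p = 1 := fun x hx => by rw [← map_pow, hCp x hx, map_one]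
  have inj : ∀ x ∈ C, ∀ b ∈ C, ∀ v, Nm p (ρ b) v = 0 → pj p (ρ x) v = 0 → v = 0 :=
    fun x hx b hb v hv h => H1 b hb v hv (by
      rw [← H2 x hx b hb v _ hv ((Nm_f (hq b hb) v).trans hv), h, map_zero,
        AddMonoidHom.zero_apply])
  have H3' : ∀ x ∈ C, ∀ b ∈ C, ∀ (i : ℕ) v, Nm p (ρ b) v = 0 →
      pj p (ρ x) ((ρ b ^ i) v) = (ρ x ^ i) (pj p (ρ x) v) := fun x hx b hb i v hv => by
    induction i with
    | zero => rfl
    | succ i ih =>
      rw [pow_succ_apply, H3 x hx b hb _ ((Nm_pow (hq b hb) i v).trans hv), ih, pow_succ_apply]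
  have key : ∀ a ∈ C, ∀ b ∈ C, ∀ x ∈ C, ∀ v, Nm p (ρ b) v = 0 →
      pj p (ρ a) (ρ x v) = ρ a (pj p (ρ a) v) := by
    intro a ha b hb x hx v hv
    let P : ∀ c ∈ C, ∀ d : G, (Nm p (ρ d)).ker →+ (Nm p (ρ c)).ker := fun c hc d =>
      ((pj p (ρ c)).comp (Nm p (ρ d)).ker.subtype).codRestrict _ fun v =>
        Nm_pj two hp (hq c hc) v
    have Pi : ∀ c hc, ∀ d ∈ C, Function.Injective (P c hc d) := fun c hc d hd =>
      (injective_iff_map_eq_zero _).2 fun v h =>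
        Subtype.ext (inj c hc d hd v v.2 (congrArg Subtype.val h))
    have Ps : Function.Surjective (P a ha b) :=
      Function.Surjective.of_comp (g := P b hb a)
        (Finite.surjective_of_injective ((Pi a ha b hb).comp (Pi b hb a ha)))
    let e := AddEquiv.ofBijective (P a ha b) ⟨Pi a ha b hb, Ps⟩
    let τ : AddMonoid.End (Nm p (ρ a)).ker := ((P a ha x).comp (P x hx b)).comp e.symm
    have hτ : ∀ w, (τ (P a ha b w) : V) = pj p (ρ a) (pj p (ρ x) w) := fun w => by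
      have : e.symm (P a ha b w) = w := e.symm_apply_apply w
      change ((P a ha x (P x hx b (e.symm (P a ha b w)))) : V) = _
      rw [this]; rfl
    let a' : AddMonoid.End (Nm p (ρ a)).ker :=
      ((ρ a).comp (Nm p (ρ a)).ker.subtype).codRestrict _ fun v => (Nm_f (hq a ha) v).trans v.2
    have ha' : ∀ (i : ℕ) w, ((a' ^ i) w : V) = (ρ a ^ i) w := fun i w => by
      induction i with
      | zero => rfl
      | succ i ih => rw [pow_succ_apply, pow_succ_apply, ← ih]; rfl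
    have hP : ∀ w, (P a ha b w : V) = pj p (ρ a) w := fun w => rfl
    have hx' := Nm_pj two hp (hq x hx)
    have e3 : ∀ (i : ℕ) w, ((P a ha b w + (a' ^ i) (τ (P a ha b w)) + τ (P a ha b w) :
        (Nm p (ρ a)).ker) : V) = pj p (ρ a) (ρ (x ^ i) w) := fun i w => by
      rw [AddSubgroup.coe_add, AddSubgroup.coe_add, ha', hτ, hP, map_pow, pow_eq two (hq x hx) i w,
        map_add, map_add, H3' a ha x hx i _ (hx' w)]
    have := lin (Nm p (ρ a)).ker Zt
      ((β.comp (Nm p (ρ a)).ker.subtype).compl₂ (Nm p (ρ a)).ker.subtype) a' τ p hp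
      (AddMonoidHom.ext fun w => Subtype.ext ((ha' p w).trans (by rw [hq a ha]; rfl)))
      (fun w => Subtype.ext (two w)) (fun w => alt w) (fun w w' => inv a w w')
      (fun w hw h => hw (Subtype.ext (H1 a ha w w.2 h)))
      (fun w w' => by
        obtain ⟨w, rfl⟩ := Ps w
        obtain ⟨w', rfl⟩ := Ps w'
        change β (τ (P a ha b w) : V) (τ (P a ha b w') : V) = β (pj p (ρ a) w) (pj p (ρ a) w')
        rw [hτ, hτ, H2 a ha x hx _ _ (hx' w) (hx' w'), H2 x hx b hb _ _ w.2 w'.2,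
          H2 a ha b hb _ _ w.2 w'.2])
      (fun w => by
        obtain ⟨w, rfl⟩ := Ps w
        have : a' (P a ha b w) = P a ha b ⟨ρ b w, (Nm_f (hq b hb) w).trans w.2⟩ :=
          Subtype.ext (H3 a ha b hb w w.2).symm
        refine Subtype.ext ?_
        rw [this, hτ]
        change _ = ρ a (τ (P a ha b w) : V)
        rw [hτ, H3 x hx b hb w w.2, H3 a ha x hx _ (hx' w)])
      (fun i w w' => by
        obtain ⟨w, rfl⟩ := Ps w
        obtain ⟨w', rfl⟩ := Ps w'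
        refine (congrArg₂ (fun s t => β s t) (e3 i w) (e3 i w')).trans ?_
        change _ = β (pj p (ρ a) w) (pj p (ρ a) w')
        have n : ∀ w : (Nm p (ρ b)).ker, Nm p (ρ (x ^ i * b * (x ^ i)⁻¹)) (ρ (x ^ i) w) = 0 :=
          fun w => by rw [Nm_conj, w.2, map_zero]
        rw [H2 a ha _ (hC b hb _) _ _ (n w) (n w'), inv, H2 a ha b hb _ _ w.2 w'.2])
    have e4 := e3 1 ⟨v, hv⟩
    rw [this, pow_one, pow_one, add_right_comm, AddSubgroup.coe_add, AddSubgroup.coe_add, two,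
      zero_add] at e4
    exact e4.symm
  intro x hx a ha v
  by_cases h0 : ∀ b ∈ C, ∀ v, Nm p (ρ b) v = 0 → v = 0
  · have : ∀ b ∈ C, ρ b v = v := fun b hb => by
      have := h0 b hb (ρ b v + v) (by rw [map_add, Nm_f (hq b hb), two])
      rw [← add_right_cancel_iff (a := v), this, two]
    rw [this x hx, this a ha]
  push Not at h0
  obtain ⟨b, hb, v0, hv0, n0⟩ := h0
  have all : ∀ x ∈ C, ∀ v, pj p (ρ a) (ρ x v) = ρ a (pj p (ρ a) v) := by
    have hT := (irr (AddSubgroup.closure {v | ∃ b ∈ C, Nm p (ρ b) v = 0}) (fun g v hv => by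
      induction hv using AddSubgroup.closure_induction with
      | mem v hv =>
        obtain ⟨b, hb, h⟩ := hv
        exact AddSubgroup.subset_closure ⟨_, hC b hb g, by rw [Nm_conj, h, map_zero]⟩
      | zero => rw [map_zero]; exact zero_mem _
      | add v w _ _ h1 h2 => rw [map_add]; exact add_mem h1 h2
      | neg v _ h => rw [map_neg]; exact neg_mem h)).resolve_left fun e =>
        n0 (AddSubgroup.mem_bot.1 (e ▸ AddSubgroup.subset_closure ⟨b, hb, hv0⟩))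
    intro x hx v
    have hv : v ∈ AddSubgroup.closure {v | ∃ b ∈ C, Nm p (ρ b) v = 0} := hT ▸ AddSubgroup.mem_top v
    induction hv using AddSubgroup.closure_induction with
    | mem v hv => exact hv.elim fun b hb => key a ha b hb.1 x hx v hb.2
    | zero => simp
    | add v w _ _ h1 h2 => simp only [map_add, h1, h2]
    | neg v _ h => simp only [map_neg, h]
  have hk := (irr (pj p (ρ a)).ker (fun g w hw => by
    have hg : g ∈ closure C := gen ▸ mem_top g
    have st : ∀ x ∈ C, ∀ w ∈ (pj p (ρ a)).ker, ρ x w ∈ (pj p (ρ a)).ker := fun x hx w hw => by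
      rw [AddMonoidHom.mem_ker, all x hx, AddMonoidHom.mem_ker.1 hw, map_zero]
    induction hg using closure_induction_left with
    | one => rw [map_one]; exact hw
    | mul_left x hx y _ ih => rw [map_mul]; exact st x hx _ ih
    | inv_mul_cancel x hx y _ ih =>
      have e : x⁻¹ = x ^ (p - 1) := by
        rw [inv_eq_iff_mul_eq_one, ← pow_succ', Nat.sub_add_cancel hp.pos, hCp x hx]
      rw [map_mul, e, map_pow]
      change (ρ x ^ (p - 1)) (ρ y w) ∈ _
      induction (p - 1) with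
      | zero => exact ih
      | succ i ih' => rw [pow_succ_apply]; exact st x hx _ ih')).resolve_right fun e =>
      n0 (inj a ha b hb v0 hv0 (AddMonoidHom.mem_ker.1 (e ▸ AddSubgroup.mem_top v0)))
  have one : ∀ w, pj p (ρ a) w = w := fun w => by
    have : Nm p (ρ a) w ∈ (pj p (ρ a)).ker := by
      rw [AddMonoidHom.mem_ker, pj_apply, Nm_fix two hp (f_Nm (hq a ha) w), two]
    rw [hk, AddSubgroup.mem_bot] at this
    rw [pj_apply, this, add_zero]
  have := all x hx v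
  rwa [one, one] at this

end Abs

section Mod

variable {G : Type u} [Group G]

theorem cm_zl {z x y : G} (hz : z ∈ center G) : ⁅z * x, y⁆ = ⁅x, y⁆ := by
  have := mem_center_iff.1 hz ⁅x, y⁆
  have h2 := mem_center_iff.1 hz y⁻¹
  calc ⁅z * x, y⁆ = z * ⁅x, y⁆ * y * z⁻¹ * y⁻¹ := by simp only [commutatorElement_def]; group
    _ = ⁅x, y⁆ * (z * y) * z⁻¹ * y⁻¹ := by rw [← this]; group
    _ = ⁅x, y⁆ := by rw [← mem_center_iff.1 hz y]; group

theorem cm_zr {z x y : G} (hz : z ∈ center G) : ⁅x, z * y⁆ = ⁅x, y⁆ := by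
  rw [← commutatorElement_inv, cm_zl hz, commutatorElement_inv]

theorem cm_ml {x x' y : G} (h : ⁅x', y⁆ ∈ center G) : ⁅x * x', y⁆ = ⁅x, y⁆ * ⁅x', y⁆ := by
  calc ⁅x * x', y⁆ = x * ⁅x', y⁆ * (y * x⁻¹ * y⁻¹) := by simp only [commutatorElement_def]; group
    _ = x * (y * x⁻¹ * y⁻¹) * ⁅x', y⁆ := by rw [mul_assoc, ← mem_center_iff.1 h, ← mul_assoc]
    _ = _ := by simp only [commutatorElement_def]; group

theorem cm_mr {x y y' : G} (h : ⁅x, y'⁆ ∈ center G) : ⁅x, y * y'⁆ = ⁅x, y⁆ * ⁅x, y'⁆ := by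
  calc ⁅x, y * y'⁆ = ⁅x, y⁆ * (y * ⁅x, y'⁆) * y⁻¹ := by simp only [commutatorElement_def]; group
    _ = _ := by rw [mem_center_iff.1 h]; group

theorem model [Finite G] (W : Subgroup G) [hW : W.Normal]
    (cm : ∀ w ∈ W, ∀ w' ∈ W, ⁅w, w'⁆ ∈ center G) :
    ∃ (V Zt : Type u) (_ : AddCommGroup V) (_ : Finite V) (_ : AddCommGroup Zt) (q : G → V)
      (ρ : G →* AddMonoid.End V) (β : V →+ V →+ Zt) (ι : Zt → G), Function.Injective ι ∧ ι 0 = 1 ∧
      (∀ v, ∃ w ∈ W, q w = v) ∧ (∀ w ∈ W, ∀ w' ∈ W, q (w * w') = q w + q w') ∧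
      (∀ w ∈ W, q w = 0 ↔ w ∈ center G) ∧ (∀ g, ∀ w ∈ W, ρ g (q w) = q (g * w * g⁻¹)) ∧
      ∀ w ∈ W, ∀ w' ∈ W, ι (β (q w) (q w')) = ⁅w, w'⁆ := by
  classical
  let f := QuotientGroup.mk' (center G)
  let _ : CommGroup (W.map f) :=
    { (inferInstance : Group (W.map f)) with
      mul_comm := by
        rintro ⟨_, a, ha, rfl⟩ ⟨_, b, hb, rfl⟩
        refine Subtype.ext ?_
        have : ⁅f a, f b⁆ = 1 := by
          rw [← map_commutatorElement]
          exact (QuotientGroup.eq_one_iff _).2 (cm a ha b hb)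
        exact commutatorElement_eq_one_iff_mul_comm.1 this }
  let _ : CommGroup (center G) :=
    { (inferInstance : Group (center G)) with
      mul_comm := fun a b => Subtype.ext (mem_center_iff.1 b.2 a) }
  let q : G → Additive (W.map f) := fun w =>
    if h : w ∈ W then Additive.ofMul ⟨f w, mem_map_of_mem f h⟩ else 0
  have hq : ∀ w (h : w ∈ W), q w = Additive.ofMul ⟨f w, mem_map_of_mem f h⟩ := fun w h => dif_pos h
  have sur : ∀ v, ∃ w ∈ W, q w = v := by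
    rintro ⟨_, w, hw, rfl⟩
    exact ⟨w, hw, hq w hw⟩
  have add : ∀ w ∈ W, ∀ w' ∈ W, q (w * w') = q w + q w' := fun w hw w' hw' => by
    rw [hq _ (mul_mem hw hw'), hq _ hw, hq _ hw', ← ofMul_mul]
    exact congrArg _ (Subtype.ext (map_mul f w w'))
  have eqv : ∀ w ∈ W, ∀ w' ∈ W, q w = q w' ↔ ∃ z ∈ center G, w = z * w' := fun w hw w' hw' => by
    rw [hq _ hw, hq _ hw', Additive.ofMul.apply_eq_iff_eq, Subtype.ext_iff]
    constructor
    · intro h
      refine ⟨w * w'⁻¹, (QuotientGroup.eq_one_iff _).1 ?_, by group⟩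
      change f (w * w'⁻¹) = 1
      rw [map_mul, map_inv, show f w = f w' from h, mul_inv_cancel]
    · rintro ⟨z, hz, rfl⟩
      change f (z * w') = f w'
      rw [map_mul, show f z = 1 from (QuotientGroup.eq_one_iff _).2 hz, one_mul]
  have q1 : q 1 = 0 := by
    have := add 1 (one_mem _) 1 (one_mem _)
    rw [mul_one] at this
    exact left_eq_add.1 this
  choose s hs hs' using sur
  have cj : ∀ g, ∀ w ∈ W, q (g * s (q w) * g⁻¹) = q (g * w * g⁻¹) := fun g w hw => by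
    obtain ⟨z, hz, e⟩ := (eqv _ (hs _) _ hw).1 (hs' (q w))
    refine (eqv _ (hW.conj_mem _ (hs _) g) _ (hW.conj_mem _ hw g)).2 ⟨z, hz, ?_⟩
    rw [e, ← mul_assoc, mem_center_iff.1 hz g]; group
  have ind : ∀ P : Additive (W.map f) → Prop, (∀ w ∈ W, P (q w)) → ∀ v, P v := fun P h v =>
    hs' v ▸ h _ (hs v)
  let r : G → AddMonoid.End (Additive (W.map f)) := fun g =>
    AddMonoidHom.mk' (fun v => q (g * s v * g⁻¹)) (ind _ fun w hw => ind _ fun w' hw' => by
      rw [← add w hw w' hw', cj g _ (mul_mem hw hw'), cj g _ hw, cj g _ hw',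
        ← add _ (hW.conj_mem _ hw g) _ (hW.conj_mem _ hw' g)]
      congr 1; group)
  have hr : ∀ g, ∀ w ∈ W, r g (q w) = q (g * w * g⁻¹) := cj
  let ρ : G →* AddMonoid.End (Additive (W.map f)) :=
    { toFun := r
      map_one' := AddMonoidHom.ext (ind _ fun w hw => (hr _ _ hw).trans (by simp; rfl))
      map_mul' := fun g h => AddMonoidHom.ext (ind _ fun w hw => by
        refine (hr _ _ hw).trans ?_
        change _ = r g (r h (q w))
        rw [hr _ _ hw, hr _ _ (hW.conj_mem _ hw h)]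
        congr 1; group) }
  let b : Additive (W.map f) → Additive (W.map f) → Additive (center G) := fun v v' =>
    Additive.ofMul ⟨⁅s v, s v'⁆, cm _ (hs v) _ (hs v')⟩
  have hb : ∀ w (hw : w ∈ W) w' (hw' : w' ∈ W),
      b (q w) (q w') = Additive.ofMul ⟨⁅w, w'⁆, cm _ hw _ hw'⟩ := fun w hw w' hw' => by
    obtain ⟨z, hz, e⟩ := (eqv _ (hs _) _ hw).1 (hs' (q w))
    obtain ⟨z', hz', e'⟩ := (eqv _ (hs _) _ hw').1 (hs' (q w'))
    refine congrArg Additive.ofMul (Subtype.ext ?_)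
    change ⁅s (q w), s (q w')⁆ = ⁅w, w'⁆
    rw [e, e', cm_zl hz, cm_zr hz']
  refine ⟨Additive (W.map f), Additive (center G), inferInstance, inferInstance, inferInstance, q, ρ,
    AddMonoidHom.mk' (fun v => AddMonoidHom.mk' (b v) (ind (fun v => ∀ x y, b v (x + y) = b v x + b v y)
      (fun w hw => ind _ fun x hx => ind _ fun y hy => ?_) v))
      (ind _ fun x hx => ind _ fun y hy => AddMonoidHom.ext (ind _ fun w hw => ?_)),
    fun z => (z.toMul : G), fun a b h => Subtype.ext h, rfl, fun v => ⟨_, hs v, hs' v⟩, add,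
    fun w hw => ?_, hr, fun w hw w' hw' => ?_⟩
  · rw [← add x hx y hy, hb _ hw _ (mul_mem hx hy), hb _ hw _ hx, hb _ hw _ hy, ← ofMul_mul]
    exact congrArg _ (Subtype.ext (cm_mr (cm _ hw _ hy)))
  · change b (q x + q y) (q w) = b (q x) (q w) + b (q y) (q w)
    rw [← add x hx y hy, hb _ (mul_mem hx hy) _ hw, hb _ hx _ hw, hb _ hy _ hw, ← ofMul_mul]
    exact congrArg _ (Subtype.ext (cm_ml (cm _ hy _ hw)))
  · rw [← q1, eqv _ hw _ (one_mem _)]
    exact ⟨fun ⟨z, hz, e⟩ => by rwa [e, mul_one], fun h => ⟨w, h, (mul_one w).symm⟩⟩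
  · change ((b (q w) (q w')).toMul : G) = _
    rw [hb _ hw _ hw']; rfl

theorem sq_central [Finite G] {W : Subgroup G} (hW : W.Normal) (h2 : IsPGroup 2 W) (h1 : W ≠ ⊥)
    (min : ∀ M : Subgroup G, M.Normal → M < W → M ≤ center G) {w : G} (hw : w ∈ W) :
    w * w ∈ center G := by
  obtain ⟨n, hn⟩ := IsPGroup.iff_card.1 h2
  obtain ⟨n, rfl⟩ : ∃ m, n = m + 1 := Nat.exists_eq_succ_of_ne_zero fun e =>
    h1 (by rwa [e, pow_zero, card_eq_one] at hn)
  obtain ⟨K, hK⟩ := Sylow.exists_subgroup_card_pow_prime (G := W) 2 (n := n)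
    (hn ▸ pow_dvd_pow 2 n.le_succ)
  have hi : K.index = 2 := by
    have := K.card_mul_index
    rw [hK, hn, pow_succ] at this
    exact Nat.eq_of_mul_eq_mul_left (by positivity) this
  have hle : closure {y | ∃ w ∈ W, y = w * w} ≤ K.map W.subtype := (closure_le _).2 (by
    rintro _ ⟨w, hw, rfl⟩
    exact ⟨_, K.mul_self_mem_of_index_two hi ⟨w, hw⟩, rfl⟩)
  refine min (closure {y | ∃ w ∈ W, y = w * w}) ⟨fun y hy g => ?_⟩
    (lt_of_le_of_lt hle (lt_of_le_of_ne (map_subtype_le _) fun e => ?_)) (subset_closure ⟨w, hw, rfl⟩)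
  · refine (closure_le (K := (closure {y | ∃ w ∈ W, y = w * w}).comap (MulAut.conj g).toMonoidHom)).2
      ?_ hy
    rintro _ ⟨w, hw, rfl⟩
    exact subset_closure ⟨_, hW.conj_mem w hw g, by simp [mul_assoc]⟩
  · have := congrArg (fun H : Subgroup G => Nat.card H) e
    simp only [card_subtype, hK, hn, pow_succ] at this
    have := Nat.pos_of_ne_zero (pow_ne_zero n two_ne_zero)
    omega

theorem conj_eq [Finite G] {p : ℕ} {D : Set (Subgroup G)} (h : Cn p D) {A : Subgroup G} (hA : A ∈ D)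
    {g u : G} (e : cj g A = cj u A) {x : G} (hx : x ∈ A) : g * x * g⁻¹ = u * x * u⁻¹ := by
  have : u⁻¹ * g ∈ centralizer (A : Set G) :=
    h.eps A hA (cj_eq_iff.1 (by rw [← cj_cj, e, cj_inv_cj]))
  have := this x hx
  calc g * x * g⁻¹ = u * (u⁻¹ * g * x) * g⁻¹ := by group
    _ = _ := by rw [← this]; group

end Mod

/-- **HOL1** -/
theorem hol1 (lin : LinStmt.{u}) : Hol1Stmt.{u} := by
  intro G _ _ p D h W hW h2 hnc min A hA a ha g w hw
  by_cases a1 : a = 1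
  · rw [a1]; simp
  have hp : Odd p := h.pp.odd_of_ne_two h.p2
  have sq : ∀ w ∈ W, w * w ∈ center G := fun w hw =>
    sq_central hW h2 (fun e => hnc (e ▸ bot_le)) min hw
  have cm : ∀ w ∈ W, ∀ w' ∈ W, ⁅w, w'⁆ ∈ center G := fun w hw w' hw' => by
    have : ⁅w, w'⁆ = (w * w') * (w * w') * ((w'⁻¹ * w⁻¹ * w') * (w'⁻¹ * w⁻¹ * w')) *
        (w'⁻¹ * w'⁻¹) := by simp only [commutatorElement_def]; group
    rw [this]
    exact mul_mem (mul_mem (sq _ (mul_mem hw hw'))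
      (sq _ (mul_mem (mul_mem (inv_mem hw') (inv_mem hw)) hw'))) (sq _ (inv_mem hw'))
  obtain ⟨V, Zt, _, _, _, q, ρ, β, ι, ιi, ι0, sur, add, q0, hρ, hβ⟩ := model W cm
  have two : ∀ v : V, v + v = 0 := fun v => by
    obtain ⟨w, hw, rfl⟩ := sur v
    rw [← add w hw w hw, q0 _ (mul_mem hw hw)]
    exact sq w hw
  have q1 : q 1 = 0 := (q0 1 (one_mem _)).2 (one_mem _)
  have qi : ∀ w ∈ W, q w⁻¹ = q w := fun w hw => by
    have := add w⁻¹ (inv_mem hw) w hw
    rw [inv_mul_cancel, q1, ← two (q w)] at this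
    exact (add_right_cancel this).symm
  have b0 : ∀ w ∈ W, ∀ w' ∈ W, ⁅w, w'⁆ = 1 → β (q w) (q w') = 0 := fun w hw w' hw' e =>
    ιi (by rw [hβ w hw w' hw', e, ι0])
  let C : Set G := {x | ∃ g, x = g * a * g⁻¹}
  have pt : ∀ x ∈ C, ∃ B ∈ D, x ∈ B ∧ x ≠ 1 ∧ zpowers x = B := by
    rintro _ ⟨g, rfl⟩
    have n : g * a * g⁻¹ ≠ 1 := by simpa using a1
    exact ⟨_, h.inv A hA g, conj_mem_cj ha, n, h.zpowers_eq (h.inv A hA g) (conj_mem_cj ha) n⟩
  have hCp : ∀ x ∈ C, x ^ p = 1 := fun x hx => by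
    obtain ⟨B, hB, hx, -⟩ := pt x hx
    exact h.pow_p hB hx
  have hq : ∀ x ∈ C, ρ x ^ p = 1 := fun x hx => by rw [← map_pow, hCp x hx, map_one]
  have sv : ∀ A ∈ D, ∀ B ∈ D, Sv D (W ⊔ (A ⊔ B)) := fun A hA B hB => by
    have := Fact.mk Nat.prime_two
    refine H67.isSolvable_of_le ?_ (LL_le _)
    rw [sup_comm]
    exact H67.isSolvable_sup (h.pair A hA B hB) (H4.isSolvable_of_isPGroup h2) (by
      rw [normalizer_eq_top]; exact le_top)
  let S : Subgroup G → AddSubgroup V := fun K =>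
    { carrier := {v | ∃ w ∈ W, w ∈ K ∧ q w = v}
      zero_mem' := ⟨1, one_mem _, one_mem _, q1⟩
      add_mem' := by
        rintro _ _ ⟨w, hw, k, rfl⟩ ⟨w', hw', k', rfl⟩
        exact ⟨_, mul_mem hw hw', mul_mem k k', add w hw w' hw'⟩
      neg_mem' := by
        rintro _ ⟨w, hw, k, rfl⟩
        exact ⟨w, hw, k, eq_neg_of_add_eq_zero_left (two _)⟩ }
  have f1 : ∀ X, Sv D X → W ≤ X → ∀ B ∈ D, B ≤ X → ∀ x ∈ B, ∀ v, Nm p (ρ x) v = 0 →
      v ∈ S (RR D X) := fun X hX hWX B hB hBX x hx v hv => by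
    have e : v = ∑ i ∈ Finset.range p, ((ρ x ^ i) v + v) := by
      rw [Finset.sum_add_distrib, ← Nm_apply, hv, zero_add, Finset.sum_const, Finset.card_range,
        odd_smul two hp]
    rw [e]
    refine sum_mem fun i _ => ?_
    obtain ⟨w, hw, rfl⟩ := sur v
    obtain ⟨u, hu, e⟩ := h.conj_pt hX hB hBX (h.inv B hB w) (cj_le_of_mem (hWX hw) hBX)
    have c := hW.conj_mem w hw (x ^ i)
    refine ⟨x ^ i * w * (x ^ i)⁻¹ * w⁻¹, mul_mem c (inv_mem hw), ?_, ?_⟩
    · have : x ^ i * w * (x ^ i)⁻¹ * w⁻¹ = ⁅x ^ i, u⁆ := by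
        have := conj_eq h.toCn hB e (inv_mem (pow_mem hx i))
        rw [commutatorElement_def, mul_assoc, mul_assoc, ← mul_assoc w, this]; group
      rw [this]
      exact commutator_mem_commutator (le_LL hB hBX (pow_mem hx i)) (RR_le X hu)
    · rw [add _ c _ (inv_mem hw), qi w hw, ← map_pow, hρ _ w hw]
  have f2 : ∀ X, ∀ y ∈ LL D X, ∀ v ∈ S (RR D X), ρ y v ∈ S (RR D X) := by
    rintro X y hy _ ⟨w, hw, k, rfl⟩
    exact ⟨_, hW.conj_mem w hw y, (mem_normalizer_iff.1 (LL_le_norm_RR X hy) w).1 k,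
      (hρ y w hw).symm⟩
  have f3 : ∀ X, ∀ y ∈ LL D X, ∀ v ∈ S (ZZ D X), ρ y v = v := by
    rintro X y hy _ ⟨w, hw, k, rfl⟩
    rw [hρ y w hw, ZZ_comm k hy, mul_inv_cancel_right]
  have f4 : ∀ X, Sv D X → ∀ x ∈ C, zpowers x ≤ X → ∀ v ∈ S (RR D X),
      Nm p (ρ x) v ∈ S (ZZ D X) := fun X hX x hx hxX v hv => by
    obtain ⟨B, hB, hxB, -, rfl⟩ := pt x hx
    have : Nm p (ρ x) v ∈ S (RR D X) := by
      rw [Nm_apply]
      refine sum_mem fun i _ => ?_
      rw [← map_pow]; exact f2 X _ (le_LL hB hxX (pow_mem hxB i)) v hv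
    obtain ⟨c, hc, k, e⟩ := this
    refine ⟨c, hc, h.mz X hX _ hB hxX c k (cj_of_cent (le_Ce_iff.1 (h.fz _ hB c fun y hy => ?_))), e⟩
    obtain ⟨n, rfl⟩ := (mem_powers_iff_mem_zpowers.2 hy)
    have c' := hW.conj_mem c hc (x ^ n)
    have : ⁅c, x ^ n⁆ = c * (x ^ n * c * (x ^ n)⁻¹)⁻¹ := by
      simp only [commutatorElement_def]; group
    rw [this, ← q0 _ (mul_mem hc (inv_mem c')), add _ hc _ (inv_mem c'), qi _ c', ← hρ _ c hc,
      map_pow, e, pow_fix (f_Nm (hq x hx) v), two]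
  have f5 : ∀ X, ∀ e ∈ S (ZZ D X), ∀ v ∈ S (RR D X), β e v = 0 ∧ β v e = 0 := by
    rintro X _ ⟨c, hc, k, rfl⟩ _ ⟨w, hw, k', rfl⟩
    have := ZZ_comm k (RR_le X k')
    exact ⟨b0 c hc w hw (commutatorElement_eq_one_iff_mul_comm.2 this.symm),
      b0 w hw c hc (commutatorElement_eq_one_iff_mul_comm.2 this)⟩
  have le1 : ∀ A B : Subgroup G, A ≤ W ⊔ (A ⊔ B) := fun A B => le_sup_left.trans le_sup_right
  have le2 : ∀ A B : Subgroup G, B ≤ W ⊔ (A ⊔ B) := fun A B => le_sup_right.trans le_sup_right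
  have main := core lin ρ β hp C (by rintro _ ⟨g, rfl⟩ k; exact ⟨k * g, by group⟩) hCp
    (top_le_iff.1 (h.gen.ge.trans (sSup_le fun B hB => by
      obtain ⟨u, -, rfl⟩ := h.conj_pt_pair hA hB
      rw [← h.zpowers_eq hB (conj_mem_cj ha) (by simpa using a1)]
      exact zpowers_le.2 (subset_closure ⟨u, rfl⟩)))) two
    (fun v => by
      obtain ⟨w, hw, rfl⟩ := sur v
      exact b0 w hw w hw (commutatorElement_self w))
    (fun g v v' => by
      obtain ⟨w, hw, rfl⟩ := sur v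
      obtain ⟨w', hw', rfl⟩ := sur v'
      refine ιi ?_
      rw [hρ g w hw, hρ g w' hw', hβ _ (hW.conj_mem w hw g) _ (hW.conj_mem w' hw' g), hβ w hw w' hw',
        ← conjugate_commutatorElement, mem_center_iff.1 (cm w hw w' hw') g, mul_inv_cancel_right])
    (fun x hx v hv hb => by
      obtain ⟨B, hB, hxB, x1, -⟩ := pt x hx
      obtain ⟨w, hw, k, rfl⟩ := f1 _ (sv B hB B hB) le_sup_left B hB (le1 B B) x hxB v hv
      have hz : w ∈ ZZ D (W ⊔ (B ⊔ B)) := by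
        by_contra hz
        refine h.nc _ (sv B hB B hB) B hB (le1 B B) x hxB x1 w k hz ?_
        rw [← hβ w hw _ (hW.conj_mem w hw x), ← hρ x w hw, hb, ι0]
      rw [← hv, Nm_fix two hp (f3 _ x (le_LL hB (le1 B B) hxB) _ ⟨w, hw, hz, rfl⟩)])
    (fun x hx b hb v v' hv hv' => by
      obtain ⟨A, hA, hxA, -, eA⟩ := pt x hx
      obtain ⟨B, hB, hbB, -, -⟩ := pt b hb
      have s := f1 _ (sv A hA B hB) le_sup_left B hB (le2 A B) b hbB
      have e := f4 _ (sv A hA B hB) x hx (eA ▸ le1 A B)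
      have n := e v (s v hv)
      have n' := e v' (s v' hv')
      obtain ⟨c, hc, k, e'⟩ := id n'
      rw [pj_apply, pj_apply, map_add, map_add, AddMonoidHom.add_apply, AddMonoidHom.add_apply,
        (f5 _ _ n _ (s v' hv')).1, (f5 _ _ n' _ (s v hv)).2,
        (f5 _ _ n _ ⟨c, hc, ZZ_le_RR _ k, e'⟩).1, add_zero, add_zero, add_zero])
    (fun x hx b hb v hv => by
      obtain ⟨A, hA, hxA, x1, eA⟩ := pt x hx
      obtain ⟨B, hB, hbB, -, eB⟩ := pt b hb
      have hX := sv A hA B hB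
      obtain ⟨u, hu, e⟩ := h.conj_pt hX hA (le1 A B) hB (le2 A B)
      have xL := le_LL hA (le1 A B) hxA
      have eb : b = ⁅u, x⁆ * x := by
        obtain ⟨g, rfl⟩ := hx
        obtain ⟨k, rfl⟩ := hb
        have e1 : k * a * k⁻¹ = (k * g⁻¹) * (g * a * g⁻¹) * (k * g⁻¹)⁻¹ := by group
        have e2 : cj (k * g⁻¹) A = B := h.eq_of_inf (h.inv A hA _) hB (conj_mem_cj hxA) (e1 ▸ hbB)
          (by rw [← e1]; simpa using a1)
        rw [e1, conj_eq h.toCn hA (e2.trans e) hxA, commutatorElement_def]; group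
      obtain ⟨w, hw, k, e1⟩ := f2 _ x xL v (f1 _ hX le_sup_left B hB (le2 A B) b hbB v hv)
      have r : ⁅u, x⁆ ∈ RR D (W ⊔ (A ⊔ B)) := commutator_mem_commutator (RR_le _ hu) xL
      have c := hW.conj_mem w hw ⁅u, x⁆
      have e2 : ρ b v = q ⁅⁅u, x⁆, w⁆ + ρ x v := by
        rw [eb, map_mul]
        change ρ ⁅u, x⁆ (ρ x v) = _
        rw [← e1, hρ _ w hw, commutatorElement_def ⁅u, x⁆, add _ c _ (inv_mem hw), qi w hw,
          add_assoc, two, add_zero]
      have e3 : q ⁅⁅u, x⁆, w⁆ ∈ S (ZZ D (W ⊔ (A ⊔ B))) :=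
        ⟨_, mul_mem c (inv_mem hw), h.cm _ hX _ r w k, rfl⟩
      rw [e2, map_add, pj_f (hq x hx), pj_apply, Nm_fix two hp (f3 _ x xL _ e3), two, zero_add])
    (fun T hT => by
      let M : Subgroup G :=
        { carrier := {w | w ∈ W ∧ q w ∈ T}
          one_mem' := ⟨one_mem _, q1 ▸ zero_mem _⟩
          mul_mem' := fun {w w'} k k' => ⟨mul_mem k.1 k'.1, add w k.1 w' k'.1 ▸ add_mem k.2 k'.2⟩
          inv_mem' := fun {w} k => ⟨inv_mem k.1, (qi w k.1).symm ▸ k.2⟩ }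
      have hM : M.Normal := ⟨fun w k g => ⟨hW.conj_mem w k.1 g, hρ g w k.1 ▸ hT g _ k.2⟩⟩
      rcases (show M ≤ W from fun w k => k.1).eq_or_lt with e | e
      · refine Or.inr (top_le_iff.1 fun v _ => ?_)
        obtain ⟨w, hw, rfl⟩ := sur v
        exact (e.ge hw).2
      · refine Or.inl (le_bot_iff.1 fun v hv => ?_)
        obtain ⟨w, hw, rfl⟩ := sur v
        exact (q0 w hw).2 (min M hM e ⟨hw, hv⟩))
  have c := hW.conj_mem w hw (g * a * g⁻¹ * a⁻¹)
  rw [commutatorElement_def, ← q0 _ (mul_mem c (inv_mem hw)), add _ c _ (inv_mem hw), qi w hw,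
    ← hρ _ w hw, map_mul]
  change ρ (g * a * g⁻¹) (ρ a⁻¹ (q w)) + q w = 0
  rw [main _ ⟨g, rfl⟩ a ⟨1, by group⟩]
  change (ρ a * ρ a⁻¹) (q w) + q w = 0
  rw [← map_mul, mul_inv_cancel, map_one]
  exact two _

end Cfsg.Agent.H44.ZcHol1
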